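import Mathlib
import Cfsg.Agent.OddHalf.SpN.Defs
import Cfsg.Agent.OddHalf.SpN.Red
import Cfsg.Agent.OddHalf.SpN.Dbl

-- merged: Cfsg.Agent.OddHalf.SpN.PatDefs
section

/-!
# ODD D7, `K = Sp_2n(q)`: the patterns with one length moved, hypotheses (helper200)

* `Rels t x y`: the relations of the root elements (char 2) in the signed index model of `Defs.lean`.
* `DataO t x y W`: pattern `{l}` = (O,0) (only long root groups moved), `W i` = double of `Y i`.
* `DataS t x y W`: pattern `{s}` = (0,O) (only short root groups moved), `W i j` = double of `X i j`.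
-/

set_option autoImplicit false

namespace Cfsg.Agent.OddHalf.SpN

variable {n : ℕ} {F G : Type*} [Field F] [Group G]

/-- Relations of the root elements of `Sp_2n(F)`, `char F = 2`; `t` centralises them. -/
structure Rels (t : G) (x : Ix n → Ix n → F → G) (y : Ix n → F → G) : Prop where
  two : ∀ a : F, a + a = 0
  tt : t * t = 1
  tx : ∀ i j a, Commute t (x i j a)
  ty : ∀ i a, Commute t (y i a)
  symm : ∀ i j a, x i j a = x j i a
  x_add : ∀ i j a b, x i j (a + b) = x i j a * x i j b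
  y_add : ∀ i a b, y i (a + b) = y i a * y i b
  yy : ∀ i j a b, i ≠ neg j → Commute (y i a) (y j b)
  xy : ∀ i j k a b, i ≠ neg k → j ≠ neg k → Commute (x i j a) (y k b)
  xx : ∀ i j k l a b, i ≠ neg k → i ≠ neg l → j ≠ neg k → j ≠ neg l → Commute (x i j a) (x k l b)
  xx' : ∀ i j a b, Commute (x i j a) (x i (neg j) b)
  /-- `[x_{ij}(a), x_{-j,k}(b)] = x_{ik}(ab)` -/
  ss : ∀ i j k a b, Dj i j → Dj j k → Dj i k → x (neg j) k b * x i j a * x (neg j) k b = x i j a * x i k (a * b)
  /-- `y_i(a)^{x_{-i,j}(b)} = y_i(a) x_{ij}(ab) y_j(ab²)` -/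
  sl : ∀ i j a b, Dj i j → x (neg i) j b * y i a * x (neg i) j b = y i a * x i j (a * b) * y j (a * b ^ 2)
  /-- independence of `Y_i, Y_j, X_ij`, and of `t` -/
  ind : ∀ i j a b c, Dj i j → y i a * y j b * x i j c = 1 → a = 0 ∧ b = 0 ∧ c = 0
  indt : ∀ i j a b c, Dj i j → t ≠ y i a * y j b * x i j c

/-- Pattern (O,0): only the long root groups are moved; `W i` is the double of `Y i`. -/
structure DataO (t : G) (x : Ix n → Ix n → F → G) (y : Ix n → F → G) (W : Ix n → Subgroup G) : Prop extends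
    Rels t x y where
  yW : ∀ i a, y i a ∈ W i
  Wsq : ∀ i, ∀ w ∈ W i, ∃ a, w * w = y i a
  Wy : ∀ i, ∀ w ∈ W i, ∀ a, Commute w (y i a)
  d : ∀ i, ∀ w ∈ W i, ∃ a, t * w * t = w * y i a
  onto : ∀ i a, ∃ w ∈ W i, t * w * t = w * y i a
  fix : ∀ i, ∀ w ∈ W i, t * w * t = w → ∃ a, w = y i a
  Wx : ∀ i j, Dj i j → ∀ w ∈ W i, ∀ a, Commute w (x i j a)
  Wx' : ∀ i j k, Dj i j → Dj i k → Dj j k → ∀ w ∈ W i, ∀ a, Commute w (x j k a)
  /-- the double centraliser of `⟨X_ij, X_il, X_jl, X_lm⟩` -/
  cent : ∀ i j, Dj i j → ∀ g, Commute g t → (∀ a, Commute g (x i j a)) →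
    (∀ l, Dj i l → Dj j l → ∀ a, Commute g (x i l a) ∧ Commute g (x j l a)) →
    (∀ l m, Dj i l → Dj j l → Dj i m → Dj j m → Dj l m → ∀ a, Commute g (x l m a)) →
    ∃ a b c, g = y i a * y j b * x i j c ∨ g = t * (y i a * y j b * x i j c)
  /-- short root elements are not moved -/
  nm : ∀ i j a, Dj i j → a ≠ 0 → ¬ IsConj t (t * x i j a)
  /-- `n ≥ 3` -/
  three : ∀ i j : Ix n, ∃ k, Dj i k ∧ Dj j k
  /-- `F` is perfect -/
  root : ∀ a : F, ∃ b, b ^ 2 = a

end Cfsg.Agent.OddHalf.SpN

end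

-- merged: Cfsg.Agent.OddHalf.SpN.RelsBasic
section

/-!
# Basic consequences of `Rels` (helper200)
-/

set_option autoImplicit false

namespace Cfsg.Agent.OddHalf.SpN

variable {n : ℕ} {F G : Type*} [Field F] [Group G]

namespace Rels

variable {t : G} {x : Ix n → Ix n → F → G} {y : Ix n → F → G}

theorem x_zero (h : Rels t x y) (i j : Ix n) : x i j 0 = 1 := by
  have := h.x_add i j 0 0
  rw [add_zero] at this
  exact left_eq_mul.1 this

theorem y_zero (h : Rels t x y) (i : Ix n) : y i 0 = 1 := by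
  have := h.y_add i 0 0
  rw [add_zero] at this
  exact left_eq_mul.1 this

theorem x_sq (h : Rels t x y) (i j : Ix n) (a : F) : x i j a * x i j a = 1 := by
  rw [← h.x_add, h.two, h.x_zero]

theorem y_sq (h : Rels t x y) (i : Ix n) (a : F) : y i a * y i a = 1 := by
  rw [← h.y_add, h.two, h.y_zero]

theorem x_inv (h : Rels t x y) (i j : Ix n) (a : F) : (x i j a)⁻¹ = x i j a :=
  inv_eq_of_mul_eq_one_left (h.x_sq i j a)

theorem y_inv (h : Rels t x y) (i : Ix n) (a : F) : (y i a)⁻¹ = y i a :=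
  inv_eq_of_mul_eq_one_left (h.y_sq i a)

theorem t_inv (h : Rels t x y) : t⁻¹ = t := inv_eq_of_mul_eq_one_left h.tt

/-- `X_ij` and `Y_k` commute unless `-k ∈ {i, j}`. -/
theorem x_y (h : Rels t x y) {i j k : Ix n} (h1 : i ≠ neg k) (h2 : j ≠ neg k) (a b : F) :
    Commute (x i j a) (y k b) := h.xy i j k a b h1 h2

theorem x_yi (h : Rels t x y) {i j : Ix n} (h1 : Dj i j) (a b : F) : Commute (x i j a) (y i b) :=
  h.x_y (ne_neg i) (fun e => h1.2 (by rw [e, neg_neg])) a b

theorem x_yj (h : Rels t x y) {i j : Ix n} (h1 : Dj i j) (a b : F) : Commute (x i j a) (y j b) :=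
  h.x_y h1.2 (ne_neg j) a b

theorem y_y (h : Rels t x y) {i j : Ix n} (h1 : i ≠ neg j) (a b : F) : Commute (y i a) (y j b) := h.yy i j a b h1

theorem x_eq_one (h : Rels t x y) {i j : Ix n} (hij : Dj i j) {a : F} (h1 : x i j a = 1) : a = 0 :=
  (h.ind i j 0 0 a hij (by rw [h.y_zero, h.y_zero, one_mul, one_mul, h1])).2.2

theorem y_eq_one (h : Rels t x y) {i j : Ix n} (hij : Dj i j) {a : F} (h1 : y i a = 1) : a = 0 :=
  (h.ind i j a 0 0 hij (by rw [h.y_zero, h.x_zero, mul_one, mul_one, h1])).1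

theorem x_inj (h : Rels t x y) {i j : Ix n} (hij : Dj i j) {a b : F} (h1 : x i j a = x i j b) : a = b := by
  have h2 : x i j (a + b) = 1 := by rw [h.x_add, h1, h.x_sq]
  have h3 := h.x_eq_one hij h2
  calc a = a + (b + b) := by rw [h.two, add_zero]
    _ = (a + b) + b := by ring
    _ = b := by rw [h3, zero_add]

theorem y_inj (h : Rels t x y) {i j : Ix n} (hij : Dj i j) {a b : F} (h1 : y i a = y i b) : a = b := by
  have h2 : y i (a + b) = 1 := by rw [h.y_add, h1, h.y_sq]
  have h3 := h.y_eq_one hij h2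
  calc a = a + (b + b) := by rw [h.two, add_zero]
    _ = (a + b) + b := by ring
    _ = b := by rw [h3, zero_add]

theorem eq_of_add (h : Rels t x y) {a b : F} (h1 : a + b = 0) : a = b := by
  calc a = a + (b + b) := by rw [h.two, add_zero]
    _ = (a + b) + b := by ring
    _ = b := by rw [h1, zero_add]

/-- squares are injective -/
theorem sq_inj (h : Rels t x y) {a b : F} (h1 : a ^ 2 = b ^ 2) : a = b := by
  apply h.eq_of_add
  have h2 : (a + b) ^ 2 = 0 := by
    have : (a + b) ^ 2 = (a ^ 2 + b ^ 2) + (a * b + a * b) := by ring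
    rw [this, h1, h.two, h.two, add_zero]
  exact pow_eq_zero_iff (two_ne_zero) |>.1 h2

/-- products in `Y_i Y_j X_ij` -/
theorem z_mul (h : Rels t x y) {i j : Ix n} (hij : Dj i j) (a b c a' b' c' : F) :
    (y i a * y j b * x i j c) * (y i a' * y j b' * x i j c') =
      y i (a + a') * y j (b + b') * x i j (c + c') := by
  rw [h.y_add, h.y_add, h.x_add]
  have e1 := h.x_yi hij c a'
  have e2 := h.x_yj hij c b'
  have e3 : Commute (y j b) (y i a') := h.y_y (fun e => hij.2 (by rw [e, neg_neg])) b a'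
  calc (y i a * y j b * x i j c) * (y i a' * y j b' * x i j c')
      = y i a * y j b * (x i j c * y i a') * y j b' * x i j c' := by group
    _ = y i a * (y j b * y i a') * (x i j c * y j b') * x i j c' := by rw [e1.eq]; group
    _ = y i a * y i a' * (y j b * y j b') * (x i j c * x i j c') := by rw [e2.eq, e3.eq]; group

theorem z_sq (h : Rels t x y) {i j : Ix n} (hij : Dj i j) (a b c : F) :
    (y i a * y j b * x i j c) * (y i a * y j b * x i j c) = 1 := by
  rw [h.z_mul hij, h.two, h.two, h.two, h.y_zero, h.y_zero, h.x_zero, one_mul, one_mul]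

theorem z_inj (h : Rels t x y) {i j : Ix n} (hij : Dj i j) {a b c a' b' c' : F}
    (e : y i a * y j b * x i j c = y i a' * y j b' * x i j c') : a = a' ∧ b = b' ∧ c = c' := by
  have h1 : y i (a + a') * y j (b + b') * x i j (c + c') = 1 := by
    rw [← h.z_mul hij, e, h.z_sq hij]
  obtain ⟨e1, e2, e3⟩ := h.ind i j _ _ _ hij h1
  exact ⟨h.eq_of_add e1, h.eq_of_add e2, h.eq_of_add e3⟩

end Rels

/-- the assoc form of a rewriting rule -/
theorem asc {M : Type*} [Semigroup M] {a b c : M} (h : a * b = c) (z : M) : a * (b * z) = c * z := by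
  rw [← mul_assoc, h]

end Cfsg.Agent.OddHalf.SpN

end

-- merged: Cfsg.Agent.OddHalf.SpN.PatO
section

/-!
# Pattern (O,0) = `{l}`: the relations of the doubled long root groups, all `q` (helper200)
-/

set_option autoImplicit false

namespace Cfsg.Agent.OddHalf.SpN

variable {n : ℕ} {F G : Type*} [Field F] [Group G]

/-- `[w, p]` commutes with `t` when `[w, t]` is central in `⟨w, p⟩`. -/
theorem commute_t_of {t w p c : G} (tt : t * t = 1) (tp : Commute t p) (htw : t * w * t = w * c)
    (wc : Commute w c) (pc : Commute p c) : Commute (w⁻¹ * (p * w * p)) t := by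
  have ti : t⁻¹ = t := inv_eq_of_mul_eq_one_left tt
  have e1 : MulAut.conj t w = w * c := by rw [MulAut.conj_apply, ti, htw]
  have e2 : MulAut.conj t p = p := by rw [MulAut.conj_apply, tp.eq]; group
  have e3 : Commute (w⁻¹ * (p * w * p)) c := by
    exact (wc.inv_left).mul_left ((pc.mul_left wc).mul_left pc)
  have e4 : MulAut.conj t (w⁻¹ * (p * w * p)) = w⁻¹ * (p * w * p) := by
    rw [map_mul, map_inv, map_mul, map_mul, e1, e2]
    calc (w * c)⁻¹ * (p * (w * c) * p) = c⁻¹ * (w⁻¹ * (p * w * (c * p))) := by group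
      _ = c⁻¹ * (w⁻¹ * (p * w * p) * c) := by rw [← pc.eq]; group
      _ = w⁻¹ * (p * w * p) := by rw [e3.eq]; group
  have e5 : t * (w⁻¹ * (p * w * p)) * t⁻¹ = w⁻¹ * (p * w * p) := e4
  have e6 : t * (w⁻¹ * (p * w * p)) = (w⁻¹ * (p * w * p)) * t := by
    calc t * (w⁻¹ * (p * w * p)) = (t * (w⁻¹ * (p * w * p)) * t⁻¹) * t := by group
      _ = _ := by rw [e5]
  exact e6.symm

namespace DataO

variable {t : G} {x : Ix n → Ix n → F → G} {y : Ix n → F → G} {W : Ix n → Subgroup G}

theorem dj_neg {i j : Ix n} (h : Dj i j) : Dj i (neg j) := dj_neg_right.2 h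

/-- First form of `[w, y_j(b)]`. -/
theorem wy1 (h : DataO t x y W) {i j : Ix n} (hij : Dj i j) {w : G} (hw : w ∈ W i) (b : F) :
    ∃ a c, y j b * w * y j b = w * (y i a * x i j c) := by
  have R := h.toRels
  obtain ⟨φ, hφ⟩ := h.d i w hw
  have hji : Dj j i := hij.symm
  have ij' : i ≠ neg j := hij.2
  have ji' : j ≠ neg i := hji.2
  set p := y j b with hp
  have pp : p * p = 1 := R.y_sq j b
  have wx : ∀ a, Commute w (x i j a) := h.Wx i j hij w hw
  have wyi : ∀ a, Commute w (y i a) := h.Wy i w hw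
  have pyi : ∀ a, Commute p (y i a) := fun a => R.y_y ji' b a
  have px : ∀ a, Commute p (x i j a) := fun a => (R.x_yj hij a b).symm
  set c := w⁻¹ * (p * w * p) with hc
  have hct : Commute c t := commute_t_of R.tt (R.ty j b) hφ (wyi φ) (pyi φ)
  have mk : ∀ g : G, Commute w g → Commute p g → Commute c g := fun g h1 h2 =>
    (h1.inv_left).mul_left ((h2.mul_left h1).mul_left h2)
  -- the centraliser
  obtain ⟨a, b', d, hz⟩ := h.cent i j hij c hct (fun a => mk _ (wx a) (px a))
    (fun l hil hjl a => ⟨mk _ (h.Wx i l hil w hw a) (R.x_y ij' (fun e => hjl.2 (by rw [e, neg_neg])) a b).symm,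
      mk _ (h.Wx' i j l hij hil hjl w hw a) (R.x_yi hjl a b).symm⟩)
    (fun l m hil hjl him hjm hlm a => mk _ (h.Wx' i l m hil him hlm w hw a)
      (R.x_y (fun e => hjl.2 (by rw [e, neg_neg])) (fun e => hjm.2 (by rw [e, neg_neg])) a b).symm)
  -- `c` commutes with `g = x_{-j,i}(1)`
  set g := x (neg j) i 1 with hg
  have gg : g * g = 1 := R.x_sq _ _ _
  have wg : Commute w g := by
    have := h.Wx i (neg j) (dj_neg hij) w hw 1
    rwa [R.symm] at this
  have sl : ∀ b : F, g * y j b * g = y j b * x i j b * y i b := by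
    intro b
    have := R.sl j i b 1 hji
    rw [mul_one, one_pow, mul_one, R.symm j i] at this
    exact this
  have gyi : ∀ a, Commute g (y i a) := fun a => R.x_y (fun e => hij.1 (neg_inj.1 e).symm) (ne_neg i) 1 a
  have gx : ∀ a, Commute g (x i j a) := fun a => by
    have := R.xx' i (neg j) 1 a
    rw [neg_neg, R.symm] at this
    exact this
  have hcg : Commute c g := by
    have e1 : g * p * g = p * (x i j b * y i b) := by rw [← mul_assoc]; exact sl b
    have e2 : Commute w (x i j b * y i b) := (wx b).mul_right (wyi b)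
    have e3 : Commute p (x i j b * y i b) := (px b).mul_right (pyi b)
    have e4 : (x i j b * y i b) * (x i j b * y i b) = 1 := by
      calc (x i j b * y i b) * (x i j b * y i b) = x i j b * (y i b * x i j b) * y i b := by group
        _ = (x i j b * x i j b) * (y i b * y i b) := by rw [← (R.x_yi hij b b).eq]; group
        _ = 1 := by rw [R.x_sq, R.y_sq, one_mul]
    set z := x i j b * y i b with hz
    have ginv : g⁻¹ = g := inv_eq_of_mul_eq_one_left gg
    have e5 : MulAut.conj g p = p * z := by rw [MulAut.conj_apply, ginv, e1]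
    have e6 : MulAut.conj g w = w := by rw [MulAut.conj_apply, ← wg.eq]; group
    have e7 : MulAut.conj g c = c := by
      rw [hc, map_mul, map_inv, map_mul, map_mul, e5, e6]
      calc w⁻¹ * (p * z * w * (p * z)) = w⁻¹ * (p * (z * w) * (p * z)) := by group
        _ = w⁻¹ * (p * w * (z * p) * z) := by rw [← e2.eq]; group
        _ = w⁻¹ * (p * w * p) * (z * z) := by rw [← e3.eq]; group
        _ = w⁻¹ * (p * w * p) := by rw [e4, mul_one]
    have e8 : g * c * g⁻¹ = c := e7
    have e9 : g * c = c * g := by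
      calc g * c = (g * c * g⁻¹) * g := by group
        _ = _ := by rw [e8]
    exact e9.symm
  have hzg : Commute (y i a * y j b' * x i j d) g := by
    rcases hz with hz | hz
    · rw [← hz]; exact hcg
    · have e1 : y i a * y j b' * x i j d = t * c := by rw [hz, ← mul_assoc, R.tt, one_mul]
      rw [e1]
      exact (R.tx _ _ _).mul_left hcg
  have hb' : b' = 0 := by
    have e1 : Commute (y j b') g := by
      have e2 : y j b' = (y i a)⁻¹ * (y i a * y j b' * x i j d) * (x i j d)⁻¹ := by group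
      rw [e2]
      exact (((gyi a).symm.inv_left).mul_left hzg).mul_left ((gx d).symm.inv_left)
    have e2 := sl b'
    have e3 : y j b' * (x i j b' * y i b') = y j b' := by
      calc y j b' * (x i j b' * y i b') = g * y j b' * g := by rw [e2]; group
        _ = y j b' * (g * g) := by rw [← e1.eq]; group
        _ = y j b' := by rw [gg, mul_one]
    have e4 : x i j b' * y i b' = 1 := mul_eq_left.1 e3
    have e5 := R.ind i j b' 0 b' hij (by
      rw [R.y_zero, mul_one, ← (R.x_yi hij b' b').eq, e4])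
    exact e5.1
  subst hb'
  rw [R.y_zero, mul_one] at hz
  refine ⟨a, d, ?_⟩
  rcases hz with hz | hz
  · have e1 : p * w * p = w * c := by rw [hc]; group
    rw [e1, hz]
  · -- the `t`-part
    exfalso
    have zw : Commute w (y i a * x i j d) := (wyi a).mul_right (wx d)
    have zp : Commute p (y i a * x i j d) := (pyi a).mul_right (px d)
    have zt : Commute t (y i a * x i j d) := (R.ty i a).mul_right (R.tx i j d)
    have zz : (y i a * x i j d) * (y i a * x i j d) = 1 := by
      have := R.z_sq hij a 0 d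
      rwa [R.y_zero, mul_one] at this
    set z := y i a * x i j d with hz'
    -- `w⁻¹ p w = t z p`
    have e1 : w⁻¹ * p * w = t * z * p := by
      calc w⁻¹ * p * w = w⁻¹ * p * w * (p * p) := by rw [pp, mul_one]
        _ = w⁻¹ * (p * w * p) * p := by group
        _ = t * z * p := by rw [← hc, hz]
    obtain ⟨s, hs⟩ := h.Wsq i w hw
    have e2 : w⁻¹ * (w⁻¹ * p * w) * w = p := by
      calc w⁻¹ * (w⁻¹ * p * w) * w = (w * w)⁻¹ * (p * (w * w)) := by group
        _ = p := by rw [hs, (pyi s).eq]; group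
    have e3 : w⁻¹ * t * w = t * y i φ := by
      have : t * w = w * y i φ * t := by
        calc t * w = t * w * (t * t) := by rw [R.tt, mul_one]
          _ = (t * w * t) * t := by group
          _ = w * y i φ * t := by rw [hφ]
      calc w⁻¹ * t * w = w⁻¹ * (t * w) := by group
        _ = y i φ * t := by rw [this]; group
        _ = t * y i φ := ((R.ty i φ).eq).symm
    have e4 : w⁻¹ * z * w = z := by rw [mul_assoc, ← zw.eq]; group
    have e5 : w⁻¹ * (w⁻¹ * p * w) * w = y i φ * p := by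
      rw [e1]
      calc w⁻¹ * (t * z * p) * w = (w⁻¹ * t * w) * (w⁻¹ * z * w) * (w⁻¹ * p * w) := by group
        _ = t * y i φ * z * (t * z * p) := by rw [e1, e3, e4]
        _ = t * (y i φ * (z * t)) * z * p := by group
        _ = (t * t) * y i φ * (z * z) * p := by
          rw [← zt.eq, ← mul_assoc (y i φ), ← (R.ty i φ).eq]; group
        _ = y i φ * p := by rw [R.tt, zz]; group
    have e6 : y i φ = 1 := by
      rw [e5] at e2
      exact mul_eq_right.1 e2
    rw [e6, mul_one] at hφ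
    obtain ⟨a', ha'⟩ := h.fix i w hw hφ
    have e7 : c = 1 := by
      rw [hc, ha']
      calc (y i a')⁻¹ * (p * y i a' * p) = (y i a')⁻¹ * (y i a' * (p * p)) := by rw [(pyi a').eq]; group
        _ = 1 := by rw [pp]; group
    have e8 : t = y i a * y j 0 * x i j d := by
      rw [R.y_zero, mul_one]
      calc t = (t * z) * z := by rw [mul_assoc, zz, mul_one]
        _ = z := by rw [← hz, e7, one_mul]
    exact R.indt i j a 0 d hij e8

/-- Transport of `[w, y_j(b)]` to `[w, y_k(b e²)]`. -/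
theorem wy2 (h : DataO t x y W) {i j k : Ix n} (hij : Dj i j) (hik : Dj i k) (hjk : Dj j k) {w : G}
    (hw : w ∈ W i) (b e a c : F) (h1 : y j b * w * y j b = w * (y i a * x i j c)) :
    y k (b * e ^ 2) * w * y k (b * e ^ 2) = w * x i k (c * e) := by
  have R := h.toRels
  set g := x (neg j) k e with hg
  set p := y j b with hp
  set r := x j k (b * e) with hr
  set s := y k (b * e ^ 2) with hs
  have gg : g * g = 1 := R.x_sq _ _ _
  have ginv : g⁻¹ = g := inv_eq_of_mul_eq_one_left gg
  have gp : MulAut.conj g p = p * r * s := by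
    rw [MulAut.conj_apply, ginv]; exact R.sl j k b e hjk
  have gw : MulAut.conj g w = w := by
    have : Commute w g := h.Wx' i (neg j) k (dj_neg_right.2 hij) hik (dj_neg_left.2 hjk) w hw e
    rw [MulAut.conj_apply, ← this.eq]; group
  have gy : MulAut.conj g (y i a) = y i a := by
    have : Commute g (y i a) := R.x_y (fun e => hij.1 (neg_inj.1 e).symm)
      (fun e => hik.2 (by rw [e, neg_neg])) e a
    rw [MulAut.conj_apply, this.eq]; group
  have gx : MulAut.conj g (x i j c) = x i j c * x i k (c * e) := by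
    rw [MulAut.conj_apply, ginv]; exact R.ss i j k c e hij hjk hik
  have e1 := congrArg (MulAut.conj g) h1
  rw [map_mul, map_mul, map_mul, map_mul, gp, gw, gy, gx] at e1
  have rw_ : Commute w r := h.Wx' i j k hij hik hjk w hw (b * e)
  have rs : Commute r s := R.x_yj hjk _ _
  have rp : Commute r p := R.x_yi hjk _ _
  have rr : r * r = 1 := R.x_sq _ _ _
  have sp : Commute s p := R.y_y (fun e => hjk.2 (by rw [e, neg_neg])) _ _
  have sy : Commute s (y i a) := R.y_y (fun e => hik.2 (by rw [e, neg_neg])) _ _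
  have sx : Commute s (x i j c) := (R.x_y hik.2 hjk.2 _ _).symm
  have xy' : Commute (x i k (c * e)) (y i a) := R.x_yi hik _ _
  have xx' : Commute (x i k (c * e)) (x i j c) :=
    R.xx i k i j _ _ (ne_neg i) hij.2 (fun e => hik.2 (by rw [e, neg_neg])) hjk.symm.2
  have e2 : p * r * s * w * (p * r * s) = (s * w * s) * (y i a * x i j c) := by
    calc p * r * s * w * (p * r * s) = p * (r * s) * w * (p * r) * s := by group
      _ = p * s * (r * w) * (p * r) * s := by rw [rs.eq]; group
      _ = p * s * w * (r * (r * p)) * s := by rw [← rw_.eq, ← rp.eq]; group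
      _ = (p * s) * w * p * s := by
        have : r * (r * p) = p := by rw [← mul_assoc, rr, one_mul]
        rw [this]
      _ = s * (p * w * p) * s := by rw [← sp.eq]; group
      _ = s * w * (y i a * x i j c * s) := by rw [h1]; group
      _ = (s * w * s) * (y i a * x i j c) := by
        rw [← ((sy.mul_right sx).eq)]; group
  have e3 : w * (y i a * (x i j c * x i k (c * e))) = (w * x i k (c * e)) * (y i a * x i j c) := by
    have : Commute (x i k (c * e)) (y i a * x i j c) := xy'.mul_right xx'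
    calc w * (y i a * (x i j c * x i k (c * e))) = w * ((y i a * x i j c) * x i k (c * e)) := by group
      _ = _ := by rw [← this.eq]; group
  rw [e2, e3] at e1
  exact mul_right_cancel e1

/-- `[w, y_j(e²)] = x_{ij}(e α)` for a constant `α = α(w)`. -/
theorem wy3 (h : DataO t x y W) {i : Ix n} {w : G} (hw : w ∈ W i) :
    ∃ α : F, ∀ j, Dj i j → ∀ e, y j (e ^ 2) * w * y j (e ^ 2) = w * x i j (α * e) := by
  obtain ⟨j₀, hj₀, -⟩ := h.three i i
  obtain ⟨a, c, h1⟩ := h.wy1 hj₀ hw 1
  have main : ∀ k, Dj i k → Dj j₀ k → ∀ e, y k (e ^ 2) * w * y k (e ^ 2) = w * x i k (c * e) := by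
    intro k hk hk' e
    have := h.wy2 hj₀ hk hk' hw 1 e a c h1
    rwa [one_mul] at this
  refine ⟨c, fun j hj e => ?_⟩
  by_cases hjj : Dj j₀ j
  · exact main j hj hjj e
  · obtain ⟨l, hl, hl'⟩ := h.three i j₀
    have h2 := main l hl hl' 1
    rw [one_pow, mul_one] at h2
    have hlj : Dj l j := by
      have hj' : j = j₀ ∨ j = neg j₀ := by
        by_contra hcon
        rw [not_or] at hcon
        exact hjj ⟨fun e => hcon.1 e.symm, fun e => hcon.2 (by rw [e, neg_neg])⟩
      rcases hj' with rfl | rfl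
      · exact hl'.symm
      · exact dj_neg_right.2 hl'.symm
    have := h.wy2 hl hj hlj hw 1 e 0 c (by rw [h.toRels.y_zero, one_mul, h2])
    rwa [one_mul] at this

/-- The type is O with constant 1: `t w t = w y_i(b²)` implies `[w, y_j(e²)] = x_{ij}(b e)`. -/
theorem wy (h : DataO t x y W) {i j : Ix n} (hij : Dj i j) {w : G} (hw : w ∈ W i) {b : F}
    (hb : t * w * t = w * y i (b ^ 2)) (e : F) :
    y j (e ^ 2) * w * y j (e ^ 2) = w * x i j (b * e) := by
  have R := h.toRels
  obtain ⟨α, hα⟩ := h.wy3 hw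
  suffices hαb : α = b by rw [← hαb]; exact hα j hij e
  obtain ⟨k, hik, -⟩ := h.three i i
  have hki := hik.symm
  obtain ⟨w', hw', ht'⟩ := h.onto k 1
  set g := x (neg k) i b with hg
  have gg : g * g = 1 := R.x_sq _ _ _
  have ginv : g⁻¹ = g := inv_eq_of_mul_eq_one_left gg
  have ti := R.t_inv
  -- conjugation by `t`
  have tw : MulAut.conj t w = w * y i (b ^ 2) := by rw [MulAut.conj_apply, ti, hb]
  have tw' : MulAut.conj t w' = w' * y k 1 := by rw [MulAut.conj_apply, ti, ht']
  have tg : MulAut.conj t g = g := by rw [MulAut.conj_apply, (show Commute t g from R.tx _ _ _).eq]; group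
  have gy : g * y k 1 * g = y k 1 * x k i b * y i (b ^ 2) := by
    have := R.sl k i 1 b hki
    rwa [one_mul, one_mul] at this
  set u := g * w' * g with hu
  have tu : MulAut.conj t u = u * (y k 1 * x k i b * y i (b ^ 2)) := by
    rw [hu, map_mul, map_mul, tw', tg]
    calc g * (w' * y k 1) * g = g * w' * 1⁻¹ * y k 1 * g := by group
      _ = g * w' * (g * g)⁻¹ * y k 1 * g := by rw [gg]
      _ = g * w' * (g⁻¹ * (g⁻¹ * y k 1 * g)) := by group
      _ = g * w' * g * (g * y k 1 * g) := by rw [ginv]; group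
      _ = _ := by rw [gy]
  -- `t^u`
  have t_of : ∀ v z : G, MulAut.conj t v = v * z → v⁻¹ * t * v = z * t := by
    intro v z hv
    have h1 : t * v * t⁻¹ = v * z := hv
    calc v⁻¹ * t * v = v⁻¹ * (t * v * t⁻¹) * t := by group
      _ = z * t := by rw [h1]; group
  have e1 := t_of _ _ tu
  have e2 := t_of _ _ tw
  have e3 := t_of _ _ tw'
  have hαk := hα k hik 1
  rw [one_pow, mul_one] at hαk
  have yk : y k 1 * y k 1 = 1 := R.y_sq _ _
  have e4 : w⁻¹ * y k 1 * w = x i k α * y k 1 := by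
    calc w⁻¹ * y k 1 * w = w⁻¹ * (y k 1 * w * (y k 1 * y k 1)) := by rw [yk]; group
      _ = w⁻¹ * (y k 1 * w * y k 1) * y k 1 := by group
      _ = _ := by rw [hαk]; group
  have e5 : (w' * w)⁻¹ * t * (w' * w) = x i k α * y k 1 * (y i (b ^ 2) * t) := by
    calc (w' * w)⁻¹ * t * (w' * w) = w⁻¹ * (w'⁻¹ * t * w') * w := by group
      _ = (w⁻¹ * y k 1 * w) * (w⁻¹ * t * w) := by rw [e3]; group
      _ = _ := by rw [e4, e2]
  -- `u` commutes with `X_ik`
  have ux : ∀ a, Commute u (x i k a) := by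
    intro a
    have c1 : Commute g (x i k a) := by
      have := R.xx' i (neg k) b a
      rw [neg_neg] at this
      rw [hg, R.symm]
      exact this
    have c2 : Commute w' (x i k a) := by
      rw [R.symm]; exact h.Wx k i hki w' hw' a
    exact (c1.mul_left c2).mul_left c1
  have e6 : (w' * w)⁻¹ * t * (w' * w) = (u⁻¹ * t * u) * x i k (b + α) := by
    rw [e5, e1, R.symm k i]
    have c1 : Commute (x i k α) (y k 1) := R.x_yj hik _ _
    have c2 : Commute (x i k b) (y k 1) := R.x_yj hik _ _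
    have c3 : Commute (x i k b) (y i (b ^ 2)) := R.x_yi hik _ _
    have c4 : Commute (x i k α) (y i (b ^ 2)) := R.x_yi hik _ _
    have c5 : Commute t (x i k (b + α)) := R.tx _ _ _
    have c6 : Commute (y i (b ^ 2)) (x i k (b + α)) := (R.x_yi hik _ _).symm
    have c7 : x i k b * x i k (b + α) = x i k α := by
      rw [← R.x_add, ← add_assoc, R.two, zero_add]
    calc x i k α * y k 1 * (y i (b ^ 2) * t) = y k 1 * x i k α * (y i (b ^ 2) * t) := by rw [c1.eq]
      _ = y k 1 * (x i k b * x i k (b + α)) * (y i (b ^ 2) * t) := by rw [c7]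
      _ = y k 1 * x i k b * (x i k (b + α) * y i (b ^ 2)) * t := by group
      _ = y k 1 * x i k b * y i (b ^ 2) * (x i k (b + α) * t) := by rw [← c6.eq]; group
      _ = y k 1 * x i k b * y i (b ^ 2) * t * x i k (b + α) := by rw [← c5.eq]; group
  by_contra hne
  have hne' : b + α ≠ 0 := fun e0 => hne (R.eq_of_add e0).symm
  refine h.nm i k _ hik hne' ?_
  rw [isConj_iff]
  refine ⟨u * (w' * w)⁻¹, ?_⟩
  calc u * (w' * w)⁻¹ * t * (u * (w' * w)⁻¹)⁻¹ = u * ((w' * w)⁻¹ * t * (w' * w)) * u⁻¹ := by group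
    _ = u * ((u⁻¹ * t * u) * x i k (b + α)) * u⁻¹ := by rw [e6]
    _ = t * (u * x i k (b + α) * u⁻¹) := by group
    _ = t * x i k (b + α) := by rw [(ux _).eq]; group

end DataO

/-- The commutator of two doubled elements is fixed by `t` (type O with constant 1). -/
theorem comm_fix {t w w' y y' z : G} (tt : t * t = 1) (tw : t * w * t = w * y) (tw' : t * w' * t = w' * y')
    (wy : Commute w y) (wy' : Commute w' y') (yy' : Commute y y') (h1 : y' * w * y' = w * z) (h2 : y * w' * y = w' * z)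
    (zw : Commute z w) (zw' : Commute z w') (zy : Commute z y) (zy' : Commute z y') (zz : z * z = 1)
    (yy : y * y = 1) (y'y' : y' * y' = 1) : Commute (w * w' * w * w') t := by
  have ti : t⁻¹ = t := inv_eq_of_mul_eq_one_left tt
  have e1 : MulAut.conj t w = w * y := by rw [MulAut.conj_apply, ti, tw]
  have e2 : MulAut.conj t w' = w' * y' := by rw [MulAut.conj_apply, ti, tw']
  have f1 : y * w' = w' * z * y := by
    rw [← h2, mul_assoc _ y y, yy, mul_one]
  have f2 : y' * w = w * z * y' := by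
    rw [← h1, mul_assoc _ y' y', y'y', mul_one]
  have e3 : MulAut.conj t (w * w' * w * w') = w * w' * w * w' := by
    rw [map_mul, map_mul, map_mul, e1, e2]
    calc w * y * (w' * y') * (w * y) * (w' * y') = w * (y * w') * (y' * w) * y * w' * y' := by group
      _ = w * w' * z * (y * w) * z * (y' * y) * w' * y' := by rw [f1, f2]; group
      _ = w * w' * (z * w) * (y * z) * (y * y') * w' * y' := by rw [← wy.eq, ← yy'.eq]; group
      _ = w * w' * w * (z * z) * (y * y) * (y' * w') * y' := by rw [zw.eq, ← zy.eq]; group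
      _ = w * w' * w * w' * (y' * y') := by rw [zz, yy, ← wy'.eq]; group
      _ = w * w' * w * w' := by rw [y'y', mul_one]
  have e5 : t * (w * w' * w * w') * t⁻¹ = w * w' * w * w' := e3
  have e6 : t * (w * w' * w * w') = (w * w' * w * w') * t := by
    calc t * (w * w' * w * w') = (t * (w * w' * w * w') * t⁻¹) * t := by group
      _ = _ := by rw [e5]
  exact e6.symm

namespace DataO

variable {t : G} {x : Ix n → Ix n → F → G} {y : Ix n → F → G} {W : Ix n → Subgroup G}

/-- every `w ∈ W i` satisfies `t w t = w y_i(b²)` for some `b` -/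
theorem dd (h : DataO t x y W) {i : Ix n} {w : G} (hw : w ∈ W i) : ∃ b, t * w * t = w * y i (b ^ 2) := by
  obtain ⟨a, ha⟩ := h.d i w hw
  obtain ⟨b, rfl⟩ := h.root a
  exact ⟨b, ha⟩

/-- `w⁻¹ t w = y_i(b²) t`. -/
theorem conj_tw (h : DataO t x y W) {i : Ix n} {w : G} {a : F} (hb : t * w * t = w * y i a) :
    w⁻¹ * t * w = y i a * t := by
  have R := h.toRels
  calc w⁻¹ * t * w = w⁻¹ * (t * w * t) * t⁻¹ := by group
    _ = y i a * t := by rw [hb, R.t_inv]; group

/-- `w⁻¹ y_j(e²) w = x_{ij}(b e) y_j(e²)` -/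
theorem conj_yw (h : DataO t x y W) {i j : Ix n} (hij : Dj i j) {w : G} (hw : w ∈ W i) {b : F}
    (hb : t * w * t = w * y i (b ^ 2)) (e : F) : w⁻¹ * y j (e ^ 2) * w = x i j (b * e) * y j (e ^ 2) := by
  have R := h.toRels
  have h1 := h.wy hij hw hb e
  have yy := R.y_sq j (e ^ 2)
  calc w⁻¹ * y j (e ^ 2) * w = w⁻¹ * (y j (e ^ 2) * w * (y j (e ^ 2) * y j (e ^ 2))) := by rw [yy]; group
    _ = w⁻¹ * (y j (e ^ 2) * w * y j (e ^ 2)) * y j (e ^ 2) := by group
    _ = _ := by rw [h1]; group

/-- (R1): `[w, w'] ∈ X_ij` for `w ∈ W i`, `w' ∈ W j`. -/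
theorem ww (h : DataO t x y W) (he : ∀ i, ∀ w ∈ W i, w * w = 1) {i j : Ix n} (hij : Dj i j) {w w' : G}
    (hw : w ∈ W i) (hw' : w' ∈ W j) : ∃ d, w * w' * w * w' = x i j d := by
  have R := h.toRels
  have hji := hij.symm
  have ij' : i ≠ neg j := hij.2
  have ji' : j ≠ neg i := hji.2
  obtain ⟨b, hb⟩ := h.dd hw
  obtain ⟨b', hb'⟩ := h.dd hw'
  have w2 := he i w hw
  have w2' := he j w' hw'
  have wi : w⁻¹ = w := inv_eq_of_mul_eq_one_left w2
  have wi' : w'⁻¹ = w' := inv_eq_of_mul_eq_one_left w2'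
  have h1 := h.wy hij hw hb b'
  have h2 := h.wy hji hw' hb' b
  rw [R.symm j i, mul_comm b' b] at h2
  have wx : ∀ a, Commute w (x i j a) := h.Wx i j hij w hw
  have wx' : ∀ a, Commute w' (x i j a) := fun a => by rw [R.symm]; exact h.Wx j i hji w' hw' a
  have wyi : ∀ a, Commute w (y i a) := h.Wy i w hw
  have wyj : ∀ a, Commute w' (y j a) := h.Wy j w' hw'
  -- degenerate cases
  by_cases hb0 : b = 0
  · subst hb0
    rw [zero_pow two_ne_zero, R.y_zero, mul_one] at hb
    obtain ⟨a, ha⟩ := h.fix i w hw hb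
    obtain ⟨e, rfl⟩ := h.root a
    have h3 := h.wy hji hw' hb' e
    refine ⟨b' * e, ?_⟩
    rw [ha, h3, R.symm j i, (wx' _).eq, mul_assoc, w2', mul_one]
  by_cases hb0' : b' = 0
  · subst hb0'
    rw [zero_pow two_ne_zero, R.y_zero, mul_one] at hb'
    obtain ⟨a, ha⟩ := h.fix j w' hw' hb'
    obtain ⟨e, rfl⟩ := h.root a
    have h3 := h.wy hij hw hb e
    refine ⟨b * e, ?_⟩
    rw [ha]
    calc w * y j (e ^ 2) * w * y j (e ^ 2) = w * (y j (e ^ 2) * w * y j (e ^ 2)) := by group
      _ = x i j (b * e) := by rw [h3, ← mul_assoc, w2, one_mul]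
  set c := w * w' * w * w' with hc
  have hct : Commute c t :=
    comm_fix R.tt hb hb' (wyi _) (wyj _) (R.y_y ij' _ _) h1 h2 (wx _).symm (wx' _).symm (R.x_yi hij _ _)
      (R.x_yj hij _ _) (R.x_sq _ _ _) (R.y_sq _ _) (R.y_sq _ _)
  have mk : ∀ g : G, Commute w g → Commute w' g → Commute c g := fun g h1 h2 =>
    ((h1.mul_left h2).mul_left h1).mul_left h2
  obtain ⟨a, a', d, hz⟩ := h.cent i j hij c hct (fun a => mk _ (wx a) (wx' a))
    (fun l hil hjl a => ⟨mk _ (h.Wx i l hil w hw a) (h.Wx' j i l hji hjl hil w' hw' a),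
      mk _ (h.Wx' i j l hij hil hjl w hw a) (h.Wx j l hjl w' hw' a)⟩)
    (fun l m hil hjl him hjm hlm a => mk _ (h.Wx' i l m hil him hlm w hw a) (h.Wx' j l m hjl hjm hlm w' hw' a))
  obtain ⟨e, rfl⟩ := h.root a
  obtain ⟨e', rfl⟩ := h.root a'
  set z := y i (e ^ 2) * y j (e' ^ 2) * x i j d with hzdef
  have zz : z * z = 1 := R.z_sq hij _ _ _
  have zt : Commute t z := ((R.ty _ _).mul_right (R.ty _ _)).mul_right (R.tx _ _ _)
  have cw : w⁻¹ * c * w = c⁻¹ := by
    rw [hc, wi]
    calc w * (w * w' * w * w') * w = (w * w) * w' * w * w' * w := by group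
      _ = w' * w * w' * w := by rw [w2, one_mul]
      _ = w'⁻¹ * w⁻¹ * w'⁻¹ * w⁻¹ := by rw [wi, wi']
      _ = (w * w' * w * w')⁻¹ := by group
  have cw' : w'⁻¹ * c * w' = c⁻¹ := by
    rw [hc, wi']
    calc w' * (w * w' * w * w') * w' = w' * w * w' * w * (w' * w') := by group
      _ = w' * w * w' * w := by rw [w2', mul_one]
      _ = w'⁻¹ * w⁻¹ * w'⁻¹ * w⁻¹ := by rw [wi, wi']
      _ = (w * w' * w * w')⁻¹ := by group
  have wz : w⁻¹ * z * w = z * x i j (b * e') := by
    have e1 := h.conj_yw hij hw hb e'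
    have xx : Commute (x i j (b * e')) (x i j d) := R.xx i j i j _ _ (ne_neg i) ij' ji' (ne_neg j)
    have xy : Commute (x i j (b * e')) (y j (e' ^ 2)) := R.x_yj hij _ _
    calc w⁻¹ * z * w = (w⁻¹ * y i (e ^ 2) * w) * (w⁻¹ * y j (e' ^ 2) * w) * (w⁻¹ * x i j d * w) := by
          rw [hzdef]; group
      _ = y i (e ^ 2) * (x i j (b * e') * y j (e' ^ 2)) * x i j d := by
          rw [e1]
          congr 1
          · congr 1
            rw [mul_assoc, ← (wyi _).eq]; group
          · rw [mul_assoc, ← (wx _).eq]; group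
      _ = y i (e ^ 2) * y j (e' ^ 2) * (x i j (b * e') * x i j d) := by rw [xy.eq]; group
      _ = z * x i j (b * e') := by rw [xx.eq, hzdef]; group
  have wz' : w'⁻¹ * z * w' = z * x i j (b' * e) := by
    have e1 := h.conj_yw hji hw' hb' e
    rw [R.symm j i] at e1
    have xx : Commute (x i j (b' * e)) (x i j d) := R.xx i j i j _ _ (ne_neg i) ij' ji' (ne_neg j)
    have xy : Commute (x i j (b' * e)) (y j (e' ^ 2)) := R.x_yj hij _ _
    have xy' : Commute (x i j (b' * e)) (y i (e ^ 2)) := R.x_yi hij _ _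
    calc w'⁻¹ * z * w' = (w'⁻¹ * y i (e ^ 2) * w') * (w'⁻¹ * y j (e' ^ 2) * w') * (w'⁻¹ * x i j d * w') := by
          rw [hzdef]; group
      _ = (x i j (b' * e) * y i (e ^ 2)) * y j (e' ^ 2) * x i j d := by
          rw [e1]
          congr 1
          · congr 1
            rw [mul_assoc, ← (wyj _).eq]; group
          · rw [mul_assoc, ← (wx' _).eq]; group
      _ = y i (e ^ 2) * (x i j (b' * e) * y j (e' ^ 2)) * x i j d := by rw [xy'.eq]; group
      _ = y i (e ^ 2) * y j (e' ^ 2) * (x i j (b' * e) * x i j d) := by rw [xy.eq]; group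
      _ = z * x i j (b' * e) := by rw [xx.eq, hzdef]; group
  rcases hz with hz | hz
  · rw [hz, inv_eq_of_mul_eq_one_left zz] at cw cw'
    rw [wz] at cw
    rw [wz'] at cw'
    have e1 := R.x_eq_one hij (mul_eq_left.1 cw)
    have e2 := R.x_eq_one hij (mul_eq_left.1 cw')
    have e3 : e' = 0 := (mul_eq_zero.1 e1).resolve_left hb0
    have e4 : e = 0 := (mul_eq_zero.1 e2).resolve_left hb0'
    refine ⟨d, ?_⟩
    rw [hz, hzdef, e3, e4, zero_pow two_ne_zero, R.y_zero, R.y_zero, one_mul, one_mul]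
  · exfalso
    have e1 : (t * z)⁻¹ = t * z := by
      apply inv_eq_of_mul_eq_one_left
      calc t * z * (t * z) = t * (z * t) * z := by group
        _ = (t * t) * (z * z) := by rw [← zt.eq]; group
        _ = 1 := by rw [R.tt, zz, one_mul]
    rw [hz, e1] at cw
    have e2 : w⁻¹ * (t * z) * w = (y i (b ^ 2) * t) * (z * x i j (b * e')) := by
      rw [← wz, ← h.conj_tw hb]; group
    rw [e2] at cw
    have e3 : y i (b ^ 2) * x i j (b * e') = 1 := by
      have c1 : Commute (y i (b ^ 2)) (t * z) := by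
        refine (R.ty _ _).symm.mul_right ?_
        exact ((Commute.mul_right (R.y_y (ne_neg i) _ _) (R.y_y ij' _ _))).mul_right (R.x_yi hij _ _).symm
      have c2 : (t * z) * (y i (b ^ 2) * x i j (b * e')) = t * z := by
        calc (t * z) * (y i (b ^ 2) * x i j (b * e')) = ((t * z) * y i (b ^ 2)) * x i j (b * e') := by group
          _ = y i (b ^ 2) * t * (z * x i j (b * e')) := by rw [← c1.eq]; group
          _ = t * z := cw
      exact mul_eq_left.1 c2
    have e4 := R.ind i j (b ^ 2) 0 (b * e') hij (by rw [R.y_zero, mul_one]; exact e3)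
    exact hb0 (pow_eq_zero_iff two_ne_zero |>.1 e4.1)

/-- (R2), first form. -/
theorem r2a (h : DataO t x y W) {j k : Ix n} (hjk : Dj j k) {w w' : G} (hw : w ∈ W k) (hw' : w' ∈ W j) {b c : F}
    (hb : t * w * t = w * y k (c ^ 2)) (hb' : t * w' * t = w' * y j ((c * b) ^ 2)) :
    ∃ a a' d, x (neg k) j b * w * x (neg k) j b = (y j a * y k a' * x j k d) * (w * w') ∨
      x (neg k) j b * w * x (neg k) j b = t * (y j a * y k a' * x j k d) * (w * w') := by
  have R := h.toRels
  have hkj := hjk.symm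
  set g := x (neg k) j b with hg
  have gg : g * g = 1 := R.x_sq _ _ _
  have ginv : g⁻¹ = g := inv_eq_of_mul_eq_one_left gg
  have tg : Commute t g := R.tx _ _ _
  set u := g * w * g with hu
  have gy : g * y k (c ^ 2) * g = y k (c ^ 2) * x k j (c ^ 2 * b) * y j (c ^ 2 * b ^ 2) := R.sl k j _ b hkj
  have tu : MulAut.conj t u = u * (y k (c ^ 2) * x k j (c ^ 2 * b) * y j (c ^ 2 * b ^ 2)) := by
    have e1 : MulAut.conj t g = g := by rw [MulAut.conj_apply, tg.eq]; group
    have e2 : MulAut.conj t w = w * y k (c ^ 2) := by rw [MulAut.conj_apply, R.t_inv, hb]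
    rw [hu, map_mul, map_mul, e1, e2]
    calc g * (w * y k (c ^ 2)) * g = g * w * 1⁻¹ * y k (c ^ 2) * g := by group
      _ = g * w * (g * g)⁻¹ * y k (c ^ 2) * g := by rw [gg]
      _ = g * w * (g⁻¹ * (g⁻¹ * y k (c ^ 2) * g)) := by group
      _ = g * w * g * (g * y k (c ^ 2) * g) := by rw [ginv]; group
      _ = _ := by rw [gy]
  have e1 : u⁻¹ * t * u = (y k (c ^ 2) * x k j (c ^ 2 * b) * y j (c ^ 2 * b ^ 2)) * t := by
    have h1 : t * u * t⁻¹ = u * (y k (c ^ 2) * x k j (c ^ 2 * b) * y j (c ^ 2 * b ^ 2)) := tu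
    calc u⁻¹ * t * u = u⁻¹ * (t * u * t⁻¹) * t := by group
      _ = _ := by rw [h1]; group
  have e2 := h.conj_tw hb
  have e2' := h.conj_tw hb'
  have e3 := h.conj_yw hjk hw' hb' c
  have e4 : (w * w')⁻¹ * t * (w * w') = u⁻¹ * t * u := by
    rw [e1]
    have c1 : Commute (x j k (c * b * c)) (y k (c ^ 2)) := R.x_yj hjk _ _
    calc (w * w')⁻¹ * t * (w * w') = w'⁻¹ * (w⁻¹ * t * w) * w' := by group
      _ = (w'⁻¹ * y k (c ^ 2) * w') * (w'⁻¹ * t * w') := by rw [e2]; group
      _ = (x j k (c * b * c) * y k (c ^ 2)) * (y j ((c * b) ^ 2) * t) := by rw [e3, e2']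
      _ = y k (c ^ 2) * x k j (c ^ 2 * b) * y j (c ^ 2 * b ^ 2) * t := by
        rw [c1.eq, R.symm j k, show c * b * c = c ^ 2 * b by ring, show (c * b) ^ 2 = c ^ 2 * b ^ 2 by ring]
        group
  set v := u * (w * w')⁻¹ with hv
  have hvt : Commute v t := by
    have e5 : v * t * v⁻¹ = t := by
      calc v * t * v⁻¹ = u * ((w * w')⁻¹ * t * (w * w')) * u⁻¹ := by rw [hv]; group
        _ = t := by rw [e4]; group
    calc v * t = (v * t * v⁻¹) * v := by group
      _ = t * v := by rw [e5]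
  have mk : ∀ z : G, Commute g z → Commute w z → Commute w' z → Commute v z := fun z h1 h2 h3 =>
    ((h1.mul_left h2).mul_left h1).mul_left ((h2.mul_left h3).inv_left)
  have hjk' : Dj j (neg k) := dj_neg_right.2 hjk
  have gjk : ∀ a, Commute g (x j k a) := fun a => by
    have := R.xx' j k a b
    rw [R.symm j (neg k)] at this
    exact this.symm
  have gjl : ∀ l, Dj j l → Dj k l → ∀ a, Commute g (x j l a) := fun l hjl hkl a =>
    R.xx (neg k) j j l b a hjk'.symm.2 (fun e => hkl.1 (neg_inj.1 e)) (ne_neg j) hjl.2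
  have glm : ∀ l m, Dj j l → Dj k l → Dj j m → Dj k m → ∀ a, Commute g (x l m a) := fun l m h1 h2 h3 h4 a =>
    R.xx (neg k) j l m b a (fun e => h2.1 (neg_inj.1 e)) (fun e => h4.1 (neg_inj.1 e)) h1.2 h3.2
  obtain ⟨a, a', d, hz⟩ := h.cent j k hjk v hvt
    (fun a => mk _ (gjk a) (by rw [R.symm]; exact h.Wx k j hkj w hw a) (h.Wx j k hjk w' hw' a))
    (fun l hjl hkl a => ⟨mk _ (gjl l hjl hkl a) (h.Wx' k j l hkj hkl hjl w hw a) (h.Wx j l hjl w' hw' a), by
      -- `X_kl`
      have c1 : Commute w (x k l a) := h.Wx k l hkl w hw a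
      have c2 : Commute w' (x k l a) := h.Wx' j k l hjk hjl hkl w' hw' a
      have c3 : Commute w (x j l (a * b)) := h.Wx' k j l hkj hkl hjl w hw _
      have c4 : Commute u (x j l (a * b)) := ((gjl l hjl hkl _).mul_left c3).mul_left (gjl l hjl hkl _)
      have c5 : Commute (MulAut.conj g w) (MulAut.conj g (x k l a)) := c1.map (MulAut.conj g).toMonoidHom
      have c6 : MulAut.conj g (x k l a) = x k l a * x j l (a * b) := by
        rw [MulAut.conj_apply, ginv, R.symm k l a, R.symm j l, hg]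
        exact R.ss l k j a b hkl.symm hkj hjl.symm
      have c7 : MulAut.conj g w = u := by rw [MulAut.conj_apply, ginv]
      rw [c6, c7] at c5
      have c8 : Commute u (x k l a) := by
        have : x k l a = (x k l a * x j l (a * b)) * (x j l (a * b))⁻¹ := by group
        rw [this]
        exact c5.mul_right c4.inv_right
      exact c8.mul_left ((c1.mul_left c2).inv_left)⟩)
    (fun l m hjl hkl hjm hkm hlm a => mk _ (glm l m hjl hkl hjm hkm a) (h.Wx' k l m hkl hkm hlm w hw a)
      (h.Wx' j l m hjl hjm hlm w' hw' a))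
  refine ⟨a, a', d, ?_⟩
  have e6 : u = v * (w * w') := by rw [hv]; group
  rcases hz with hz | hz
  · left; rw [e6, hz]
  · right; rw [e6, hz]

/-- `v ∈ ⟨t⟩ Y_j Y_k X_jk` with `Y_k`-component `α`. -/
def Zc (t : G) (x : Ix n → Ix n → F → G) (y : Ix n → F → G) (j k : Ix n) (v : G) (α : F) : Prop :=
  ∃ a d, v = y j a * y k α * x j k d ∨ v = t * (y j a * y k α * x j k d)

theorem Zc.mul (R : Rels t x y) {j k : Ix n} (hjk : Dj j k) {v v' : G} {α α' : F} (h : Zc t x y j k v α)
    (h' : Zc t x y j k v' α') : Zc t x y j k (v * v') (α + α') := by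
  obtain ⟨a, d, h⟩ := h
  obtain ⟨a', d', h'⟩ := h'
  refine ⟨a + a', d + d', ?_⟩
  have e := R.z_mul hjk a α d a' α' d'
  have zt : Commute t (y j a * y k α * x j k d) := ((R.ty _ _).mul_right (R.ty _ _)).mul_right (R.tx _ _ _)
  rw [← e]
  set z := y j a * y k α * x j k d
  set z' := y j a' * y k α' * x j k d'
  rcases h with rfl | rfl <;> rcases h' with rfl | rfl
  · left; rfl
  · right
    rw [← mul_assoc z t, ← zt.eq]; group
  · right; group
  · left
    calc t * z * (t * z') = t * (z * t) * z' := by group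
      _ = (t * t) * (z * z') := by rw [← zt.eq]; group
      _ = z * z' := by rw [R.tt, one_mul]

theorem Zc.unique (R : Rels t x y) {j k : Ix n} (hjk : Dj j k) {v : G} {α α' : F} (h : Zc t x y j k v α)
    (h' : Zc t x y j k v α') : α = α' := by
  obtain ⟨a, d, h⟩ := h
  obtain ⟨a', d', h'⟩ := h'
  have key : ∀ a α d a' α' d', t * (y j a * y k α * x j k d) ≠ y j a' * y k α' * x j k d' := by
    intro a α d a' α' d' e
    have e1 : t = y j (a' + a) * y k (α' + α) * x j k (d' + d) := by
      rw [← R.z_mul hjk, ← e, mul_assoc, R.z_sq hjk, mul_one]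
    exact R.indt j k _ _ _ hjk e1
  rcases h with h | h <;> rcases h' with h' | h'
  · exact (R.z_inj hjk (h.symm.trans h')).2.1
  · exact absurd (h'.symm.trans h) (key _ _ _ _ _ _)
  · exact absurd (h.symm.trans h') (key _ _ _ _ _ _)
  · exact (R.z_inj hjk (mul_left_cancel (h.symm.trans h'))).2.1

/-- conjugation by `x_{j,-k}(b)` does not change the `Y_k`-component -/
theorem Zc.conj (R : Rels t x y) {j k : Ix n} (hjk : Dj j k) {v : G} {α : F} (h : Zc t x y j k v α) (b : F) :
    Zc t x y j k (x (neg k) j b * v * x (neg k) j b) α := by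
  obtain ⟨a, d, h⟩ := h
  set g := x (neg k) j b with hg
  have gg : g * g = 1 := R.x_sq _ _ _
  have ginv : g⁻¹ = g := inv_eq_of_mul_eq_one_left gg
  have hkj := hjk.symm
  have e1 : g * (y j a * y k α * x j k d) * g = y j (a + α * b ^ 2) * y k α * x j k (d + α * b) := by
    have c1 : Commute g (y j a) := R.x_y (fun e => hjk.1 (neg_inj.1 e).symm) (ne_neg j) _ _
    have c2 : Commute g (x j k d) := by
      have := R.xx' j k d b
      rw [R.symm j (neg k)] at this
      exact this.symm
    have c3 : g * y k α * g = y k α * x k j (α * b) * y j (α * b ^ 2) := R.sl k j α b hkj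
    have c4 : Commute (y j (α * b ^ 2)) (y k α) := R.y_y hjk.2 _ _
    have c5 : Commute (x j k (α * b)) (y j (α * b ^ 2)) := R.x_yi hjk _ _
    calc g * (y j a * y k α * x j k d) * g = (g * y j a) * y k α * (x j k d * g) := by group
      _ = y j a * (g * y k α * g) * x j k d := by rw [c1.eq, ← c2.eq]; group
      _ = y j a * y k α * (x j k (α * b) * y j (α * b ^ 2)) * x j k d := by rw [c3, R.symm k j]; group
      _ = y j a * (y k α * y j (α * b ^ 2)) * x j k (α * b) * x j k d := by rw [c5.eq]; group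
      _ = y j a * y j (α * b ^ 2) * y k α * (x j k d * x j k (α * b)) := by
        rw [← c4.eq, ← R.x_add j k d, add_comm d, R.x_add]; group
      _ = _ := by rw [← R.x_add, ← R.y_add]
  refine ⟨a + α * b ^ 2, d + α * b, ?_⟩
  rcases h with rfl | rfl
  · left; exact e1
  · right
    rw [← e1]
    have : Commute t g := R.tx _ _ _
    calc g * (t * (y j a * y k α * x j k d)) * g = (g * t) * (y j a * y k α * x j k d) * g := by group
      _ = _ := by rw [← this.eq]; group

/-- (R2), the consequence of `x_{j,-k}(b)² = 1`. -/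
theorem r2b (h : DataO t x y W) {j k : Ix n} (hjk : Dj j k) {w w' : G} (hw : w ∈ W k) (hw' : w' ∈ W j) {b : F}
    (hb : t * w * t = w * y k (1 ^ 2)) (hb' : t * w' * t = w' * y j (b ^ 2)) (hb0 : b ≠ 0) :
    ∃ α, w' * w' = y j (α * b ^ 2) ∧ (α = 0 ∨ α = 1) ∧
      ∃ v, Zc t x y j k v α ∧ x (neg k) j b * w * x (neg k) j b = v * (w * w') := by
  have R := h.toRels
  have hkj := hjk.symm
  obtain ⟨a, α, d, hz⟩ := h.r2a hjk hw hw' (b := b) (c := 1) hb (by rw [one_mul]; exact hb')
  obtain ⟨s, hs⟩ := h.Wsq j w' hw'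
  obtain ⟨r, rfl⟩ := h.root s
  set g := x (neg k) j b with hg
  have gg : g * g = 1 := R.x_sq _ _ _
  have ginv : g⁻¹ = g := inv_eq_of_mul_eq_one_left gg
  set z := y j a * y k α * x j k d with hzd
  have zz : z * z = 1 := R.z_sq hjk _ _ _
  have zt : Commute t z := ((R.ty _ _).mul_right (R.ty _ _)).mul_right (R.tx _ _ _)
  obtain ⟨v, hv, hvz, hu⟩ : ∃ v, (g * v * g) * v = (g * z * g) * z ∧ (v = z ∨ v = t * z) ∧
      g * w * g = v * (w * w') := by
    rcases hz with hz | hz
    · exact ⟨z, rfl, Or.inl rfl, hz⟩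
    · refine ⟨t * z, ?_, Or.inr rfl, hz⟩
      have tg : Commute t g := R.tx _ _ _
      calc g * (t * z) * g * (t * z) = (g * t) * z * (g * t) * z := by group
        _ = t * g * (z * t) * g * z := by rw [← tg.eq]; group
        _ = t * (g * t) * z * g * z := by rw [← zt.eq]; group
        _ = (t * t) * g * z * g * z := by rw [← tg.eq]; group
        _ = g * z * g * z := by rw [R.tt, one_mul]
  have gw' : Commute g w' := by
    have := h.Wx j (neg k) (dj_neg_right.2 hjk) w' hw' b
    rw [R.symm] at this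
    exact this.symm
  -- `(g v g) v = w w'⁻² w⁻¹`
  have e1 : (g * v * g) * v * (w * (w' * w')) = w := by
    calc (g * v * g) * v * (w * (w' * w')) = (g * v * g) * (v * (w * w')) * w' := by group
      _ = g * v * g * (g * w * g) * w' := by rw [← hu]
      _ = g * v * (g * g) * w * (g * w') := by group
      _ = g * (v * (w * w')) * g := by rw [gg, gw'.eq]; group
      _ = (g * g) * w * (g * g) := by rw [← hu]; group
      _ = w := by rw [gg, one_mul, mul_one]
  have e2 : g * z * g * z = y j (α * b ^ 2) * x j k (α * b) := by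
    have c1 : Commute g (y j a) := R.x_y (fun e => hjk.1 (neg_inj.1 e).symm) (ne_neg j) _ _
    have c2 : Commute g (x j k d) := by
      have := R.xx' j k d b
      rw [R.symm j (neg k)] at this
      exact this.symm
    have c3 : g * y k α * g = y k α * x k j (α * b) * y j (α * b ^ 2) := R.sl k j α b hkj
    have c4 : Commute (y j (α * b ^ 2)) (y k α) := R.y_y hjk.2 _ _
    have c5 : Commute (x j k (α * b)) (y j (α * b ^ 2)) := R.x_yi hjk _ _
    have e3 : g * z * g = y j (a + α * b ^ 2) * y k α * x j k (d + α * b) := by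
      calc g * (y j a * y k α * x j k d) * g = (g * y j a) * y k α * (x j k d * g) := by group
        _ = y j a * (g * y k α * g) * x j k d := by rw [c1.eq, ← c2.eq]; group
        _ = y j a * y k α * (x j k (α * b) * y j (α * b ^ 2)) * x j k d := by rw [c3, R.symm k j]; group
        _ = y j a * (y k α * y j (α * b ^ 2)) * x j k (α * b) * x j k d := by rw [c5.eq]; group
        _ = y j a * y j (α * b ^ 2) * y k α * (x j k d * x j k (α * b)) := by
          rw [← c4.eq, ← R.x_add j k d, add_comm d, R.x_add]; group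
        _ = _ := by rw [← R.x_add, ← R.y_add]
    rw [e3, hzd, R.z_mul hjk]
    have a1 : a + α * b ^ 2 + a = α * b ^ 2 := by
      calc a + α * b ^ 2 + a = (a + a) + α * b ^ 2 := by ring
        _ = _ := by rw [R.two, zero_add]
    have a2 : d + α * b + d = α * b := by
      calc d + α * b + d = (d + d) + α * b := by ring
        _ = _ := by rw [R.two, zero_add]
    rw [a1, a2, R.two, R.y_zero, mul_one]
  -- `w y_j(r²) w⁻¹`
  have e3 := h.conj_yw hkj hw hb r
  rw [one_mul, R.symm k j] at e3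
  have wx : Commute w (x j k r) := by rw [R.symm]; exact h.Wx k j hkj w hw r
  have e4 : w * y j (r ^ 2) * w⁻¹ = x j k r * y j (r ^ 2) := by
    have : y j (r ^ 2) = w * (x j k r * y j (r ^ 2)) * w⁻¹ := by rw [← e3]; group
    have e5 : y j (r ^ 2) = x j k r * (w * y j (r ^ 2) * w⁻¹) := by
      calc y j (r ^ 2) = w * (x j k r * y j (r ^ 2)) * w⁻¹ := this
        _ = (w * x j k r) * y j (r ^ 2) * w⁻¹ := by group
        _ = _ := by rw [wx.eq]; group
    calc w * y j (r ^ 2) * w⁻¹ = (x j k r)⁻¹ * (x j k r * (w * y j (r ^ 2) * w⁻¹)) := by group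
      _ = x j k r * y j (r ^ 2) := by rw [← e5, R.x_inv]
  rw [hv, e2, hs] at e1
  have e5 : y j (α * b ^ 2) * x j k (α * b) * (x j k r * y j (r ^ 2)) = 1 := by
    rw [← e4]
    calc y j (α * b ^ 2) * x j k (α * b) * (w * y j (r ^ 2) * w⁻¹)
        = (y j (α * b ^ 2) * x j k (α * b) * (w * y j (r ^ 2))) * w⁻¹ := by group
      _ = 1 := by rw [e1]; group
  have e6 : y j (α * b ^ 2 + r ^ 2) * y k 0 * x j k (α * b + r) = 1 := by
    rw [R.y_zero, mul_one, R.y_add, R.x_add, ← e5]
    have c1 : Commute (y j (r ^ 2)) (x j k (α * b) * x j k r) :=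
      (R.x_yi hjk _ _).symm.mul_right (R.x_yi hjk _ _).symm
    calc y j (α * b ^ 2) * y j (r ^ 2) * (x j k (α * b) * x j k r)
        = y j (α * b ^ 2) * (y j (r ^ 2) * (x j k (α * b) * x j k r)) := by group
      _ = _ := by rw [c1.eq]; group
  obtain ⟨f1, -, f2⟩ := R.ind j k _ _ _ hjk e6
  have f1' := R.eq_of_add f1
  have f2' := R.eq_of_add f2
  refine ⟨α, by rw [hs, f1'], ?_, v, ⟨a, d, hvz⟩, hu⟩
  -- `α b² = r²`, `α b = r`
  have f3 : α * b ^ 2 = α ^ 2 * b ^ 2 := by rw [f1', ← f2']; ring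
  have f4 : α = α ^ 2 := mul_right_cancel₀ (pow_ne_zero 2 hb0) f3
  have f5 : α * (α - 1) = 0 := by
    have : α * (α - 1) = α ^ 2 - α := by ring
    rw [this, ← f4, sub_self]
  rcases mul_eq_zero.1 f5 with f | f
  · left; exact f
  · right; exact sub_eq_zero.1 f

/-- `W i` is elementary abelian if `q ≥ 4`. -/
theorem elem (h : DataO t x y W) (hab : ∀ i, ∀ w ∈ W i, ∀ w' ∈ W i, Commute w w')
    (hbig : ∀ b : F, b ≠ 0 → ∃ b', b' ≠ 0 ∧ b + b' ≠ 0) : ∀ i, ∀ w ∈ W i, w * w = 1 := by
  have R := h.toRels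
  intro j w₁ hw₁
  obtain ⟨b, hb₁⟩ := h.dd hw₁
  by_cases hb0 : b = 0
  · subst hb0
    rw [zero_pow two_ne_zero, R.y_zero, mul_one] at hb₁
    obtain ⟨a, rfl⟩ := h.fix j w₁ hw₁ hb₁
    exact R.y_sq _ _
  obtain ⟨b', hb0', hbb'⟩ := hbig b hb0
  obtain ⟨k, hjk, -⟩ := h.three j j
  have hkj := hjk.symm
  obtain ⟨w, hw, hwt⟩ := h.onto k (1 ^ 2)
  obtain ⟨w₂, hw₂, hb₂⟩ := h.onto j (b' ^ 2)
  have hc : Commute w₁ w₂ := hab j w₁ hw₁ w₂ hw₂
  have hb₃ : t * (w₂ * w₁) * t = (w₂ * w₁) * y j ((b + b') ^ 2) := by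
    have c1 : Commute w₁ (y j (b' ^ 2)) := h.Wy j w₁ hw₁ _
    calc t * (w₂ * w₁) * t = t * w₂ * (t * t)⁻¹ * w₁ * t := by rw [R.tt]; group
      _ = t * w₂ * t⁻¹ * (t⁻¹ * w₁ * t) := by group
      _ = (t * w₂ * t) * (t * w₁ * t) := by rw [R.t_inv]
      _ = w₂ * (y j (b' ^ 2) * w₁) * y j (b ^ 2) := by rw [hb₁, hb₂]; group
      _ = w₂ * w₁ * (y j (b' ^ 2) * y j (b ^ 2)) := by rw [← c1.eq]; group
      _ = _ := by
        rw [← R.y_add]
        congr 2
        have : (b + b') ^ 2 = b' ^ 2 + b ^ 2 + (b * b' + b * b') := by ring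
        rw [this, R.two, add_zero]
  obtain ⟨α₁, hα₁, hα₁', v₁, hv₁, hu₁⟩ := h.r2b hjk hw hw₁ hwt hb₁ hb0
  obtain ⟨α₂, hα₂, hα₂', v₂, hv₂, hu₂⟩ := h.r2b hjk hw hw₂ hwt hb₂ hb0'
  obtain ⟨α₃, hα₃, hα₃', v₃, hv₃, hu₃⟩ := h.r2b hjk hw (mul_mem hw₂ hw₁) hwt hb₃ hbb'
  set g₁ := x (neg k) j b with hg₁
  set g₂ := x (neg k) j b' with hg₂
  have g3 : x (neg k) j (b + b') = g₂ * g₁ := by rw [add_comm, R.x_add]
  have g3' : x (neg k) j (b + b') = g₁ * g₂ := by rw [R.x_add]
  have gw1 : Commute g₂ w₁ := by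
    have := h.Wx j (neg k) (dj_neg_right.2 hjk) w₁ hw₁ b'
    rw [R.symm] at this
    exact this.symm
  have g22 : g₂ * g₂ = 1 := R.x_sq _ _ _
  have e1 : v₃ = (g₂ * v₁ * g₂) * v₂ := by
    have e2 : v₃ * (w * (w₂ * w₁)) = (g₂ * v₁ * g₂) * v₂ * (w * (w₂ * w₁)) := by
      rw [← hu₃]
      calc x (neg k) j (b + b') * w * x (neg k) j (b + b') = (g₂ * g₁) * w * (g₁ * g₂) := by
            rw [← g3, ← g3']
        _ = g₂ * (g₁ * w * g₁) * g₂ := by group
        _ = g₂ * (v₁ * (w * w₁)) * g₂ := by rw [hu₁]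
        _ = g₂ * v₁ * 1⁻¹ * w * w₁ * g₂ := by group
        _ = g₂ * v₁ * (g₂ * g₂)⁻¹ * w * w₁ * g₂ := by rw [g22]
        _ = g₂ * v₁ * (g₂⁻¹ * (g₂⁻¹ * w * w₁ * g₂)) := by group
        _ = g₂ * v₁ * g₂ * (g₂ * w * w₁ * g₂) := by rw [inv_eq_of_mul_eq_one_left g22]; group
        _ = g₂ * v₁ * g₂ * (g₂ * w * g₂) * w₁ := by
          rw [mul_assoc (g₂ * w), ← gw1.eq]; group
        _ = _ := by rw [hu₂]; group
    exact mul_right_cancel e2
  have e2 : α₃ = α₁ + α₂ := by
    have e3 := (hv₁.conj R hjk b').mul R hjk hv₂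
    rw [← e1] at e3
    exact hv₃.unique R hjk e3
  have e3 : y j (α₃ * (b + b') ^ 2) = y j (α₁ * b ^ 2 + α₂ * b' ^ 2) := by
    rw [← hα₃, R.y_add, ← hα₁, ← hα₂]
    calc w₂ * w₁ * (w₂ * w₁) = w₂ * (w₁ * w₂) * w₁ := by group
      _ = w₂ * (w₂ * w₁) * w₁ := by rw [hc.eq]
      _ = (w₂ * w₂) * (w₁ * w₁) := by group
      _ = (w₁ * w₁) * (w₂ * w₂) := by
        rw [hα₁, hα₂]; exact (R.y_y (ne_neg j) _ _).eq
  have e4 := R.y_inj hjk e3
  have e5 : α₁ = 0 := by
    rcases hα₁' with f | f
    · exact f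
    · exfalso
      have sq : (b + b') ^ 2 = b ^ 2 + b' ^ 2 := by
        have : (b + b') ^ 2 = b ^ 2 + b' ^ 2 + (b * b' + b * b') := by ring
        rw [this, R.two, add_zero]
      rw [e2, sq, f] at e4
      rcases hα₂' with f' | f'
      · rw [f'] at e4
        have : b' ^ 2 = 0 := by
          have e6 : (1 + 0) * (b ^ 2 + b' ^ 2) = 1 * b ^ 2 + 0 * b' ^ 2 + b' ^ 2 := by ring
          rw [e6] at e4
          exact add_eq_left.1 e4
        exact hb0' (pow_eq_zero_iff two_ne_zero |>.1 this)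
      · rw [f', R.two, zero_mul, one_mul, one_mul, ← sq] at e4
        exact hbb' (pow_eq_zero_iff two_ne_zero |>.1 e4.symm)
  rw [hα₁, e5, zero_mul, R.y_zero]

/-- `g z g z` for `z ∈ Y_j Y_k X_jk`, `g = x_{j,-k}(b)`. -/
theorem gzgz (R : Rels t x y) {j k : Ix n} (hjk : Dj j k) (a α d b : F) :
    x (neg k) j b * (y j a * y k α * x j k d) * x (neg k) j b * (y j a * y k α * x j k d) =
      y j (α * b ^ 2) * x j k (α * b) := by
  have hkj := hjk.symm
  set g := x (neg k) j b with hg
  have c1 : Commute g (y j a) := R.x_y (fun e => hjk.1 (neg_inj.1 e).symm) (ne_neg j) _ _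
  have c2 : Commute g (x j k d) := by
    have := R.xx' j k d b
    rw [R.symm j (neg k)] at this
    exact this.symm
  have c3 : g * y k α * g = y k α * x k j (α * b) * y j (α * b ^ 2) := R.sl k j α b hkj
  have c4 : Commute (y j (α * b ^ 2)) (y k α) := R.y_y hjk.2 _ _
  have c5 : Commute (x j k (α * b)) (y j (α * b ^ 2)) := R.x_yi hjk _ _
  have e3 : g * (y j a * y k α * x j k d) * g = y j (a + α * b ^ 2) * y k α * x j k (d + α * b) := by
    calc g * (y j a * y k α * x j k d) * g = (g * y j a) * y k α * (x j k d * g) := by group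
      _ = y j a * (g * y k α * g) * x j k d := by rw [c1.eq, ← c2.eq]; group
      _ = y j a * y k α * (x j k (α * b) * y j (α * b ^ 2)) * x j k d := by rw [c3, R.symm k j]; group
      _ = y j a * (y k α * y j (α * b ^ 2)) * x j k (α * b) * x j k d := by rw [c5.eq]; group
      _ = y j a * y j (α * b ^ 2) * y k α * (x j k d * x j k (α * b)) := by
        rw [← c4.eq, ← R.x_add j k d, add_comm d, R.x_add]; group
      _ = _ := by rw [← R.x_add, ← R.y_add]
  rw [e3, R.z_mul hjk]
  have a1 : a + α * b ^ 2 + a = α * b ^ 2 := by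
    calc a + α * b ^ 2 + a = (a + a) + α * b ^ 2 := by ring
      _ = _ := by rw [R.two, zero_add]
  have a2 : d + α * b + d = α * b := by
    calc d + α * b + d = (d + d) + α * b := by ring
      _ = _ := by rw [R.two, zero_add]
  rw [a1, a2, R.two, R.y_zero, mul_one]

/-- `t` conjugated by `w w'`. -/
theorem conj_tww (h : DataO t x y W) {j k : Ix n} (hjk : Dj j k) {w w' : G} (hw' : w' ∈ W j) {b c : F}
    (hb : t * w * t = w * y k (c ^ 2)) (hb' : t * w' * t = w' * y j ((c * b) ^ 2)) :
    (w * w')⁻¹ * t * (w * w') = y k (c ^ 2) * x j k (c ^ 2 * b) * y j (c ^ 2 * b ^ 2) * t := by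
  have R := h.toRels
  have e2 := h.conj_tw hb
  have e2' := h.conj_tw hb'
  have e3 := h.conj_yw hjk hw' hb' c
  have c1 : Commute (x j k (c * b * c)) (y k (c ^ 2)) := R.x_yj hjk _ _
  calc (w * w')⁻¹ * t * (w * w') = w'⁻¹ * (w⁻¹ * t * w) * w' := by group
    _ = (w'⁻¹ * y k (c ^ 2) * w') * (w'⁻¹ * t * w') := by rw [e2]; group
    _ = (x j k (c * b * c) * y k (c ^ 2)) * (y j ((c * b) ^ 2) * t) := by rw [e3, e2']
    _ = y k (c ^ 2) * x j k (c ^ 2 * b) * y j (c ^ 2 * b ^ 2) * t := by
      rw [c1.eq, show c * b * c = c ^ 2 * b by ring, show (c * b) ^ 2 = c ^ 2 * b ^ 2 by ring]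
      group

/-- (R2): `w^x ∈ X_jk w W_j` for `w ∈ W k`, `x = x_{j,-k}(b)`. -/
theorem r2 (h : DataO t x y W) (he : ∀ i, ∀ w ∈ W i, w * w = 1) {j k : Ix n} (hjk : Dj j k) {w : G} (hw : w ∈ W k)
    (b : F) : ∃ w' ∈ W j, ∃ d, x (neg k) j b * w * x (neg k) j b = x j k d * (w * w') := by
  have R := h.toRels
  have hkj := hjk.symm
  by_cases hb0 : b = 0
  · refine ⟨1, one_mem _, 0, ?_⟩
    rw [hb0, R.x_zero, R.x_zero, one_mul, one_mul]
  obtain ⟨c, hb⟩ := h.dd hw
  by_cases hc0 : c = 0
  · subst hc0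
    rw [zero_pow two_ne_zero, R.y_zero, mul_one] at hb
    obtain ⟨a, rfl⟩ := h.fix k w hw hb
    refine ⟨y j (a * b ^ 2), h.yW _ _, a * b, ?_⟩
    rw [R.sl k j a b hkj, R.symm k j]
    have : Commute (x j k (a * b)) (y k a) := R.x_yj hjk _ _
    rw [← this.eq]; group
  obtain ⟨w', hw', hb'⟩ := h.onto j ((c * b) ^ 2)
  obtain ⟨a, α, d, hz⟩ := h.r2a hjk hw hw' hb hb'
  obtain ⟨m, hm⟩ := h.ww he hkj hw hw'
  rw [R.symm k j] at hm
  have w2 := he k w hw
  have w2' := he j w' hw'
  have tP := h.conj_tww hjk hw' hb hb'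
  set g := x (neg k) j b with hg
  have gg : g * g = 1 := R.x_sq _ _ _
  set z := y j a * y k α * x j k d with hzd
  have zz : z * z = 1 := R.z_sq hjk _ _ _
  have zt : Commute t z := ((R.ty _ _).mul_right (R.ty _ _)).mul_right (R.tx _ _ _)
  have tg : Commute t g := R.tx _ _ _
  obtain ⟨v, hv, hvv, hvz, hu⟩ : ∃ v, (g * v * g) * v = (g * z * g) * z ∧ v * v = 1 ∧ (v = z ∨ v = t * z) ∧
      g * w * g = v * (w * w') := by
    rcases hz with hz | hz
    · exact ⟨z, rfl, zz, Or.inl rfl, hz⟩
    · refine ⟨t * z, ?_, ?_, Or.inr rfl, hz⟩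
      · calc g * (t * z) * g * (t * z) = (g * t) * z * (g * t) * z := by group
          _ = t * g * (z * t) * g * z := by rw [← tg.eq]; group
          _ = t * (g * t) * z * g * z := by rw [← zt.eq]; group
          _ = (t * t) * g * z * g * z := by rw [← tg.eq]; group
          _ = g * z * g * z := by rw [R.tt, one_mul]
      · calc t * z * (t * z) = t * (z * t) * z := by group
          _ = (t * t) * (z * z) := by rw [← zt.eq]; group
          _ = 1 := by rw [R.tt, zz, one_mul]
  have gw' : Commute g w' := by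
    have := h.Wx j (neg k) (dj_neg_right.2 hjk) w' hw' b
    rw [R.symm] at this
    exact this.symm
  have e1 : (g * v * g) * v * (w * (w' * w')) = w := by
    calc (g * v * g) * v * (w * (w' * w')) = (g * v * g) * (v * (w * w')) * w' := by group
      _ = g * v * g * (g * w * g) * w' := by rw [← hu]
      _ = g * v * (g * g) * w * (g * w') := by group
      _ = g * (v * (w * w')) * g := by rw [gg, gw'.eq]; group
      _ = (g * g) * w * (g * g) := by rw [← hu]; group
      _ = w := by rw [gg, one_mul, mul_one]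
  rw [w2', mul_one, hv, hzd, gzgz R hjk] at e1
  have e2 : y j (α * b ^ 2) * x j k (α * b) = 1 := mul_eq_right.1 e1
  have hα : α = 0 := by
    have := R.ind j k (α * b ^ 2) 0 (α * b) hjk (by rw [R.y_zero, mul_one]; exact e2)
    exact (mul_eq_zero.1 this.2.2).resolve_right hb0
  have hz0 : z = y j a * x j k d := by rw [hzd, hα, R.y_zero, mul_one]
  -- `v` commutes with `P = w w'` up to `X_jk`
  have e3 : (w * w')⁻¹ * v * (w * w') = v * x j k m := by
    have h1 : (v * (w * w')) * (v * (w * w')) = 1 := by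
      rw [← hu]
      calc g * w * g * (g * w * g) = g * w * (g * g) * w * g := by group
        _ = g * (w * w) * g := by rw [gg]; group
        _ = 1 := by rw [w2, mul_one, gg]
    have h2 : (w * w') * v * (w * w') = v := by
      calc (w * w') * v * (w * w') = v⁻¹ * ((v * (w * w')) * (v * (w * w'))) := by group
        _ = v := by rw [h1, mul_one, inv_eq_of_mul_eq_one_left hvv]
    have h3 : (w * w') * (w * w') = x j k m := by rw [← hm]; group
    calc (w * w')⁻¹ * v * (w * w') = ((w * w') * (w * w'))⁻¹ * ((w * w') * v * (w * w')) := by group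
      _ = x j k m * v := by rw [h2, h3, R.x_inv]
      _ = v * x j k m := by
        have c1 : Commute (x j k m) z := by
          rw [hz0]
          exact (R.x_yi hjk _ _).mul_right (R.xx j k j k _ _ (ne_neg j) hjk.2 hkj.2 (ne_neg k))
        rcases hvz with h | h
        · rw [h]; exact c1.eq
        · rw [h]; exact ((R.tx j k m).symm.mul_right c1).eq
  obtain ⟨e, he'⟩ := h.root a
  have hy := h.conj_yw hkj hw hb e
  rw [he', R.symm k j] at hy
  have c3 : ∀ r, Commute w (x j k r) := fun r => by rw [R.symm]; exact h.Wx k j hkj w hw r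
  have c3' : ∀ r, Commute w' (x j k r) := fun r => h.Wx j k hjk w' hw' r
  rcases hvz with hv1 | hv1
  · refine ⟨y j a * w', mul_mem (h.yW _ _) hw', d + c * e, ?_⟩
    have c1 : Commute (x j k d) (y j a) := R.x_yi hjk _ _
    have c2 : y j a * w = w * (x j k (c * e) * y j a) := by rw [← hy]; group
    rw [hu, hv1, hz0]
    calc y j a * x j k d * (w * w') = x j k d * (y j a * w) * w' := by rw [← c1.eq]; group
      _ = x j k d * (w * x j k (c * e)) * y j a * w' := by rw [c2]; group
      _ = x j k (d + c * e) * (w * (y j a * w')) := by rw [(c3 _).eq, R.x_add]; group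
  · exfalso
    rw [hv1] at e3
    have c4 : Commute w' (y j a) := h.Wy j w' hw' a
    have e4 : (w * w')⁻¹ * z * (w * w') = y j a * y k 0 * x j k (c * e + d) := by
      have c5 : Commute (x j k (c * e)) (y j a) := R.x_yi hjk _ _
      have c6 : Commute w' (x j k (c * e) * y j a * x j k d) := ((c3' _).mul_right c4).mul_right (c3' _)
      calc (w * w')⁻¹ * z * (w * w') = w'⁻¹ * ((w⁻¹ * y j a * w) * (w⁻¹ * (x j k d * w))) * w' := by
            rw [hz0]; group
        _ = w'⁻¹ * (x j k (c * e) * y j a * x j k d * w') := by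
            rw [hy, ← (c3 d).eq]; group
        _ = x j k (c * e) * y j a * x j k d := by rw [← c6.eq]; group
        _ = _ := by rw [c5.eq, R.y_zero, mul_one, R.x_add]; group
    have e5 : (y j (c ^ 2 * b ^ 2) * y k (c ^ 2) * x j k (c ^ 2 * b)) * (y j a * y k 0 * x j k (c * e + d)) =
        y j a * y k 0 * x j k (d + m) := by
      have c5 : Commute (y k (c ^ 2)) (x j k (c ^ 2 * b)) := (R.x_yj hjk _ _).symm
      have c6 : Commute (x j k (c ^ 2 * b)) (y j (c ^ 2 * b ^ 2)) := R.x_yi hjk _ _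
      have c7 : Commute (y j (c ^ 2 * b ^ 2)) (y k (c ^ 2)) := R.y_y hjk.2 _ _
      have c8 : Commute t (y k (c ^ 2) * x j k (c ^ 2 * b) * y j (c ^ 2 * b ^ 2)) :=
        ((R.ty _ _).mul_right (R.tx _ _ _)).mul_right (R.ty _ _)
      have e6 : (w * w')⁻¹ * (t * z) * (w * w') =
          t * ((y k (c ^ 2) * x j k (c ^ 2 * b) * y j (c ^ 2 * b ^ 2)) * (y j a * y k 0 * x j k (c * e + d))) := by
        calc (w * w')⁻¹ * (t * z) * (w * w') = ((w * w')⁻¹ * t * (w * w')) * ((w * w')⁻¹ * z * (w * w')) := by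
              group
          _ = _ := by rw [tP, e4, ← c8.eq]; group
      rw [e6] at e3
      have e7 := mul_left_cancel (e3.trans (mul_assoc t z (x j k m)))
      have e8 : y k (c ^ 2) * x j k (c ^ 2 * b) * y j (c ^ 2 * b ^ 2) =
          y j (c ^ 2 * b ^ 2) * y k (c ^ 2) * x j k (c ^ 2 * b) := by
        calc y k (c ^ 2) * x j k (c ^ 2 * b) * y j (c ^ 2 * b ^ 2)
            = y k (c ^ 2) * (x j k (c ^ 2 * b) * y j (c ^ 2 * b ^ 2)) := by group
          _ = (y k (c ^ 2) * y j (c ^ 2 * b ^ 2)) * x j k (c ^ 2 * b) := by rw [c6.eq]; group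
          _ = _ := by rw [← c7.eq]
      rw [← e8, e7, hz0, R.y_zero, mul_one, R.x_add]; group
    rw [R.z_mul hjk] at e5
    have e6 := (R.z_inj hjk e5).2.1
    rw [add_zero] at e6
    exact hc0 (pow_eq_zero_iff two_ne_zero |>.1 e6)

end DataO

end Cfsg.Agent.OddHalf.SpN

end

-- merged: Cfsg.Agent.OddHalf.SpN.CentShort
section

/-!
# The double centraliser of the short root groups `X_ij, X_il, X_jl` is `⟨t⟩ Y_i Y_j X_ij` (helper200)
-/

set_option autoImplicit false

namespace Cfsg.Agent.OddHalf.SpN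

open Cfsg Cfsg.Agent.ClassicalGeometry.SympBasic Cfsg.Agent.ClassicalGeometry.SympAutSemi
open scoped Matrix commutatorElement

variable {n : ℕ} {F : Type*} [Field F]

theorem exists_dj (hn : 3 ≤ n) (i j : Ix n) : ∃ k, Dj i k ∧ Dj j k := by
  obtain ⟨k, h1, h2⟩ : ∃ k : Fin n, k ≠ Sum.elim id id i ∧ k ≠ Sum.elim id id j := by
    obtain ⟨k, hk⟩ := Finset.exists_mem_notMem_of_card_lt_card
      (s := ({Sum.elim id id i, Sum.elim id id j} : Finset (Fin n))) (t := Finset.univ) (by
        refine lt_of_le_of_lt Finset.card_le_two ?_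
        rw [Finset.card_univ, Fintype.card_fin]; omega)
    have h := hk.2
    rw [Finset.mem_insert, Finset.mem_singleton, not_or] at h
    exact ⟨k, h.1, h.2⟩
  refine ⟨Sum.inl k, ⟨?_, ?_⟩, ⟨?_, ?_⟩⟩
  · rintro rfl; exact h1 rfl
  · rintro rfl; exact h1 rfl
  · rintro rfl; exact h2 rfl
  · rintro rfl; exact h2 rfl

section chartwo

variable [CharP F 2]

/-- commutation with the short root element -/
theorem T_Nx {A : Sy n F} {p q : Ix n} (hd : Dj p q) (hc : Commute A (sx p q 1)) (v : Ix n → F) :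
    rho n F A (Nx p q v) = Nx p q (rho n F A v) := by
  have h1 := congrArg (fun B => rho n F B v) hc.eq
  simp only [map_mul, Equiv.Perm.mul_apply, (isRoot_x hd).eq, one_smul, (isSemi_rho A).1] at h1
  exact add_left_cancel h1

theorem Nx_be {p q k : Ix n} : Nx p q (be n F k) = (if neg q = k then (1 : F) else 0) • be n F p +
    (if neg p = k then (1 : F) else 0) • be n F q := by
  rw [Nx, be_apply, be_apply]

theorem cent_short_matrix (hn : 3 ≤ n) {A : Sy n F} {i j : Ix n} (hij : Dj i j) (h0 : Commute A (sx i j 1))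
    (hl : ∀ l, Dj i l → Dj j l → Commute A (sx i l 1) ∧ Commute A (sx j l 1)) :
    ∃ a b c, A = sy i a * sy j b * sx i j c := by
  set T := rho n F A with hT
  have Ts : ∀ (a : F) v, T (a • v) = a • T v := (isSemi_rho A).2.1
  have Ta : ∀ u v, T (u + v) = T u + T v := (isSemi_rho A).1
  have Tf : ∀ u v, sympForm n F (T u) (T v) = sympForm n F u v := fun u v => by
    have := (isSemi_rho A).2.2 u v
    rwa [one_mul] at this
  have apply_be : ∀ (a b : F) (p q k : Ix n), (a • be n F p + b • be n F q) k =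
      (if k = p then a else 0) + (if k = q then b else 0) := by
    intro a b p q k
    simp only [Pi.add_apply, Pi.smul_apply, smul_eq_mul, be_apply, mul_ite, mul_one, mul_zero]
  -- `T e_l` for `l ≠ ±i, ±j`
  have key : ∀ p r, Dj p r → (∀ l, Dj p l → Dj r l → Commute A (sx p l 1)) → ∀ l, Dj p l → Dj r l →
      T (be n F l) = (T (be n F (neg p)) (neg l)) • be n F p + (T (be n F (neg p)) (neg p)) • be n F l := by
    intro p r hpr hc l hpl hrl
    have h1 := T_Nx hpl (hc l hpl hrl) (be n F (neg p))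
    rw [Nx_be, if_neg (fun e => hpl.1 (neg_inj.1 e).symm), if_pos rfl, zero_smul, zero_add, one_smul] at h1
    exact h1
  have keyi := key i j hij (fun l h1 h2 => (hl l h1 h2).1)
  have keyj := key j i hij.symm (fun l h1 h2 => (hl l h2 h1).2)
  set ν := T (be n F (neg i)) (neg i) with hν
  have e1 : ∀ l, Dj i l → Dj j l → T (be n F (neg i)) (neg l) = 0 ∧ T (be n F l) = ν • be n F l := by
    intro l hil hjl
    have h1 := keyi l hil hjl
    have h2 := keyj l hjl hil
    rw [h1] at h2
    have h3 := congrFun h2 i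
    rw [apply_be, apply_be, if_pos rfl, if_neg hil.1, if_neg hij.1, if_neg hil.1, add_zero, add_zero] at h3
    refine ⟨h3, ?_⟩
    rw [h1, h3, zero_smul, zero_add]
  have e1' : ∀ l, Dj i l → Dj j l → T (be n F (neg j)) (neg l) = 0 ∧
      T (be n F l) = (T (be n F (neg j)) (neg j)) • be n F l := by
    intro l hil hjl
    have h1 := keyi l hil hjl
    have h2 := keyj l hjl hil
    rw [h1] at h2
    have h3 := congrFun h2 j
    rw [apply_be, apply_be, if_pos rfl, if_neg hjl.1, if_neg hij.1.symm, if_neg hjl.1, add_zero, add_zero] at h3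
    refine ⟨h3.symm, ?_⟩
    rw [keyj l hjl hil, ← h3, zero_smul, zero_add]
  obtain ⟨m, him, hjm⟩ := exists_dj hn i j
  -- `ν = 1`
  have hν2 : ν * ν = 1 := by
    have h1 := Tf (be n F m) (be n F (neg m))
    rw [(e1 m him hjm).2, (e1 (neg m) (dj_neg_right.2 him) (dj_neg_right.2 hjm)).2, sympForm_smul_left,
      sympForm_smul_right, form_be, neg_neg, be_apply, if_pos rfl, mul_one] at h1
    exact h1
  have hν1 : ν = 1 := by
    have : (ν - 1) * (ν - 1) = 0 := by
      linear_combination hν2 - (ν - 1) * (two0 : (2 : F) = 0)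
    exact sub_eq_zero.1 (mul_self_eq_zero.1 this)
  have hνj : T (be n F (neg j)) (neg j) = 1 := by
    have h1 := (e1 m him hjm).2
    have h2 := (e1' m him hjm).2
    rw [h1] at h2
    have h3 := congrFun h2 m
    simp only [Pi.smul_apply, smul_eq_mul, be_apply, if_true, mul_one] at h3
    rw [← h3, hν1]
  have Tl : ∀ l, Dj i l → Dj j l → T (be n F l) = be n F l := fun l h1 h2 => by
    rw [(e1 l h1 h2).2, hν1, one_smul]
  -- `T e_i = e_i`, `T e_j = e_j`
  have Tp : ∀ p r, Dj p r → (∀ l, Dj p l → Dj r l → Commute A (sx p l 1)) → (∀ l, Dj p l → Dj r l →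
      T (be n F l) = be n F l) → ∀ l, Dj p l → Dj r l → T (be n F p) = be n F p := by
    intro p r hpr hc hTl l hpl hrl
    have h1 := T_Nx hpl (hc l hpl hrl) (be n F (neg l))
    have h2 := hTl (neg l) (dj_neg_right.2 hpl) (dj_neg_right.2 hrl)
    rw [← hT, h2, Nx_be, if_pos rfl, if_neg (fun e => hpl.1 (neg_inj.1 e)), zero_smul, add_zero, one_smul] at h1
    exact h1
  have Ti : T (be n F i) = be n F i := Tp i j hij (fun l h1 h2 => (hl l h1 h2).1) Tl m him hjm
  have Tj : T (be n F j) = be n F j := Tp j i hij.symm (fun l h1 h2 => (hl l h2 h1).2)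
    (fun l h1 h2 => Tl l h2 h1) m hjm him
  -- `(T e_{-i})(-j) = 0`
  have f1 : T (be n F (neg i)) (neg j) = 0 := by
    have h1 := T_Nx hij h0 (be n F (neg i))
    rw [Nx_be, if_neg (fun e => hij.1 (neg_inj.1 e).symm), if_pos rfl, zero_smul, zero_add, one_smul, ← hT, Tj] at h1
    have h3 := congrFun h1 i
    rw [Nx, apply_be, if_pos rfl, if_neg hij.1, be_apply, if_neg hij.1, add_zero] at h3
    exact h3.symm
  have f2 : T (be n F (neg j)) (neg i) = 0 := by
    have h1 := T_Nx hij h0 (be n F (neg j))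
    rw [Nx_be, if_pos rfl, if_neg (fun e => hij.1 (neg_inj.1 e)), zero_smul, add_zero, one_smul, ← hT, Ti] at h1
    have h3 := congrFun h1 j
    rw [Nx, apply_be, if_pos rfl, if_neg hij.1.symm, be_apply, if_neg hij.1.symm, zero_add] at h3
    exact h3.symm
  set a := T (be n F (neg i)) i with ha
  set c := T (be n F (neg i)) j with hc
  set b := T (be n F (neg j)) j with hb
  set c' := T (be n F (neg j)) i with hc'
  have cases4 : ∀ k : Ix n, k = i ∨ k = j ∨ k = neg i ∨ k = neg j ∨ (Dj i k ∧ Dj j k) := by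
    intro k
    by_cases k1 : k = i
    · exact Or.inl k1
    by_cases k2 : k = j
    · exact Or.inr (Or.inl k2)
    by_cases k3 : k = neg i
    · exact Or.inr (Or.inr (Or.inl k3))
    by_cases k4 : k = neg j
    · exact Or.inr (Or.inr (Or.inr (Or.inl k4)))
    exact Or.inr (Or.inr (Or.inr (Or.inr ⟨⟨fun e => k1 e.symm, fun e => k3 (by rw [e, neg_neg])⟩,
      ⟨fun e => k2 e.symm, fun e => k4 (by rw [e, neg_neg])⟩⟩)))
  have hij1 : neg i ≠ j := fun e => hij.2 (by rw [← e, neg_neg])
  have hij2 : neg j ≠ i := fun e => hij.2 e.symm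
  have hij3 : neg i ≠ neg j := fun e => hij.1 (neg_inj.1 e)
  have Tni : T (be n F (neg i)) = be n F (neg i) + (a • be n F i + c • be n F j) := by
    ext k
    rw [Pi.add_apply, apply_be, be_apply]
    rcases cases4 k with rfl | rfl | rfl | rfl | ⟨h1, h2⟩
    · rw [if_neg (ne_neg _), if_pos rfl, if_neg hij.1, ha]; ring
    · rw [if_neg hij1.symm, if_neg hij.1.symm, if_pos rfl, hc]; ring
    · rw [if_pos rfl, if_neg (neg_ne _), if_neg hij1, ← hν, hν1]; ring
    · rw [if_neg hij3.symm, if_neg hij2, if_neg (neg_ne _), f1]; ring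
    · have h3 := (e1 (neg k) (dj_neg_right.2 h1) (dj_neg_right.2 h2)).1
      rw [neg_neg] at h3
      rw [h3, if_neg (fun e => h1.2 (by rw [e, neg_neg])), if_neg h1.1.symm, if_neg h2.1.symm]; ring
  have Tnj : T (be n F (neg j)) = be n F (neg j) + (c' • be n F i + b • be n F j) := by
    ext k
    rw [Pi.add_apply, apply_be, be_apply]
    rcases cases4 k with rfl | rfl | rfl | rfl | ⟨h1, h2⟩
    · rw [if_neg hij2.symm, if_pos rfl, if_neg hij.1, hc']; ring
    · rw [if_neg (ne_neg _), if_neg hij.1.symm, if_pos rfl, hb]; ring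
    · rw [if_neg hij3, if_neg (neg_ne _), if_neg hij1, f2]; ring
    · rw [if_pos rfl, if_neg hij2, if_neg (neg_ne _), hνj]; ring
    · have h3 := (e1' (neg k) (dj_neg_right.2 h1) (dj_neg_right.2 h2)).1
      rw [neg_neg] at h3
      rw [h3, if_neg (fun e => h2.2 (by rw [e, neg_neg])), if_neg h1.1.symm, if_neg h2.1.symm]; ring
  -- `c = c'`
  have hcc : c = c' := by
    have h1 := Tf (be n F (neg i)) (be n F (neg j))
    rw [form_be, neg_neg, be_apply, if_neg hij1.symm, Tni, Tnj] at h1
    simp only [sympForm_add_right, sympForm_smul_right, form_be, neg_neg, Pi.add_apply, Pi.smul_apply, smul_eq_mul,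
      be_apply, ne_neg, neg_ne, hij1, hij2, hij3, hij1.symm, hij2.symm, hij3.symm, hij.1, hij.1.symm, if_false, if_true]
      at h1
    linear_combination h1 - c' * (two0 : (2 : F) = 0)
  refine ⟨a, b, c, ?_⟩
  apply rho_injective
  ext v k
  rw [map_mul, map_mul, Equiv.Perm.mul_apply, Equiv.Perm.mul_apply, ← hT]
  have g1 : T v k = sympForm n F (T v) (be n F (neg k)) := by rw [form_be, neg_neg]
  rw [g1]
  simp only [rho_sy, rho_sx hij, Pi.add_apply, Pi.smul_apply, smul_eq_mul, be_apply]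
  rcases cases4 k with rfl | rfl | rfl | rfl | ⟨h1, h2⟩
  · have h3 : be n F (neg k) = T (be n F (neg k)) + (a • T (be n F k) + c • T (be n F j)) := by
      rw [Ti, Tj, Tni]
      ext l
      simp only [Pi.add_apply, Pi.smul_apply, smul_eq_mul]
      linear_combination -(a * be n F k l + c * be n F j l) * (two0 : (2 : F) = 0)
    rw [h3, sympForm_add_right, sympForm_add_right, sympForm_smul_right, sympForm_smul_right, Tf, Tf, Tf, form_be,
      form_be, form_be, neg_neg]
    simp only [if_true, if_neg hij.1, if_neg hij1, if_neg hij2, if_neg (neg_ne _), if_neg hij3, if_neg hij3.symm]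
    ring
  · have h3 : be n F (neg k) = T (be n F (neg k)) + (c • T (be n F i) + b • T (be n F k)) := by
      rw [Ti, Tj, Tnj, hcc]
      ext l
      simp only [Pi.add_apply, Pi.smul_apply, smul_eq_mul]
      linear_combination -(c' * be n F i l + b * be n F k l) * (two0 : (2 : F) = 0)
    rw [h3, sympForm_add_right, sympForm_add_right, sympForm_smul_right, sympForm_smul_right, Tf, Tf, Tf, form_be,
      form_be, form_be, neg_neg]
    simp only [if_true, if_neg hij.1.symm, if_neg hij1, if_neg hij2, if_neg (neg_ne _), if_neg hij3, if_neg hij3.symm]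
    ring
  · rw [neg_neg]
    have h3 : sympForm n F (T v) (be n F i) = sympForm n F (T v) (T (be n F i)) := by rw [Ti]
    rw [h3, Tf, form_be]
    simp only [if_neg (neg_ne i), if_neg hij1, mul_zero, add_zero]
  · rw [neg_neg]
    have h3 : sympForm n F (T v) (be n F j) = sympForm n F (T v) (T (be n F j)) := by rw [Tj]
    rw [h3, Tf, form_be]
    simp only [if_neg (neg_ne j), if_neg hij2, mul_zero, add_zero]
  · have h3 : sympForm n F (T v) (be n F (neg k)) = sympForm n F (T v) (T (be n F (neg k))) := by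
      rw [Tl (neg k) (dj_neg_right.2 h1) (dj_neg_right.2 h2)]
    rw [h3, Tf, form_be, neg_neg]
    simp only [if_neg h1.1.symm, if_neg h2.1.symm, mul_zero, add_zero]

end chartwo

namespace Frame

variable {G : Type*} [Group G] (R : Frame n F G) [Finite F] [CharP F 2]

/-- **I2**: `g ∈ C(t)` commuting with `X_ij`, all `X_il`, `X_jl` is in `⟨t⟩ Y_i Y_j X_ij`. -/
theorem cent_short (hn : 3 ≤ n) {i j : Ix n} (hij : Dj i j) {g : G} (hg : Commute g R.t)
    (h0 : ∀ a, Commute g (R.x i j a))
    (hl : ∀ l, Dj i l → Dj j l → ∀ a, Commute g (R.x i l a) ∧ Commute g (R.x j l a)) :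
    ∃ a b c, g = R.y i a * R.y j b * R.x i j c ∨ g = R.t * (R.y i a * R.y j b * R.x i j c) := by
  obtain ⟨A, hA⟩ := R.ct_comm_x hn hg hij h0
  obtain ⟨a, b, c, rfl⟩ := cent_short_matrix hn (A := A) hij (comm_of R hA (h0 1)) (fun l h1 h2 =>
    ⟨comm_of R hA (hl l h1 h2 1).1, comm_of R hA (hl l h1 h2 1).2⟩)
  refine ⟨a, b, c, ?_⟩
  rw [map_mul, map_mul] at hA
  exact hA

end Frame

end Cfsg.Agent.OddHalf.SpN

end

-- merged: Cfsg.Agent.OddHalf.SpN.RelsOf
section

/-!
# `Rels` and `DataO` from the frame (helper200)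
-/

set_option autoImplicit false

namespace Cfsg.Agent.OddHalf.SpN

open Cfsg Cfsg.Agent.ClassicalGeometry.SympBasic Cfsg.Agent.ClassicalGeometry.SympAutSemi
open scoped Matrix commutatorElement

variable {n : ℕ} {F : Type*} [Field F]

theorem ind_matrix [CharP F 2] {i j : Ix n} (hij : Dj i j) {a b c : F}
    (h : sy i a * sy j b * sx i j c = 1) : a = 0 ∧ b = 0 ∧ c = 0 := by
  have e : ∀ v k, rho n F (sy i a * sy j b * sx i j c) v k = v k := fun v k => by rw [h, map_one]; rfl
  have hij1 : neg i ≠ j := fun e => hij.2 (by rw [← e, neg_neg])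
  have hij2 : neg j ≠ i := fun e => hij.2 e.symm
  have hij3 : neg i ≠ neg j := fun e => hij.1 (neg_inj.1 e)
  have e1 := e (be n F (neg i)) i
  have e2 := e (be n F (neg j)) j
  have e3 := e (be n F (neg j)) i
  simp only [map_mul, Equiv.Perm.mul_apply, rho_sy, rho_sx hij, Pi.add_apply, Pi.smul_apply, smul_eq_mul, be_apply,
    neg_ne, ne_neg, hij1, hij2, hij3, hij1.symm, hij2.symm, hij3.symm, hij.1, hij.1.symm, if_false, if_true,
    mul_one, mul_zero, add_zero, zero_add, neg_inj] at e1 e2 e3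
  exact ⟨e1, e2, e3⟩

namespace Frame

variable {G : Type*} [Group G] (R : Frame n F G) [CharP F 2]

/-- the relations of the root elements of a frame -/
theorem rels : Rels R.t R.x R.y where
  two := fun a => CharTwo.add_self_eq_zero a
  tt := R.tt
  tx := fun i j a => (R.x_t i j a).symm
  ty := fun i a => (R.y_t i a).symm
  symm := R.x_symm
  x_add := R.x_add
  y_add := R.y_add
  yy := fun i j a b h => R.y_comm (fun e => h (by rw [e, neg_neg])) a b
  xy := fun i j k a b h1 h2 => (R.y_x_comm h1 h2 b a).symm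
  xx := fun i j k l a b h1 h2 h3 h4 => R.x_comm (fun e => h1 (by rw [e, neg_neg])) (fun e => h3 (by rw [e, neg_neg]))
    (fun e => h2 (by rw [e, neg_neg])) (fun e => h4 (by rw [e, neg_neg])) a b
  xx' := fun i j a b => by
    have := R.x_comm' (i := j) (j := i) a b
    rwa [R.x_symm j i, R.x_symm (neg j) i] at this
  ss := fun i j k a b hij hjk hik => by
    have h1 := R.x_rel hij hjk hik a b
    have h2 : Commute (R.x (neg j) k b) (R.x i k (a * b)) :=
      R.x_comm (by rw [neg_neg]; exact hij.1) hik.2 (by rw [neg_neg]; exact hjk.1.symm) (ne_neg k) _ _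
    calc R.x (neg j) k b * R.x i j a * R.x (neg j) k b = R.x (neg j) k b * (R.x i j a * R.x (neg j) k b) := by group
      _ = R.x (neg j) k b * R.x i k (a * b) * (R.x (neg j) k b * R.x i j a) := by rw [h1]; group
      _ = R.x i k (a * b) * (R.x (neg j) k b * R.x (neg j) k b) * R.x i j a := by rw [h2.eq]; group
      _ = R.x i k (a * b) * R.x i j a := by rw [R.x_sq, mul_one]
      _ = R.x i j a * R.x i k (a * b) := (R.x_comm (ne_neg i) hik.2 hij.symm.2 hjk.2 _ _).eq
  sl := fun i j a b hij => by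
    have h1 := R.y_rel hij a b
    have h2 : Commute (R.x i j (a * b)) (R.y j (a * b ^ 2)) := (R.y_x_comm hij.2 (ne_neg j) _ _).symm
    have h3 : Commute (R.x i j (a * b)) (R.y i a) := (R.y_x_comm (ne_neg i) hij.symm.2 _ _).symm
    have h4 : Commute (R.y j (a * b ^ 2)) (R.y i a) := R.y_comm hij.2 _ _
    have h5 : R.x (neg i) j b * R.y i a = (R.x i j (a * b) * R.y j (a * b ^ 2))⁻¹ * (R.y i a * R.x (neg i) j b) := by
      rw [h1]; group
    calc R.x (neg i) j b * R.y i a * R.x (neg i) j b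
        = (R.x i j (a * b) * R.y j (a * b ^ 2))⁻¹ * (R.y i a * (R.x (neg i) j b * R.x (neg i) j b)) := by
          rw [h5]; group
      _ = R.y j (a * b ^ 2) * R.x i j (a * b) * R.y i a := by
          rw [R.x_sq, mul_one, mul_inv_rev, R.x_inv, R.y_inv]
      _ = R.y j (a * b ^ 2) * R.y i a * R.x i j (a * b) := by rw [mul_assoc, h3.eq]; group
      _ = R.y i a * (R.y j (a * b ^ 2) * R.x i j (a * b)) := by rw [h4.eq]; group
      _ = _ := by rw [← h2.eq]; group
  ind := fun i j a b c hij h => by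
    have h1 : R.ι (sy i a * sy j b * sx i j c) = R.ι 1 := by
      rw [map_mul, map_mul, map_one]; exact h
    exact ind_matrix hij (R.inj h1)
  indt := fun i j a b c hij h => by
    refine R.tK (sy i a * sy j b * sx i j c) ?_
    rw [map_mul, map_mul]; exact h.symm

end Frame

end Cfsg.Agent.OddHalf.SpN

end
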