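import Mathlib
import Cfsg.Agent.OddHalf.SpN.Rel
import Cfsg.Agent.OddHalf.SpN.Cent2
import Cfsg.Agent.OddHalf.SpN.Dbl
import Cfsg.Agent.OddHalf.SpN.RelsOf

-- merged: Cfsg.Agent.OddHalf.SpN.BothPair
section

/-!
# ODD D7, `K = Sp_2n(q)`, `n ≥ 3`, `q ≥ 4` even, pattern ALL: the frame of one pair (helper780)

Section 8 of `blueprints/ODD-D7-Sp-helper297.md` for one pair `(1, 2)` of indices; `P2` collects the root elements
`x1, x2, s, d, d'` of the roots `2e₁, 2e₂, e₁+e₂, e₁-e₂, e₂-e₁`, the doubled root elements `w1, w2, ws, wd`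
(`w2 = w1 ^ n`, `n = d'(1) d(1) d'(1)`), the torus of the two indices, generators with a third index
(`P j = x_{1j}`, `P' j = x_{2j}`, `Y j = y_j`, `Z`: the rest) and the two facts F3.

Result: `P2.gamma_eq_zero`, `P2.kappa_eq`, `P2.epsilon_eq`, `P2.delta_cases`, `P2.ws_w2`, `P2.conj_d'`, `P2.conj_x2`.
-/

set_option autoImplicit false

namespace Cfsg.Agent.OddHalf.SpN.Both

/-- One pair of indices. All characteristic two; `rt` = square root. -/
structure P2 (F G J : Type*) [Field F] [Group G] where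
  t : G
  x1 : F → G
  x2 : F → G
  s : F → G
  d : F → G
  d' : F → G
  w1 : F → G
  w2 : F → G
  ws : F → G
  wd : F → G
  h : Fˣ → Fˣ → G
  P : J → F → G
  P' : J → F → G
  Y : J → F → G
  Z : Set G
  Hr : Set G
  rt : F →+* F
  γ : F
  δ : F
  ε : F
  κ : F → F → F
  -- the field
  two : (2 : F) = 0
  rt_sq : ∀ a, rt a * rt a = a
  /-- `q ≥ 4` -/
  big : ∃ a : F, a ≠ 0 ∧ a ≠ 1
  -- root elements
  tt : t * t = 1
  x1_add : ∀ u v, x1 (u + v) = x1 u * x1 v
  x2_add : ∀ u v, x2 (u + v) = x2 u * x2 v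
  s_add : ∀ u v, s (u + v) = s u * s v
  d_add : ∀ u v, d (u + v) = d u * d v
  d'_add : ∀ u v, d' (u + v) = d' u * d' v
  t_x1 : ∀ u, Commute t (x1 u)
  t_x2 : ∀ u, Commute t (x2 u)
  t_s : ∀ u, Commute t (s u)
  t_d : ∀ u, Commute t (d u)
  t_d' : ∀ u, Commute t (d' u)
  x1_x2 : ∀ u v, Commute (x1 u) (x2 v)
  x1_s : ∀ u v, Commute (x1 u) (s v)
  x2_s : ∀ u v, Commute (x2 u) (s v)
  d_x1 : ∀ u v, Commute (d u) (x1 v)
  d_s : ∀ u v, Commute (d u) (s v)
  d'_x2 : ∀ u v, Commute (d' u) (x2 v)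
  d'_s : ∀ u v, Commute (d' u) (s v)
  /-- `x₂(v)^{d(u)} = x₂(v) s(uv) x₁(u²v)` -/
  d_x2 : ∀ u v, d u * x2 v * d u = x2 v * s (u * v) * x1 (u * u * v)
  d'_x1 : ∀ u v, d' u * x1 v * d' u = x1 v * s (u * v) * x2 (u * u * v)
  ind : ∀ a b c e, x1 a * x2 b * s c * d e = 1 → a = 0 ∧ b = 0 ∧ c = 0 ∧ e = 0
  t_ind : ∀ a b c e, t ≠ x1 a * x2 b * s c * d e
  -- doubled root elements: section 2
  w1_zero : w1 0 = 1
  w1_t : ∀ u, t * w1 u * t = w1 u * x1 u
  ws_t : ∀ u, t * ws u * t = ws u * s u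
  wd_t : ∀ u, t * wd u * t = wd u * d u
  w1_mul : ∀ u v, w1 u * w1 v = w1 (u + v) * x1 (κ u v)
  /-- `w₂ = w₁ ^ n` -/
  w2_def : ∀ u, w2 u = (d' 1 * d 1 * d' 1) * w1 u * (d' 1 * d 1 * d' 1)
  nn : (d' 1 * d 1 * d' 1) * (d' 1 * d 1 * d' 1) = 1
  d'_n : ∀ u, (d' 1 * d 1 * d' 1) * d' u * (d' 1 * d 1 * d' 1) = d u
  w2_t : ∀ u, t * w2 u * t = w2 u * x2 u
  w2_mul : ∀ u v, w2 u * w2 v = w2 (u + v) * x2 (κ u v)
  ws_add : ∀ u v, ws (u + v) = ws u * ws v
  wd_add : ∀ u v, wd (u + v) = wd u * wd v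
  -- section 3, long
  w1_x1 : ∀ u v, Commute (w1 u) (x1 v)
  w1_s : ∀ u v, Commute (w1 u) (s v)
  w1_d : ∀ u v, Commute (w1 u) (d v)
  w1_x2 : ∀ u v, w1 u * x2 v = x2 v * w1 u * s (γ * rt (u * v))
  w2_x2 : ∀ u v, Commute (w2 u) (x2 v)
  w2_s : ∀ u v, Commute (w2 u) (s v)
  w2_d' : ∀ u v, Commute (w2 u) (d' v)
  w2_x1 : ∀ u v, w2 u * x1 v = x1 v * w2 u * s (γ * rt (u * v))
  -- section 3, short
  ws_x1 : ∀ u v, Commute (ws u) (x1 v)
  ws_x2 : ∀ u v, Commute (ws u) (x2 v)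
  ws_s : ∀ u v, Commute (ws u) (s v)
  ws_d : ∀ u v, ws u * d v = d v * ws u * x1 (δ * (u * v))
  ws_d' : ∀ u v, ws u * d' v = d' v * ws u * x2 (δ * (u * v))
  wd_x1 : ∀ u v, Commute (wd u) (x1 v)
  wd_d : ∀ u v, Commute (wd u) (d v)
  wd_s : ∀ u v, wd u * s v = s v * wd u * x1 (δ * (u * v))
  -- section 4
  w1_w2 : ∀ u v, w1 u * w2 v = w2 v * w1 u * s (ε * rt (u * v))
  -- torus
  h_x1 : ∀ l m u, h l m * x1 u * (h l m)⁻¹ = x1 (l * l * u)
  h_x2 : ∀ l m u, h l m * x2 u * (h l m)⁻¹ = x2 (m * m * u)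
  h_s : ∀ l m u, h l m * s u * (h l m)⁻¹ = s (l * m * u)
  h_d : ∀ l m u, h l m * d u * (h l m)⁻¹ = d (l * (m⁻¹ : Fˣ) * u)
  h_d' : ∀ l m u, h l m * d' u * (h l m)⁻¹ = d' ((l⁻¹ : Fˣ) * m * u)
  h_w1 : ∀ l m u, h l m * w1 u * (h l m)⁻¹ = w1 (l * l * u)
  h_w2 : ∀ l m u, h l m * w2 u * (h l m)⁻¹ = w2 (m * m * u)
  h_ws : ∀ l m u, h l m * ws u * (h l m)⁻¹ = ws (l * m * u)
  h_wd : ∀ l m u, h l m * wd u * (h l m)⁻¹ = wd (l * (m⁻¹ : Fˣ) * u)
  h_t : ∀ l m, Commute (h l m) t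
  -- generators with a third index
  P_x1 : ∀ j a u, Commute (P j a) (x1 u)
  P_x2 : ∀ j a u, Commute (P j a) (x2 u)
  P_s : ∀ j a u, Commute (P j a) (s u)
  P_d : ∀ j a u, Commute (P j a) (d u)
  P_d' : ∀ j a u, d' u * P j a * d' u = P j a * P' j (a * u)
  P'_x1 : ∀ j a u, Commute (P' j a) (x1 u)
  P'_x2 : ∀ j a u, Commute (P' j a) (x2 u)
  P'_s : ∀ j a u, Commute (P' j a) (s u)
  P'_d' : ∀ j a u, Commute (P' j a) (d' u)
  P_w1 : ∀ j a u, Commute (P j a) (w1 u)
  P_w2 : ∀ j a u, Commute (P j a) (w2 u)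
  P_ws : ∀ j a u, Commute (P j a) (ws u)
  P_wd : ∀ j a u, Commute (P j a) (wd u)
  P'_w1 : ∀ j a u, Commute (P' j a) (w1 u)
  P'_w2 : ∀ j a u, Commute (P' j a) (w2 u)
  P'_ws : ∀ j a u, Commute (P' j a) (ws u)
  Y_x1 : ∀ j a u, Commute (Y j a) (x1 u)
  Y_x2 : ∀ j a u, Commute (Y j a) (x2 u)
  Y_s : ∀ j a u, Commute (Y j a) (s u)
  Y_d' : ∀ j a u, Commute (Y j a) (d' u)
  Y_ws : ∀ j a u, Commute (Y j a) (ws u)
  Y_w1 : ∀ j a u, w1 u * Y j a = Y j a * w1 u * P j (γ * rt (u * a))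
  Y_w2 : ∀ j a u, w2 u * Y j a = Y j a * w2 u * P' j (γ * rt (u * a))
  Z_x : ∀ z ∈ Z, ∀ u, Commute z (x1 u) ∧ Commute z (x2 u) ∧ Commute z (s u) ∧ Commute z (d' u)
  Z_w : ∀ z ∈ Z, ∀ u, Commute z (w1 u) ∧ Commute z (w2 u) ∧ Commute z (ws u)
  Hr_x : ∀ z ∈ Hr, ∀ u, Commute z (x2 u)
  Hr_w : ∀ z ∈ Hr, ∀ u, Commute z (w1 u) ∧ Commute z (ws u) ∧ Commute z (wd u)
  -- the facts F3
  centA : ∀ g, Commute g t → (∀ u, Commute g (x1 u)) → (∀ u, Commute g (x2 u)) → (∀ u, Commute g (s u)) →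
    (∀ j a, Commute g (P j a)) → (∀ j a, Commute g (P' j a)) → (∀ j a, Commute g (Y j a)) → (∀ z ∈ Z, Commute g z) →
    ∃ a b c, g = x1 a * x2 b * s c ∨ g = t * (x1 a * x2 b * s c)
  centQ : ∀ g, Commute g t → (∀ u, Commute g (x1 u)) → (∀ u, Commute g (s u)) → (∀ u, Commute g (d u)) →
    (∀ j a, Commute g (P j a)) → (∀ z ∈ Hr, Commute g z) →
    ∃ a b c, g = x1 a * s b * d c ∨ g = t * (x1 a * s b * d c)


section gen

variable {F G : Type*} [Field F] [Group G]

/-- an additive function invariant under all scalars is zero -/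
theorem eq_zero_of_inv (hbig : ∃ a : F, a ≠ 0 ∧ a ≠ 1) (f : F → F) (ha : ∀ u v, f (u + v) = f u + f v)
    (hi : ∀ a, a ≠ 0 → ∀ u, f (a * u) = f u) (u : F) : f u = 0 := by
  obtain ⟨a, h0, h1⟩ := hbig
  have e : f (-a * u + u) = f ((1 - a) * u) := by ring_nf
  rw [ha, hi _ (neg_ne_zero.mpr h0), hi _ (sub_ne_zero.mpr h1.symm)] at e
  simpa using e

theorem comm_of_eq {g g1 x x' : G} (h : g * x = x' * g) (h1 : g1 * x = x' * g1) : Commute (g⁻¹ * g1) x := by
  show g⁻¹ * g1 * x = x * (g⁻¹ * g1)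
  have e : g⁻¹ * x' = x * g⁻¹ := by
    rw [inv_mul_eq_iff_eq_mul, ← mul_assoc, h, mul_assoc, mul_inv_cancel, mul_one]
  rw [mul_assoc, h1, ← mul_assoc, e, mul_assoc]

theorem comm_gen {a b c g g' : G} (h : a * b = b * a * c) (ag : Commute a g) (ag' : Commute a g') (bg' : Commute b g')
    (hb : b * g = g * b * g') : Commute c g := by
  have hc : c = (b * a)⁻¹ * (a * b) := by rw [h, inv_mul_cancel_left]
  rw [hc]
  apply comm_of_eq (x' := g * g')
  · calc b * a * g = b * (a * g) := mul_assoc _ _ _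
      _ = (b * g) * a := by rw [ag.eq, mul_assoc]
      _ = g * (b * g') * a := by rw [hb, mul_assoc g]
      _ = _ := by rw [bg'.eq]; simp only [mul_assoc]
  · calc a * b * g = a * (b * g) := mul_assoc _ _ _
      _ = a * g * (b * g') := by rw [hb]; simp only [mul_assoc]
      _ = g * (a * g') * b := by rw [ag.eq, bg'.eq]; simp only [mul_assoc]
      _ = _ := by rw [ag'.eq]; simp only [mul_assoc]

theorem comm_t_of {t g g1 X : G} (ht : t * t = 1) (h : t * g * t = g * X) (h1 : t * g1 * t = g1 * X)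
    (hc : Commute (g⁻¹ * g1) X) : Commute (g⁻¹ * g1) t := by
  have ti : t⁻¹ = t := inv_eq_of_mul_eq_one_right ht
  have t2 : ∀ x, t * (t * x) = x := fun x => by rw [← mul_assoc, ht, one_mul]
  have e3 : t * (g⁻¹ * g1) * t = g⁻¹ * g1 := by
    calc t * (g⁻¹ * g1) * t = (t * g * t)⁻¹ * (t * g1 * t) := by simp only [mul_inv_rev, mul_assoc, ti, t2]
      _ = X⁻¹ * ((g⁻¹ * g1) * X) := by rw [h, h1, mul_inv_rev]; simp only [mul_assoc]
      _ = _ := by rw [hc.eq, inv_mul_cancel_left]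
  show (g⁻¹ * g1) * t = t * (g⁻¹ * g1)
  calc (g⁻¹ * g1) * t = t * (t * (g⁻¹ * g1) * t) := by simp only [mul_assoc, t2]
    _ = _ := by rw [e3]

/-- conjugation by an involution -/
theorem conj3 {a x y z : G} (ha : a * a = 1) : a * (x * y * z) * a = (a * x * a) * (a * y * a) * (a * z * a) := by
  have : ∀ g, a * (a * g) = g := fun g => by rw [← mul_assoc, ha, one_mul]
  simp only [mul_assoc, this]

theorem conj2 {a x y : G} (ha : a * a = 1) : a * (x * y) * a = (a * x * a) * (a * y * a) := by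
  have : ∀ g, a * (a * g) = g := fun g => by rw [← mul_assoc, ha, one_mul]
  simp only [mul_assoc, this]

theorem conj_of_comm {a x : G} (ha : a * a = 1) (h : Commute a x) : a * x * a = x := by
  rw [h.eq, mul_assoc, ha, mul_one]

end gen

namespace P2

variable {F G J : Type*} [Field F] [Group G] (B : P2 F G J)

include B in
theorem add_self (a : F) : a + a = 0 := by rw [← two_mul, B.two, zero_mul]

include B in
theorem add_self_left (a b : F) : a + (a + b) = b := by rw [← add_assoc, B.add_self, zero_add]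

theorem tt' (g : G) : B.t * (B.t * g) = g := by rw [← mul_assoc, B.tt, one_mul]

section root
variable {f : F → G} (hf : ∀ u v, f (u + v) = f u * f v)
include hf
theorem f0 : f 0 = 1 := by have := hf 0 0; rw [add_zero] at this; exact left_eq_mul.mp this
theorem fc (u v : F) : Commute (f u) (f v) := by
  show f u * f v = f v * f u
  rw [← hf, ← hf, add_comm]
end root

include B in
theorem ff {f : F → G} (hf : ∀ u v, f (u + v) = f u * f v) (u : F) : f u * f u = 1 := by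
  rw [← hf, B.add_self, f0 hf]

include B in
theorem ff' {f : F → G} (hf : ∀ u v, f (u + v) = f u * f v) (u : F) (g : G) : f u * (f u * g) = g := by
  rw [← mul_assoc, B.ff hf, one_mul]

/-- `x₁(p) x₂(q) s(r)` -/
def A (p q r : F) : G := B.x1 p * B.x2 q * B.s r

theorem A_congr {p q r p' q' r' : F} (h1 : p = p') (h2 : q = q') (h3 : r = r') : B.A p q r = B.A p' q' r' := by
  rw [h1, h2, h3]

theorem A_mul (p q r p' q' r' : F) : B.A p q r * B.A p' q' r' = B.A (p + p') (q + q') (r + r') := by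
  unfold A
  rw [B.x1_add, B.x2_add, B.s_add]
  have h1 := (B.x1_x2 p' q).eq
  have h2 := (B.x1_s p' r).eq
  have h3 := (B.x2_s q' r).eq
  calc B.x1 p * B.x2 q * B.s r * (B.x1 p' * B.x2 q' * B.s r')
      = B.x1 p * B.x2 q * (B.s r * B.x1 p') * B.x2 q' * B.s r' := by simp only [mul_assoc]
    _ = B.x1 p * (B.x2 q * B.x1 p') * (B.s r * B.x2 q') * B.s r' := by rw [← h2]; simp only [mul_assoc]
    _ = B.x1 p * B.x1 p' * (B.x2 q * B.x2 q') * (B.s r * B.s r') := by rw [← h1, ← h3]; simp only [mul_assoc]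
    _ = _ := by simp only [mul_assoc]

theorem A_mul' (p q r p' q' r' : F) (g : G) :
    B.A p q r * (B.A p' q' r' * g) = B.A (p + p') (q + q') (r + r') * g := by
  rw [← mul_assoc, A_mul]

theorem x1_eq (p : F) : B.x1 p = B.A p 0 0 := by simp [A, f0 B.x2_add, f0 B.s_add]
theorem x2_eq (p : F) : B.x2 p = B.A 0 p 0 := by simp [A, f0 B.x1_add, f0 B.s_add]
theorem s_eq (p : F) : B.s p = B.A 0 0 p := by simp [A, f0 B.x1_add, f0 B.x2_add]
theorem A_zero : B.A 0 0 0 = 1 := by simp [A, f0 B.x1_add, f0 B.x2_add, f0 B.s_add]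

theorem A_inj {p q r : F} (h : B.A p q r = 1) : p = 0 ∧ q = 0 ∧ r = 0 := by
  have := B.ind p q r 0 (by rw [f0 B.d_add, mul_one]; exact h)
  exact ⟨this.1, this.2.1, this.2.2.1⟩

theorem A_ext {p q r p' q' r' : F} (h : B.A p q r = B.A p' q' r') : p = p' ∧ q = q' ∧ r = r' := by
  have e : B.A (p + p') (q + q') (r + r') = 1 := by
    rw [← A_mul, h, A_mul, B.add_self, B.add_self, B.add_self, A_zero]
  obtain ⟨h1, h2, h3⟩ := B.A_inj e
  have hn : ∀ a b : F, a + b = 0 → a = b := fun a b hab => by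
    have := B.add_self_left a b
    rw [hab, add_zero] at this; exact this
  exact ⟨hn _ _ h1, hn _ _ h2, hn _ _ h3⟩

theorem t_ne (p q r : F) : B.t ≠ B.A p q r := by
  have := B.t_ind p q r 0
  rwa [f0 B.d_add, mul_one] at this

theorem A_comm (p q r p' q' r' : F) : Commute (B.A p q r) (B.A p' q' r') := by
  show _ * _ = _ * _
  rw [A_mul, A_mul, add_comm p, add_comm q, add_comm r]

/-- elements commuting with `x₁, x₂, s` -/
theorem comm_A {g : G} (h1 : ∀ u, Commute g (B.x1 u)) (h2 : ∀ u, Commute g (B.x2 u)) (h3 : ∀ u, Commute g (B.s u))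
    (p q r : F) : Commute g (B.A p q r) := ((h1 p).mul_right (h2 q)).mul_right (h3 r)

theorem t_A (p q r : F) : Commute B.t (B.A p q r) := B.comm_A B.t_x1 B.t_x2 B.t_s p q r

theorem ws_A (c p q r : F) : Commute (B.ws c) (B.A p q r) := B.comm_A (B.ws_x1 c) (B.ws_x2 c) (B.ws_s c) p q r

theorem A_w2 (p q r b : F) : B.A p q r * B.w2 b = B.w2 b * B.A p q (r + B.γ * B.rt (b * p)) := by
  have h := B.w2_x1 b p
  have e : B.x1 p * B.w2 b = B.w2 b * (B.x1 p * B.s (B.γ * B.rt (b * p))) := by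
    rw [← mul_assoc, h, mul_assoc, B.ff B.s_add, mul_one]
  unfold A
  rw [mul_assoc, mul_assoc, ← (B.w2_s b r).eq, ← mul_assoc (B.x2 q), ← (B.w2_x2 b q).eq, mul_assoc (B.w2 b),
    ← mul_assoc (B.x1 p), e]
  simp only [mul_assoc]
  rw [← mul_assoc (B.s _) (B.x2 q), ← (B.x2_s q _).eq, mul_assoc, ← B.s_add, add_comm]

theorem A_w2' (p q r b : F) (g : G) :
    B.A p q r * (B.w2 b * g) = B.w2 b * (B.A p q (r + B.γ * B.rt (b * p)) * g) := by
  rw [← mul_assoc, A_w2, mul_assoc]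

theorem A_w1 (p q r b : F) : B.A p q r * B.w1 b = B.w1 b * B.A p q (r + B.γ * B.rt (b * q)) := by
  have h := B.w1_x2 b q
  have e : B.x2 q * B.w1 b = B.w1 b * (B.x2 q * B.s (B.γ * B.rt (b * q))) := by
    rw [← mul_assoc, h, mul_assoc, B.ff B.s_add, mul_one]
  unfold A
  rw [mul_assoc, mul_assoc, ← (B.w1_s b r).eq, ← mul_assoc (B.x2 q), e, mul_assoc (B.w1 b), ← mul_assoc (B.x1 p),
    ← (B.w1_x1 b p).eq]
  simp only [mul_assoc]
  rw [← B.s_add, add_comm]

theorem A_w1' (p q r b : F) (g : G) :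
    B.A p q r * (B.w1 b * g) = B.w1 b * (B.A p q (r + B.γ * B.rt (b * q)) * g) := by
  rw [← mul_assoc, A_w1, mul_assoc]

theorem A_ws (p q r b : F) : B.A p q r * B.ws b = B.ws b * B.A p q r := (B.ws_A b p q r).eq.symm

theorem A_ws' (p q r b : F) (g : G) : B.A p q r * (B.ws b * g) = B.ws b * (B.A p q r * g) := by
  rw [← mul_assoc, A_ws, mul_assoc]

theorem A_t (p q r : F) : B.A p q r * B.t = B.t * B.A p q r := (B.t_A p q r).eq.symm

theorem A_t' (p q r : F) (g : G) : B.A p q r * (B.t * g) = B.t * (B.A p q r * g) := by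
  rw [← mul_assoc, A_t, mul_assoc]

/-- conjugation by `d'` -/
theorem A_d' (p q r β : F) : B.d' β * B.A p q r * B.d' β = B.A p (q + β * β * p) (r + β * p) := by
  have e1 : B.d' β * B.x1 p * B.d' β = B.A p (β * β * p) (β * p) := by
    rw [B.d'_x1, A, mul_assoc, mul_assoc (B.x1 p), (B.x2_s _ _).eq]
  rw [A, conj3 (B.ff B.d'_add β), e1, conj_of_comm (B.ff B.d'_add β) (B.d'_x2 β q),
    conj_of_comm (B.ff B.d'_add β) (B.d'_s β r), x2_eq, s_eq, A_mul, A_mul]
  congr 1 <;> ring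

/-- conjugation by `d` -/
theorem A_d (p q r β : F) : B.d β * B.A p q r * B.d β = B.A (p + β * β * q) q (r + β * q) := by
  have e1 : B.d β * B.x2 q * B.d β = B.A (β * β * q) q (β * q) := by
    rw [B.d_x2, A, mul_assoc, ← (B.x1_s _ _).eq, ← mul_assoc, (B.x1_x2 _ _).eq]
  rw [A, conj3 (B.ff B.d_add β), e1, conj_of_comm (B.ff B.d_add β) (B.d_x1 β p),
    conj_of_comm (B.ff B.d_add β) (B.d_s β r), x1_eq, s_eq, A_mul, A_mul]
  congr 1 <;> ring

/-- torus -/
theorem A_h (p q r : F) (l m : Fˣ) : B.h l m * B.A p q r * (B.h l m)⁻¹ = B.A (l * l * p) (m * m * q) (l * m * r) := by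
  unfold A
  rw [← B.h_x1 l m, ← B.h_x2 l m, ← B.h_s l m]
  group

/-- conjugation by `n` -/
theorem A_n (p q r : F) : (B.d' 1 * B.d 1 * B.d' 1) * B.A p q r * (B.d' 1 * B.d 1 * B.d' 1) = B.A q p r := by
  have e : (B.d' 1 * B.d 1 * B.d' 1) * B.A p q r * (B.d' 1 * B.d 1 * B.d' 1) =
      B.d' 1 * (B.d 1 * (B.d' 1 * B.A p q r * B.d' 1) * B.d 1) * B.d' 1 := by simp only [mul_assoc]
  rw [e, A_d', A_d, A_d']
  congr 1
  · linear_combination p * B.two
  · linear_combination (q + p) * B.two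
  · linear_combination (2 * p + q) * B.two

theorem ws_conj_d' (c β : F) : B.d' β * B.ws c * B.d' β = B.ws c * B.A 0 (B.δ * (c * β)) 0 := by
  rw [mul_assoc, B.ws_d', ← x2_eq, mul_assoc, B.ff' B.d'_add]

theorem ws_conj_d (c β : F) : B.d β * B.ws c * B.d β = B.ws c * B.A (B.δ * (c * β)) 0 0 := by
  rw [mul_assoc, B.ws_d, ← x1_eq, mul_assoc, B.ff' B.d_add]

theorem ws_n (c : F) : (B.d' 1 * B.d 1 * B.d' 1) * B.ws c * (B.d' 1 * B.d 1 * B.d' 1) = B.ws c * B.A 0 0 (B.δ * c) := by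
  have e : (B.d' 1 * B.d 1 * B.d' 1) * B.ws c * (B.d' 1 * B.d 1 * B.d' 1) =
      B.d' 1 * (B.d 1 * (B.d' 1 * B.ws c * B.d' 1) * B.d 1) * B.d' 1 := by simp only [mul_assoc]
  rw [e, ws_conj_d', conj2 (B.ff B.d_add 1), ws_conj_d, A_d, mul_assoc (B.ws c), A_mul, conj2 (B.ff B.d'_add 1),
    ws_conj_d', A_d', mul_assoc (B.ws c), A_mul]
  congr 2
  · linear_combination B.δ * c * B.two
  · linear_combination 2 * B.δ * c * B.two
  · linear_combination B.δ * c * B.two

theorem w2_n (u : F) : (B.d' 1 * B.d 1 * B.d' 1) * B.w2 u * (B.d' 1 * B.d 1 * B.d' 1) = B.w1 u := by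
  have : ∀ g, (B.d' 1 * B.d 1 * B.d' 1) * ((B.d' 1 * B.d 1 * B.d' 1) * g) = g := fun g => by
    rw [← mul_assoc, B.nn, one_mul]
  rw [B.w2_def]
  simp only [mul_assoc] at this ⊢
  rw [this]
  have h2 := B.nn
  simp only [mul_assoc] at h2
  rw [h2, mul_one]

theorem w2_zero : B.w2 0 = 1 := by rw [B.w2_def, B.w1_zero, mul_one, B.nn]

theorem ws_zero : B.ws 0 = 1 := f0 B.ws_add

theorem wd_zero : B.wd 0 = 1 := f0 B.wd_add

/-! ### (8.1) -/

/-- the commutator `[ws, w2]` is in `⟨t⟩ A` -/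
theorem comm_ws_w2 (u v : F) : ∃ p q r, B.ws u * B.w2 v = B.w2 v * B.ws u * B.A p q r ∨
    B.ws u * B.w2 v = B.w2 v * B.ws u * (B.t * B.A p q r) := by
  set c := (B.w2 v * B.ws u)⁻¹ * (B.ws u * B.w2 v) with hc
  have h : B.ws u * B.w2 v = B.w2 v * B.ws u * c := by rw [hc, mul_inv_cancel_left]
  have cx1 : ∀ a, Commute c (B.x1 a) := fun a =>
    comm_gen h (B.ws_x1 u a) (B.ws_s u _) (B.w2_s v _) (B.w2_x1 v a)
  have cx2 : ∀ a, Commute c (B.x2 a) := fun a =>
    comm_gen h (B.ws_x2 u a) (Commute.one_right _) (Commute.one_right _) (by rw [mul_one]; exact (B.w2_x2 v a).eq)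
  have cs : ∀ a, Commute c (B.s a) := fun a =>
    comm_gen h (B.ws_s u a) (Commute.one_right _) (Commute.one_right _) (by rw [mul_one]; exact (B.w2_s v a).eq)
  obtain ⟨p, q, r, hk⟩ := B.centA c (by
      apply comm_t_of B.tt (X := B.A 0 v u) _ _ (B.comm_A cx1 cx2 cs 0 v u)
      · rw [conj2 B.tt, B.ws_t, B.w2_t, s_eq, x2_eq, ← mul_assoc, mul_assoc (B.w2 v), A_ws]
        simp only [mul_assoc, A_mul]
        congr 3 <;> simp
      · rw [conj2 B.tt, B.ws_t, B.w2_t, s_eq, x2_eq, ← mul_assoc, mul_assoc (B.ws u), A_w2]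
        simp only [mul_assoc, A_mul]
        congr 3 <;> simp)
    cx1 cx2 cs
    (fun j a => comm_gen h (B.P_ws j a u).symm (Commute.one_right _) (Commute.one_right _)
      (by rw [mul_one]; exact (B.P_w2 j a v).eq.symm))
    (fun j a => comm_gen h (B.P'_ws j a u).symm (Commute.one_right _) (Commute.one_right _)
      (by rw [mul_one]; exact (B.P'_w2 j a v).eq.symm))
    (fun j a => comm_gen h (B.Y_ws j a u).symm (B.P'_ws j _ u).symm (B.P'_w2 j _ v).symm (B.Y_w2 j a v))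
    (fun z hz => comm_gen h (B.Z_w z hz u).2.2.symm (Commute.one_right _) (Commute.one_right _)
      (by rw [mul_one]; exact (B.Z_w z hz v).2.1.eq.symm))
  refine ⟨p, q, r, ?_⟩
  rcases hk with hk | hk
  · left; rw [h, hk]; rfl
  · right; rw [h, hk]; rfl

include B in
theorem add_eq_zero_iff' {a b : F} (h : a + b = 0) : a = b := by
  have := B.add_self_left a b
  rw [h, add_zero] at this; exact this

theorem ws_tt (u : F) : B.t * (B.ws u * B.t) = B.ws u * B.A 0 0 u := by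
  rw [← mul_assoc, B.ws_t, s_eq]

theorem comm_ws_w2' (u v : F) : ∃ p q r, B.ws u * B.w2 v = B.w2 v * B.ws u * B.A p q r := by
  obtain ⟨p, q, r, h | h⟩ := B.comm_ws_w2 u v
  · exact ⟨p, q, r, h⟩
  exfalso
  have hh : ∀ l : Fˣ, ∃ p q r, B.ws (l * u) * B.w2 v = B.w2 v * B.ws (l * u) * (B.t * B.A p q r) := fun l => by
    have e := congrArg (fun g => B.h l 1 * g * (B.h l 1)⁻¹) h
    have c : ∀ x y, B.h l 1 * (x * y) * (B.h l 1)⁻¹ = (B.h l 1 * x * (B.h l 1)⁻¹) * (B.h l 1 * y * (B.h l 1)⁻¹) :=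
      fun x y => by group
    have ct : B.h l 1 * B.t * (B.h l 1)⁻¹ = B.t := by rw [(B.h_t l 1).eq, mul_inv_cancel_right]
    simp only [c, B.h_ws, B.h_w2, B.A_h, ct, Units.val_one, mul_one, one_mul] at e
    exact ⟨_, _, _, e⟩
  obtain ⟨a, ha0, ha1⟩ := B.big
  obtain ⟨p1, q1, r1, h1⟩ := hh (Units.mk0 a ha0)
  have hs : 1 + a ≠ 0 := fun h0 => ha1 (B.add_eq_zero_iff' h0).symm
  obtain ⟨p2, q2, r2, h2⟩ := hh (Units.mk0 (1 + a) hs)
  simp only [Units.val_mk0] at h1 h2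
  have e : B.ws ((1 + a) * u) = B.ws u * B.ws (a * u) := by rw [← B.ws_add]; congr 1; ring
  rw [e, mul_assoc, h1] at h2
  have e2 : B.ws u * (B.w2 v * B.ws (a * u) * (B.t * B.A p1 q1 r1)) =
      B.w2 v * (B.ws u * B.ws (a * u)) * (B.A (p + p1) (q + q1) (a * u + r + r1)) := by
    calc B.ws u * (B.w2 v * B.ws (a * u) * (B.t * B.A p1 q1 r1))
        = (B.ws u * B.w2 v) * (B.ws (a * u) * (B.t * B.A p1 q1 r1)) := by simp only [mul_assoc]
      _ = B.w2 v * (B.ws u * (B.t * (B.A p q r * (B.ws (a * u) * (B.t * B.A p1 q1 r1))))) := by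
          rw [h]; simp only [mul_assoc]
      _ = B.w2 v * (B.ws u * ((B.t * (B.ws (a * u) * B.t)) * (B.A p q r * B.A p1 q1 r1))) := by
          rw [A_ws', A_t']; simp only [mul_assoc]
      _ = _ := by
          rw [ws_tt, A_mul]; simp only [mul_assoc]; rw [A_mul]
          congr 4 <;> ring
  rw [e2] at h2
  have h3 := mul_left_cancel h2
  apply B.t_ne (p + p1 + p2) (q + q1 + q2) (a * u + r + r1 + r2)
  have e3 : B.A (p + p1 + p2) (q + q1 + q2) (a * u + r + r1 + r2) =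
      B.A (p + p1) (q + q1) (a * u + r + r1) * B.A p2 q2 r2 := by rw [A_mul]
  rw [e3, h3, mul_assoc, A_mul, B.add_self, B.add_self, B.add_self, A_zero, mul_one]

/-- **(8.1)**, 45 degrees -/
theorem ws_w2 (u v : F) : Commute (B.ws u) (B.w2 v) := by
  choose p q r h using B.comm_ws_w2'
  -- torus
  have hh : ∀ (l m : Fˣ) (u v : F), p (l * m * u) (m * m * v) = l * l * p u v ∧
      q (l * m * u) (m * m * v) = m * m * q u v ∧ r (l * m * u) (m * m * v) = l * m * r u v := fun l m u v => by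
    have e := congrArg (fun g => B.h l m * g * (B.h l m)⁻¹) (h u v)
    have c : ∀ x y, B.h l m * (x * y) * (B.h l m)⁻¹ = (B.h l m * x * (B.h l m)⁻¹) * (B.h l m * y * (B.h l m)⁻¹) :=
      fun x y => by group
    simp only [c, B.h_ws, B.h_w2, B.A_h] at e
    rw [h] at e
    exact B.A_ext (mul_left_cancel e)
  -- additivity in `u`
  have hu : ∀ u u' v, q (u + u') v = q u v + q u' v := fun u u' v => by
    have e := h (u + u') v
    rw [B.ws_add, mul_assoc, h u' v, ← mul_assoc, ← mul_assoc, h u v] at e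
    simp only [mul_assoc] at e
    have e := mul_left_cancel e
    rw [A_ws'] at e
    have e := mul_left_cancel (mul_left_cancel e)
    rw [A_mul] at e
    exact (B.A_ext e).2.1.symm
  have hq : ∀ u v, q u v = 0 := fun u v => by
    refine eq_zero_of_inv B.big (fun u => q u v) (fun u u' => hu u u' v) (fun a ha u => ?_) u
    have := (hh (Units.mk0 a ha) 1 u v).2.1
    simpa using this
  -- conjugation with `d'`
  have hp : ∀ u v, p u v = 0 := fun u v => by
    have e := congrArg (fun g => B.d' 1 * g * B.d' 1) (h u v)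
    simp only [conj3 (B.ff B.d'_add 1), conj2 (B.ff B.d'_add 1), ws_conj_d', A_d',
      conj_of_comm (B.ff B.d'_add 1) (B.w2_d' v 1).symm] at e
    rw [mul_assoc, A_w2, ← mul_assoc, h u v] at e
    simp only [mul_assoc, A_mul] at e
    have e := B.A_ext (mul_left_cancel (mul_left_cancel e))
    have e3 := e.2.2
    simp only [mul_zero, map_zero, one_mul, add_zero, zero_add] at e3
    exact left_eq_add.mp e3
  -- additivity in `v`
  have hv : ∀ u v v', r u (v + v') = r u v + r u v' := fun u v v' => by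
    have e1 : B.ws u * (B.w2 v * B.w2 v') = B.w2 v * (B.w2 v' * (B.ws u * B.A 0 0 (r u v + r u v'))) := by
      rw [← mul_assoc, h u v, hp, hq, mul_assoc, A_w2, ← mul_assoc, mul_assoc (B.w2 v), h u v', hp, hq]
      simp only [mul_assoc, A_mul]
      exact congrArg _ (congrArg _ (congrArg _ (B.A_congr (by simp) (by simp) (by simp [add_comm]))))
    rw [B.w2_mul, ← mul_assoc, h u (v + v'), hp, hq, ← mul_assoc (B.w2 v), B.w2_mul, x2_eq] at e1
    simp only [mul_assoc, A_mul] at e1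
    rw [A_ws'] at e1
    simp only [A_mul] at e1
    have e2 := B.A_ext (mul_left_cancel (mul_left_cancel e1))
    simpa using e2.2.2
  have hr : ∀ u v, r u v = 0 := fun u v => by
    refine eq_zero_of_inv B.big (fun v => r u v) (fun v v' => hv u v v') (fun a ha v => ?_) v
    have hb : B.rt a ≠ 0 := fun h0 => ha (by rw [← B.rt_sq a, h0, zero_mul])
    have := (hh (Units.mk0 (B.rt a) hb)⁻¹ (Units.mk0 (B.rt a) hb) u v).2.2
    simpa [B.rt_sq, inv_mul_cancel₀ hb] using this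
  show _ = _
  rw [h u v, hp, hq, hr, A_zero, mul_one]

end P2

end Cfsg.Agent.OddHalf.SpN.Both

end

-- merged: Cfsg.Agent.OddHalf.SpN.BothLong
section

/-!
# ODD D7, `K = Sp_2n(q)`, pattern ALL: (8.2) (helper780)
-/

set_option autoImplicit false

namespace Cfsg.Agent.OddHalf.SpN.Both.P2

variable {F G J : Type*} [Field F] [Group G] (B : P2 F G J)

/-- `w₂(b) w_s(c) x₁(p) x₂(q) s(r)` -/
def M (b c p q r : F) : G := B.w2 b * B.ws c * B.A p q r

theorem M_mul (b c p q r b' c' p' q' r' : F) : B.M b c p q r * B.M b' c' p' q' r' =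
    B.M (b + b') (c + c') (p + p') (q + q' + B.κ b b') (r + r' + B.γ * B.rt (b' * p)) := by
  unfold M
  calc B.w2 b * B.ws c * B.A p q r * (B.w2 b' * B.ws c' * B.A p' q' r')
      = B.w2 b * B.ws c * (B.A p q r * (B.w2 b' * (B.ws c' * B.A p' q' r'))) := by simp only [mul_assoc]
    _ = B.w2 b * (B.ws c * B.w2 b') * B.ws c' *
          (B.A p q (r + B.γ * B.rt (b' * p)) * B.A p' q' r') := by rw [A_w2', A_ws']; simp only [mul_assoc]
    _ = (B.w2 b * B.w2 b') * (B.ws c * B.ws c') *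
          (B.A (p + p') (q + q') (r + B.γ * B.rt (b' * p) + r')) := by
        rw [(B.ws_w2 c b').eq, A_mul]; simp only [mul_assoc]
    _ = B.w2 (b + b') * (B.x2 (B.κ b b') * B.ws (c + c')) *
          (B.A (p + p') (q + q') (r + B.γ * B.rt (b' * p) + r')) := by
        rw [B.w2_mul, B.ws_add]; simp only [mul_assoc]
    _ = _ := by
        rw [x2_eq, A_ws]; simp only [mul_assoc]; rw [A_mul]
        exact congrArg _ (congrArg _ (B.A_congr (by ring) (by ring) (by ring)))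

theorem kappa_zero : B.κ 0 0 = 0 := by
  have h := B.w2_mul 0 0
  rw [add_zero, w2_zero, one_mul, one_mul, x2_eq] at h
  exact (B.A_inj h.symm).2.1

theorem M_zero : B.M 0 0 0 0 0 = 1 := by rw [M, w2_zero, ws_zero, A_zero, mul_one, mul_one]

theorem M_one (p q r : F) : B.M 0 0 p q r = B.A p q r := by rw [M, w2_zero, ws_zero, one_mul, one_mul]

/-- the subgroup of the `M b c p q r` -/
def Q2 : Subgroup G where
  carrier := {g | ∃ b c p q r, g = B.M b c p q r}
  one_mem' := ⟨0, 0, 0, 0, 0, B.M_zero.symm⟩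
  mul_mem' := by
    rintro x y ⟨b, c, p, q, r, rfl⟩ ⟨b', c', p', q', r', rfl⟩
    exact ⟨_, _, _, _, _, B.M_mul ..⟩
  inv_mem' := by
    rintro x ⟨b, c, p, q, r, rfl⟩
    refine ⟨b, c, p, q + B.κ b b, r + B.γ * B.rt (b * p), ?_⟩
    rw [inv_eq_iff_mul_eq_one, M_mul, B.add_self, B.add_self, B.add_self]
    have e1 : q + (q + B.κ b b) + B.κ b b = 0 := by rw [B.add_self_left, B.add_self]
    have e2 : r + (r + B.γ * B.rt (b * p)) + B.γ * B.rt (b * p) = 0 := by rw [B.add_self_left, B.add_self]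
    rw [e1, e2, M_zero]

theorem mem_Q2 (b c p q r : F) : B.M b c p q r ∈ B.Q2 := ⟨b, c, p, q, r, rfl⟩

theorem A_mem_Q2 (p q r : F) : B.A p q r ∈ B.Q2 := by rw [← M_one]; exact B.mem_Q2 ..

theorem w2_mem_Q2 (b : F) : B.w2 b ∈ B.Q2 := ⟨b, 0, 0, 0, 0, by rw [M, ws_zero, A_zero, mul_one, mul_one]⟩

theorem ws_mem_Q2 (b : F) : B.ws b ∈ B.Q2 := ⟨0, b, 0, 0, 0, by rw [M, w2_zero, A_zero, one_mul, mul_one]⟩

theorem M_t (b c p q r : F) : B.t * B.M b c p q r * B.t = B.M b c p (q + b) (r + c) := by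
  unfold M
  rw [conj3 B.tt, B.w2_t, B.ws_t, conj_of_comm B.tt (B.t_A p q r), x2_eq, s_eq]
  calc B.w2 b * B.A 0 b 0 * (B.ws c * B.A 0 0 c) * B.A p q r
      = B.w2 b * (B.A 0 b 0 * (B.ws c * (B.A 0 0 c * B.A p q r))) := by simp only [mul_assoc]
    _ = B.w2 b * B.ws c * (B.A 0 b 0 * (B.A 0 0 c * B.A p q r)) := by rw [A_ws']; simp only [mul_assoc]
    _ = _ := by
        rw [A_mul, A_mul]
        exact congrArg _ (B.A_congr (by ring) (by ring) (by ring))

theorem M_d' (b c p q r β : F) : B.d' β * B.M b c p q r * B.d' β =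
    B.M b c p (q + B.δ * (c * β) + β * β * p) (r + β * p) := by
  unfold M
  rw [conj3 (B.ff B.d'_add β), conj_of_comm (B.ff B.d'_add β) (B.w2_d' b β).symm, ws_conj_d', A_d']
  simp only [mul_assoc, A_mul]
  exact congrArg _ (congrArg _ (B.A_congr (by ring) (by ring) (by ring)))

theorem t_not_mem_Q2 : B.t ∉ B.Q2 := by
  rintro ⟨b, c, p, q, r, h⟩
  have h1 := congrArg (fun g => B.t * g * B.t) h
  simp only [M_t, B.tt, one_mul] at h1
  rw [h] at h1
  unfold M at h1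
  have h2 := B.A_ext (mul_left_cancel h1)
  have hb : b = 0 := left_eq_add.mp h2.2.1
  have hc : c = 0 := left_eq_add.mp h2.2.2
  rw [hb, hc, M_one] at h
  exact B.t_ne _ _ _ h

theorem t_conj_mem_Q2 {g : G} (h : g ∈ B.Q2) : B.t * g * B.t ∈ B.Q2 := by
  obtain ⟨b, c, p, q, r, rfl⟩ := h
  rw [M_t]; exact B.mem_Q2 ..

theorem d'_conj_mem_Q2 {g : G} (h : g ∈ B.Q2) (β : F) : B.d' β * g * B.d' β ∈ B.Q2 := by
  obtain ⟨b, c, p, q, r, rfl⟩ := h
  rw [M_d']; exact B.mem_Q2 ..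

theorem rt_mul_self (a : F) : B.rt (a * a) = a := by
  rw [map_mul, B.rt_sq]

/-- first form of (8.2) -/
theorem conj_w1 (u b : F) : ∃ p q r,
    B.d' b * B.w1 u * B.d' b = B.w1 u * B.M (u * (b * b)) ((1 + B.γ) * (u * b)) p q r ∨
    B.d' b * B.w1 u * B.d' b = B.w1 u * (B.w2 (u * (b * b)) * B.ws ((1 + B.γ) * (u * b)) * (B.t * B.A p q r)) := by
  set y := u * (b * b) with hy
  set z := (1 + B.γ) * (u * b) with hz
  set g := B.w1 u * B.w2 y * B.ws z with hg
  set g1 := B.d' b * B.w1 u * B.d' b with hg1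
  have dd := B.ff B.d'_add b
  have dd' : ∀ x, B.d' b * (B.d' b * x) = x := B.ff' B.d'_add b
  have rty : ∀ a, B.rt (y * a) = b * B.rt (u * a) := fun a => by
    rw [hy, map_mul, map_mul, B.rt_mul_self, map_mul]; ring
  -- the generators
  have gx1 : ∀ a, g * B.x1 a = (B.x1 a * B.s (B.γ * B.rt (y * a))) * g := fun a => by
    calc g * B.x1 a = B.w1 u * B.w2 y * (B.ws z * B.x1 a) := by rw [hg]; simp only [mul_assoc]
      _ = B.w1 u * (B.w2 y * B.x1 a) * B.ws z := by rw [(B.ws_x1 z a).eq]; simp only [mul_assoc]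
      _ = (B.w1 u * B.x1 a) * (B.w2 y * B.s (B.γ * B.rt (y * a))) * B.ws z := by
          rw [B.w2_x1]; simp only [mul_assoc]
      _ = B.x1 a * (B.w1 u * B.s (B.γ * B.rt (y * a))) * B.w2 y * B.ws z := by
          rw [(B.w1_x1 u a).eq, (B.w2_s y _).eq]; simp only [mul_assoc]
      _ = _ := by rw [(B.w1_s u _).eq, hg]; simp only [mul_assoc]
  have g1x1 : ∀ a, g1 * B.x1 a = (B.x1 a * B.s (B.γ * B.rt (y * a))) * g1 := fun a => by
    have e1 : B.d' b * B.x1 a = B.x1 a * B.s (b * a) * B.x2 (b * b * a) * B.d' b := by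
      rw [← B.d'_x1]; simp only [mul_assoc, dd, mul_one]
    have e2 : B.d' b * (B.x1 a * B.s (b * a) * B.x2 (b * b * a)) = B.x1 a * B.d' b := by
      rw [← B.d'_x1, ← mul_assoc, ← mul_assoc, dd, one_mul]
    calc g1 * B.x1 a = B.d' b * B.w1 u * (B.d' b * B.x1 a) := by rw [hg1]; simp only [mul_assoc]
      _ = B.d' b * (B.w1 u * B.x1 a) * B.s (b * a) * B.x2 (b * b * a) * B.d' b := by
          rw [e1]; simp only [mul_assoc]
      _ = B.d' b * B.x1 a * (B.w1 u * B.s (b * a)) * B.x2 (b * b * a) * B.d' b := by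
          rw [(B.w1_x1 u a).eq]; simp only [mul_assoc]
      _ = B.d' b * B.x1 a * B.s (b * a) * (B.w1 u * B.x2 (b * b * a)) * B.d' b := by
          rw [(B.w1_s u _).eq]; simp only [mul_assoc]
      _ = (B.d' b * (B.x1 a * B.s (b * a) * B.x2 (b * b * a))) * (B.w1 u * (B.s (B.γ * B.rt (u * (b * b * a))) *
            B.d' b)) := by
          rw [B.w1_x2]; simp only [mul_assoc]
      _ = B.x1 a * B.d' b * (B.w1 u * (B.d' b * B.s (B.γ * B.rt (u * (b * b * a))))) := by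
          rw [e2, ← (B.d'_s b _).eq]
      _ = B.x1 a * (g1 * B.s (B.γ * B.rt (u * (b * b * a)))) := by rw [hg1]; simp only [mul_assoc]
      _ = _ := by
          have e3 : B.rt (u * (b * b * a)) = B.rt (y * a) := by rw [hy]; congr 1; ring
          have e4 : Commute g1 (B.s (B.γ * B.rt (y * a))) := by
            rw [hg1]; exact ((B.d'_s b _).mul_left (B.w1_s u _)).mul_left (B.d'_s b _)
          rw [e3, e4.eq, ← mul_assoc]
  have gx2 : ∀ a, g * B.x2 a = (B.x2 a * B.s (B.γ * B.rt (u * a))) * g := fun a => by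
    calc g * B.x2 a = B.w1 u * B.w2 y * (B.ws z * B.x2 a) := by rw [hg]; simp only [mul_assoc]
      _ = B.w1 u * (B.w2 y * B.x2 a) * B.ws z := by rw [(B.ws_x2 z a).eq]; simp only [mul_assoc]
      _ = (B.w1 u * B.x2 a) * B.w2 y * B.ws z := by
          rw [(B.w2_x2 y a).eq]; simp only [mul_assoc]
      _ = B.x2 a * (B.w1 u * B.s (B.γ * B.rt (u * a))) * B.w2 y * B.ws z := by
          rw [B.w1_x2]; simp only [mul_assoc]
      _ = _ := by rw [(B.w1_s u _).eq, hg]; simp only [mul_assoc]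
  have g1x2 : ∀ a, g1 * B.x2 a = (B.x2 a * B.s (B.γ * B.rt (u * a))) * g1 := fun a => by
    calc g1 * B.x2 a = B.d' b * B.w1 u * (B.d' b * B.x2 a) := by rw [hg1]; simp only [mul_assoc]
      _ = B.d' b * (B.w1 u * B.x2 a) * B.d' b := by rw [(B.d'_x2 b a).eq]; simp only [mul_assoc]
      _ = (B.d' b * B.x2 a) * (B.w1 u * B.s (B.γ * B.rt (u * a))) * B.d' b := by
          rw [B.w1_x2]; simp only [mul_assoc]
      _ = B.x2 a * (B.d' b * B.s (B.γ * B.rt (u * a))) * B.w1 u * B.d' b := by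
          rw [(B.d'_x2 b a).eq, (B.w1_s u _).eq]; simp only [mul_assoc]
      _ = _ := by rw [(B.d'_s b _).eq, hg1]; simp only [mul_assoc]
  have cx1 : ∀ a, Commute (g⁻¹ * g1) (B.x1 a) := fun a => comm_of_eq (gx1 a) (g1x1 a)
  have cx2 : ∀ a, Commute (g⁻¹ * g1) (B.x2 a) := fun a => comm_of_eq (gx2 a) (g1x2 a)
  have cs : ∀ a, Commute (g⁻¹ * g1) (B.s a) := fun a => by
    refine Commute.mul_left (Commute.inv_left ?_) ?_
    · exact ((B.w1_s u a).mul_left (B.w2_s y a)).mul_left (B.ws_s z a)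
    · exact ((B.d'_s b _).mul_left (B.w1_s u _)).mul_left (B.d'_s b _)
  obtain ⟨p, q, r, hk⟩ := B.centA (g⁻¹ * g1) (by
      apply comm_t_of B.tt (X := B.A u y (u * b)) _ _ (B.comm_A cx1 cx2 cs _ _ _)
      · rw [hg, conj3 B.tt, B.w1_t, B.w2_t, B.ws_t, x1_eq, x2_eq, s_eq]
        have e3 : B.rt (y * u) = u * b := by rw [rty, B.rt_mul_self]; ring
        calc B.w1 u * B.A u 0 0 * (B.w2 y * B.A 0 y 0) * (B.ws z * B.A 0 0 z)
            = B.w1 u * (B.A u 0 0 * (B.w2 y * (B.A 0 y 0 * (B.ws z * B.A 0 0 z)))) := by simp only [mul_assoc]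
          _ = B.w1 u * B.w2 y * B.ws z * (B.A u 0 (0 + B.γ * B.rt (y * u)) * (B.A 0 y 0 * B.A 0 0 z)) := by
              rw [A_w2', A_ws', A_ws']; simp only [mul_assoc]
          _ = _ := by
              rw [A_mul, A_mul]
              refine congrArg _ (B.A_congr (by ring) (by ring) ?_)
              rw [e3, hz]; linear_combination B.γ * (u * b) * B.two
      · rw [hg1, conj3 B.tt, B.w1_t, conj_of_comm B.tt (B.t_d' b), x1_eq]
        have e := B.A_d' u 0 0 b
        calc B.d' b * (B.w1 u * B.A u 0 0) * B.d' b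
            = B.d' b * B.w1 u * B.d' b * (B.d' b * B.A u 0 0 * B.d' b) := by simp only [mul_assoc, dd']
          _ = _ := by
              rw [e]
              exact congrArg _ (B.A_congr rfl (by rw [hy]; ring) (by ring)))
    cx1 cx2 cs
    (fun j a => comm_of_eq (x' := B.P j a)
      (by
        have : Commute g (B.P j a) := by
          rw [hg]; exact ((B.P_w1 j a u).symm.mul_left (B.P_w2 j a y).symm).mul_left (B.P_ws j a z).symm
        exact this.eq)
      (by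
        have e1 : B.d' b * B.P j a = B.P j a * B.P' j (a * b) * B.d' b := by
          rw [← B.P_d']; simp only [mul_assoc, dd, mul_one]
        have e2 : B.d' b * (B.P j a * B.P' j (a * b)) = B.P j a * B.d' b := by
          rw [← B.P_d', ← mul_assoc, ← mul_assoc, dd, one_mul]
        calc g1 * B.P j a = B.d' b * B.w1 u * (B.d' b * B.P j a) := by rw [hg1]; simp only [mul_assoc]
          _ = B.d' b * (B.w1 u * B.P j a) * B.P' j (a * b) * B.d' b := by rw [e1]; simp only [mul_assoc]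
          _ = B.d' b * B.P j a * (B.w1 u * B.P' j (a * b)) * B.d' b := by
              rw [← (B.P_w1 j a u).eq]; simp only [mul_assoc]
          _ = (B.d' b * (B.P j a * B.P' j (a * b))) * B.w1 u * B.d' b := by
              rw [← (B.P'_w1 j _ u).eq]; simp only [mul_assoc]
          _ = _ := by rw [e2, hg1]; simp only [mul_assoc]))
    (fun j a => Commute.mul_left (Commute.inv_left
        (((B.P'_w1 j a u).symm.mul_left (B.P'_w2 j a y).symm).mul_left (B.P'_ws j a z).symm))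
        (((B.P'_d' j a b).symm.mul_left (B.P'_w1 j a u).symm).mul_left (B.P'_d' j a b).symm))
    (fun j a => comm_of_eq (x' := B.Y j a * (B.P j (B.γ * B.rt (u * a)) * B.P' j (B.γ * B.rt (y * a))))
      (by
        calc g * B.Y j a = B.w1 u * B.w2 y * (B.ws z * B.Y j a) := by rw [hg]; simp only [mul_assoc]
          _ = B.w1 u * (B.w2 y * B.Y j a) * B.ws z := by rw [← (B.Y_ws j a z).eq]; simp only [mul_assoc]
          _ = (B.w1 u * B.Y j a) * (B.w2 y * B.P' j (B.γ * B.rt (y * a))) * B.ws z := by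
              rw [B.Y_w2]; simp only [mul_assoc]
          _ = B.Y j a * (B.w1 u * B.P j (B.γ * B.rt (u * a))) * B.P' j (B.γ * B.rt (y * a)) * B.w2 y * B.ws z := by
              rw [B.Y_w1, ← (B.P'_w2 j _ y).eq]; simp only [mul_assoc]
          _ = B.Y j a * B.P j (B.γ * B.rt (u * a)) * (B.w1 u * B.P' j (B.γ * B.rt (y * a))) * B.w2 y * B.ws z := by
              rw [← (B.P_w1 j _ u).eq]; simp only [mul_assoc]
          _ = _ := by rw [← (B.P'_w1 j _ u).eq, hg]; simp only [mul_assoc])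
      (by
        have e1 : B.d' b * B.P j (B.γ * B.rt (u * a)) =
            B.P j (B.γ * B.rt (u * a)) * B.P' j (B.γ * B.rt (y * a)) * B.d' b := by
          have e0 := B.P_d' j (B.γ * B.rt (u * a)) b
          have e3 : B.γ * B.rt (u * a) * b = B.γ * B.rt (y * a) := by rw [rty]; ring
          rw [e3] at e0
          rw [← e0]; simp only [mul_assoc, dd, mul_one]
        calc g1 * B.Y j a = B.d' b * B.w1 u * (B.d' b * B.Y j a) := by rw [hg1]; simp only [mul_assoc]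
          _ = B.d' b * (B.w1 u * B.Y j a) * B.d' b := by rw [← (B.Y_d' j a b).eq]; simp only [mul_assoc]
          _ = (B.d' b * B.Y j a) * (B.w1 u * B.P j (B.γ * B.rt (u * a))) * B.d' b := by
              rw [B.Y_w1]; simp only [mul_assoc]
          _ = B.Y j a * (B.d' b * B.P j (B.γ * B.rt (u * a))) * B.w1 u * B.d' b := by
              rw [← (B.Y_d' j a b).eq, ← (B.P_w1 j _ u).eq]; simp only [mul_assoc]
          _ = _ := by rw [e1, hg1]; simp only [mul_assoc]))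
    (fun x hx => Commute.mul_left (Commute.inv_left
        (((B.Z_w x hx u).1.symm.mul_left (B.Z_w x hx y).2.1.symm).mul_left (B.Z_w x hx z).2.2.symm))
        (((B.Z_x x hx b).2.2.2.symm.mul_left (B.Z_w x hx u).1.symm).mul_left (B.Z_x x hx b).2.2.2.symm))
  refine ⟨p, q, r, ?_⟩
  have e : g1 = g * (g⁻¹ * g1) := by rw [mul_inv_cancel_left]
  rcases hk with hk | hk
  · left; rw [e, hk, hg, M, A]; simp only [mul_assoc]
  · right; rw [e, hk, hg, A]; simp only [mul_assoc]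

/-- `T` is trivial -/
theorem conj_w1' (u b : F) : ∃ p q r,
    B.d' b * B.w1 u * B.d' b = B.w1 u * B.M (u * (b * b)) ((1 + B.γ) * (u * b)) p q r := by
  obtain ⟨p, q, r, h | h⟩ := B.conj_w1 u b
  · exact ⟨p, q, r, h⟩
  exfalso
  -- torus
  have hh : ∀ m : Fˣ, ∃ x ∈ B.Q2, B.d' (m * b) * B.w1 u * B.d' (m * b) = B.w1 u * (B.t * x) := fun m => by
    have e := congrArg (fun g => B.h 1 m * g * (B.h 1 m)⁻¹) h
    have c : ∀ x y, B.h 1 m * (x * y) * (B.h 1 m)⁻¹ = (B.h 1 m * x * (B.h 1 m)⁻¹) * (B.h 1 m * y * (B.h 1 m)⁻¹) :=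
      fun x y => by group
    have ct : B.h 1 m * B.t * (B.h 1 m)⁻¹ = B.t := by rw [(B.h_t 1 m).eq, mul_inv_cancel_right]
    simp only [c, B.h_ws, B.h_w1, B.h_w2, B.h_d', B.A_h, ct, Units.val_one, mul_one, one_mul, inv_one] at e
    refine ⟨B.t * (B.w2 (m * m * (u * (b * b))) * B.ws (m * ((1 + B.γ) * (u * b)))) * B.t *
      B.A p (m * m * q) (m * r), mul_mem (B.t_conj_mem_Q2 (mul_mem (B.w2_mem_Q2 _) (B.ws_mem_Q2 _)))
      (B.A_mem_Q2 _ _ _), ?_⟩
    rw [e]
    simp only [mul_assoc, B.tt']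
  obtain ⟨a, ha0, ha1⟩ := B.big
  obtain ⟨x, hx, hx'⟩ := hh 1
  obtain ⟨y, hy, hy'⟩ := hh (Units.mk0 a ha0)
  have hs : 1 + a ≠ 0 := fun h0 => ha1 (B.add_eq_zero_iff' h0).symm
  obtain ⟨z, hz, hz'⟩ := hh (Units.mk0 (1 + a) hs)
  simp only [Units.val_mk0, Units.val_one, one_mul] at hx' hy' hz'
  have dd' : ∀ x, B.d' b * (B.d' b * x) = x := B.ff' B.d'_add b
  have hab : (1 + a) * b = b + a * b := by ring
  rw [hab] at hz'
  have e : B.d' (b + a * b) * B.w1 u * B.d' (b + a * b) = B.w1 u * (B.t * x) * (B.t * (B.d' b * y * B.d' b)) := by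
    have e1 : B.d' (b + a * b) * B.w1 u * B.d' (b + a * b) =
        B.d' b * (B.d' (a * b) * B.w1 u * B.d' (a * b)) * B.d' b := by
      nth_rw 2 [add_comm]
      rw [B.d'_add, B.d'_add]; simp only [mul_assoc]
    have e2 : B.d' b * B.t = B.t * B.d' b := (B.t_d' b).eq.symm
    rw [e1, hy']
    calc B.d' b * (B.w1 u * (B.t * y)) * B.d' b
        = (B.d' b * B.w1 u * B.d' b) * (B.d' b * B.t) * y * B.d' b := by simp only [mul_assoc, dd']
      _ = _ := by rw [hx', e2]; simp only [mul_assoc]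
  rw [e, mul_assoc] at hz'
  have h3 := mul_left_cancel hz'
  apply B.t_not_mem_Q2
  have h4 : B.t = (B.t * x * B.t) * (B.d' b * y * B.d' b) * z⁻¹ := by
    rw [eq_mul_inv_iff_mul_eq, ← h3]; simp only [mul_assoc]
  rw [h4]
  exact mul_mem (mul_mem (B.t_conj_mem_Q2 hx) (B.d'_conj_mem_Q2 hy b)) (inv_mem hz)

theorem kappa_zero_left (v : F) : B.κ 0 v = 0 := by
  have h := B.w2_mul 0 v
  rw [zero_add, w2_zero, one_mul, x2_eq] at h
  exact (B.A_inj (left_eq_mul.mp h)).2.1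

theorem M_ext {b c p q r p' q' r' : F} (h : B.M b c p q r = B.M b c p' q' r') : p = p' ∧ q = q' ∧ r = r' :=
  B.A_ext (mul_left_cancel h)

/-- **(8.2)**, first part -/
theorem main_conj : (∀ u v, B.κ u v = B.δ * (1 + B.γ) * B.rt (u * v)) ∧ ∃ c2 c3 : F, ∀ u b,
    B.d' b * B.w1 u * B.d' b = B.w1 u * B.M (u * (b * b)) ((1 + B.γ) * (u * b)) 0 (c2 * (u * (b * b))) (c3 * (u * b)) := by
  choose p q r h using B.conj_w1'
  -- torus
  have hh : ∀ (l m : Fˣ) (u b : F), p (l * l * u) ((l⁻¹ : Fˣ) * m * b) = l * l * p u b ∧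
      q (l * l * u) ((l⁻¹ : Fˣ) * m * b) = m * m * q u b ∧ r (l * l * u) ((l⁻¹ : Fˣ) * m * b) = l * m * r u b := fun l m u b => by
    have e := congrArg (fun g => B.h l m * g * (B.h l m)⁻¹) (h u b)
    have c : ∀ x y, B.h l m * (x * y) * (B.h l m)⁻¹ = (B.h l m * x * (B.h l m)⁻¹) * (B.h l m * y * (B.h l m)⁻¹) :=
      fun x y => by group
    simp only [c, M, B.h_ws, B.h_w1, B.h_w2, B.h_d', B.A_h] at e
    rw [h] at e
    have e := mul_left_cancel e
    have l0 : (l : F) ≠ 0 := l.ne_zero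
    have e1 : (l : F) * l * u * ((l⁻¹ : Fˣ) * m * b * ((l⁻¹ : Fˣ) * m * b)) = m * m * (u * (b * b)) := by
      rw [Units.val_inv_eq_inv_val]; field_simp
    have e2 : (1 + B.γ) * ((l : F) * l * u * ((l⁻¹ : Fˣ) * m * b)) = l * m * ((1 + B.γ) * (u * b)) := by
      rw [Units.val_inv_eq_inv_val]; field_simp
    rw [e1, e2] at e
    exact B.M_ext e
  -- additivity in `b`
  have hadd : ∀ u b b', p u (b + b') = p u b + p u b' ∧
      q u (b + b') = q u b + q u b' + B.δ * ((1 + B.γ) * (u * b') * b) + b * b * p u b' +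
        B.κ (u * (b * b)) (u * (b' * b')) ∧
      r u (b + b') = r u b + r u b' + b * p u b' + B.γ * B.rt (u * (b' * b') * p u b) := fun u b b' => by
    have dd' : ∀ x, B.d' b * (B.d' b * x) = x := B.ff' B.d'_add b
    have e1 : B.d' (b + b') * B.w1 u * B.d' (b + b') =
        B.d' b * (B.d' b' * B.w1 u * B.d' b') * B.d' b := by
      nth_rw 2 [add_comm]
      rw [B.d'_add, B.d'_add]; simp only [mul_assoc]
    rw [h u b', conj2 (B.ff B.d'_add b), h u b, M_d', mul_assoc (B.w1 u), M_mul, h] at e1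
    have e2 := mul_left_cancel e1
    have i1 : u * ((b + b') * (b + b')) = u * (b * b) + u * (b' * b') := by linear_combination (u * b * b') * B.two
    have i2 : (1 + B.γ) * (u * (b + b')) = (1 + B.γ) * (u * b) + (1 + B.γ) * (u * b') := by ring
    rw [i1, i2] at e2
    obtain ⟨j1, j2, j3⟩ := B.M_ext e2
    refine ⟨j1, ?_, ?_⟩
    · rw [j2]; ring
    · rw [j3]; ring
  have hp : ∀ u b, p u b = 0 := fun u b => by
    refine eq_zero_of_inv B.big (fun b => p u b) (fun b b' => (hadd u b b').1) (fun a ha b => ?_) b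
    have := (hh 1 (Units.mk0 a ha) u b).1
    simpa using this
  simp only [hp, mul_zero, add_zero, map_zero] at hadd
  have h0 : ∀ u, q u 0 = 0 ∧ r u 0 = 0 := fun u => by
    have h1 := h u 0
    simp only [f0 B.d'_add, one_mul, mul_one, mul_zero, hp] at h1
    have h2 := left_eq_mul.mp h1
    rw [M_one] at h2
    exact (B.A_inj h2).2
  have hq : ∀ u b, q u b = b * b * q u 1 := fun u b => by
    by_cases hb : b = 0
    · rw [hb, (h0 u).1]; ring
    · have := (hh 1 (Units.mk0 b hb) u 1).2.1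
      simpa using this
  have hκ : ∀ u v, B.κ u v = B.δ * (1 + B.γ) * B.rt (u * v) := fun u v => by
    have h1 := (hadd 1 (B.rt u) (B.rt v)).2.1
    rw [hq 1 (B.rt u + B.rt v), hq 1 (B.rt u), hq 1 (B.rt v), B.rt_sq, B.rt_sq] at h1
    simp only [one_mul] at h1
    rw [map_mul]
    have h2 := B.rt_sq u
    have h3 := B.rt_sq v
    linear_combination -h1 + (B.rt u * B.rt v) * (q 1 1 - B.δ * (1 + B.γ)) * B.two + q 1 1 * h2 + q 1 1 * h3
  refine ⟨hκ, q 1 1, r 1 1, fun u b => ?_⟩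
  rw [h u b, hp]
  refine congrArg _ ?_
  by_cases hu : u = 0
  · subst hu
    have h1 := h 0 b
    simp only [B.w1_zero, mul_one, B.ff B.d'_add, one_mul, hp, zero_mul, mul_zero] at h1
    rw [M_one] at h1
    have h2 := (B.A_inj h1.symm).2
    rw [h2.1, h2.2]; simp
  · have hl : B.rt u ≠ 0 := fun h0 => hu (by rw [← B.rt_sq u, h0, zero_mul])
    have h1 := (hh (Units.mk0 (B.rt u) hl) 1 1 (B.rt u * b)).2
    have h2 := (hh 1 (Units.mk0 (B.rt u) hl) 1 b).2
    simp only [Units.val_mk0, Units.val_one, mul_one, one_mul, inv_one, Units.val_inv_eq_inv_val,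
      inv_mul_cancel_left₀ hl, B.rt_sq] at h1 h2
    have hr1 : r 1 b = b * r 1 1 := by
      by_cases hb : b = 0
      · rw [hb, (h0 1).2, zero_mul]
      · have := (hh 1 (Units.mk0 b hb) 1 1).2.2
        simpa using this
    have e1 : q u b = q 1 1 * (u * (b * b)) := by rw [h1.1, h2.1, hq 1 b]; ring
    have e2 : r u b = r 1 1 * (u * b) := by
      rw [h1.2, h2.2, hr1]
      linear_combination (b * r 1 1) * B.rt_sq u
    rw [e1, e2]

theorem main_eps : (∀ u v, B.κ u v = B.δ * (1 + B.γ) * B.rt (u * v)) ∧ B.ε = B.δ * (1 + B.γ) ∧ ∃ c3 : F, ∀ u b,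
    B.d' b * B.w1 u * B.d' b = B.w1 u * B.M (u * (b * b)) ((1 + B.γ) * (u * b)) 0 0 (c3 * (u * b)) := by
  obtain ⟨hκ, c2, c3, h⟩ := B.main_conj
  set n := B.d' 1 * B.d 1 * B.d' 1 with hn
  have cn : ∀ x y, n * (x * y) * n = (n * x * n) * (n * y * n) := fun x y => conj2 B.nn
  have key : ∀ u, c2 * u = 0 ∧ B.ε * u + B.δ * ((1 + B.γ) * u) = 0 := fun u => by
    set z := (1 + B.γ) * u with hz
    have h1 : B.d' 1 * B.w1 u * B.d' 1 = B.w1 u * (B.w2 u * B.ws z * B.A 0 (c2 * u) (c3 * u)) := by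
      have := h u 1
      simpa only [mul_one, M] using this
    have h2 : B.d 1 * B.w2 u * B.d 1 = B.w2 u * (B.w1 u * (B.ws z * B.A 0 0 (B.δ * z)) * B.A (c2 * u) 0 (c3 * u)) := by
      have e := congrArg (fun g => n * g * n) h1
      simp only [cn] at e
      rw [hn, B.d'_n, ← B.w2_def, B.w2_n, B.ws_n, B.A_n] at e
      exact e
    have h3 : B.w1 u * B.w2 u * B.w1 u = B.w2 u * B.A (B.δ * z) 0 (B.ε * u) := by
      have e : B.w1 u * B.w1 u = B.A (B.δ * z) 0 0 := by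
        rw [B.w1_mul, B.add_self, B.w1_zero, one_mul, hκ, B.rt_mul_self, x1_eq, hz]
        exact B.A_congr (by ring) rfl rfl
      rw [B.w1_w2, B.rt_mul_self, mul_assoc, ← (B.w1_s u _).eq, mul_assoc, ← mul_assoc (B.w1 u), e, s_eq, A_mul]
      exact congrArg _ (B.A_congr (by ring) (by ring) (by ring))
    have ww : B.ws z * B.ws z = 1 := B.ff B.ws_add z
    have h4 : B.d 1 * (B.d' 1 * B.w1 u * B.d' 1) * B.d 1 =
        B.w2 u * B.A 0 (c2 * u) (B.ε * u + B.δ * z + c2 * u) := by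
      rw [h1, conj2 (B.ff B.d_add 1), conj3 (B.ff B.d_add 1), h2, ws_conj_d, A_d,
        conj_of_comm (B.ff B.d_add 1) (B.w1_d u 1).symm]
      calc B.w1 u * (B.w2 u * (B.w1 u * (B.ws z * B.A 0 0 (B.δ * z)) * B.A (c2 * u) 0 (c3 * u)) *
              (B.ws z * B.A (B.δ * (z * 1)) 0 0) *
            B.A (0 + 1 * 1 * (c2 * u)) (c2 * u) (c3 * u + 1 * (c2 * u)))
          = (B.w1 u * B.w2 u * B.w1 u) * (B.ws z * (B.A 0 0 (B.δ * z) * (B.A (c2 * u) 0 (c3 * u) *
              (B.ws z * (B.A (B.δ * (z * 1)) 0 0 * B.A (0 + 1 * 1 * (c2 * u)) (c2 * u) (c3 * u + 1 * (c2 * u))))))) := by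
            simp only [mul_assoc]
        _ = (B.w1 u * B.w2 u * B.w1 u) * ((B.ws z * B.ws z) * (B.A 0 0 (B.δ * z) * (B.A (c2 * u) 0 (c3 * u) *
              (B.A (B.δ * (z * 1)) 0 0 * B.A (0 + 1 * 1 * (c2 * u)) (c2 * u) (c3 * u + 1 * (c2 * u)))))) := by
            rw [A_ws', A_ws']; simp only [mul_assoc]
        _ = _ := by
            rw [ww, one_mul, h3, mul_assoc, A_mul, A_mul, A_mul, A_mul]
            refine congrArg _ (B.A_congr ?_ ?_ ?_)
            · linear_combination (B.δ * z + c2 * u) * B.two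
            · ring
            · linear_combination (c3 * u) * B.two
    have e : n * B.w1 u * n = B.d' 1 * (B.d 1 * (B.d' 1 * B.w1 u * B.d' 1) * B.d 1) * B.d' 1 := by
      rw [hn]; simp only [mul_assoc]
    have e2 := B.w2_def u
    rw [← hn, e, h4, conj2 (B.ff B.d'_add 1), A_d', conj_of_comm (B.ff B.d'_add 1) (B.w2_d' u 1).symm] at e2
    obtain ⟨-, e3, e4⟩ := B.A_inj (left_eq_mul.mp e2)
    simp only [mul_zero, add_zero] at e3 e4
    rw [e3, add_zero] at e4
    exact ⟨e3, e4⟩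
  obtain ⟨k1, k2⟩ := key 1
  simp only [mul_one] at k1 k2
  refine ⟨hκ, B.add_eq_zero_iff' k2, c3, fun u b => ?_⟩
  rw [h u b, k1, zero_mul]

end Cfsg.Agent.OddHalf.SpN.Both.P2

end

-- merged: Cfsg.Agent.OddHalf.SpN.BothShort
section

/-!
# ODD D7, `K = Sp_2n(q)`, pattern ALL: (8.3), (8.4) (helper780)
-/

set_option autoImplicit false

namespace Cfsg.Agent.OddHalf.SpN.Both.P2

variable {F G J : Type*} [Field F] [Group G] (B : P2 F G J)

/-- (8.1), the other long root -/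
theorem ws_w1 (u v : F) : Commute (B.ws u) (B.w1 v) := by
  set n := B.d' 1 * B.d 1 * B.d' 1 with hn
  have cn : ∀ x y, n * (x * y) * n = (n * x * n) * (n * y * n) := fun x y => conj2 B.nn
  have e := congrArg (fun g => n * g * n) (B.ws_w2 u v).eq
  simp only [cn] at e
  rw [hn, B.ws_n, B.w2_n] at e
  have e1 : B.A 0 0 (B.δ * u) * B.w1 v = B.w1 v * B.A 0 0 (B.δ * u) := by
    rw [A_w1]; simp
  rw [mul_assoc, e1, ← mul_assoc, ← mul_assoc] at e
  exact mul_right_cancel e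

/-- `x₁(p) s(q) d(r)` -/
def E (p q r : F) : G := B.x1 p * B.s q * B.d r

theorem E_mul (p q r p' q' r' : F) : B.E p q r * B.E p' q' r' = B.E (p + p') (q + q') (r + r') := by
  unfold E
  rw [B.x1_add, B.s_add, B.d_add]
  have h1 := (B.x1_s p' q).eq
  have h2 := (B.d_x1 r p').eq
  have h3 := (B.d_s r q').eq
  calc B.x1 p * B.s q * B.d r * (B.x1 p' * B.s q' * B.d r')
      = B.x1 p * B.s q * (B.d r * B.x1 p') * B.s q' * B.d r' := by simp only [mul_assoc]
    _ = B.x1 p * (B.s q * B.x1 p') * (B.d r * B.s q') * B.d r' := by rw [h2]; simp only [mul_assoc]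
    _ = B.x1 p * B.x1 p' * (B.s q * B.s q') * (B.d r * B.d r') := by rw [← h1, h3]; simp only [mul_assoc]
    _ = _ := by simp only [mul_assoc]

theorem E_congr {p q r p' q' r' : F} (h1 : p = p') (h2 : q = q') (h3 : r = r') : B.E p q r = B.E p' q' r' := by
  rw [h1, h2, h3]

theorem x1_eq' (p : F) : B.x1 p = B.E p 0 0 := by simp [E, f0 B.d_add, f0 B.s_add]
theorem s_eq' (p : F) : B.s p = B.E 0 p 0 := by simp [E, f0 B.x1_add, f0 B.d_add]
theorem d_eq' (p : F) : B.d p = B.E 0 0 p := by simp [E, f0 B.x1_add, f0 B.s_add]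
theorem E_zero : B.E 0 0 0 = 1 := by simp [E, f0 B.x1_add, f0 B.d_add, f0 B.s_add]

theorem E_inj {p q r : F} (h : B.E p q r = 1) : p = 0 ∧ q = 0 ∧ r = 0 := by
  have := B.ind p 0 q r (by rw [f0 B.x2_add, mul_one]; exact h)
  exact ⟨this.1, this.2.2.1, this.2.2.2⟩

theorem E_ext {p q r p' q' r' : F} (h : B.E p q r = B.E p' q' r') : p = p' ∧ q = q' ∧ r = r' := by
  have e : B.E (p + p') (q + q') (r + r') = 1 := by
    rw [← E_mul, h, E_mul, B.add_self, B.add_self, B.add_self, E_zero]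
  obtain ⟨h1, h2, h3⟩ := B.E_inj e
  exact ⟨B.add_eq_zero_iff' h1, B.add_eq_zero_iff' h2, B.add_eq_zero_iff' h3⟩

theorem t_ne' (p q r : F) : B.t ≠ B.E p q r := by
  have := B.t_ind p 0 q r
  rwa [f0 B.x2_add, mul_one] at this

theorem comm_E {g : G} (h1 : ∀ u, Commute g (B.x1 u)) (h2 : ∀ u, Commute g (B.s u)) (h3 : ∀ u, Commute g (B.d u))
    (p q r : F) : Commute g (B.E p q r) := ((h1 p).mul_right (h2 q)).mul_right (h3 r)

theorem t_E (p q r : F) : Commute B.t (B.E p q r) := B.comm_E B.t_x1 B.t_s B.t_d p q r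

theorem w1_E (c p q r : F) : Commute (B.w1 c) (B.E p q r) := B.comm_E (B.w1_x1 c) (B.w1_s c) (B.w1_d c) p q r

theorem E_ws (p q r b : F) : B.E p q r * B.ws b = B.ws b * B.E (p + B.δ * (b * r)) q r := by
  have e : B.d r * B.ws b = B.ws b * (B.d r * B.x1 (B.δ * (b * r))) := by
    rw [← mul_assoc, B.ws_d, mul_assoc, B.ff B.x1_add, mul_one]
  unfold E
  calc B.x1 p * B.s q * B.d r * B.ws b = B.x1 p * B.s q * (B.d r * B.ws b) := mul_assoc _ _ _
    _ = B.x1 p * (B.s q * B.ws b) * B.d r * B.x1 (B.δ * (b * r)) := by rw [e]; simp only [mul_assoc]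
    _ = (B.x1 p * B.ws b) * B.s q * (B.d r * B.x1 (B.δ * (b * r))) := by
        rw [← (B.ws_s b q).eq]; simp only [mul_assoc]
    _ = B.ws b * B.x1 p * (B.s q * B.x1 (B.δ * (b * r))) * B.d r := by
        rw [← (B.ws_x1 b p).eq, (B.d_x1 r _).eq]; simp only [mul_assoc]
    _ = B.ws b * (B.x1 p * B.x1 (B.δ * (b * r))) * B.s q * B.d r := by
        rw [← (B.x1_s _ q).eq]; simp only [mul_assoc]
    _ = _ := by rw [← B.x1_add]; simp only [mul_assoc]

theorem E_ws' (p q r b : F) (g : G) :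
    B.E p q r * (B.ws b * g) = B.ws b * (B.E (p + B.δ * (b * r)) q r * g) := by
  rw [← mul_assoc, E_ws, mul_assoc]

theorem E_w1 (p q r b : F) : B.E p q r * B.w1 b = B.w1 b * B.E p q r := (B.w1_E b p q r).eq.symm

theorem E_w1' (p q r b : F) (g : G) : B.E p q r * (B.w1 b * g) = B.w1 b * (B.E p q r * g) := by
  rw [← mul_assoc, E_w1, mul_assoc]

theorem d_conj_x2 (r v : F) : B.x2 v * B.d r * B.x2 v = B.E (r * r * v) (r * v) r := by
  have h := B.d_x2 r v
  have e : B.x2 v * B.d r * B.x2 v * B.d r = B.s (r * v) * B.x1 (r * r * v) := by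
    calc B.x2 v * B.d r * B.x2 v * B.d r = B.x2 v * (B.d r * B.x2 v * B.d r) := by simp only [mul_assoc]
      _ = _ := by rw [h]; simp only [mul_assoc]; rw [B.ff' B.x2_add]
  calc B.x2 v * B.d r * B.x2 v = (B.x2 v * B.d r * B.x2 v * B.d r) * B.d r := by
        simp only [mul_assoc]; rw [B.ff B.d_add, mul_one]
    _ = _ := by rw [e, ← (B.x1_s _ _).eq, E]

theorem E_x2 (p q r v : F) : B.x2 v * B.E p q r * B.x2 v = B.E (p + r * r * v) (q + r * v) r := by
  rw [E, conj3 (B.ff B.x2_add v), d_conj_x2, conj_of_comm (B.ff B.x2_add v) (B.x1_x2 p v).symm,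
    conj_of_comm (B.ff B.x2_add v) (B.x2_s v q), x1_eq', s_eq', E_mul, E_mul]
  congr 1 <;> ring

theorem E_h (p q r : F) (l m : Fˣ) :
    B.h l m * B.E p q r * (B.h l m)⁻¹ = B.E (l * l * p) (l * m * q) (l * (m⁻¹ : Fˣ) * r) := by
  unfold E
  rw [← B.h_x1 l m, ← B.h_s l m, ← B.h_d l m]
  group

/-- `w_s(b) w₁(c) x₁(p) s(q) d(r)` -/
def N (b c p q r : F) : G := B.ws b * B.w1 c * B.E p q r

theorem N_mul (b c p q r b' c' p' q' r' : F) : B.N b c p q r * B.N b' c' p' q' r' =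
    B.N (b + b') (c + c') (p + p' + B.κ c c' + B.δ * (b' * r)) (q + q') (r + r') := by
  unfold N
  calc B.ws b * B.w1 c * B.E p q r * (B.ws b' * B.w1 c' * B.E p' q' r')
      = B.ws b * B.w1 c * (B.E p q r * (B.ws b' * (B.w1 c' * B.E p' q' r'))) := by simp only [mul_assoc]
    _ = B.ws b * (B.w1 c * B.ws b') * B.w1 c' *
          (B.E (p + B.δ * (b' * r)) q r * B.E p' q' r') := by rw [E_ws', E_w1']; simp only [mul_assoc]
    _ = (B.ws b * B.ws b') * (B.w1 c * B.w1 c') *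
          (B.E (p + B.δ * (b' * r) + p') (q + q') (r + r')) := by
        rw [← (B.ws_w1 b' c).eq, E_mul]; simp only [mul_assoc]
    _ = B.ws (b + b') * (B.w1 (c + c') * (B.x1 (B.κ c c') *
          (B.E (p + B.δ * (b' * r) + p') (q + q') (r + r')))) := by
        rw [B.w1_mul, B.ws_add]; simp only [mul_assoc]
    _ = _ := by
        rw [x1_eq', E_mul]; simp only [mul_assoc]
        exact congrArg _ (congrArg _ (B.E_congr (by ring) (by ring) (by ring)))

theorem N_zero : B.N 0 0 0 0 0 = 1 := by rw [N, B.w1_zero, ws_zero, E_zero, mul_one, mul_one]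

theorem N_one (p q r : F) : B.N 0 0 p q r = B.E p q r := by rw [N, B.w1_zero, ws_zero, one_mul, one_mul]

theorem N_ext {b c p q r p' q' r' : F} (h : B.N b c p q r = B.N b c p' q' r') : p = p' ∧ q = q' ∧ r = r' :=
  B.E_ext (mul_left_cancel h)

/-- the subgroup of the `N b c p q r` -/
def Q3 : Subgroup G where
  carrier := {g | ∃ b c p q r, g = B.N b c p q r}
  one_mem' := ⟨0, 0, 0, 0, 0, B.N_zero.symm⟩
  mul_mem' := by
    rintro x y ⟨b, c, p, q, r, rfl⟩ ⟨b', c', p', q', r', rfl⟩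
    exact ⟨_, _, _, _, _, B.N_mul ..⟩
  inv_mem' := by
    rintro x ⟨b, c, p, q, r, rfl⟩
    refine ⟨b, c, p + (B.κ c c + B.δ * (b * r)), q, r, ?_⟩
    rw [inv_eq_iff_mul_eq_one, N_mul, B.add_self, B.add_self, B.add_self, B.add_self]
    have e1 : p + (p + (B.κ c c + B.δ * (b * r))) + B.κ c c + B.δ * (b * r) = 0 := by
      linear_combination (p + B.κ c c + B.δ * (b * r)) * B.two
    rw [e1, N_zero]

theorem mem_Q3 (b c p q r : F) : B.N b c p q r ∈ B.Q3 := ⟨b, c, p, q, r, rfl⟩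

theorem E_mem_Q3 (p q r : F) : B.E p q r ∈ B.Q3 := by rw [← N_one]; exact B.mem_Q3 ..

theorem w1_mem_Q3 (b : F) : B.w1 b ∈ B.Q3 := ⟨0, b, 0, 0, 0, by rw [N, ws_zero, E_zero, mul_one, one_mul]⟩

theorem ws_mem_Q3 (b : F) : B.ws b ∈ B.Q3 := ⟨b, 0, 0, 0, 0, by rw [N, B.w1_zero, E_zero, mul_one, mul_one]⟩

theorem N_t (b c p q r : F) : B.t * B.N b c p q r * B.t = B.N b c (p + c) (q + b) r := by
  unfold N
  rw [conj3 B.tt, B.w1_t, B.ws_t, conj_of_comm B.tt (B.t_E p q r), x1_eq', s_eq']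
  calc B.ws b * B.E 0 b 0 * (B.w1 c * B.E c 0 0) * B.E p q r
      = B.ws b * (B.E 0 b 0 * (B.w1 c * (B.E c 0 0 * B.E p q r))) := by simp only [mul_assoc]
    _ = B.ws b * B.w1 c * (B.E 0 b 0 * (B.E c 0 0 * B.E p q r)) := by rw [E_w1']; simp only [mul_assoc]
    _ = _ := by
        rw [E_mul, E_mul]
        exact congrArg _ (B.E_congr (by ring) (by ring) (by ring))

theorem w1_conj_x2 (c v : F) : B.x2 v * B.w1 c * B.x2 v = B.w1 c * B.E 0 (B.γ * B.rt (c * v)) 0 := by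
  rw [mul_assoc, B.w1_x2, ← s_eq', mul_assoc, B.ff' B.x2_add]

theorem N_x2 (b c p q r v : F) : B.x2 v * B.N b c p q r * B.x2 v =
    B.N b c (p + r * r * v) (q + B.γ * B.rt (c * v) + r * v) r := by
  unfold N
  rw [conj3 (B.ff B.x2_add v), conj_of_comm (B.ff B.x2_add v) (B.ws_x2 b v).symm, w1_conj_x2, E_x2]
  simp only [mul_assoc, E_mul]
  exact congrArg _ (congrArg _ (B.E_congr (by ring) (by ring) (by ring)))

theorem t_not_mem_Q3 : B.t ∉ B.Q3 := by
  rintro ⟨b, c, p, q, r, h⟩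
  have h1 := congrArg (fun g => B.t * g * B.t) h
  simp only [N_t, B.tt, one_mul] at h1
  rw [h] at h1
  have h2 := B.N_ext h1
  have hc : c = 0 := left_eq_add.mp h2.1
  have hb : b = 0 := left_eq_add.mp h2.2.1
  rw [hb, hc, N_one] at h
  exact B.t_ne' _ _ _ h

theorem t_conj_mem_Q3 {g : G} (h : g ∈ B.Q3) : B.t * g * B.t ∈ B.Q3 := by
  obtain ⟨b, c, p, q, r, rfl⟩ := h
  rw [N_t]; exact B.mem_Q3 ..

theorem x2_conj_mem_Q3 {g : G} (h : g ∈ B.Q3) (v : F) : B.x2 v * g * B.x2 v ∈ B.Q3 := by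
  obtain ⟨b, c, p, q, r, rfl⟩ := h
  rw [N_x2]; exact B.mem_Q3 ..

/-- first form of (8.3) -/
theorem conj_wd (u v : F) : ∃ p q r,
    B.x2 v * B.wd u * B.x2 v = B.wd u * B.N (u * v) ((1 + B.δ) * (u * u * v)) p q r ∨
    B.x2 v * B.wd u * B.x2 v = B.wd u * (B.ws (u * v) * B.w1 ((1 + B.δ) * (u * u * v)) * (B.t * B.E p q r)) := by
  set y := u * v with hy
  set z := (1 + B.δ) * (u * u * v) with hz
  set g := B.wd u * B.ws y * B.w1 z with hg
  set g1 := B.x2 v * B.wd u * B.x2 v with hg1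
  have xx := B.ff B.x2_add v
  have xx' : ∀ x, B.x2 v * (B.x2 v * x) = x := B.ff' B.x2_add v
  have cx1 : ∀ a, Commute (g⁻¹ * g1) (B.x1 a) := fun a => by
    refine Commute.mul_left (Commute.inv_left ?_) ?_
    · exact ((B.wd_x1 u a).mul_left (B.ws_x1 y a)).mul_left (B.w1_x1 z a)
    · exact (((B.x1_x2 a v).symm).mul_left (B.wd_x1 u a)).mul_left (B.x1_x2 a v).symm
  have cs : ∀ a, Commute (g⁻¹ * g1) (B.s a) := fun a => comm_of_eq (x' := B.s a * B.x1 (B.δ * (u * a)))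
    (by
      calc g * B.s a = B.wd u * B.ws y * (B.w1 z * B.s a) := by rw [hg]; simp only [mul_assoc]
        _ = B.wd u * (B.ws y * B.s a) * B.w1 z := by rw [(B.w1_s z a).eq]; simp only [mul_assoc]
        _ = (B.wd u * B.s a) * B.ws y * B.w1 z := by rw [(B.ws_s y a).eq]; simp only [mul_assoc]
        _ = B.s a * (B.wd u * B.x1 (B.δ * (u * a))) * B.ws y * B.w1 z := by rw [B.wd_s]; simp only [mul_assoc]
        _ = _ := by rw [(B.wd_x1 u _).eq, hg]; simp only [mul_assoc])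
    (by
      calc g1 * B.s a = B.x2 v * B.wd u * (B.x2 v * B.s a) := by rw [hg1]; simp only [mul_assoc]
        _ = B.x2 v * (B.wd u * B.s a) * B.x2 v := by rw [(B.x2_s v a).eq]; simp only [mul_assoc]
        _ = (B.x2 v * B.s a) * (B.wd u * B.x1 (B.δ * (u * a))) * B.x2 v := by rw [B.wd_s]; simp only [mul_assoc]
        _ = B.s a * (B.x2 v * B.x1 (B.δ * (u * a))) * B.wd u * B.x2 v := by
            rw [(B.x2_s v a).eq, (B.wd_x1 u _).eq]; simp only [mul_assoc]
        _ = _ := by rw [← (B.x1_x2 _ v).eq, hg1]; simp only [mul_assoc])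
  have cd : ∀ a, Commute (g⁻¹ * g1) (B.d a) := fun a => comm_of_eq (x' := B.d a * B.x1 (B.δ * (y * a)))
    (by
      calc g * B.d a = B.wd u * B.ws y * (B.w1 z * B.d a) := by rw [hg]; simp only [mul_assoc]
        _ = B.wd u * (B.ws y * B.d a) * B.w1 z := by rw [(B.w1_d z a).eq]; simp only [mul_assoc]
        _ = (B.wd u * B.d a) * (B.ws y * B.x1 (B.δ * (y * a))) * B.w1 z := by rw [B.ws_d]; simp only [mul_assoc]
        _ = B.d a * (B.wd u * B.x1 (B.δ * (y * a))) * B.ws y * B.w1 z := by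
            rw [(B.wd_d u a).eq, (B.ws_x1 y _).eq]; simp only [mul_assoc]
        _ = _ := by rw [(B.wd_x1 u _).eq, hg]; simp only [mul_assoc])
    (by
      have h1 := B.d_conj_x2 a v
      have e1 : B.x2 v * B.d a = B.E (a * a * v) (a * v) a * B.x2 v := by
        rw [← h1]; simp only [mul_assoc, xx, mul_one]
      have e2 : B.x2 v * B.E (a * a * v) (a * v) a = B.d a * B.x2 v := by
        rw [← h1]; simp only [mul_assoc, xx']
      have e3 : B.wd u * B.E (a * a * v) (a * v) a = B.E (a * a * v) (a * v) a * (B.wd u * B.x1 (B.δ * (y * a))) := by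
        unfold E
        calc B.wd u * (B.x1 (a * a * v) * B.s (a * v) * B.d a)
            = (B.wd u * B.x1 (a * a * v)) * B.s (a * v) * B.d a := by simp only [mul_assoc]
          _ = B.x1 (a * a * v) * (B.wd u * B.s (a * v)) * B.d a := by rw [(B.wd_x1 u _).eq]; simp only [mul_assoc]
          _ = B.x1 (a * a * v) * B.s (a * v) * B.wd u * (B.x1 (B.δ * (u * (a * v))) * B.d a) := by
              rw [B.wd_s]; simp only [mul_assoc]
          _ = B.x1 (a * a * v) * B.s (a * v) * (B.wd u * B.d a) * B.x1 (B.δ * (u * (a * v))) := by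
              rw [← (B.d_x1 a _).eq]; simp only [mul_assoc]
          _ = _ := by
              have e4 : u * (a * v) = y * a := by rw [hy]; ring
              rw [(B.wd_d u a).eq, e4]; simp only [mul_assoc]
      calc g1 * B.d a = B.x2 v * B.wd u * (B.x2 v * B.d a) := by rw [hg1]; simp only [mul_assoc]
        _ = B.x2 v * (B.wd u * B.E (a * a * v) (a * v) a) * B.x2 v := by rw [e1]; simp only [mul_assoc]
        _ = (B.x2 v * B.E (a * a * v) (a * v) a) * (B.wd u * B.x1 (B.δ * (y * a))) * B.x2 v := by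
            rw [e3]; simp only [mul_assoc]
        _ = B.d a * (B.x2 v * B.x1 (B.δ * (y * a))) * B.wd u * B.x2 v := by
            rw [e2, (B.wd_x1 u _).eq]; simp only [mul_assoc]
        _ = _ := by rw [← (B.x1_x2 _ v).eq, hg1]; simp only [mul_assoc])
  obtain ⟨p, q, r, hk⟩ := B.centQ (g⁻¹ * g1) (by
      apply comm_t_of B.tt (X := B.E (u * u * v) (u * v) u) _ _ (B.comm_E cx1 cs cd _ _ _)
      · rw [hg, conj3 B.tt, B.wd_t, B.ws_t, B.w1_t, d_eq', s_eq', x1_eq']
        calc B.wd u * B.E 0 0 u * (B.ws y * B.E 0 y 0) * (B.w1 z * B.E z 0 0)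
            = B.wd u * (B.E 0 0 u * (B.ws y * (B.E 0 y 0 * (B.w1 z * B.E z 0 0)))) := by simp only [mul_assoc]
          _ = B.wd u * B.ws y * B.w1 z * (B.E (0 + B.δ * (y * u)) 0 u * (B.E 0 y 0 * B.E z 0 0)) := by
              rw [E_ws', E_w1', E_w1']; simp only [mul_assoc]
          _ = _ := by
              rw [E_mul, E_mul]
              refine congrArg _ (B.E_congr ?_ (by rw [hy]; ring) (by ring))
              rw [hz, hy]; linear_combination B.δ * (u * u * v) * B.two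
      · rw [hg1, conj3 B.tt, B.wd_t, conj_of_comm B.tt (B.t_x2 v)]
        calc B.x2 v * (B.wd u * B.d u) * B.x2 v
            = B.x2 v * B.wd u * B.x2 v * (B.x2 v * B.d u * B.x2 v) := by simp only [mul_assoc, xx']
          _ = _ := by rw [d_conj_x2])
    cx1 cs cd
    (fun j a => by
      refine Commute.mul_left (Commute.inv_left ?_) ?_
      · exact ((B.P_wd j a u).symm.mul_left (B.P_ws j a y).symm).mul_left (B.P_w1 j a z).symm
      · exact ((B.P_x2 j a v).symm.mul_left (B.P_wd j a u).symm).mul_left (B.P_x2 j a v).symm)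
    (fun x hx => by
      refine Commute.mul_left (Commute.inv_left ?_) ?_
      · exact ((B.Hr_w x hx u).2.2.symm.mul_left (B.Hr_w x hx y).2.1.symm).mul_left (B.Hr_w x hx z).1.symm
      · exact ((B.Hr_x x hx v).symm.mul_left (B.Hr_w x hx u).2.2.symm).mul_left (B.Hr_x x hx v).symm)
  refine ⟨p, q, r, ?_⟩
  have e : g1 = g * (g⁻¹ * g1) := by rw [mul_inv_cancel_left]
  rcases hk with hk | hk
  · left; rw [e, hk, hg, N, E]; simp only [mul_assoc]
  · right; rw [e, hk, hg, E]; simp only [mul_assoc]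

/-- `T` is trivial -/
theorem conj_wd' (u v : F) : ∃ p q r,
    B.x2 v * B.wd u * B.x2 v = B.wd u * B.N (u * v) ((1 + B.δ) * (u * u * v)) p q r := by
  obtain ⟨p, q, r, h | h⟩ := B.conj_wd u v
  · exact ⟨p, q, r, h⟩
  exfalso
  -- torus
  have hh : ∀ a : F, a ≠ 0 → ∃ x ∈ B.Q3, B.x2 (a * v) * B.wd u * B.x2 (a * v) = B.wd u * (B.t * x) := fun a ha => by
    have hb : B.rt a ≠ 0 := fun h0 => ha (by rw [← B.rt_sq a, h0, zero_mul])
    set m := Units.mk0 (B.rt a) hb with hm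
    have e := congrArg (fun g => B.h m m * g * (B.h m m)⁻¹) h
    have c : ∀ x y, B.h m m * (x * y) * (B.h m m)⁻¹ = (B.h m m * x * (B.h m m)⁻¹) * (B.h m m * y * (B.h m m)⁻¹) :=
      fun x y => by group
    have ct : B.h m m * B.t * (B.h m m)⁻¹ = B.t := by rw [(B.h_t m m).eq, mul_inv_cancel_right]
    have mm : (m : F) * m = a := by rw [hm, Units.val_mk0, B.rt_sq]
    have mi : (m : F) * (m⁻¹ : Fˣ) = 1 := Units.mul_inv m
    simp only [c, B.h_ws, B.h_w1, B.h_x2, B.h_wd, B.E_h, ct, mm, mi, one_mul] at e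
    refine ⟨B.t * (B.ws (a * (u * v)) * B.w1 (a * ((1 + B.δ) * (u * u * v)))) * B.t *
      B.E (a * p) (a * q) r, mul_mem (B.t_conj_mem_Q3 (mul_mem (B.ws_mem_Q3 _) (B.w1_mem_Q3 _)))
      (B.E_mem_Q3 _ _ _), ?_⟩
    rw [e]
    simp only [mul_assoc, B.tt']
  obtain ⟨a, ha0, ha1⟩ := B.big
  obtain ⟨x, hx, hx'⟩ := hh 1 one_ne_zero
  obtain ⟨y, hy, hy'⟩ := hh a ha0
  have hs : 1 + a ≠ 0 := fun h0 => ha1 (B.add_eq_zero_iff' h0).symm
  obtain ⟨z, hz, hz'⟩ := hh (1 + a) hs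
  simp only [one_mul] at hx'
  have dd' : ∀ x, B.x2 v * (B.x2 v * x) = x := B.ff' B.x2_add v
  have hab : (1 + a) * v = v + a * v := by ring
  rw [hab] at hz'
  have e : B.x2 (v + a * v) * B.wd u * B.x2 (v + a * v) = B.wd u * (B.t * x) * (B.t * (B.x2 v * y * B.x2 v)) := by
    have e1 : B.x2 (v + a * v) * B.wd u * B.x2 (v + a * v) =
        B.x2 v * (B.x2 (a * v) * B.wd u * B.x2 (a * v)) * B.x2 v := by
      nth_rw 2 [add_comm]
      rw [B.x2_add, B.x2_add]; simp only [mul_assoc]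
    have e2 : B.x2 v * B.t = B.t * B.x2 v := (B.t_x2 v).eq.symm
    rw [e1, hy']
    calc B.x2 v * (B.wd u * (B.t * y)) * B.x2 v
        = (B.x2 v * B.wd u * B.x2 v) * (B.x2 v * B.t) * y * B.x2 v := by simp only [mul_assoc, dd']
      _ = _ := by rw [hx', e2]; simp only [mul_assoc]
  rw [e, mul_assoc] at hz'
  have h3 := mul_left_cancel hz'
  apply B.t_not_mem_Q3
  have h4 : B.t = (B.t * x * B.t) * (B.x2 v * y * B.x2 v) * z⁻¹ := by
    rw [eq_mul_inv_iff_mul_eq, ← h3]; simp only [mul_assoc]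
  rw [h4]
  exact mul_mem (mul_mem (B.t_conj_mem_Q3 hx) (B.x2_conj_mem_Q3 hy v)) (inv_mem hz)

/-- **(8.3)** -/
theorem main_short : B.γ * (1 + B.δ) = 0 ∧ B.δ * (1 + B.γ) * (1 + B.δ) = 0 ∧ ∃ c1 c2 : F, ∀ u v,
    B.x2 v * B.wd u * B.x2 v = B.wd u * B.N (u * v) ((1 + B.δ) * (u * u * v)) (c1 * (u * u * v)) (c2 * (u * v)) 0 := by
  obtain ⟨hκ, -⟩ := B.main_conj
  choose p q r h using B.conj_wd'
  -- torus
  have hh : ∀ (l m : Fˣ) (u v : F), p (l * (m⁻¹ : Fˣ) * u) (m * m * v) = l * l * p u v ∧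
      q (l * (m⁻¹ : Fˣ) * u) (m * m * v) = l * m * q u v ∧
      r (l * (m⁻¹ : Fˣ) * u) (m * m * v) = l * (m⁻¹ : Fˣ) * r u v := fun l m u v => by
    have e := congrArg (fun g => B.h l m * g * (B.h l m)⁻¹) (h u v)
    have c : ∀ x y, B.h l m * (x * y) * (B.h l m)⁻¹ = (B.h l m * x * (B.h l m)⁻¹) * (B.h l m * y * (B.h l m)⁻¹) :=
      fun x y => by group
    simp only [c, N, B.h_ws, B.h_w1, B.h_wd, B.h_x2, B.E_h] at e
    rw [h] at e
    have e := mul_left_cancel e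
    have m0 : (m : F) ≠ 0 := m.ne_zero
    have e1 : (l : F) * (m⁻¹ : Fˣ) * u * (m * m * v) = l * m * (u * v) := by
      rw [Units.val_inv_eq_inv_val]; field_simp
    have e2 : (1 + B.δ) * ((l : F) * (m⁻¹ : Fˣ) * u * (l * (m⁻¹ : Fˣ) * u) * (m * m * v)) =
        l * l * ((1 + B.δ) * (u * u * v)) := by
      rw [Units.val_inv_eq_inv_val]; field_simp
    rw [e1, e2] at e
    exact B.N_ext e
  -- additivity in `v`
  have hadd : ∀ u v v', r u (v + v') = r u v + r u v' ∧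
      q u (v + v') = q u v + q u v' + B.γ * B.rt ((1 + B.δ) * (u * u * v') * v) + r u v' * v ∧
      p u (v + v') = p u v + p u v' + r u v' * r u v' * v + B.κ ((1 + B.δ) * (u * u * v)) ((1 + B.δ) * (u * u * v')) +
        B.δ * (u * v' * r u v) := fun u v v' => by
    have e1 : B.x2 (v + v') * B.wd u * B.x2 (v + v') =
        B.x2 v * (B.x2 v' * B.wd u * B.x2 v') * B.x2 v := by
      nth_rw 2 [add_comm]
      rw [B.x2_add, B.x2_add]; simp only [mul_assoc]
    rw [h u v', conj2 (B.ff B.x2_add v), h u v, N_x2, mul_assoc (B.wd u), N_mul, h] at e1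
    have e2 := mul_left_cancel e1
    have i1 : u * (v + v') = u * v + u * v' := by ring
    have i2 : (1 + B.δ) * (u * u * (v + v')) = (1 + B.δ) * (u * u * v) + (1 + B.δ) * (u * u * v') := by ring
    rw [i1, i2] at e2
    obtain ⟨j1, j2, j3⟩ := B.N_ext e2
    refine ⟨j3, ?_, ?_⟩
    · rw [j2]; ring
    · rw [j1]; ring
  have hh1 : ∀ a : F, a ≠ 0 → ∀ u v, p u (a * v) = a * p u v ∧ q u (a * v) = a * q u v ∧ r u (a * v) = r u v :=
    fun a ha u v => by
      have hb : B.rt a ≠ 0 := fun h0 => ha (by rw [← B.rt_sq a, h0, zero_mul])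
      have := hh (Units.mk0 (B.rt a) hb) (Units.mk0 (B.rt a) hb) u v
      rw [Units.mul_inv, Units.val_mk0, B.rt_sq, one_mul, one_mul] at this
      exact this
  have hr : ∀ u v, r u v = 0 := fun u v =>
    eq_zero_of_inv B.big (fun v => r u v) (fun v v' => (hadd u v v').1) (fun a ha v => (hh1 a ha u v).2.2) v
  simp only [hr, mul_zero, zero_mul, add_zero] at hadd
  have h0 : ∀ u, p u 0 = 0 ∧ q u 0 = 0 := fun u => by
    have h1 := h u 0
    simp only [f0 B.x2_add, one_mul, mul_one, mul_zero, hr] at h1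
    have h2 := left_eq_mul.mp h1
    rw [N_one] at h2
    exact ⟨(B.E_inj h2).1, (B.E_inj h2).2.1⟩
  have hpq : ∀ u v, p u v = v * p u 1 ∧ q u v = v * q u 1 := fun u v => by
    by_cases hv : v = 0
    · rw [hv, (h0 u).1, (h0 u).2]; simp
    · have := hh1 v hv u 1
      rw [mul_one] at this
      exact ⟨this.1, this.2.1⟩
  have h1 := hadd 1 1 1
  rw [(hpq 1 (1 + 1)).1, (hpq 1 (1 + 1)).2, hκ, mul_one, mul_one, mul_one] at h1
  rw [B.rt_mul_self] at h1
  simp only [mul_one] at h1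
  have k1 : B.γ * B.rt (1 + B.δ) = 0 := by linear_combination -h1.2.1
  have k2 : B.δ * (1 + B.γ) * (1 + B.δ) = 0 := by linear_combination -h1.2.2
  have k1' : B.γ * (1 + B.δ) = 0 := by
    rw [← B.rt_sq (1 + B.δ), ← mul_assoc, k1, zero_mul]
  refine ⟨k1', k2, p 1 1, q 1 1, fun u v => ?_⟩
  rw [h u v, hr]
  refine congrArg _ ?_
  by_cases hu : u = 0
  · subst hu
    have h1 := h 0 v
    simp only [wd_zero, mul_one, B.ff B.x2_add, one_mul, hr, zero_mul, mul_zero] at h1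
    rw [N_one] at h1
    have h2 := B.E_inj h1.symm
    rw [h2.1, h2.2.1]; simp
  · have h1 := hh (Units.mk0 u hu) 1 1 1
    simp only [Units.val_mk0, Units.val_one, mul_one, inv_one] at h1
    have e1 : p u v = p 1 1 * (u * u * v) := by rw [(hpq u v).1, h1.1]; ring
    have e2 : q u v = q 1 1 * (u * v) := by rw [(hpq u v).2, h1.2.1]; ring
    rw [e1, e2]

/-- **(8.4)** and the conclusion of section 8: `γ = 0`, `δ ∈ {0, 1}` -/
theorem gamma_delta (hwd : ∀ u v, Commute (B.wd u) (B.w1 v)) : B.γ = 0 ∧ (B.δ = 0 ∨ B.δ = 1) := by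
  obtain ⟨hκ, -⟩ := B.main_conj
  obtain ⟨k1, k2, c1, c2, h⟩ := B.main_short
  have e := congrArg (fun g => B.x2 1 * g * B.x2 1) (hwd 1 1).eq
  simp only [conj2 (B.ff B.x2_add 1), h, w1_conj_x2] at e
  have w11 : ∀ u v, Commute (B.w1 u) (B.w1 v) := fun u v => by
    show _ = _
    rw [B.w1_mul, B.w1_mul, hκ, hκ, add_comm, mul_comm u v]
  have cN : ∀ b c p q, Commute (B.N b c p q 0) (B.w1 1) := fun b c p q =>
    ((B.ws_w1 b 1).mul_left (w11 c 1)).mul_left (B.w1_E 1 p q 0).symm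
  have cN2 : ∀ b c p q a, Commute (B.N b c p q 0) (B.E 0 a 0) := fun b c p q a => by
    refine Commute.mul_left (Commute.mul_left ?_ (B.w1_E c _ _ _)) ?_
    · rw [← s_eq']; exact B.ws_s b a
    · show _ = _
      rw [E_mul, E_mul, add_comm p, add_comm q, add_comm (0 : F) 0]
  rw [mul_assoc (B.wd 1), ← mul_assoc _ (B.w1 1), (cN _ _ _ _).eq, mul_assoc (B.w1 1), (cN2 _ _ _ _ _).eq,
    ← mul_assoc (B.wd 1), (hwd 1 1).eq] at e
  simp only [mul_assoc] at e
  have e := mul_left_cancel e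
  rw [← mul_assoc, ← mul_assoc (B.E _ _ _)] at e
  have e := mul_right_cancel e
  rw [← s_eq', B.wd_s] at e
  have e := mul_eq_left.mp e
  rw [x1_eq'] at e
  have k3 := (B.E_inj e).1
  simp only [one_mul, mul_one, map_one] at k3
  have hγ : B.γ = 0 := by linear_combination k1 - k3
  refine ⟨hγ, ?_⟩
  rw [hγ, add_zero, mul_one] at k2
  rcases mul_eq_zero.mp k2 with h0 | h0
  · exact Or.inl h0
  · exact Or.inr (B.add_eq_zero_iff' h0).symm

end Cfsg.Agent.OddHalf.SpN.Both.P2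

end

-- merged: Cfsg.Agent.OddHalf.SpN.BothFun
section

/-!
# ODD D7, `K = Sp_2n(q)`: equivariant sections of the doubled root groups (helper780)

* `wf hT χ g0 u` : the conjugate of `g0` by a torus element with `χ = u` (`1` if `u = 0`); `wf_add`: if the doubled group
  is elementary abelian, the section is additive (semisimplicity of the torus, two lines with squares).
* `hi i μ` : the torus element with value `μ` at `i` and `1` elsewhere; `rtF`: the square root.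
-/

set_option autoImplicit false

namespace Cfsg.Agent.OddHalf.SpN

section wf

variable {F : Type*} [Field F] {G : Type*} [Group G] {T : Type*} [CommGroup T] (hT : T →* G) (χ : T →* Fˣ) (g0 : G)

open Classical in
/-- the equivariant section -/
noncomputable def wf (u : F) : G :=
  if h : ∃ τ, (χ τ : F) = u then hT h.choose * g0 * (hT h.choose)⁻¹ else 1

theorem wf_eq (h1 : ∀ τ, χ τ = 1 → Commute (hT τ) g0) {τ : T} {u : F} (h : (χ τ : F) = u) :
    wf hT χ g0 u = hT τ * g0 * (hT τ)⁻¹ := by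
  have h' : ∃ τ, (χ τ : F) = u := ⟨τ, h⟩
  rw [wf, dif_pos h']
  have hs := h'.choose_spec
  set σ := h'.choose
  have e : χ (τ⁻¹ * σ) = 1 := by
    rw [map_mul, map_inv, inv_mul_eq_one]
    exact Units.ext (h.trans hs.symm)
  have c := h1 _ e
  rw [map_mul, map_inv] at c
  calc hT σ * g0 * (hT σ)⁻¹ = hT τ * (((hT τ)⁻¹ * hT σ) * g0) * (hT σ)⁻¹ := by group
    _ = _ := by rw [c.eq]; group

theorem wf_zero : wf hT χ g0 0 = 1 := by
  rw [wf, dif_neg]
  rintro ⟨τ, h⟩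
  exact (χ τ).ne_zero h

theorem h_wf (h1 : ∀ τ, χ τ = 1 → Commute (hT τ) g0) (τ : T) (u : F) :
    hT τ * wf hT χ g0 u * (hT τ)⁻¹ = wf hT χ g0 (χ τ * u) := by
  by_cases h : ∃ σ, (χ σ : F) = u
  · obtain ⟨σ, h⟩ := h
    rw [wf_eq hT χ g0 h1 h, wf_eq hT χ g0 h1 (τ := τ * σ) (by rw [map_mul, Units.val_mul, h]), map_mul]
    group
  · rw [wf, dif_neg h, wf, dif_neg, mul_one, mul_inv_cancel]
    rintro ⟨σ, h2⟩
    refine h ⟨τ⁻¹ * σ, ?_⟩
    rw [map_mul, map_inv, Units.val_mul, h2, Units.inv_mul_cancel_left]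

/-- the hypotheses on a doubled root group -/
structure Ln (hT : T →* G) (χ : T →* Fˣ) (t : G) (X : F → G) (W : Subgroup G) : Prop where
  surj : ∀ μ, ∃ τ, χ τ = μ
  t_h : ∀ τ, Commute (hT τ) t
  X_add : ∀ u v, X (u + v) = X u * X v
  X_mem : ∀ u, X u ∈ W
  h_X : ∀ τ u, hT τ * X u * (hT τ)⁻¹ = X (χ τ * u)
  comm : ∀ g ∈ W, ∀ g' ∈ W, g * g' = g' * g
  torus : ∀ g ∈ W, ∀ τ, hT τ * g * (hT τ)⁻¹ ∈ W
  one : ∀ g ∈ W, ∀ τ, χ τ = 1 → Commute (hT τ) g
  ker : ∀ g ∈ W, t * g * t = g → ∃ a, g = X a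
  tt : t * t = 1

variable {hT χ g0} {t : G} {X : F → G} {W : Subgroup G}

namespace Ln

variable (L : Ln hT χ t X W)
include L

theorem wf_mem (hg : g0 ∈ W) (u : F) : wf hT χ g0 u ∈ W := by
  by_cases h : ∃ σ, (χ σ : F) = u
  · obtain ⟨σ, h⟩ := h
    rw [wf_eq hT χ g0 (L.one g0 hg) h]
    exact L.torus _ hg _
  · rw [wf, dif_neg h]; exact one_mem _

theorem X_zero : X 0 = 1 := by
  have := L.X_add 0 0
  rw [add_zero] at this
  exact left_eq_mul.mp this

theorem wf_t (hg : g0 ∈ W) (h0 : t * g0 * t = g0 * X 1) (u : F) : t * wf hT χ g0 u * t = wf hT χ g0 u * X u := by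
  by_cases hu : u = 0
  · rw [hu, wf_zero, L.X_zero, mul_one, mul_one, L.tt]
  · obtain ⟨σ, h⟩ := L.surj (Units.mk0 u hu)
    have h' : (χ σ : F) = u := by rw [h]; rfl
    rw [wf_eq hT χ g0 (L.one g0 hg) h']
    have c := L.t_h σ
    have e := L.h_X σ 1
    rw [h', mul_one] at e
    have ti : t⁻¹ = t := inv_eq_of_mul_eq_one_right L.tt
    calc t * (hT σ * g0 * (hT σ)⁻¹) * t = (t * hT σ) * g0 * ((hT σ)⁻¹ * t) := by group
      _ = (hT σ * t) * g0 * (t * (hT σ)⁻¹) := by rw [c.eq, c.inv_left.eq]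
      _ = hT σ * (t * g0 * t) * (hT σ)⁻¹ := by group
      _ = _ := by rw [h0, ← e]; group

theorem eq_mul (g g' : G) (hg : g ∈ W) (hg' : g' ∈ W) {u : F} (h : t * g * t = g * X u) (h' : t * g' * t = g' * X u) :
    ∃ a, g = g' * X a := by
  have ti : t⁻¹ = t := inv_eq_of_mul_eq_one_right L.tt
  obtain ⟨a, ha⟩ := L.ker (g'⁻¹ * g) (mul_mem (inv_mem hg') hg) (by
    calc t * (g'⁻¹ * g) * t = (t * g' * t)⁻¹ * (t * g * t) := by
          rw [mul_inv_rev, mul_inv_rev, ti]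
          calc t * (g'⁻¹ * g) * t = t * (g'⁻¹ * 1 * g) * t := by group
            _ = _ := by rw [← L.tt]; group
      _ = (X u)⁻¹ * ((g'⁻¹ * g) * X u) := by rw [h, h', mul_inv_rev]; group
      _ = _ := by rw [L.comm _ (mul_mem (inv_mem hg') hg) _ (L.X_mem u), inv_mul_cancel_left])
  exact ⟨a, by rw [← ha, mul_inv_cancel_left]⟩

/-- heights add -/
theorem t_mul {g g' : G} (hg : g ∈ W) (hg' : g' ∈ W) {u v : F} (h : t * g * t = g * X u) (h' : t * g' * t = g' * X v) :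
    t * (g * g') * t = (g * g') * X (u + v) := by
  calc t * (g * g') * t = (t * g * t) * (t * g' * t) := by
        calc t * (g * g') * t = t * g * 1 * g' * t := by group
          _ = _ := by rw [← L.tt]; group
    _ = g * (X u * g') * X v := by rw [h, h']; group
    _ = _ := by rw [L.comm _ (L.X_mem u) _ hg', L.X_add]; group

/-- the section is multiplicative up to `X` -/
theorem wf_mul (hg : g0 ∈ W) (h0 : t * g0 * t = g0 * X 1) (u v : F) :
    ∃ c, wf hT χ g0 u * wf hT χ g0 v = wf hT χ g0 (u + v) * X c :=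
  L.eq_mul _ _ (mul_mem (L.wf_mem hg u) (L.wf_mem hg v)) (L.wf_mem hg _)
    (L.t_mul (L.wf_mem hg u) (L.wf_mem hg v) (L.wf_t hg h0 u) (L.wf_t hg h0 v)) (L.wf_t hg h0 _)

/-- **elementary abelian ⇒ the equivariant section is additive** -/
theorem wf_add (hg : g0 ∈ W) (h0 : t * g0 * t = g0 * X 1) (two : (2 : F) = 0) (sq : ∀ a : F, ∃ b, b * b = a)
    (el : ∀ g ∈ W, g * g = 1) (u v : F) : wf hT χ g0 (u + v) = wf hT χ g0 u * wf hT χ g0 v := by
  obtain ⟨a, rfl⟩ := sq u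
  obtain ⟨b, rfl⟩ := sq v
  have aa : ∀ x : F, x + x = 0 := fun x => by rw [← two_mul, two, zero_mul]
  by_cases ha : a = 0
  · rw [ha]; simp [wf_zero]
  by_cases hb : b = 0
  · rw [hb]; simp [wf_zero]
  have mem := L.wf_mem hg
  by_cases hab : a + b = 0
  · have e : a = b := by
      have := add_assoc a b b
      rw [hab, aa, zero_add, add_zero] at this; exact this.symm
    rw [e, aa, wf_zero, el _ (mem _)]
  obtain ⟨σ, hσ⟩ := L.surj (Units.mk0 a ha)
  obtain ⟨τ, hτ⟩ := L.surj (Units.mk0 b hb)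
  obtain ⟨ρ, hρ⟩ := L.surj (Units.mk0 (a + b) hab)
  have one := L.one g0 hg
  have s1 : ∀ u, hT σ * wf hT χ g0 u * (hT σ)⁻¹ = wf hT χ g0 (a * u) := fun u => by
    rw [h_wf hT χ g0 one, hσ]; rfl
  have s2 : ∀ u, hT τ * wf hT χ g0 u * (hT τ)⁻¹ = wf hT χ g0 (b * u) := fun u => by
    rw [h_wf hT χ g0 one, hτ]; rfl
  have s3 : ∀ u, hT ρ * wf hT χ g0 u * (hT ρ)⁻¹ = wf hT χ g0 ((a + b) * u) := fun u => by
    rw [h_wf hT χ g0 one, hρ]; rfl
  have x1 : ∀ u, hT σ * X u * (hT σ)⁻¹ = X (a * u) := fun u => by rw [L.h_X, hσ]; rfl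
  have x2 : ∀ u, hT τ * X u * (hT τ)⁻¹ = X (b * u) := fun u => by rw [L.h_X, hτ]; rfl
  have x3 : ∀ u, hT ρ * X u * (hT ρ)⁻¹ = X ((a + b) * u) := fun u => by rw [L.h_X, hρ]; rfl
  have cj : ∀ h x y : G, h * (x * y) * h⁻¹ = (h * x * h⁻¹) * (h * y * h⁻¹) := fun h x y => by group
  obtain ⟨c, hc⟩ := L.wf_mul hg h0 a b
  -- the two ways
  have e1 := congrArg (fun g => hT σ * g * (hT σ)⁻¹) hc
  have e2 := congrArg (fun g => hT τ * g * (hT τ)⁻¹) hc
  have e3 := congrArg (fun g => hT ρ * g * (hT ρ)⁻¹) hc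
  simp only [cj, s1, s2, s3, x1, x2, x3] at e1 e2 e3
  -- e1 : w(aa) w(ab) = w(a(a+b)) X(ac), e2 : w(ba) w(bb) = w(b(a+b)) X(bc), e3 : w((a+b)a) w((a+b)b) = w((a+b)(a+b)) X((a+b)c)
  have XX : X ((a + b) * c) * X ((a + b) * c) = 1 := by rw [← L.X_add, aa, L.X_zero]
  have l1 : wf hT χ g0 (a * a) * wf hT χ g0 (b * b) =
      (wf hT χ g0 (a * a) * wf hT χ g0 (a * b)) * (wf hT χ g0 (b * a) * wf hT χ g0 (b * b)) := by
    rw [mul_comm b a]
    calc wf hT χ g0 (a * a) * wf hT χ g0 (b * b)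
        = wf hT χ g0 (a * a) * (wf hT χ g0 (a * b) * wf hT χ g0 (a * b)) * wf hT χ g0 (b * b) := by
          rw [el _ (mem _), mul_one]
      _ = _ := by group
  have l2 : wf hT χ g0 (a * a) * wf hT χ g0 (b * b) = wf hT χ g0 ((a + b) * (a + b)) := by
    rw [l1, e1, e2]
    have m1 := mem (a * (a + b))
    have m2 := mem (b * (a + b))
    calc wf hT χ g0 (a * (a + b)) * X (a * c) * (wf hT χ g0 (b * (a + b)) * X (b * c))
        = wf hT χ g0 (a * (a + b)) * (X (a * c) * wf hT χ g0 (b * (a + b))) * X (b * c) := by group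
      _ = (wf hT χ g0 ((a + b) * a) * wf hT χ g0 ((a + b) * b)) * (X (a * c) * X (b * c)) := by
          rw [L.comm _ (L.X_mem _) _ m2, mul_comm a (a + b), mul_comm b (a + b)]; group
      _ = wf hT χ g0 ((a + b) * (a + b)) * (X ((a + b) * c) * X ((a + b) * c)) := by
          rw [e3, ← L.X_add, ← add_mul]; group
      _ = _ := by rw [XX, mul_one]
  rw [l2]
  congr 1
  linear_combination -(a * b) * two

end Ln

end wf

section torus

variable {n : ℕ} {F : Type*} [Field F]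

/-- torus element with value `μ` at `i` -/
def hi (i : Ix n) (μ : Fˣ) : Fin n → Fˣ := Sum.elim (fun k => Pi.mulSingle k μ) (fun k => Pi.mulSingle k μ⁻¹) i

theorem ev_hi_self (i : Ix n) (μ : Fˣ) : ev (hi i μ) i = μ := by
  rcases i with i | i <;> simp [hi, ev]

theorem ev_hi_of {i l : Ix n} (h : Dj i l) (μ : Fˣ) : ev (hi i μ) l = 1 := by
  rcases i with i | i <;> rcases l with l | l
  · have : l ≠ i := fun e => h.1 (by rw [e])
    simp [hi, ev, Pi.mulSingle_eq_of_ne this]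
  · have : l ≠ i := fun e => h.2 (by rw [e]; rfl)
    simp [hi, ev, Pi.mulSingle_eq_of_ne this]
  · have : l ≠ i := fun e => h.2 (by rw [e]; rfl)
    simp [hi, ev, Pi.mulSingle_eq_of_ne this]
  · have : l ≠ i := fun e => h.1 (by rw [e])
    simp [hi, ev, Pi.mulSingle_eq_of_ne this]

theorem ev_mul_apply (l m : Fin n → Fˣ) (k : Ix n) : ev (l * m) k = ev l k * ev m k := by
  rcases k with k | k <;> simp [ev, mul_comm]

/-- the character of a short root -/
def chs (i j : Ix n) : (Fin n → Fˣ) →* Fˣ where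
  toFun lam := ev lam i * ev lam j
  map_one' := by
    have : ∀ k : Ix n, ev (1 : Fin n → Fˣ) k = 1 := fun k => by rcases k with k | k <;> simp [ev]
    rw [this, this, one_mul]
  map_mul' l m := by rw [ev_mul_apply, ev_mul_apply]; exact mul_mul_mul_comm _ _ _ _

theorem chs_apply (i j : Ix n) (lam : Fin n → Fˣ) : chs i j lam = ev lam i * ev lam j := rfl

theorem chs_symm (i j : Ix n) : (chs i j : (Fin n → Fˣ) →* Fˣ) = chs j i :=
  MonoidHom.ext fun lam => by rw [chs_apply, chs_apply, mul_comm]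

theorem chs_surj_short {i j : Ix n} (h : Dj i j) (μ : Fˣ) : ∃ lam : Fin n → Fˣ, chs i j lam = μ :=
  ⟨hi i μ, by rw [chs_apply, ev_hi_self, ev_hi_of h, mul_one]⟩

end torus

section root

variable (F : Type*) [Field F] [Finite F] [CharP F 2]

/-- the square root -/
noncomputable def rtF : F →+* F := ((frobeniusEquiv F 2).symm : F ≃+* F)

theorem rt_sq (a : F) : rtF F a * rtF F a = a := by
  rw [← pow_two]
  exact frobeniusEquiv_symm_pow_p F 2 a

theorem rt_mul_self (a : F) : rtF F (a * a) = a := by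
  rw [map_mul, rt_sq]

theorem rt_ne {a : F} (h : a ≠ 0) : rtF F a ≠ 0 := fun h0 => h (by rw [← rt_sq F a, h0, zero_mul])

variable {F} {n : ℕ}

theorem chs_surj_long (i : Ix n) (μ : Fˣ) : ∃ lam : Fin n → Fˣ, chs i i lam = μ :=
  ⟨hi i (Units.mk0 (rtF F μ) (rt_ne F μ.ne_zero)), by
    rw [chs_apply, ev_hi_self]; ext; simp [rt_sq]⟩

end root

section torus

variable {n : ℕ} {F : Type*} [Field F]

end torus

end Cfsg.Agent.OddHalf.SpN

end

-- merged: Cfsg.Agent.OddHalf.SpN.BothInst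
section

/-!
# ODD D7, `K = Sp_2n(q)`, pattern ALL: the frame `P2` of a pair from `DS`, `DL` (helper780)
-/

set_option autoImplicit false

namespace Cfsg.Agent.OddHalf.SpN

open scoped commutatorElement

variable {n : ℕ} {F : Type*} [Field F] [CharP F 2] {G : Type*} [Group G]

namespace DS

variable {R : Frame n F G} {δ : F} (D : DS R δ)

/-- an element of height one -/
noncomputable def g0 (i j : Ix n) : G := Classical.epsilon fun g => g ∈ D.W i j ∧ R.t * g * R.t = g * R.x i j 1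

theorem g0_spec {i j : Ix n} (h : Dj i j) : D.g0 i j ∈ D.W i j ∧ R.t * D.g0 i j * R.t = D.g0 i j * R.x i j 1 :=
  Classical.epsilon_spec (p := fun g => g ∈ D.W i j ∧ R.t * g * R.t = g * R.x i j 1) (D.onto i j h 1)

/-- the equivariant section -/
noncomputable def ws (i j : Ix n) (u : F) : G := wf R.h (chs i j) (D.g0 i j) u

theorem ln {i j : Ix n} (h : Dj i j) : Ln R.h (chs i j) R.t (R.x i j) (D.W i j) where
  surj := chs_surj_short h
  t_h := R.h_t
  X_add := R.x_add i j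
  X_mem := D.x_mem i j
  h_X := fun τ u => by rw [R.h_x, chs_apply, Units.val_mul]
  comm := D.comm i j h
  torus := D.torus i j h
  one := fun g hg τ hτ => D.torus_one i j h g hg τ hτ
  ker := D.ker i j h
  tt := R.tt

theorem ws_symm (i j : Ix n) (u : F) : D.ws i j u = D.ws j i u := by
  have e : D.g0 i j = D.g0 j i := by
    unfold g0
    congr 1
    funext g
    rw [D.symm i j, R.x_symm i j]
  rw [ws, ws, e, chs_symm]

theorem ws_mem {i j : Ix n} (h : Dj i j) (u : F) : D.ws i j u ∈ D.W i j := (D.ln h).wf_mem (D.g0_spec h).1 u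

theorem ws_t {i j : Ix n} (h : Dj i j) (u : F) : R.t * D.ws i j u * R.t = D.ws i j u * R.x i j u :=
  (D.ln h).wf_t (D.g0_spec h).1 (D.g0_spec h).2 u

theorem ws_zero (i j : Ix n) : D.ws i j 0 = 1 := wf_zero _ _ _

theorem h_ws {i j : Ix n} (h : Dj i j) (lam : Fin n → Fˣ) (u : F) :
    R.h lam * D.ws i j u * (R.h lam)⁻¹ = D.ws i j (ev lam i * ev lam j * u) := by
  rw [ws, h_wf _ _ _ ((D.ln h).one _ (D.g0_spec h).1), chs_apply, Units.val_mul]; rfl

theorem ws_add [Finite F] (el : ∀ i j, Dj i j → ∀ g ∈ D.W i j, g * g = 1) {i j : Ix n} (h : Dj i j) (u v : F) :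
    D.ws i j (u + v) = D.ws i j u * D.ws i j v :=
  (D.ln h).wf_add (D.g0_spec h).1 (D.g0_spec h).2 CharTwo.two_eq_zero (fun a => ⟨rtF F a, rt_sq F a⟩) (el i j h) u v

/-- an element is determined by its height up to `X` -/
theorem eq_mul {i j : Ix n} (h : Dj i j) {g g' : G} (hg : g ∈ D.W i j) (hg' : g' ∈ D.W i j) {u : F}
    (e : R.t * g * R.t = g * R.x i j u) (e' : R.t * g' * R.t = g' * R.x i j u) : ∃ a, g = g' * R.x i j a :=
  (D.ln h).eq_mul _ _ hg hg' e e'

/-- partners, in the form of `P2` -/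
theorem ws_par {i j : Ix n} (h : Dj i j) (u v : F) :
    D.ws i j u * R.x i (neg j) v = R.x i (neg j) v * D.ws i j u * R.y i (δ * (u * v)) := by
  have e := D.par i j h _ (D.ws_mem h u) u (D.ws_t h u) v
  have c1 : Commute (D.ws i j u) (R.y i (δ * (u * v))) := D.cy i j h _ (D.ws_mem h u) i _ (ne_neg i) h.2
  have c2 : Commute (R.x i (neg j) v) (R.y i (δ * (u * v))) :=
    (R.y_x_comm (ne_neg i) (fun e => h.1 (neg_inj.mp e).symm) _ _).symm
  rw [commutatorElement_def, mul_assoc δ] at e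
  calc D.ws i j u * R.x i (neg j) v
      = (D.ws i j u * R.x i (neg j) v * (D.ws i j u)⁻¹ * (R.x i (neg j) v)⁻¹) * (R.x i (neg j) v * D.ws i j u) := by
        group
    _ = R.x i (neg j) v * (R.y i (δ * (u * v)) * D.ws i j u) := by rw [e, ← mul_assoc, ← c2.eq, mul_assoc]
    _ = _ := by rw [← c1.eq, mul_assoc]

end DS

namespace DL

variable {R : Frame n F G} {γ : F} (V : DL R γ)

/-- an element of height one -/
noncomputable def g0 (i : Ix n) : G := Classical.epsilon fun g => g ∈ V.V i ∧ R.t * g * R.t = g * R.y i 1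

theorem g0_spec (i : Ix n) : V.g0 i ∈ V.V i ∧ R.t * V.g0 i * R.t = V.g0 i * R.y i 1 :=
  Classical.epsilon_spec (p := fun g => g ∈ V.V i ∧ R.t * g * R.t = g * R.y i 1) (V.onto i 1)

/-- the equivariant section -/
noncomputable def wl (i : Ix n) (u : F) : G := wf R.h (chs i i) (V.g0 i) u

variable [Finite F]

theorem ln (i : Ix n) : Ln R.h (chs i i) R.t (R.y i) (V.V i) where
  surj := chs_surj_long i
  t_h := R.h_t
  X_add := R.y_add i
  X_mem := V.y_mem i
  h_X := fun τ u => by rw [R.h_y, chs_apply, Units.val_mul, pow_two]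
  comm := V.comm i
  torus := V.torus i
  one := fun g hg τ hτ => V.torus_one i g hg τ (by
    have h1 : (ev τ i : F) * ev τ i = 1 := by
      have := congrArg (fun u : Fˣ => (u : F)) hτ
      simpa [chs_apply] using this
    apply Units.ext
    have h2 := congrArg (rtF F) h1
    rw [rt_mul_self, map_one] at h2
    rw [h2, Units.val_one])
  ker := V.ker i
  tt := R.tt

theorem wl_mem (i : Ix n) (u : F) : V.wl i u ∈ V.V i := (V.ln i).wf_mem (V.g0_spec i).1 u

theorem wl_t (i : Ix n) (u : F) : R.t * V.wl i u * R.t = V.wl i u * R.y i u :=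
  (V.ln i).wf_t (V.g0_spec i).1 (V.g0_spec i).2 u

omit [Finite F] in
theorem wl_zero (i : Ix n) : V.wl i 0 = 1 := wf_zero _ _ _

theorem h_wl (i : Ix n) (lam : Fin n → Fˣ) (u : F) :
    R.h lam * V.wl i u * (R.h lam)⁻¹ = V.wl i (ev lam i * ev lam i * u) := by
  rw [wl, h_wf _ _ _ ((V.ln i).one _ (V.g0_spec i).1), chs_apply, Units.val_mul]; rfl

theorem wl_mul (i : Ix n) (u v : F) : ∃ c, V.wl i u * V.wl i v = V.wl i (u + v) * R.y i c :=
  (V.ln i).wf_mul (V.g0_spec i).1 (V.g0_spec i).2 u v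

theorem eq_mul (i : Ix n) {g g' : G} (hg : g ∈ V.V i) (hg' : g' ∈ V.V i) {u : F}
    (e : R.t * g * R.t = g * R.y i u) (e' : R.t * g' * R.t = g' * R.y i u) : ∃ a, g = g' * R.y i a :=
  (V.ln i).eq_mul _ _ hg hg' e e'

/-- the exceptional relation, in the form of `P2` -/
theorem par_rt {i k : Ix n} (h : Dj i k) {g : G} (hg : g ∈ V.V i) {u : F} (hu : R.t * g * R.t = g * R.y i u) (v : F) :
    g * R.y k v = R.y k v * g * R.x i k (γ * rtF F (u * v)) := by
  have e := V.par i k h _ hg (rtF F u) (by rw [hu, pow_two, rt_sq]) (rtF F v)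
  have c1 : Commute g (R.x i k (γ * rtF F (u * v))) := V.cx i _ hg i k _ (ne_neg i) (fun e => h.2 (by rw [e, neg_neg]))
  have c2 : Commute (R.y k v) (R.x i k (γ * rtF F (u * v))) := R.y_x_comm h.2 (ne_neg k) _ _
  rw [commutatorElement_def, pow_two, rt_sq, mul_assoc γ, ← map_mul] at e
  calc g * R.y k v = (g * R.y k v * g⁻¹ * (R.y k v)⁻¹) * (R.y k v * g) := by group
    _ = R.y k v * (R.x i k (γ * rtF F (u * v)) * g) := by rw [e, ← mul_assoc, ← c2.eq, mul_assoc]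
    _ = _ := by rw [← c1.eq, mul_assoc]

end DL

/-! ### The transposition -/

theorem tr_i {i j : Ix n} (h : Dj i j) : tr j i i = j := by
  rw [tr, Equiv.Perm.mul_apply, Equiv.swap_apply_of_ne_of_ne h.2 (ne_neg i), Equiv.swap_apply_right]

theorem tr_j {i j : Ix n} (h : Dj i j) : tr j i j = i := by
  rw [tr, Equiv.Perm.mul_apply, Equiv.swap_apply_of_ne_of_ne (ne_neg j) h.symm.2, Equiv.swap_apply_left]

theorem tr_of {i j k : Ix n} (hik : Dj i k) (hjk : Dj j k) : tr j i k = k := by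
  have h1 : k ≠ neg i := fun e => hik.2 (by rw [e, neg_neg])
  have h2 : k ≠ neg j := fun e => hjk.2 (by rw [e, neg_neg])
  rw [tr, Equiv.Perm.mul_apply, Equiv.swap_apply_of_ne_of_ne h2 h1, Equiv.swap_apply_of_ne_of_ne hjk.1.symm hik.1.symm]

theorem cases5 (i j k : Ix n) : k = i ∨ k = j ∨ k = neg i ∨ k = neg j ∨ (Dj i k ∧ Dj j k) := by
  by_cases h1 : k = i
  · exact Or.inl h1
  by_cases h2 : k = j
  · exact Or.inr (Or.inl h2)
  by_cases h3 : k = neg i
  · exact Or.inr (Or.inr (Or.inl h3))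
  by_cases h4 : k = neg j
  · exact Or.inr (Or.inr (Or.inr (Or.inl h4)))
  exact Or.inr (Or.inr (Or.inr (Or.inr ⟨⟨Ne.symm h1, fun e => h3 (by rw [e, neg_neg])⟩,
    ⟨Ne.symm h2, fun e => h4 (by rw [e, neg_neg])⟩⟩)))

theorem tr_tr {i j : Ix n} (h : Dj i j) : tr j i * tr j i = 1 := by
  have hn : ∀ k, tr j i (neg k) = neg (tr j i k) := tr_mem h.symm
  refine Equiv.Perm.ext fun k => ?_
  rw [Equiv.Perm.mul_apply, Equiv.Perm.one_apply]
  rcases cases5 i j k with rfl | rfl | rfl | rfl | ⟨h1, h2⟩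
  · rw [tr_i h, tr_j h]
  · rw [tr_j h, tr_i h]
  · rw [hn, tr_i h, hn, tr_j h]
  · rw [hn, tr_j h, hn, tr_i h]
  · rw [tr_of h1 h2, tr_of h1 h2]

/-- the torus of the indices `i`, `j` -/
def hp (i j : Ix n) (l m : Fˣ) : Fin n → Fˣ := hi i l * hi j m

omit [CharP F 2] in
theorem ev_hp_i {i j : Ix n} (h : Dj i j) (l m : Fˣ) : ev (hp i j l m) i = l := by
  rw [hp, ev_mul_apply, ev_hi_self, ev_hi_of h.symm, mul_one]

omit [CharP F 2] in
theorem ev_hp_j {i j : Ix n} (h : Dj i j) (l m : Fˣ) : ev (hp i j l m) j = m := by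
  rw [hp, ev_mul_apply, ev_hi_self, ev_hi_of h, one_mul]

omit [CharP F 2] in
theorem ev_hp_k {i j k : Ix n} (hik : Dj i k) (hjk : Dj j k) (l m : Fˣ) : ev (hp i j l m) k = 1 := by
  rw [hp, ev_mul_apply, ev_hi_of hik, ev_hi_of hjk, one_mul]

section frame

variable {R : Frame n F G}

/-- the Weyl element of `e_i - e_j` -/
noncomputable def Frame.N (R : Frame n F G) {i j : Ix n} (h : Dj i j) : G := R.w ⟨tr j i, tr_mem h.symm⟩

theorem N_eq (R : Frame n F G) {i j : Ix n} (h : Dj i j) :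
    R.x (neg i) j 1 * R.x i (neg j) 1 * R.x (neg i) j 1 = R.N h := by
  rw [Frame.N, R.w_tr h.symm, R.x_symm j (neg i), R.x_symm (neg j) i]

theorem NN (R : Frame n F G) {i j : Ix n} (h : Dj i j) : R.N h * R.N h = 1 := by
  have e : (⟨tr j i, tr_mem h.symm⟩ : SpN.W n) * ⟨tr j i, tr_mem h.symm⟩ = 1 := Subtype.ext (tr_tr h)
  rw [Frame.N, ← map_mul, e, map_one]

theorem N_inv (R : Frame n F G) {i j : Ix n} (h : Dj i j) : (R.N h)⁻¹ = R.N h :=
  inv_eq_of_mul_eq_one_right (NN R h)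

theorem N_x (R : Frame n F G) {i j : Ix n} (h : Dj i j) (k l : Ix n) (a : F) :
    R.N h * R.x k l a * R.N h = R.x (tr j i k) (tr j i l) a := by
  have := R.w_x ⟨tr j i, tr_mem h.symm⟩ k l a
  have e := N_inv R h
  rw [Frame.N] at e ⊢
  rw [e] at this
  exact this

theorem N_y (R : Frame n F G) {i j : Ix n} (h : Dj i j) (k : Ix n) (a : F) :
    R.N h * R.y k a * R.N h = R.y (tr j i k) a := by
  have := R.w_y ⟨tr j i, tr_mem h.symm⟩ k a
  have e := N_inv R h
  rw [Frame.N] at e ⊢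
  rw [e] at this
  exact this

theorem N_t (R : Frame n F G) {i j : Ix n} (h : Dj i j) : Commute (R.N h) R.t := R.w_t _

theorem N_h (R : Frame n F G) {i j : Ix n} (h : Dj i j) (l m : Fˣ) :
    R.h (hp i j l m) * R.N h = R.N h * R.h (hp i j m l) := by
  have hn : ∀ k, tr j i (neg k) = neg (tr j i k) := tr_mem h.symm
  have := R.w_h ⟨tr j i, tr_mem h.symm⟩ (hp i j m l) (hp i j l m) (fun k => by
    change ev (hp i j l m) (tr j i k) = _
    rcases cases5 i j k with rfl | rfl | rfl | rfl | ⟨h1, h2⟩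
    · rw [tr_i h, ev_hp_j h, ev_hp_i h]
    · rw [tr_j h, ev_hp_j h, ev_hp_i h]
    · rw [hn, tr_i h, ev_neg, ev_neg, ev_hp_j h, ev_hp_i h]
    · rw [hn, tr_j h, ev_neg, ev_neg, ev_hp_j h, ev_hp_i h]
    · rw [tr_of h1 h2, ev_hp_k h1 h2, ev_hp_k h1 h2])
  rw [Frame.N, ← this]; group

variable {γ : F} (V : DL R γ)

/-- `w₂ = w₁ ^ n` -/
noncomputable def DL.w2 {i j : Ix n} (h : Dj i j) (u : F) : G := R.N h * V.wl i u * R.N h

variable [Finite F]

theorem DL.w2_mem {i j : Ix n} (h : Dj i j) (u : F) : V.w2 h u ∈ V.V j := by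
  have := V.weyl i _ (V.wl_mem i u) ⟨tr j i, tr_mem h.symm⟩
  change _ ∈ V.V (tr j i i) at this
  rw [tr_i h] at this
  have e := N_inv R h
  rw [Frame.N] at e
  rw [e] at this
  exact this

theorem DL.w2_t {i j : Ix n} (h : Dj i j) (u : F) : R.t * V.w2 h u * R.t = V.w2 h u * R.y j u := by
  have c := N_t R h
  have n2 : ∀ g, R.N h * (R.N h * g) = g := fun g => by rw [← mul_assoc, NN R h, one_mul]
  have e := N_y R h i u
  rw [tr_i h] at e
  have e1 := V.wl_t i u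
  calc R.t * V.w2 h u * R.t = (R.t * R.N h) * V.wl i u * (R.N h * R.t) := by rw [DL.w2]; group
    _ = (R.N h * R.t) * V.wl i u * (R.t * R.N h) := congrArg₂ (fun a b => a * V.wl i u * b) c.eq.symm c.eq
    _ = R.N h * (R.t * V.wl i u * R.t) * R.N h := by group
    _ = (R.N h * V.wl i u * R.N h) * (R.N h * R.y i u * R.N h) := by
        rw [e1]; simp only [mul_assoc, n2]
    _ = _ := by rw [e, DL.w2]

theorem DL.h_w2 {i j : Ix n} (h : Dj i j) (l m : Fˣ) (u : F) :
    R.h (hp i j l m) * V.w2 h u * (R.h (hp i j l m))⁻¹ = V.w2 h (m * m * u) := by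
  have e := N_h R h l m
  have e' : R.N h * (R.h (hp i j l m))⁻¹ = (R.h (hp i j m l))⁻¹ * R.N h := by
    have := N_h R h m l
    rw [mul_inv_eq_iff_eq_mul, mul_assoc, ← this, inv_mul_cancel_left]
  have e2 := V.h_wl i (hp i j m l) u
  rw [ev_hp_i h] at e2
  calc R.h (hp i j l m) * V.w2 h u * (R.h (hp i j l m))⁻¹
      = (R.h (hp i j l m) * R.N h) * V.wl i u * (R.N h * (R.h (hp i j l m))⁻¹) := by rw [DL.w2]; group
    _ = R.N h * (R.h (hp i j m l) * V.wl i u * (R.h (hp i j m l))⁻¹) * R.N h := by rw [e, e']; group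
    _ = _ := by rw [e2, DL.w2]

/-- the constant `ε` -/
theorem DL.exists_eps (h4 : ∀ i j, Dj i j → ∀ g ∈ V.V i, ∀ g' ∈ V.V j, ∃ a, g * g' = g' * g * R.x i j a)
    {i j : Ix n} (h : Dj i j) : ∃ ε : F, ∀ u v,
      V.wl i u * V.w2 h v = V.w2 h v * V.wl i u * R.x i j (ε * rtF F (u * v)) := by
  choose a ha using fun u v => h4 i j h _ (V.wl_mem i u) _ (V.w2_mem h v)
  have tor : ∀ (l m : Fˣ) u v, a (l * l * u) (m * m * v) = l * m * a u v := fun l m u v => by
    have e := congrArg (fun g => R.h (hp i j l m) * g * (R.h (hp i j l m))⁻¹) (ha u v)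
    have c : ∀ x y, R.h (hp i j l m) * (x * y) * (R.h (hp i j l m))⁻¹ =
      (R.h (hp i j l m) * x * (R.h (hp i j l m))⁻¹) * (R.h (hp i j l m) * y * (R.h (hp i j l m))⁻¹) :=
      fun x y => by group
    simp only [c, V.h_wl, V.h_w2, R.h_x, ev_hp_i h, ev_hp_j h] at e
    rw [ha] at e
    exact R.x_inj h (mul_left_cancel e)
  refine ⟨a 1 1, fun u v => ?_⟩
  rw [ha u v]
  congr 2
  by_cases hu : u = 0
  · subst hu
    have e := ha 0 v
    rw [V.wl_zero, one_mul, mul_one] at e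
    rw [R.x_eq_one h (left_eq_mul.mp e)]; simp
  by_cases hv : v = 0
  · subst hv
    have e := ha u 0
    have w0 : V.w2 h 0 = 1 := by rw [DL.w2, V.wl_zero, mul_one, NN]
    rw [w0, one_mul, mul_one] at e
    rw [R.x_eq_one h (left_eq_mul.mp e)]; simp
  have e := tor (Units.mk0 _ (rt_ne F hu)) (Units.mk0 _ (rt_ne F hv)) 1 1
  simp only [Units.val_mk0, mul_one, rt_sq] at e
  rw [e, map_mul]; ring

end frame

end Cfsg.Agent.OddHalf.SpN

end
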