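import Mathlib
import Cfsg.Agent.OddHalf.SpN.Rel
import Cfsg.Agent.OddHalf.SpN.TU
import Cfsg.Agent.LieClassical.SympCount
import Cfsg.Agent.KFacts.Unit.FlagMap

-- merged: Cfsg.Agent.OddHalf.SpN.Deg
section

/-!
# Degrees of the roots and independence of the root groups (helper200)

`Fd : Ix n → ℤ`, `Fd (inl k) = 5 ^ (n - k)`, `Fd (-i) = - Fd i`.
-/

set_option autoImplicit false

namespace Cfsg.Agent.OddHalf.SpN

open Cfsg Cfsg.Agent.ClassicalGeometry.SympBasic Cfsg.Agent.ClassicalGeometry.SympAutSemi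

variable {n : ℕ} {F : Type*} [Field F]

/-- the exponent -/
def ex {n : ℕ} (i : Ix n) : ℕ := n - (Sum.elim id id i : Fin n).val

/-- the generic functional -/
def Fd {n : ℕ} (i : Ix n) : ℤ := Sum.elim (fun _ => (5 : ℤ) ^ ex i) (fun _ => -(5 : ℤ) ^ ex i) i

theorem ex_neg (i : Ix n) : ex (neg i) = ex i := by rcases i with i | i <;> rfl

theorem Fd_neg (i : Ix n) : Fd (neg i) = -Fd i := by
  rcases i with i | i
  · rfl
  · show (5 : ℤ) ^ ex (Sum.inl i) = - -(5 : ℤ) ^ ex (Sum.inr i)
    rw [_root_.neg_neg]; rfl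

theorem Fd_cases (i : Ix n) : Fd i = 5 ^ ex i ∨ Fd i = -5 ^ ex i := by
  rcases i with i | i
  · exact Or.inl rfl
  · exact Or.inr rfl

theorem ex_eq {i j : Ix n} (h : ex i = ex j) : i = j ∨ i = neg j := by
  rcases i with i | i <;> rcases j with j | j
  all_goals
    have hi := i.2
    have hj := j.2
    have h' : n - i.val = n - j.val := h
    have h2 : i = j := Fin.ext (by omega)
    subst h2
  · exact Or.inl rfl
  · exact Or.inr rfl
  · exact Or.inr rfl
  · exact Or.inl rfl

theorem ex_ne {i j : Ix n} (h : Dj i j) : ex i ≠ ex j := fun e => by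
  rcases ex_eq e with h1 | h1
  · exact h.1 h1
  · exact h.2 h1

theorem dvd_Fd {i : Ix n} {m : ℕ} (h : m ≤ ex i) : (5 : ℤ) ^ m ∣ Fd i := by
  rcases Fd_cases i with h1 | h1
  · rw [h1]; exact pow_dvd_pow _ h
  · rw [h1]; exact (pow_dvd_pow _ h).neg_right

theorem not_dvd_Fd (i : Ix n) {c : ℤ} (hc : ¬ (5 : ℤ) ∣ c) : ¬ (5 : ℤ) ^ (ex i + 1) ∣ c * Fd i := by
  intro h
  have h0 : (5 : ℤ) ^ ex i ≠ 0 := pow_ne_zero _ (by norm_num)
  rcases Fd_cases i with h1 | h1
  · rw [h1, pow_succ, mul_comm c] at h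
    exact hc (Int.dvd_of_mul_dvd_mul_left h0 h)
  · rw [h1, pow_succ, mul_neg, dvd_neg, mul_comm c] at h
    exact hc (Int.dvd_of_mul_dvd_mul_left h0 h)

theorem Fd_inj {i j : Ix n} (h : Fd i = Fd j) : i = j := by
  have h1 : ex i = ex j := by
    rcases lt_trichotomy (ex i) (ex j) with h1 | h1 | h1
    · exfalso
      refine not_dvd_Fd i (c := 1) (by norm_num) ?_
      rw [one_mul, h]; exact dvd_Fd h1
    · exact h1
    · exfalso
      refine not_dvd_Fd j (c := 1) (by norm_num) ?_
      rw [one_mul, ← h]; exact dvd_Fd h1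
  rcases ex_eq h1 with h2 | h2
  · exact h2
  · exfalso
    rw [h2, Fd_neg] at h
    have h0 : Fd j = 0 := by linarith
    rcases Fd_cases j with h3 | h3
    · have := pow_ne_zero (ex j) (show (5 : ℤ) ≠ 0 by norm_num)
      exact this (by rw [← h3, h0])
    · have := pow_ne_zero (ex j) (show (5 : ℤ) ≠ 0 by norm_num)
      exact this (by linarith)

theorem Fd_ne_zero (i : Ix n) : Fd i ≠ 0 := by
  intro h0
  have := pow_ne_zero (ex i) (show (5 : ℤ) ≠ 0 by norm_num)
  rcases Fd_cases i with h3 | h3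
  · exact this (by rw [← h3, h0])
  · exact this (by linarith)

theorem Fd_odd (i : Ix n) : Odd (Fd i) := by
  have h : Odd ((5 : ℤ) ^ ex i) := Odd.pow (by decide)
  rcases Fd_cases i with h1 | h1
  · rw [h1]; exact h
  · rw [h1]; exact h.neg

theorem Fd_two_aux {i j k l : Ix n} (hij : ex i < ex j) (hkl : ex k < ex l) (h : Fd i + Fd j = Fd k + Fd l) :
    i = k ∧ j = l := by
  have h1 : ex i = ex k := by
    rcases lt_trichotomy (ex i) (ex k) with h1 | h1 | h1
    · exfalso
      refine not_dvd_Fd i (c := 1) (by norm_num) ?_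
      have : 1 * Fd i = Fd k + Fd l - Fd j := by linarith
      rw [this]
      exact dvd_sub (dvd_add (dvd_Fd h1) (dvd_Fd (by omega))) (dvd_Fd hij)
    · exact h1
    · exfalso
      refine not_dvd_Fd k (c := 1) (by norm_num) ?_
      have : 1 * Fd k = Fd i + Fd j - Fd l := by linarith
      rw [this]
      exact dvd_sub (dvd_add (dvd_Fd h1) (dvd_Fd (by omega))) (dvd_Fd hkl)
  rcases ex_eq h1 with h2 | h2
  · refine ⟨h2, Fd_inj ?_⟩
    rw [h2] at h
    linarith
  · exfalso
    rw [h2, Fd_neg] at h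
    refine not_dvd_Fd k (c := 2) (by norm_num) ?_
    have : 2 * Fd k = Fd j - Fd l := by linarith
    rw [this]
    exact dvd_sub (dvd_Fd (by omega)) (dvd_Fd hkl)

theorem Fd_two {i j k l : Ix n} (hij : Dj i j) (hkl : Dj k l) (h : Fd i + Fd j = Fd k + Fd l) :
    (i = k ∧ j = l) ∨ (i = l ∧ j = k) := by
  rcases lt_or_gt_of_ne (ex_ne hij) with h1 | h1 <;> rcases lt_or_gt_of_ne (ex_ne hkl) with h2 | h2
  · exact Or.inl (Fd_two_aux h1 h2 h)
  · exact Or.inr (Fd_two_aux h1 h2 (by rw [h, add_comm]))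
  · have := Fd_two_aux h1 h2 (by rw [add_comm, h])
    exact Or.inr ⟨this.2, this.1⟩
  · have := Fd_two_aux h1 h2 (by rw [add_comm, h, add_comm])
    exact Or.inl ⟨this.2, this.1⟩

theorem Fd_ne_two {i k l : Ix n} : Fd i ≠ Fd k + Fd l := by
  intro h
  have h1 := (Fd_odd k).add_odd (Fd_odd l)
  rw [← h] at h1
  exact (Int.not_even_iff_odd.2 (Fd_odd i)) h1

theorem two_Fd_ne {i k l : Ix n} (hkl : Dj k l) : Fd i + Fd i ≠ Fd k + Fd l := by
  have main : ∀ k l : Ix n, ex k < ex l → Fd i + Fd i ≠ Fd k + Fd l := by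
    intro k l hkl h
    rcases lt_trichotomy (ex i) (ex k) with h1 | h1 | h1
    · refine not_dvd_Fd i (c := 2) (by norm_num) ?_
      rw [two_mul, h]
      exact dvd_add (dvd_Fd h1) (dvd_Fd (by omega))
    · rcases ex_eq h1 with h2 | h2
      · rw [h2] at h
        have : Fd k = Fd l := by linarith
        exact absurd (congrArg ex (Fd_inj this)) (by omega)
      · rw [h2, Fd_neg] at h
        refine not_dvd_Fd k (c := 3) (by norm_num) ?_
        have : 3 * Fd k = -Fd l := by linarith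
        rw [this]
        exact (dvd_Fd hkl).neg_right
    · refine not_dvd_Fd k (c := 1) (by norm_num) ?_
      have : 1 * Fd k = Fd i + Fd i - Fd l := by linarith
      rw [this]
      exact dvd_sub (dvd_add (dvd_Fd h1) (dvd_Fd h1)) (dvd_Fd hkl)
  rcases lt_or_gt_of_ne (ex_ne hkl) with h2 | h2
  · exact main k l h2
  · rw [add_comm (Fd k)]; exact main l k h2

/-! ### Unipotent filtration -/

section unip

variable (dg : Ix n → Ix n → ℤ)

/-- axioms of a degree function on the entries: the entry `(p, l)`, `p ≠ l`, has degree `dg p (-l)` -/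
structure DegOk : Prop where
  mul : ∀ p k l, p ≠ k → k ≠ l → p ≠ l → ∀ d, 0 < d → d ≤ dg p (neg k) → d ≤ dg k (neg l) → d ≤ dg p (neg l)
  anti : ∀ p k, p ≠ k → 0 < dg p (neg k) → ¬ 0 < dg k (neg p)

/-- the matrices `1 + (entries of degree ≥ d)` -/
def IsU (d : ℤ) (A : Sy n F) : Prop :=
  ∀ p l, (p = l → rho n F A (be n F l) p = 1) ∧ (p ≠ l → rho n F A (be n F l) p ≠ 0 → d ≤ dg p (neg l))

theorem rho_be_sum (A : Sy n F) (v : Ix n → F) (p : Ix n) :
    rho n F A v p = ∑ k, v k * rho n F A (be n F k) p := by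
  have hs : IsSemi (rho n F A) (RingEquiv.refl F) 1 := isSemi_rho A
  let T : (Ix n → F) →ₗ[F] (Ix n → F) :=
    { toFun := rho n F A
      map_add' := hs.1
      map_smul' := fun a v => hs.2.1 a v }
  have h1 : T v = ∑ k, v k • T (Pi.single k 1) := by
    have hv : v = ∑ k, v k • (Pi.single k 1 : Ix n → F) := by
      ext m
      simp [Finset.sum_apply, Pi.single_apply]
    conv_lhs => rw [hv]
    rw [map_sum]
    exact Finset.sum_congr rfl fun k _ => map_smul T _ _
  have h2 := congrFun h1 p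
  rw [Finset.sum_apply] at h2
  exact h2

theorem IsU.mul {dg : Ix n → Ix n → ℤ} (hdg : DegOk dg) {d : ℤ} (hd : 0 < d) {A B : Sy n F} (hA : IsU dg d A)
    (hB : IsU dg d B) : IsU dg d (A * B) := by
  intro p l
  rw [map_mul, Equiv.Perm.mul_apply, rho_be_sum]
  constructor
  · rintro rfl
    rw [Finset.sum_eq_single p]
    · rw [(hB p p).1 rfl, (hA p p).1 rfl, mul_one]
    · intro k _ hk
      by_contra h0
      have h1 := left_ne_zero_of_mul h0
      have h2 := right_ne_zero_of_mul h0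
      have h3 := (hB k p).2 hk h1
      have h4 := (hA p k).2 (Ne.symm hk) h2
      exact hdg.anti p k (Ne.symm hk) (by omega) (by omega)
    · intro h; exact absurd (Finset.mem_univ p) h
  · intro hpl hne
    obtain ⟨k, -, hk⟩ := Finset.exists_ne_zero_of_sum_ne_zero hne
    have h1 := left_ne_zero_of_mul hk
    have h2 := right_ne_zero_of_mul hk
    by_cases hkl : k = l
    · subst hkl; exact (hA p k).2 hpl h2
    by_cases hpk : p = k
    · subst hpk; exact (hB p l).2 hpl h1
    exact hdg.mul p k l hpk hkl hpl d hd ((hA p k).2 hpk h2) ((hB k l).2 hkl h1)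

theorem isU_one (d : ℤ) : IsU dg d (1 : Sy n F) := by
  intro p l
  rw [map_one, Equiv.Perm.one_apply, be_apply]
  constructor
  · intro h; rw [if_pos h]
  · intro h h'; rw [if_neg h] at h'; exact absurd rfl h'

/-- the group -/
def Ud {dg : Ix n → Ix n → ℤ} (hdg : DegOk dg) (d : ℤ) (hd : 0 < d) : Subgroup (Sy n F) where
  carrier := {A | IsU dg d A ∧ IsU dg d A⁻¹}
  one_mem' := ⟨isU_one dg d, by rw [inv_one]; exact isU_one dg d⟩
  mul_mem' := fun {A B} hA hB => ⟨hA.1.mul hdg hd hB.1, by rw [mul_inv_rev]; exact hB.2.mul hdg hd hA.2⟩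
  inv_mem' := fun {A} hA => ⟨hA.2, by rw [inv_inv]; exact hA.1⟩

theorem mem_Ud {dg : Ix n → Ix n → ℤ} (hdg : DegOk dg) {d : ℤ} (hd : 0 < d) {A : Sy n F} (h : IsU dg d A)
    (h2 : A * A = 1) : A ∈ Ud hdg d hd := ⟨h, by rw [inv_eq_of_mul_eq_one_left h2]; exact h⟩

variable [CharP F 2]

theorem sx_mem_Ud {dg : Ix n → Ix n → ℤ} (hdg : DegOk dg) (hs : ∀ i j, dg i j = dg j i) {d : ℤ} (hd : 0 < d)
    {i j : Ix n} (hij : Dj i j) (h : d ≤ dg i j) (a : F) : sx i j a ∈ Ud hdg d hd := by
  refine mem_Ud hdg hd ?_ (sx_sq i j a)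
  intro p l
  rw [rho_sx hij]
  simp only [Pi.add_apply, Pi.smul_apply, smul_eq_mul, be_apply]
  constructor
  · rintro rfl
    rw [if_pos rfl]
    have h1 : (if neg j = p then (1 : F) else 0) * (if p = i then 1 else 0) = 0 := by
      by_cases h1 : p = i
      · subst h1
        rw [if_neg (fun e => hij.2 e.symm), zero_mul]
      · rw [if_neg h1, mul_zero]
    have h2 : (if neg i = p then (1 : F) else 0) * (if p = j then 1 else 0) = 0 := by
      by_cases h1 : p = j
      · subst h1
        rw [if_neg (fun e => hij.2 (by rw [← e, neg_neg])), zero_mul]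
      · rw [if_neg h1, mul_zero]
    rw [mul_assoc, h1, mul_assoc, h2, mul_zero, add_zero, add_zero]
  · intro hpl hne
    rw [if_neg hpl, zero_add] at hne
    by_cases h1 : neg j = l ∧ p = i
    · rw [← h1.1, neg_neg, h1.2]; exact h
    · by_cases h2 : neg i = l ∧ p = j
      · rw [← h2.1, neg_neg, h2.2, hs]; exact h
      · exfalso
        apply hne
        have e1 : a * (if neg j = l then (1 : F) else 0) * (if p = i then 1 else 0) = 0 := by
          by_cases h3 : neg j = l
          · have : p ≠ i := fun e => h1 ⟨h3, e⟩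
            rw [if_neg this, mul_zero]
          · rw [if_neg h3, mul_zero, zero_mul]
        have e2 : a * (if neg i = l then (1 : F) else 0) * (if p = j then 1 else 0) = 0 := by
          by_cases h3 : neg i = l
          · have : p ≠ j := fun e => h2 ⟨h3, e⟩
            rw [if_neg this, mul_zero]
          · rw [if_neg h3, mul_zero, zero_mul]
        rw [e1, e2, add_zero]

theorem sy_mem_Ud {dg : Ix n → Ix n → ℤ} (hdg : DegOk dg) {d : ℤ} (hd : 0 < d) {i : Ix n} (h : d ≤ dg i i) (a : F) :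
    sy i a ∈ Ud hdg d hd := by
  refine mem_Ud hdg hd ?_ (sy_sq i a)
  intro p l
  rw [rho_sy]
  simp only [Pi.add_apply, Pi.smul_apply, smul_eq_mul, be_apply]
  constructor
  · rintro rfl
    rw [if_pos rfl]
    by_cases h1 : p = i
    · subst h1
      rw [if_neg (neg_ne p), mul_zero, zero_mul, add_zero]
    · rw [if_neg h1, mul_zero, add_zero]
  · intro hpl hne
    rw [if_neg hpl, zero_add] at hne
    by_cases h1 : neg i = l ∧ p = i
    · rw [← h1.1, neg_neg, h1.2]; exact h
    · exfalso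
      apply hne
      by_cases h3 : neg i = l
      · have : p ≠ i := fun e => h1 ⟨h3, e⟩
        rw [if_neg this, mul_zero]
      · rw [if_neg h3, mul_zero, zero_mul]

theorem sx_eq_zero {dg : Ix n → Ix n → ℤ} (hdg : DegOk dg) {d : ℤ} (hd : 0 < d) {i j : Ix n} (hij : Dj i j)
    (h : dg i j < d) {a : F} (ha : sx i j a ∈ Ud hdg d hd) : a = 0 := by
  by_contra h0
  have h1 : i ≠ neg j := hij.2
  have := (ha.1 i (neg j)).2 h1 (by
    rw [rho_sx hij]
    have h2 : neg i ≠ neg j := fun e => hij.1 (neg_inj.1 e)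
    simp only [Pi.add_apply, Pi.smul_apply, smul_eq_mul, be_apply, if_true, if_neg h1, if_neg h2, mul_one, zero_add,
      mul_zero, zero_mul, add_zero]
    exact h0)
  rw [neg_neg] at this
  omega

theorem sy_eq_zero {dg : Ix n → Ix n → ℤ} (hdg : DegOk dg) {d : ℤ} (hd : 0 < d) {i : Ix n}
    (h : dg i i < d) {a : F} (ha : sy i a ∈ Ud hdg d hd) : a = 0 := by
  by_contra h0
  have := (ha.1 i (neg i)).2 (ne_neg i) (by
    rw [rho_sy]
    simp only [Pi.add_apply, Pi.smul_apply, smul_eq_mul, be_apply, if_true, if_neg (ne_neg i), mul_one, zero_add]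
    exact h0)
  rw [neg_neg] at this
  omega

end unip

/-! ### The two degree functions -/

/-- `C_n`: `2 e_i` has degree `2 F_i` -/
def dgC (i j : Ix n) : ℤ := Fd i + Fd j

/-- `B_n`: `2 e_i` has degree `F_i` -/
def dgB (i j : Ix n) : ℤ := if i = j then Fd i else Fd i + Fd j

theorem dgC_symm (i j : Ix n) : dgC i j = dgC j i := add_comm _ _

theorem dgB_symm (i j : Ix n) : dgB i j = dgB j i := by
  unfold dgB
  by_cases h : i = j
  · subst h; rfl
  · rw [if_neg h, if_neg (Ne.symm h), add_comm]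

theorem dgC_ok : DegOk (dgC (n := n)) := by
  constructor
  · intro p k l _ _ _ d hd h1 h2
    unfold dgC at h1 h2 ⊢
    rw [Fd_neg] at h1 h2 ⊢
    linarith
  · intro p k _ h1 h2
    unfold dgC at h1 h2
    rw [Fd_neg] at h1 h2
    linarith

theorem dgB_ok : DegOk (dgB (n := n)) := by
  constructor
  · intro p k l hpk hkl hpl d hd h1 h2
    unfold dgB at *
    by_cases e1 : p = neg k
    · rw [if_pos e1] at h1
      have e2 : Fd k = -Fd p := by rw [e1, Fd_neg, _root_.neg_neg]
      by_cases e3 : k = neg l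
      · exfalso
        apply hpl
        rw [e1, e3, neg_neg]
      · rw [if_neg e3, Fd_neg] at h2
        split_ifs with e4
        · linarith
        · rw [Fd_neg]; linarith
    · rw [if_neg e1, Fd_neg] at h1
      by_cases e3 : k = neg l
      · rw [if_pos e3] at h2
        have e2 : Fd l = -Fd k := by rw [e3, Fd_neg, _root_.neg_neg]
        split_ifs with e4
        · linarith
        · rw [Fd_neg]; linarith
      · rw [if_neg e3, Fd_neg] at h2
        split_ifs with e4
        · have : Fd l = -Fd p := by rw [e4, Fd_neg, _root_.neg_neg]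
          linarith
        · rw [Fd_neg]; linarith
  · intro p k hpk h1 h2
    unfold dgB at *
    by_cases e1 : p = neg k
    · rw [if_pos e1] at h1
      have e2 : k = neg p := by rw [e1, neg_neg]
      rw [if_pos e2] at h2
      rw [e1, Fd_neg] at h1
      linarith
    · have e2 : k ≠ neg p := fun e => e1 (by rw [e, neg_neg])
      rw [if_neg e1, Fd_neg] at h1
      rw [if_neg e2, Fd_neg] at h2
      linarith

end Cfsg.Agent.OddHalf.SpN

end

-- merged: Cfsg.Agent.OddHalf.SpN.SylU
section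

/-!
# ODD D7, `K = Sp_2n(q)`, `q` even: the positive root groups generate a Sylow 2-subgroup (helper583)

`Upos n F` = the subgroup of `Sy n F` generated by the root groups `sx i j` (`0 < Fd i + Fd j`), `sy i` (`0 < Fd i`).
`odd_index_Upos`: its index is odd.
-/

set_option autoImplicit false

namespace Cfsg.Agent.OddHalf.SpN

open Cfsg Cfsg.Agent.ClassicalGeometry.SympBasic Cfsg.Agent.ClassicalGeometry.SympAutSemi Cfsg.Agent.OddHalf.SpN.TU

section defs

variable (n : ℕ) (F : Type*) [Field F]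

/-- The group generated by the positive root groups. -/
def Upos : Subgroup (Sy n F) := Subgroup.closure
  {A | (∃ i j : Ix n, Dj i j ∧ 0 < Fd i + Fd j ∧ ∃ a, A = sx i j a) ∨ (∃ i : Ix n, 0 < Fd i ∧ ∃ a, A = sy i a)}

end defs

variable {n : ℕ} {F : Type*} [Field F]

theorem sx_mem_Upos {i j : Ix n} (hij : Dj i j) (h : 0 < Fd i + Fd j) (a : F) : sx i j a ∈ Upos n F :=
  Subgroup.subset_closure (Or.inl ⟨i, j, hij, h, a, rfl⟩)

theorem sy_mem_Upos {i : Ix n} (h : 0 < Fd i) (a : F) : sy i a ∈ Upos n F :=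
  Subgroup.subset_closure (Or.inr ⟨i, h, a, rfl⟩)

theorem dgC_mono {d e : ℤ} (hd : 0 < d) (he : 0 < e) (h : d ≤ e) :
    Ud (F := F) (dgC_ok (n := n)) e he ≤ Ud dgC_ok d hd := by
  rintro A ⟨h1, h2⟩
  refine ⟨fun p l => ⟨(h1 p l).1, fun h3 h4 => h.trans ((h1 p l).2 h3 h4)⟩,
    fun p l => ⟨(h2 p l).1, fun h3 h4 => h.trans ((h2 p l).2 h3 h4)⟩⟩

section chartwo

variable [CharP F 2]

theorem Upos_le : Upos n F ≤ Ud dgC_ok 1 one_pos := by
  rw [Upos, Subgroup.closure_le]
  rintro A (⟨i, j, hij, h, a, rfl⟩ | ⟨i, h, a, rfl⟩)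
  · exact sx_mem_Ud dgC_ok dgC_symm one_pos hij h a
  · exact sy_mem_Ud dgC_ok one_pos (by unfold dgC; omega) a

/-- Squares double the degree. -/
theorem isU_sq {d : ℤ} (hd : 0 < d) {A : Sy n F} (hA : IsU dgC d A) : IsU dgC (2 * d) (A * A) := by
  intro p l
  have h0 := hA.mul dgC_ok hd hA p l
  refine ⟨h0.1, fun hpl hne => ?_⟩
  by_contra hcon
  apply hne
  rw [map_mul, Equiv.Perm.mul_apply, rho_be_sum, Finset.sum_eq_add p l hpl]
  · rw [(hA p p).1 rfl, (hA l l).1 rfl, mul_one, one_mul, CharTwo.add_self_eq_zero]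
  · rintro k - ⟨hkp, hkl⟩
    by_contra h1
    have h2 := (hA k l).2 hkl (left_ne_zero_of_mul h1)
    have h3 := (hA p k).2 (Ne.symm hkp) (right_ne_zero_of_mul h1)
    apply hcon
    unfold dgC at h2 h3 ⊢
    rw [Fd_neg] at h2 h3 ⊢
    linarith
  · intro h; exact absurd (Finset.mem_univ p) h
  · intro h; exact absurd (Finset.mem_univ l) h

theorem sq_mem_Ud {d : ℤ} (hd : 0 < d) {A : Sy n F} (hA : A ∈ Ud dgC_ok d hd) :
    A * A ∈ Ud dgC_ok (2 * d) (by omega) :=
  ⟨isU_sq hd hA.1, by rw [mul_inv_rev]; exact isU_sq hd hA.2⟩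

omit [CharP F 2] in
theorem Fd_le (i : Ix n) : Fd i ≤ 5 ^ n := by
  have h1 : (5 : ℤ) ^ ex i ≤ 5 ^ n := pow_le_pow_right₀ (by norm_num) (Nat.sub_le _ _)
  have h2 : (0 : ℤ) < 5 ^ ex i := by positivity
  rcases Fd_cases i with h | h <;> rw [h] <;> linarith

omit [CharP F 2] in
theorem eq_one_of_Ud {d : ℤ} (hd : 0 < d) (h : 2 * 5 ^ n < d) {A : Sy n F} (hA : A ∈ Ud dgC_ok d hd) : A = 1 := by
  apply rho_injective
  ext v p
  rw [map_one, Equiv.Perm.one_apply, rho_be_sum, Finset.sum_eq_single p]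
  · rw [(hA.1 p p).1 rfl, mul_one]
  · intro k _ hk
    by_contra h0
    have h1 := (hA.1 p k).2 (Ne.symm hk) (right_ne_zero_of_mul h0)
    have h2 := Fd_le p
    have h3 := Fd_le (neg k)
    unfold dgC at h1
    linarith
  · intro h; exact absurd (Finset.mem_univ p) h

theorem pow_mem_Ud {A : Sy n F} (hA : A ∈ Ud dgC_ok 1 one_pos) (k : ℕ) :
    A ^ 2 ^ k ∈ Ud dgC_ok (2 ^ k) (by positivity) := by
  induction k with
  | zero => simpa using hA
  | succ k ih =>
    have h1 := sq_mem_Ud _ ih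
    rw [← pow_two, ← pow_mul, ← pow_succ] at h1
    have h2 : (2 : ℤ) * 2 ^ k = 2 ^ (k + 1) := by ring
    simp only [h2] at h1
    exact h1

theorem isPGroup_Ud : IsPGroup 2 (Ud (F := F) (dgC_ok (n := n)) 1 one_pos) := by
  intro A
  refine ⟨2 * 5 ^ n, ?_⟩
  have h1 : (2 * 5 ^ n : ℤ) < 2 ^ (2 * 5 ^ n : ℕ) := by exact_mod_cast Nat.lt_two_pow_self
  exact Subtype.ext (eq_one_of_Ud _ h1 (pow_mem_Ud A.2 _))

theorem isPGroup_Upos : IsPGroup 2 (Upos n F) := isPGroup_Ud.to_le Upos_le

/-! ### The positive roots are indexed by `Fin n × Fin n` -/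

/-- the root of a pair -/
def rt (p : Fin n × Fin n) : Ix n × Ix n :=
  if p.1 = p.2 then (Sum.inl p.1, Sum.inl p.1) else if p.1 < p.2 then (Sum.inl p.1, Sum.inl p.2)
  else (Sum.inl p.2, Sum.inr p.1)

/-- the degree -/
def dP (p : Fin n × Fin n) : ℤ := Fd (rt p).1 + Fd (rt p).2

/-- the root element -/
noncomputable def el (F : Type*) [Field F] (p : Fin n × Fin n) (a : F) : Sy n F :=
  if p.1 = p.2 then sy (Sum.inl p.1) a else sx (rt p).1 (rt p).2 a

omit [CharP F 2] in
theorem rt_dj {p : Fin n × Fin n} (h : p.1 ≠ p.2) : Dj (rt p).1 (rt p).2 := by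
  unfold rt
  rw [if_neg h]
  split_ifs with h1
  · exact ⟨fun e => h (Sum.inl.inj e), fun e => by simp at e⟩
  · exact ⟨fun e => by simp at e, fun e => h (Sum.inl.inj (show (Sum.inl p.1 : Ix n) = Sum.inl p.2 from e.symm))⟩

omit [CharP F 2] in
theorem Fd_inl_pos (i : Fin n) : 0 < Fd (Sum.inl i : Ix n) := by
  change (0 : ℤ) < 5 ^ ex (Sum.inl i)
  positivity

omit [CharP F 2] in
theorem Fd_inl_lt {i j : Fin n} (h : i < j) : Fd (Sum.inl j : Ix n) < Fd (Sum.inl i : Ix n) := by
  change (5 : ℤ) ^ ex (Sum.inl j) < 5 ^ ex (Sum.inl i)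
  apply pow_lt_pow_right₀ (by norm_num)
  change n - j.val < n - i.val
  have := i.2
  have := j.2
  have h' : i.val < j.val := h
  omega

omit [CharP F 2] in
theorem dP_pos (p : Fin n × Fin n) : 0 < dP p := by
  unfold dP rt
  split_ifs with h1 h2
  · have := Fd_inl_pos p.1
    linarith
  · have := Fd_inl_pos p.1
    have := Fd_inl_pos p.2
    linarith
  · have h3 : p.2 < p.1 := lt_of_le_of_ne (not_lt.mp h2) (Ne.symm h1)
    have h4 := Fd_inl_lt h3
    have h5 : Fd (Sum.inr p.1 : Ix n) = - Fd (Sum.inl p.1 : Ix n) := Fd_neg (Sum.inl p.1)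
    simp only [h5]
    linarith

omit [CharP F 2] in
theorem dP_inj {p r : Fin n × Fin n} (h : dP p = dP r) : p = r := by
  obtain ⟨i, j⟩ := p
  obtain ⟨k, l⟩ := r
  unfold dP at h
  by_cases h1 : i = j
  · subst h1
    by_cases h2 : k = l
    · subst h2
      simp only [rt, if_true] at h
      have h3 : Fd (Sum.inl i : Ix n) = Fd (Sum.inl k : Ix n) := by linarith
      rw [Sum.inl.inj (Fd_inj h3)]
    · exfalso
      have h3 := rt_dj (p := (k, l)) h2
      simp only [rt, if_true] at h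
      exact two_Fd_ne h3 h
  · have h3 := rt_dj (p := (i, j)) h1
    by_cases h2 : k = l
    · subst h2
      exfalso
      have h4 : (rt (k, k) : Ix n × Ix n) = (Sum.inl k, Sum.inl k) := by simp [rt]
      rw [h4] at h
      exact two_Fd_ne h3 h.symm
    · have h4 := rt_dj (p := (k, l)) h2
      have h5 := Fd_two h3 h4 h
      unfold rt at h5
      simp only [if_neg h1, if_neg h2] at h5
      by_cases h6 : i < j <;> by_cases h7 : k < l
      · simp only [if_pos h6, if_pos h7, Sum.inl.injEq] at h5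
        rcases h5 with ⟨rfl, rfl⟩ | ⟨rfl, rfl⟩
        · rfl
        · exact absurd h6 (lt_asymm h7)
      · simp [if_pos h6, if_neg h7] at h5
      · simp [if_neg h6, if_pos h7] at h5
      · simp only [if_neg h6, if_neg h7, Sum.inl.injEq, Sum.inr.injEq, reduceCtorEq, false_and, or_false] at h5
        rw [h5.1, h5.2]

theorem el_mem_Upos (p : Fin n × Fin n) (a : F) : el F p a ∈ Upos n F := by
  unfold el
  split_ifs with h
  · exact sy_mem_Upos (Fd_inl_pos _) a
  · exact sx_mem_Upos (rt_dj h) (dP_pos p) a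

theorem el_mem_Ud {d : ℤ} (hd : 0 < d) {p : Fin n × Fin n} (h : d ≤ dP p) (a : F) :
    el F p a ∈ Ud dgC_ok d hd := by
  unfold el
  split_ifs with h1
  · refine sy_mem_Ud dgC_ok hd ?_ a
    unfold dP rt at h
    rw [if_pos h1] at h
    exact h
  · exact sx_mem_Ud dgC_ok dgC_symm hd (rt_dj h1) h a

theorem el_add (p : Fin n × Fin n) (a b : F) : el F p (a + b) = el F p a * el F p b := by
  unfold el
  split_ifs with h1
  · exact sy_add _ a b
  · exact sx_add _ _ a b

theorem el_inv (p : Fin n × Fin n) (a : F) : (el F p a)⁻¹ = el F p a := by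
  apply inv_eq_of_mul_eq_one_left
  unfold el
  split_ifs with h1
  · exact sy_sq _ a
  · exact sx_sq _ _ a

theorem el_eq_zero {d : ℤ} (hd : 0 < d) {p : Fin n × Fin n} (h : dP p < d) {a : F}
    (ha : el F p a ∈ Ud dgC_ok d hd) : a = 0 := by
  unfold el at ha
  split_ifs at ha with h1
  · refine sy_eq_zero dgC_ok hd ?_ ha
    unfold dP rt at h
    rw [if_pos h1] at h
    exact h
  · exact sx_eq_zero dgC_ok hd (rt_dj h1) h ha

/-- the filtration of `Upos` -/
def Nd (n : ℕ) (F : Type*) [Field F] (d : ℤ) (hd : 0 < d) : Subgroup (Sy n F) := Upos n F ⊓ Ud dgC_ok d hd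

variable [Finite F]

theorem card_Nd_ge (k : ℕ) : ∀ (d : ℤ) (hd : 0 < d), 2 * 5 ^ n + 1 - d ≤ k →
    Nat.card F ^ (Finset.univ.filter fun p : Fin n × Fin n => d ≤ dP p).card ≤ Nat.card (Nd n F d hd) := by
  induction k with
  | zero =>
    intro d hd h
    have h1 : (Finset.univ.filter fun p : Fin n × Fin n => d ≤ dP p) = ∅ := by
      rw [Finset.filter_eq_empty_iff]
      intro p _ h2
      have h3 := Fd_le (rt p).1
      have h4 := Fd_le (rt p).2
      unfold dP at h2
      push_cast at h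
      linarith
    rw [h1, Finset.card_empty, pow_zero]
    exact Nat.card_pos
  | succ k ih =>
    intro d hd h
    have hd' : 0 < d + 1 := by omega
    have h1 := ih (d + 1) hd' (by push_cast at h ⊢; linarith)
    have hle : Nd n F (d + 1) hd' ≤ Nd n F d hd := inf_le_inf_left _ (dgC_mono hd hd' (by omega))
    by_cases hp : ∃ p : Fin n × Fin n, dP p = d
    · obtain ⟨p, hp⟩ := hp
      have h2 : (Finset.univ.filter fun r : Fin n × Fin n => d ≤ dP r) =
          insert p (Finset.univ.filter fun r : Fin n × Fin n => d + 1 ≤ dP r) := by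
        ext r
        simp only [Finset.mem_filter, Finset.mem_univ, true_and, Finset.mem_insert]
        constructor
        · intro h3
          rcases h3.lt_or_eq with h4 | h4
          · right; omega
          · left; exact dP_inj (by rw [hp, ← h4])
        · rintro (rfl | h3)
          · omega
          · omega
      have h3 : p ∉ Finset.univ.filter fun r : Fin n × Fin n => d + 1 ≤ dP r := by
        simp only [Finset.mem_filter, Finset.mem_univ, true_and]
        omega
      rw [h2, Finset.card_insert_of_notMem h3, pow_succ]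
      refine (Nat.mul_le_mul_right _ h1).trans ?_
      rw [← Nat.card_prod]
      refine Nat.card_le_card_of_injective
        (fun x : Nd n F (d + 1) hd' × F => (⟨el F p x.2 * x.1, mul_mem
          ⟨el_mem_Upos p x.2, el_mem_Ud hd hp.ge x.2⟩ (hle x.1.2)⟩ : Nd n F d hd)) ?_
      rintro ⟨x, a⟩ ⟨y, b⟩ hxy
      have h4 : el F p a * (x : Sy n F) = el F p b * (y : Sy n F) := congrArg Subtype.val hxy
      have h5 : el F p (b + a) = (y : Sy n F) * (x : Sy n F)⁻¹ := by
        calc el F p (b + a) = (el F p b)⁻¹ * el F p a := by rw [el_add, el_inv]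
          _ = (el F p b)⁻¹ * (el F p a * (x : Sy n F)) * (x : Sy n F)⁻¹ := by group
          _ = (y : Sy n F) * (x : Sy n F)⁻¹ := by rw [h4, inv_mul_cancel_left]
      have h6 : b + a = 0 := by
        refine el_eq_zero hd' (by omega) (F := F) (p := p) ?_
        rw [h5]
        exact (mul_mem y.2 (inv_mem x.2)).2
      have h7 : b = a := CharTwo.add_eq_zero.mp h6
      subst h7
      have h8 : (x : Sy n F) = y := mul_left_cancel h4
      rw [Subtype.ext h8]
    · have h2 : (Finset.univ.filter fun r : Fin n × Fin n => d ≤ dP r) =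
          (Finset.univ.filter fun r : Fin n × Fin n => d + 1 ≤ dP r) := by
        ext r
        simp only [Finset.mem_filter, Finset.mem_univ, true_and]
        constructor
        · intro h3
          rcases h3.lt_or_eq with h4 | h4
          · omega
          · exact absurd ⟨r, h4.symm⟩ hp
        · intro h3; omega
      rw [h2]
      exact h1.trans (Nat.card_le_card_of_injective _ (Subgroup.inclusion_injective hle))

theorem card_Upos_ge : Nat.card F ^ (n ^ 2) ≤ Nat.card (Upos n F) := by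
  have h1 := card_Nd_ge (F := F) (n := n) (2 * 5 ^ n) 1 one_pos (by push_cast; linarith)
  have h2 : (Finset.univ.filter fun p : Fin n × Fin n => 1 ≤ dP p) = Finset.univ := by
    rw [Finset.filter_eq_self]
    intro p _
    have := dP_pos p
    omega
  rw [h2, Finset.card_univ, Fintype.card_prod, Fintype.card_fin, ← pow_two] at h1
  exact h1.trans (Nat.card_le_card_of_injective _
    (Subgroup.inclusion_injective (inf_le_left : Nd n F 1 one_pos ≤ Upos n F)))

/-- **The positive root groups generate a Sylow 2-subgroup.** -/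
theorem odd_index_Upos : Odd (Upos n F).index := by
  classical
  have := Fintype.ofFinite F
  have hcard := Cfsg.Agent.LieClassical.SympCount.card_symplecticGroup (F := F) n
  have hF : 2 ∣ Fintype.card F := by
    obtain ⟨k, hk, h⟩ := FiniteField.card F 2
    rw [h]
    exact dvd_pow_self 2 k.ne_zero
  obtain ⟨a, ha⟩ := (IsPGroup.iff_card.mp (isPGroup_Upos (n := n) (F := F)))
  have h1 := (Upos n F).card_mul_index
  have hO : Odd (∏ i ∈ Finset.range n, (Fintype.card F ^ (2 * (i + 1)) - 1)) := by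
    refine Finset.prod_induction _ Odd (fun _ _ => Odd.mul) odd_one ?_
    intro i _
    have h2 : 2 ∣ Fintype.card F ^ (2 * (i + 1)) := hF.trans (dvd_pow_self _ (by omega))
    have h3 : 0 < Fintype.card F ^ (2 * (i + 1)) := pow_pos Fintype.card_pos _
    rw [Nat.odd_iff]
    omega
  rw [← Nat.not_even_iff_odd]
  intro h2
  obtain ⟨c, hc⟩ := h2
  have h3 : 2 ^ (a + 1) ∣ Fintype.card F ^ n ^ 2 := by
    apply Nat.Coprime.dvd_of_dvd_mul_right (k := 2 ^ (a + 1)) (n := ∏ i ∈ Finset.range n, (Fintype.card F ^ (2 * (i + 1)) - 1))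
    · exact Nat.Coprime.pow_left _ (Nat.coprime_two_left.mpr hO)
    · rw [← hcard, ← h1, ha, hc]
      exact ⟨c, by ring⟩
  have h4 := Nat.le_of_dvd (pow_pos Fintype.card_pos _) h3
  have h5 := card_Upos_ge (F := F) (n := n)
  rw [ha, Nat.card_eq_fintype_card] at h5
  have h6 : 2 ^ a < 2 ^ (a + 1) := Nat.pow_lt_pow_right (by norm_num) (by omega)
  omega

/-! ### `Upos = Uu` -/

omit [Finite F] in
theorem pos_lt_of_Fd {i j : Ix n} (hij : i ≠ neg j) (h : 0 < Fd i + Fd j) : pos i < pos (neg j) := by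
  have h1 : Fd (neg j) < Fd i := by rw [Fd_neg]; linarith
  have key : ∀ {k l : Ix n}, Fd l < Fd k → k ≠ l → pos k < pos l := by
    intro k l h hkl
    rcases k with k | k <;> rcases l with l | l
    · have h2 : k < l := by
        by_contra h3
        rcases (not_lt.mp h3).lt_or_eq with h4 | h4
        · have := Fd_inl_lt h4; linarith
        · rw [h4] at hkl; exact hkl rfl
      rw [pos_inl, pos_inl]; exact h2
    · have := k.2
      have := l.2
      rw [pos_inl, pos_inr]; omega
    · exfalso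
      have h2 := Fd_inl_pos l
      have h3 := Fd_inl_pos k
      have h4 : Fd (Sum.inr k : Ix n) = - Fd (Sum.inl k : Ix n) := Fd_neg (Sum.inl k)
      rw [h4] at h
      linarith
    · have e1 : Fd (Sum.inr k : Ix n) = - Fd (Sum.inl k : Ix n) := Fd_neg (Sum.inl k)
      have e2 : Fd (Sum.inr l : Ix n) = - Fd (Sum.inl l : Ix n) := Fd_neg (Sum.inl l)
      rw [e1, e2] at h
      have h2 : l < k := by
        by_contra h3
        rcases (not_lt.mp h3).lt_or_eq with h4 | h4
        · have := Fd_inl_lt h4; linarith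
        · rw [h4] at hkl; exact hkl rfl
      have h2' : l.val < k.val := h2
      have := k.2
      rw [pos_inr, pos_inr]; omega
  exact key h1 hij

omit [Finite F] in
theorem Upos_le_Uu : Upos n F ≤ Uu n F := by
  rw [Upos, Subgroup.closure_le]
  rintro A (⟨i, j, hij, h, a, rfl⟩ | ⟨i, h, a, rfl⟩)
  · exact sx_mem (pos_lt_of_Fd hij.2 h) a
  · exact sy_mem (pos_lt_of_Fd (ne_neg i) (by linarith)) a

/-- **The two descriptions of `U` agree.** -/
theorem Upos_eq : Upos n F = Uu n F := by
  have : Fact (Nat.Prime 2) := ⟨Nat.prime_two⟩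
  refine le_antisymm Upos_le_Uu ?_
  rw [← Subgroup.relIndex_eq_one]
  have h1 : (Upos n F).relIndex (Uu n F) ∣ (Upos n F).index := Subgroup.relIndex_dvd_index_of_le Upos_le_Uu
  have h2 : Odd ((Upos n F).relIndex (Uu n F)) := odd_index_Upos.of_dvd_nat h1
  have h3 : (Upos n F).relIndex (Uu n F) ∣ Nat.card (Uu n F) := Subgroup.relIndex_dvd_card _ _
  obtain ⟨a, ha⟩ := IsPGroup.iff_card.mp (Uu_isPGroup (n := n) (F := F))
  rw [ha] at h3
  exact Nat.eq_one_of_dvd_coprimes (Nat.Coprime.pow_left a (Nat.coprime_two_left.mpr h2)) h3 dvd_rfl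

theorem odd_index_Uu : Odd (Uu n F).index := by rw [← Upos_eq]; exact odd_index_Upos

omit [CharP F 2] [Finite F] in
theorem relIndex_map_range {G : Type*} [Group G] (ι : Sy n F →* G) (hι : Function.Injective ι)
    (U : Subgroup (Sy n F)) : (U.map ι).relIndex ι.range = U.index := by
  have e1 : (U.map ι).relIndex ι.range = (U.map ι.rangeRestrict).index := by
    rw [Subgroup.relIndex]
    congr 1
    ext x
    rw [Subgroup.mem_subgroupOf]
    constructor
    · rintro ⟨a, ha, hax⟩
      exact ⟨a, ha, Subtype.ext hax⟩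
    · rintro ⟨a, ha, hax⟩
      exact ⟨a, ha, congrArg Subtype.val hax⟩
  rw [e1, Subgroup.index_map_of_bijective ⟨fun a b h => hι (congrArg Subtype.val h), ι.rangeRestrict_surjective⟩]

end chartwo

namespace Frame

variable {n : ℕ} {F : Type*} [Field F] {G : Type*} [Group G] (R : Frame n F G)

/-- The Sylow 2-subgroup of `K`. -/
def Up : Subgroup G := (Upos n F).map R.ι

theorem Up_eq_closure : R.Up = Subgroup.closure
    {g | (∃ i j : Ix n, Dj i j ∧ 0 < Fd i + Fd j ∧ ∃ a, g = R.x i j a) ∨ (∃ i : Ix n, 0 < Fd i ∧ ∃ a, g = R.y i a)} := by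
  rw [Up, Upos, MonoidHom.map_closure]
  congr 1
  ext g
  constructor
  · rintro ⟨A, (⟨i, j, hij, h, a, rfl⟩ | ⟨i, h, a, rfl⟩), rfl⟩
    · exact Or.inl ⟨i, j, hij, h, a, rfl⟩
    · exact Or.inr ⟨i, h, a, rfl⟩
  · rintro (⟨i, j, hij, h, a, rfl⟩ | ⟨i, h, a, rfl⟩)
    · exact ⟨_, Or.inl ⟨i, j, hij, h, a, rfl⟩, rfl⟩
    · exact ⟨_, Or.inr ⟨i, h, a, rfl⟩, rfl⟩

theorem Up_le : R.Up ≤ R.K := by
  rintro _ ⟨A, -, rfl⟩
  exact ⟨A, rfl⟩

variable [CharP F 2]

theorem Up_isPGroup : IsPGroup 2 R.Up := isPGroup_Upos.map R.ι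

variable [Finite F]

theorem Up_eq : R.Up = (Uu n F).map R.ι := by rw [Up, Upos_eq]

/-- `|K : U|` is odd. -/
theorem odd_Up : Odd (R.Up.relIndex R.K) := by
  rw [Up, K, relIndex_map_range R.ι R.inj]
  exact odd_index_Upos

end Frame

/-- Clean case: `|C(t) : ⟨t⟩ U|` is odd. -/
theorem CFrame.odd_cent {n : ℕ} {F : Type*} [Field F] [CharP F 2] [Finite F] {G : Type*} [Group G] [Finite G]
    (R : CFrame n F G) :
    Odd ((R.Up ⊔ Subgroup.zpowers R.t).relIndex (Subgroup.centralizer ({R.t} : Set G))) := by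
  refine Cfsg.Agent.KFacts.Unit.FlagMap.odd_sup (K := R.K) R.tt ?_ ?_ R.Up_le R.odd_Up ?_
  · rintro ⟨k, hk⟩; exact R.tK k hk
  · rintro _ ⟨k, rfl⟩; exact (R.comm k).eq.symm
  · rw [sup_comm]; exact R.odd

end Cfsg.Agent.OddHalf.SpN

end
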