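import Mathlib
import Cfsg.Agent.OddHalf.SpN.Cent2
import Cfsg.Agent.OddHalf.SpN.SylU
import Cfsg.Agent.OddHalf.F4.EndO

-- merged: Cfsg.Agent.OddHalf.SpN.COneDefs
section

/-!
# ODD D7, `K = Sp_2n(q)`, pattern (C,O) (shadows `L_{2n+1}(q)`, `U_{2n+1}(q)`): the input (helper63)

Section 10 of `blueprints/ODD-D7-Sp-helper297.md` (case III.1: `γ = 0`, `δ = ε = c_l = 1`).
`wx i j u = w_{e_i+e_j}(u)` (`Dj i j`), `wy i u = w_{2e_i}(u)`.  Conventions as in `Defs`: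
`h w_r(u) h⁻¹ = w_r(λ^r u)`, all conjugations on the left.  "∃ c" = the `X`-part is irrelevant.
-/

set_option autoImplicit false

namespace Cfsg.Agent.OddHalf.SpN

variable {n : ℕ} {F : Type*} [Field F] {G : Type*} [Group G]

/-- The input of pattern (C,O): the groups `W_r` with all their relations for `γ = 0`, `δ = ε = c_l = 1`. -/
structure COne [CharP F 2] (R : Frame n F G) where
  wx : Ix n → Ix n → F → G
  wy : Ix n → F → G
  wx_symm : ∀ i j u, wx i j u = wx j i u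
  /-- `[t, w_r(u)] = x_r(u)` -/
  wx_t : ∀ {i j}, Dj i j → ∀ u, R.t * wx i j u * R.t = wx i j u * R.x i j u
  wy_t : ∀ i u, R.t * wy i u * R.t = wy i u * R.y i u
  h_wx : ∀ lam {i j}, Dj i j → ∀ u, R.h lam * wx i j u * (R.h lam)⁻¹ = wx i j (ev lam i * ev lam j * u)
  h_wy : ∀ lam i u, R.h lam * wy i u * (R.h lam)⁻¹ = wy i (ev lam i ^ 2 * u)
  /-- (6.1): `κ_s = 0` -/
  wx_add : ∀ {i j}, Dj i j → ∀ u v, wx i j (u + v) = wx i j u * wx i j v
  wy_zero : ∀ i, wy i 0 = 1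
  wy_add : ∀ i u v, ∃ c, wy i u * wy i v = wy i (u + v) * R.y i c
  /-- (8.2): `c_l = 1` -/
  wy_sq : ∀ i u, wy i u * wy i u = R.y i u
  /-- (3.s): `[W_s, X_a] = 1` for `(s, a) ≥ 0`, short-short, not partners -/
  a1 : ∀ {i j k l}, Dj i j → Dj k l → k ≠ neg i → k ≠ neg j → l ≠ neg i → l ≠ neg j →
    ∀ u v, Commute (wx i j u) (R.x k l v)
  /-- (3.s), (8): partners, `δ = 1` -/
  a2 : ∀ {i j}, Dj i j → ∀ u v, wx i j u * R.x i (neg j) v = R.y i (u * v) * (R.x i (neg j) v * wx i j u)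
  /-- (6.1): 120 degrees -/
  a3 : ∀ {i j k}, Dj i j → Dj j k → Dj i k → ∀ u v, ∃ c,
    R.x (neg j) k v * wx i j u * (R.x (neg j) k v)⁻¹ = wx i j u * wx i k (u * v) * R.x i k c
  /-- (3.s): short-long, `(s, a) ≥ 0` -/
  a4 : ∀ {i j k}, Dj i j → k ≠ neg i → k ≠ neg j → ∀ u v, Commute (wx i j u) (R.y k v)
  /-- (8.3) with `δ = 1` -/
  a5 : ∀ {i j}, Dj i j → ∀ u v, ∃ c d, R.y (neg j) v * wx i j u * (R.y (neg j) v)⁻¹ =
    wx i j u * wx i (neg j) (u * v) * R.x i (neg j) c * R.y i d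
  /-- (3.l), `γ = 0` -/
  b1 : ∀ {i j}, j ≠ neg i → ∀ u v, Commute (wy i u) (R.y j v)
  b2 : ∀ {i j k}, Dj j k → j ≠ neg i → k ≠ neg i → ∀ u v, Commute (wy i u) (R.x j k v)
  /-- (8.2) with `γ = 0` -/
  b3 : ∀ {i j}, Dj i j → ∀ u v, ∃ c d, R.x (neg i) j v * wy i u * (R.x (neg i) j v)⁻¹ =
    wy i u * wy j (u * v ^ 2) * wx i j (u * v) * R.x i j c * R.y j d
  /-- (6.2): 60 degrees, 90 degrees (disjoint), same root -/
  c1 : ∀ {i j k l}, Dj i j → Dj k l → k ≠ neg i → k ≠ neg j → l ≠ neg i → l ≠ neg j →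
    ∀ u v, Commute (wx i j u) (wx k l v)
  /-- (6.2): partners -/
  c2 : ∀ {i j}, Dj i j → ∀ u v, ∃ c, wx i j u * wx i (neg j) v = R.y i c * (wx i (neg j) v * wx i j u)
  /-- (6.2): 120 degrees, `[W_r, W_a] ≤ W_{r+a}` -/
  c3 : ∀ {i j k}, Dj i j → Dj j k → Dj i k → ∀ u v, ∃ c d,
    wx (neg j) k v * wx i j u * (wx (neg j) k v)⁻¹ = wx i j u * wx i k c * R.x i k d
  /-- section 4: long-long -/
  c4 : ∀ {i j}, Dj i j → ∀ u v, ∃ c, wy i u * wy j v = R.x i j c * (wy j v * wy i u)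
  /-- (8.1): long-short, 45 and 90 degrees -/
  c5 : ∀ {i j k}, Dj j k → j ≠ neg i → k ≠ neg i → ∀ u v, Commute (wy i u) (wx j k v)
  /-- F3 -/
  f3 : ∀ i g, Commute g R.t → (∀ a, Commute g (R.y i a)) →
    (∀ j, Dj i j → ∀ a, ∃ c, g * R.x i j a = R.y i c * (R.x i j a * g)) → g ∈ R.Q i ∨ R.t * g ∈ R.Q i

end Cfsg.Agent.OddHalf.SpN

end

-- merged: Cfsg.Agent.OddHalf.SpN.COneF
section

/-!
# ODD D7, `K = Sp_2n(q)`, pattern (C,O): the elements `p_j(u,v) = [w_{i,-j}(u), w_j(v)]` and the groups `F_i` (helper63)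

`F_i = ⟨W_{2e_i}, W_{e_i±e_j}, p_j(u,v)⟩`; `F_i / Y_i` is elementary abelian, `Y_i = X_{2e_i}`.
-/

set_option autoImplicit false

namespace Cfsg.Agent.OddHalf.SpN

section abs

variable {G : Type*} [Group G]

/-- `w` normalises `a` modulo something commuting with `b` -/
theorem comm_aux {a b w m : G} (h1 : w * a * w⁻¹ = a * m) (h2 : Commute w b) (h3 : Commute m b) :
    Commute (a * b * a⁻¹ * b⁻¹) w := by
  have e : w * (a * b * a⁻¹ * b⁻¹) * w⁻¹ = a * b * a⁻¹ * b⁻¹ := by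
    calc w * (a * b * a⁻¹ * b⁻¹) * w⁻¹ = (w * a * w⁻¹) * (w * b * w⁻¹) * (w * a * w⁻¹)⁻¹ * (w * b * w⁻¹)⁻¹ := by
          group
      _ = a * (m * b * m⁻¹) * a⁻¹ * b⁻¹ := by
          rw [h1, h2.mul_inv_cancel]; group
      _ = _ := by rw [h3.mul_inv_cancel]
  show a * b * a⁻¹ * b⁻¹ * w = w * (a * b * a⁻¹ * b⁻¹)
  calc a * b * a⁻¹ * b⁻¹ * w = (w * (a * b * a⁻¹ * b⁻¹) * w⁻¹) * w := by rw [e]
    _ = _ := by group

theorem conj_of_y {w a z : G} (e : w * a = z * (a * w)) (hz : Commute a z) : w * a * w⁻¹ = a * z := by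
  rw [e, hz.eq]; group

theorem conj_of_comm {w a : G} (e : Commute w a) : w * a * w⁻¹ = a * 1 := by
  rw [e.mul_inv_cancel, mul_one]

theorem comm_aux3 {a b w m z : G} (h1 : Commute w a) (h2 : w * b * w⁻¹ = b * m) (h3 : m * a⁻¹ = z * (a⁻¹ * m))
    (za : Commute z a) (zb : Commute z b) :
    w * (a * b * a⁻¹ * b⁻¹) = z * (a * b * a⁻¹ * b⁻¹ * w) := by
  have e : w * (a * b * a⁻¹ * b⁻¹) * w⁻¹ = z * (a * b * a⁻¹ * b⁻¹) := by
    calc w * (a * b * a⁻¹ * b⁻¹) * w⁻¹ = (w * a * w⁻¹) * (w * b * w⁻¹) * (w * a * w⁻¹)⁻¹ * (w * b * w⁻¹)⁻¹ := by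
          group
      _ = a * b * (m * a⁻¹) * m⁻¹ * b⁻¹ := by
          rw [h2, h1.mul_inv_cancel]; group
      _ = (a * b * z) * a⁻¹ * b⁻¹ := by rw [h3]; group
      _ = _ := by rw [mul_assoc a, ← zb.eq, ← mul_assoc a, ← za.eq]; simp only [mul_assoc]
  calc w * (a * b * a⁻¹ * b⁻¹) = (w * (a * b * a⁻¹ * b⁻¹) * w⁻¹) * w := by group
    _ = _ := by rw [e, mul_assoc]

theorem t_aux {t a b x y m k n x1 z1 z2 : G} (tt : t * t = 1) (ta : t * a * t = a * x) (tb : t * b * t = b * y)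
    (hxb : x * b * x⁻¹ = b * m) (hxy : x * y * x⁻¹ = y * k) (ym : Commute y m) (yk : Commute y k)
    (yz : Commute y z1) (hya : y * a * y⁻¹ = a * n) (hamk : a * (m * k) * a⁻¹ = (m * k) * z1)
    (han : a * n⁻¹ * a⁻¹ = n⁻¹ * z2) (bn : Commute b n) (hbmk : b * (m * k) * b⁻¹ = (m * k) * x1)
    (bz : Commute b z1) (np : Commute n (a * b * a⁻¹ * b⁻¹)) (zp : Commute z2 (a * b * a⁻¹ * b⁻¹)) :
    t * (a * b * a⁻¹ * b⁻¹) * t = (a * b * a⁻¹ * b⁻¹) * (n⁻¹ * z2 * (m * k) * x1 * z1) := by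
  have ti : t⁻¹ = t := inv_eq_of_mul_eq_one_left tt
  have hya' : y * a⁻¹ * y⁻¹ = n⁻¹ * a⁻¹ := by
    have := congrArg (fun g => g⁻¹) hya
    simp only [mul_inv_rev, inv_inv] at this
    rw [← this]; group
  have ymk : Commute y (m * k * z1) := (ym.mul_right yk).mul_right yz
  calc t * (a * b * a⁻¹ * b⁻¹) * t = t * (a * b * a⁻¹ * b⁻¹) * t⁻¹ := by rw [ti]
    _ = (t * a * t⁻¹) * (t * b * t⁻¹) * (t * a * t⁻¹)⁻¹ * (t * b * t⁻¹)⁻¹ := by group
    _ = (a * x) * (b * y) * (a * x)⁻¹ * (b * y)⁻¹ := by rw [ti, ta, tb]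
    _ = a * (x * b * x⁻¹) * (x * y * x⁻¹) * a⁻¹ * y⁻¹ * b⁻¹ := by group
    _ = a * b * (m * y) * k * a⁻¹ * y⁻¹ * b⁻¹ := by rw [hxb, hxy]; group
    _ = a * b * (y * a⁻¹ * y⁻¹) * (y * (a * (m * k) * a⁻¹) * y⁻¹) * b⁻¹ := by rw [← ym.eq]; group
    _ = a * b * (n⁻¹ * a⁻¹) * (m * k * z1) * b⁻¹ := by rw [hya', hamk, ymk.mul_inv_cancel]
    _ = a * (b * n⁻¹) * a⁻¹ * (m * k) * z1 * b⁻¹ := by group
    _ = (a * n⁻¹ * a⁻¹) * (a * b * a⁻¹ * b⁻¹) * (b * (m * k) * b⁻¹) * (b * z1 * b⁻¹) := by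
        rw [bn.inv_right.eq]; group
    _ = (n⁻¹ * z2) * (a * b * a⁻¹ * b⁻¹) * (m * k * x1) * z1 := by rw [han, hbmk, bz.mul_inv_cancel]
    _ = _ := by rw [(np.inv_left.mul_left zp).eq]; simp only [mul_assoc]

end abs

namespace COne

variable {n : ℕ} {F : Type*} [Field F] [CharP F 2] {G : Type*} [Group G] {R : Frame n F G}

/-- `g` centralises `Y_i` -/
def Cy (R : Frame n F G) (i : Ix n) (g : G) : Prop := ∀ a, Commute g (R.y i a)

/-- `g`, `h` commute modulo `Y_i` -/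
def Cm (R : Frame n F G) (i : Ix n) (g h : G) : Prop := ∃ c, g * h = R.y i c * (h * g)

theorem Cm.symm {i : Ix n} {g h : G} (e : Cm R i g h) : Cm R i h g := by
  obtain ⟨c, e⟩ := e
  exact ⟨c, by rw [e, ← mul_assoc, R.y_sq, one_mul]⟩

theorem Cm.of_commute {i : Ix n} {g h : G} (e : Commute g h) : Cm R i g h :=
  ⟨0, by rw [R.y_zero, one_mul]; exact e⟩

theorem Cy.one {i : Ix n} : Cy R i 1 := fun _ => Commute.one_left _

theorem Cy.mul {i : Ix n} {g h : G} (a : Cy R i g) (b : Cy R i h) : Cy R i (g * h) := fun c => (a c).mul_left (b c)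

theorem Cy.inv {i : Ix n} {g : G} (a : Cy R i g) : Cy R i g⁻¹ := fun c => (a c).inv_left

theorem Cm.mul {i : Ix n} {g g' h : G} (hg : Cy R i g) (a : Cm R i g h) (b : Cm R i g' h) : Cm R i (g * g') h := by
  obtain ⟨c, e⟩ := a
  obtain ⟨d, e'⟩ := b
  refine ⟨d + c, ?_⟩
  rw [mul_assoc, e', ← mul_assoc, (hg d).eq, mul_assoc, ← mul_assoc g, e, R.y_add]
  simp only [mul_assoc]

theorem Cm.inv {i : Ix n} {g h : G} (hg : Cy R i g) (a : Cm R i g h) : Cm R i g⁻¹ h := by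
  obtain ⟨c, e⟩ := a
  refine ⟨c, ?_⟩
  have e2 : h * g = R.y i c * (g * h) := by rw [e, ← mul_assoc, R.y_sq, one_mul]
  have e3 : g⁻¹ * R.y i c = R.y i c * g⁻¹ := (hg.inv c).eq
  calc g⁻¹ * h = g⁻¹ * (h * g) * g⁻¹ := by group
    _ = g⁻¹ * R.y i c * (g * h) * g⁻¹ := by rw [e2]; group
    _ = R.y i c * (h * g⁻¹) := by rw [e3]; group

/-- the elements centralising `Y_i` and commuting with `h` modulo `Y_i` -/
def cen (R : Frame n F G) (i : Ix n) (h : G) : Subgroup G where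
  carrier := {g | Cy R i g ∧ Cm R i g h}
  one_mem' := ⟨Cy.one, Cm.of_commute (Commute.one_left h)⟩
  mul_mem' := fun a b => ⟨a.1.mul b.1, Cm.mul a.1 a.2 b.2⟩
  inv_mem' := fun a => ⟨a.1.inv, Cm.inv a.1 a.2⟩

theorem mem_cen {i : Ix n} {g h : G} : g ∈ cen R i h ↔ Cy R i g ∧ Cm R i g h := Iff.rfl

/-- `Y_i` -/
def Yg (R : Frame n F G) (i : Ix n) : Subgroup G where
  carrier := {g | ∃ a, g = R.y i a}
  one_mem' := ⟨0, (R.y_zero i).symm⟩
  mul_mem' := by
    rintro _ _ ⟨a, rfl⟩ ⟨b, rfl⟩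
    exact ⟨a + b, (R.y_add i a b).symm⟩
  inv_mem' := by
    rintro _ ⟨a, rfl⟩
    exact ⟨a, R.y_inv i a⟩

theorem mem_Yg {i : Ix n} {g : G} : g ∈ Yg R i ↔ ∃ a, g = R.y i a := Iff.rfl

theorem y_mem_Yg (i : Ix n) (a : F) : R.y i a ∈ Yg R i := ⟨a, rfl⟩

variable (D : COne R)

include D

theorem wx_zero {i j : Ix n} (h : Dj i j) : D.wx i j 0 = 1 := by
  have := D.wx_add h 0 0
  rw [add_zero] at this
  exact (mul_eq_left.mp this.symm)

theorem wx_sq {i j : Ix n} (h : Dj i j) (u : F) : D.wx i j u * D.wx i j u = 1 := by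
  rw [← D.wx_add h, CharTwo.add_self_eq_zero, D.wx_zero h]

theorem wx_inv {i j : Ix n} (h : Dj i j) (u : F) : (D.wx i j u)⁻¹ = D.wx i j u :=
  inv_eq_of_mul_eq_one_left (D.wx_sq h u)

theorem a2' {i j : Ix n} (h : Dj i j) (u v : F) :
    D.wx i (neg j) u * R.x i j v = R.y i (u * v) * (R.x i j v * D.wx i (neg j) u) := by
  have := D.a2 (i := i) (j := neg j) (dj_neg_right.mpr h) u v
  rwa [neg_neg] at this

theorem cy_wx {i j : Ix n} (h : Dj i j) (u : F) : Cy R i (D.wx i j u) := fun a =>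
  D.a4 h (ne_neg i) h.2 u a

theorem cy_wy (i : Ix n) (u : F) : Cy R i (D.wy i u) := fun a => D.b1 (ne_neg i) u a

omit D in
theorem cy_x {i j : Ix n} (h : Dj i j) (u : F) : Cy R i (R.x i j u) := fun a =>
  (R.y_x_comm (ne_neg i) h.symm.2 a u).symm

omit D in
theorem cy_y (i : Ix n) (u : F) : Cy R i (R.y i u) := fun a => R.y_comm (ne_neg i) u a

theorem cy_wy' {i j : Ix n} (h : Dj i j) (u : F) : Cy R i (D.wy j u) := fun a => D.b1 h.2 u a

/-- `p_j(u,v) = [w_{i,-j}(u), w_j(v)]` -/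
def p (i j : Ix n) (u v : F) : G := D.wx i (neg j) u * D.wy j v * (D.wx i (neg j) u)⁻¹ * (D.wy j v)⁻¹

theorem p_zero_left {i j : Ix n} (h : Dj i j) (v : F) : D.p i j 0 v = 1 := by
  rw [p, D.wx_zero (dj_neg_right.mpr h)]; group

theorem p_zero_right {i j : Ix n} (u : F) : D.p i j u 0 = 1 := by
  rw [p, D.wy_zero]; group

section one

variable {i j : Ix n} (hij : Dj i j) (u v : F)

include hij

theorem p_y : Cy R i (D.p i j u v) := fun a =>
  comm_aux (m := 1) (conj_of_comm ((D.cy_wx (dj_neg_right.mpr hij) u) a).symm) ((D.cy_wy' hij v) a).symm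
    (Commute.one_left _)

theorem p_wx {k : Ix n} (hik : Dj i k) (hk : k ≠ neg j) (c : F) : Commute (D.p i j u v) (D.wx i k c) := by
  have h5 : Commute (D.wx i k c) (D.wy j v) := (D.c5 hik hij.2 hk v c).symm
  by_cases hkj : k = j
  · subst hkj
    obtain ⟨e, he⟩ := D.c2 hij c u
    exact comm_aux (m := R.y i e) (conj_of_y he (D.cy_wx (dj_neg_right.mpr hij) u e)) h5 ((D.cy_wy' hij v) e).symm
  · refine comm_aux (m := 1) (conj_of_comm
      (D.c1 hik (dj_neg_right.mpr hij) (ne_neg i) hik.2 ?_ ?_ c u)) h5 (Commute.one_left _)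
    · rw [Ne, neg_inj]; exact hij.1.symm
    · rw [Ne, neg_inj]; exact fun e => hkj e.symm

theorem p_x {k : Ix n} (hik : Dj i k) (hk : k ≠ neg j) (c : F) : Commute (D.p i j u v) (R.x i k c) := by
  have h5 : Commute (R.x i k c) (D.wy j v) := (D.b2 hik hij.2 hk v c).symm
  by_cases hkj : k = j
  · subst hkj
    refine comm_aux (m := R.y i (u * c)) (conj_of_y ?_ (D.cy_wx (dj_neg_right.mpr hij) u _)) h5
      ((D.cy_wy' hij v) _).symm
    rw [D.a2' hij, ← mul_assoc (R.y i _), R.y_sq, one_mul]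
  · refine comm_aux (m := 1) (conj_of_comm
      (D.a1 (dj_neg_right.mpr hij) hik (ne_neg i) ?_ hik.symm.2 ?_ u c).symm) h5 (Commute.one_left _)
    · rw [neg_neg]; exact hij.1
    · rw [neg_neg]; exact hkj

/-- `x_{jl}`, `|l| ≠ |i|` -/
theorem p_xj {l : Ix n} (hil : Dj i l) (hjl : Dj j l) (c : F) : Commute (D.p i j u v) (R.x j l c) := by
  have hnj : Dj (neg j) l := dj_neg_left.mpr hjl
  obtain ⟨d, he⟩ := D.a3 (dj_neg_right.mpr hij) hnj hil u c
  rw [neg_neg, mul_assoc (D.wx i (neg j) u)] at he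
  exact comm_aux he (D.b2 hjl (ne_neg j) hjl.symm.2 v c).symm
    ((D.c5 hil hij.2 hjl.symm.2 v _).symm.mul_left (D.b2 hil hij.2 hjl.symm.2 v _).symm)

theorem p_xkl {k l : Ix n} (hkl : Dj k l) (hik : Dj i k) (hil : Dj i l) (hjk : Dj j k) (hjl : Dj j l) (c : F) :
    Commute (D.p i j u v) (R.x k l c) :=
  comm_aux (m := 1) (conj_of_comm (D.a1 (dj_neg_right.mpr hij) hkl hik.symm.2
      (by rw [neg_neg]; exact hjk.1.symm) hil.symm.2 (by rw [neg_neg]; exact hjl.1.symm) u c).symm)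
    (D.b2 hkl hjk.symm.2 hjl.symm.2 v c).symm (Commute.one_left _)

theorem p_yj (c : F) : Commute (D.p i j u v) (R.y j c) := by
  obtain ⟨d, e, he⟩ := D.a5 (dj_neg_right.mpr hij) u c
  rw [neg_neg, mul_assoc (D.wx i (neg j) u), mul_assoc (D.wx i (neg j) u)] at he
  exact comm_aux he (D.b1 (ne_neg j) v c).symm
    (((D.c5 hij hij.2 (ne_neg j) v _).symm.mul_left (D.b2 hij hij.2 (ne_neg j) v _).symm).mul_left
      (D.b1 hij.2 v _).symm)

theorem p_yk {k : Ix n} (hik : Dj i k) (hjk : Dj j k) (c : F) : Commute (D.p i j u v) (R.y k c) :=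
  comm_aux (m := 1) (conj_of_comm (D.a4 (dj_neg_right.mpr hij) hik.symm.2
      (by rw [neg_neg]; exact hjk.1.symm) u c).symm)
    (D.b1 hjk.symm.2 v c).symm (Commute.one_left _)

theorem p_wxj {l : Ix n} (hil : Dj i l) (hjl : Dj j l) (c : F) : Commute (D.p i j u v) (D.wx j l c) := by
  have hnj : Dj (neg j) l := dj_neg_left.mpr hjl
  obtain ⟨d, e, he⟩ := D.c3 (dj_neg_right.mpr hij) hnj hil u c
  rw [neg_neg, mul_assoc (D.wx i (neg j) u)] at he
  exact comm_aux he (D.c5 hjl (ne_neg j) hjl.symm.2 v c).symm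
    ((D.c5 hil hij.2 hjl.symm.2 v _).symm.mul_left (D.b2 hil hij.2 hjl.symm.2 v _).symm)

theorem p_wxkl {k l : Ix n} (hkl : Dj k l) (hik : Dj i k) (hil : Dj i l) (hjk : Dj j k) (hjl : Dj j l) (c : F) :
    Commute (D.p i j u v) (D.wx k l c) :=
  comm_aux (m := 1) (conj_of_comm (D.c1 (dj_neg_right.mpr hij) hkl hik.symm.2
      (by rw [neg_neg]; exact hjk.1.symm) hil.symm.2 (by rw [neg_neg]; exact hjl.1.symm) u c).symm)
    (D.c5 hkl hjk.symm.2 hjl.symm.2 v c).symm (Commute.one_left _)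

theorem h_p (lam : Fin n → Fˣ) : R.h lam * D.p i j u v * (R.h lam)⁻¹ =
    D.p i j (ev lam i * (ev lam j)⁻¹ * u) (ev lam j ^ 2 * v) := by
  have h1 := D.h_wx lam (dj_neg_right.mpr hij) u
  have h2 := D.h_wy lam j v
  rw [ev_neg] at h1
  rw [p, p]
  push_cast at h1 h2 ⊢
  rw [← h1, ← h2]
  group

/-- `x_{i,-j}` -/
theorem p_xn (c : F) : Cm R i (D.p i j u v) (R.x i (neg j) c) := by
  obtain ⟨e, d, he⟩ := D.b3 hij.symm v c
  have hn := dj_neg_right.mpr hij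
  have hm : D.wy i (v * c ^ 2) * D.wx j i (v * c) * R.x j i e * R.y i d ∈ cen R i (D.wx i (neg j) u)⁻¹ := by
    have key : ∀ g, Cy R i g → Cm R i g (D.wx i (neg j) u) → g ∈ cen R i (D.wx i (neg j) u)⁻¹ := fun g h1 h2 =>
      ⟨h1, (Cm.inv (D.cy_wx hn u) h2.symm).symm⟩
    refine mul_mem (mul_mem (mul_mem (key _ (D.cy_wy i _) ?_) (key _ ?_ ?_)) (key _ ?_ ?_)) (key _ (cy_y i d) ?_)
    · exact Cm.of_commute (D.c5 hn (ne_neg i) hn.symm.2 _ u)
    · rw [D.wx_symm]; exact D.cy_wx hij _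
    · rw [D.wx_symm]; exact D.c2 hij _ u
    · rw [R.x_symm]; exact cy_x hij _
    · rw [R.x_symm]; exact Cm.symm ⟨_, D.a2' hij _ _⟩
    · exact Cm.of_commute (D.cy_wx hn u d).symm
  obtain ⟨f, hf⟩ := hm.2
  have he' : R.x i (neg j) c * D.wy j v * (R.x i (neg j) c)⁻¹ =
      D.wy j v * (D.wy i (v * c ^ 2) * D.wx j i (v * c) * R.x j i e * R.y i d) := by
    rw [R.x_symm i (neg j), he]; simp only [mul_assoc]
  exact Cm.symm ⟨f, comm_aux3 (D.a1 hn hn (ne_neg i) hn.2 hn.symm.2 (ne_neg _) u c).symm he' hf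
    (D.cy_wx hn u f).symm (D.cy_wy' hij v f).symm⟩

theorem p_wy (c : F) : Cm R i (D.p i j u v) (D.wy i c) := by
  have hn := dj_neg_right.mpr hij
  obtain ⟨s, hs⟩ := D.c4 hij c v
  have e1 : D.wy i c * D.wy j v * (D.wy i c)⁻¹ = D.wy j v * R.x i j s :=
    conj_of_y hs (D.b2 hij hij.2 (ne_neg j) v s)
  have hm : R.x i j s ∈ cen R i (D.wx i (neg j) u)⁻¹ := by
    refine ⟨cy_x hij s, (Cm.inv (D.cy_wx hn u) ?_).symm⟩
    exact ⟨_, D.a2' hij _ _⟩
  obtain ⟨f, hf⟩ := hm.2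
  exact Cm.symm ⟨f, comm_aux3 (D.c5 hn (ne_neg i) hn.symm.2 c u) e1 hf
    (D.cy_wx hn u f).symm (D.cy_wy' hij v f).symm⟩

theorem t_p : ∃ c d, R.t * D.p i j u v * R.t = D.p i j u v * D.wy i (u ^ 2 * v) * R.x i j c * R.y i d := by
  have hn := dj_neg_right.mpr hij
  obtain ⟨e, f, hxb⟩ := D.b3 hij.symm v u
  obtain ⟨c, d, hya⟩ := D.a5 hn u v
  rw [neg_neg] at hya
  have hxy : R.x i (neg j) u * R.y j v * (R.x i (neg j) u)⁻¹ =
      R.y j v * (R.x i j (v * u) * R.y i (v * u ^ 2)) := by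
    have h0 := R.y_rel hij.symm v u
    rw [R.x_symm (neg j) i, R.x_symm j i] at h0
    have h1 : R.x i (neg j) u * R.y j v = R.y j v * (R.x i j (v * u) * R.y i (v * u ^ 2)) * R.x i (neg j) u := by
      have hc : Commute (R.y j v) (R.x i j (v * u) * R.y i (v * u ^ 2)) :=
        (R.y_x_comm hij.2 (ne_neg j) _ _).mul_right (R.y_comm hij.2 _ _)
      have h2 := congrArg (fun g => (R.x i j (v * u) * R.y i (v * u ^ 2))⁻¹ * g) h0
      simp only [inv_mul_cancel_left] at h2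
      rw [← h2, mul_inv_rev, R.x_inv, R.y_inv]
      have hz : R.y i (v * u ^ 2) * R.x i j (v * u) = R.x i j (v * u) * R.y i (v * u ^ 2) :=
        (R.y_x_comm (ne_neg i) hij.symm.2 _ _)
      rw [hz, ← mul_assoc, hc.eq]
    rw [h1]; group
  have hxb' : R.x i (neg j) u * D.wy j v * (R.x i (neg j) u)⁻¹ =
      D.wy j v * (D.wy i (v * u ^ 2) * D.wx i j (v * u) * R.x i j e * R.y i f) := by
    rw [R.x_symm i (neg j), hxb, D.wx_symm j i, R.x_symm j i]; simp only [mul_assoc]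
  have hya' : R.y j v * D.wx i (neg j) u * (R.y j v)⁻¹ =
      D.wx i (neg j) u * (D.wx i j (u * v) * R.x i j c * R.y i d) := by
    rw [hya]; simp only [mul_assoc]
  -- commutation rules
  have cyW : ∀ w, Commute (D.wy i w) (R.y j v) := fun w => D.b1 hij.symm.2 w v
  have cyV : ∀ w, Commute (D.wx i j w) (R.y j v) := fun w => D.a4 hij hij.symm.2 (ne_neg j) w v
  have cyX : ∀ w, Commute (R.x i j w) (R.y j v) := fun w => (R.y_x_comm hij.2 (ne_neg j) v w).symm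
  have cyZ : ∀ w, Commute (R.y i w) (R.y j v) := fun w => R.y_comm hij.symm.2 w v
  have cbV : ∀ w, Commute (D.wx i j w) (D.wy j v) := fun w => (D.c5 hij hij.2 (ne_neg j) v w).symm
  have cbX : ∀ w, Commute (R.x i j w) (D.wy j v) := fun w => (D.b2 hij hij.2 (ne_neg j) v w).symm
  have cbZ : ∀ w, Commute (R.y i w) (D.wy j v) := fun w => (D.b1 hij.2 v w).symm
  have cWV : ∀ w w', Commute (D.wy i w) (D.wx i j w') := fun w w' => D.c5 hij (ne_neg i) hij.symm.2 w w'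
  have cWX : ∀ w w', Commute (D.wy i w) (R.x i j w') := fun w w' => D.b2 hij (ne_neg i) hij.symm.2 w w'
  have cWZ : ∀ w w', Commute (D.wy i w) (R.y i w') := fun w w' => D.b1 (ne_neg i) w w'
  have cVX : ∀ w w', Commute (D.wx i j w) (R.x i j w') := fun w w' =>
    D.a1 hij hij (ne_neg i) hij.2 hij.symm.2 (ne_neg j) w w'
  have cVZ : ∀ w w', Commute (D.wx i j w) (R.y i w') := fun w w' => D.a4 hij (ne_neg i) hij.2 w w'
  have cXZ : ∀ w w', Commute (R.x i j w) (R.y i w') := fun w w' => (R.y_x_comm (ne_neg i) hij.symm.2 w' w).symm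
  -- commute with `a` modulo `Y_i`
  have cenW : ∀ w, D.wy i w ∈ cen R i (D.wx i (neg j) u) := fun w =>
    ⟨D.cy_wy i w, Cm.of_commute (D.c5 hn (ne_neg i) hn.symm.2 _ u)⟩
  have cenV : ∀ w, D.wx i j w ∈ cen R i (D.wx i (neg j) u) := fun w => ⟨D.cy_wx hij _, D.c2 hij _ u⟩
  have cenX : ∀ w, R.x i j w ∈ cen R i (D.wx i (neg j) u) := fun w =>
    ⟨cy_x hij _, Cm.symm ⟨_, D.a2' hij _ _⟩⟩
  have cenZ : ∀ w, R.y i w ∈ cen R i (D.wx i (neg j) u) := fun w =>
    ⟨cy_y i w, Cm.of_commute (D.cy_wx hn u w).symm⟩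
  have turn : ∀ g ∈ cen R i (D.wx i (neg j) u), ∃ c, D.wx i (neg j) u * g * (D.wx i (neg j) u)⁻¹ = g * R.y i c := by
    rintro g ⟨g1, g2⟩
    obtain ⟨c, hc⟩ := g2.symm
    exact ⟨c, by rw [hc, (g1 c).eq]; group⟩
  obtain ⟨z1, hz1⟩ := turn ((D.wy i (v * u ^ 2) * D.wx i j (v * u) * R.x i j e * R.y i f) *
      (R.x i j (v * u) * R.y i (v * u ^ 2)))
    (mul_mem (mul_mem (mul_mem (mul_mem (cenW _) (cenV _)) (cenX _)) (cenZ _)) (mul_mem (cenX _) (cenZ _)))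
  obtain ⟨z2, hz2⟩ := turn (D.wx i j (u * v) * R.x i j c * R.y i d)⁻¹
    (inv_mem (mul_mem (mul_mem (cenV _) (cenX _)) (cenZ _)))
  obtain ⟨s, hs⟩ := D.c4 hij (v * u ^ 2) v
  have hb : D.wy j v * D.wy i (v * u ^ 2) = R.x i j s * (D.wy i (v * u ^ 2) * D.wy j v) := by
    rw [hs, ← mul_assoc, R.x_sq, one_mul]
  have hbmk : D.wy j v * ((D.wy i (v * u ^ 2) * D.wx i j (v * u) * R.x i j e * R.y i f) *
      (R.x i j (v * u) * R.y i (v * u ^ 2))) * (D.wy j v)⁻¹ =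
      ((D.wy i (v * u ^ 2) * D.wx i j (v * u) * R.x i j e * R.y i f) *
      (R.x i j (v * u) * R.y i (v * u ^ 2))) * R.x i j s := by
    have c1 : Commute (D.wy j v) (D.wx i j (v * u) * R.x i j e * R.y i f * (R.x i j (v * u) * R.y i (v * u ^ 2))) :=
      (((cbV _).symm.mul_right (cbX _).symm).mul_right (cbZ _).symm).mul_right
        ((cbX _).symm.mul_right (cbZ _).symm)
    have c2 : Commute (R.x i j s) (D.wy i (v * u ^ 2) * (D.wx i j (v * u) * R.x i j e * R.y i f *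
        (R.x i j (v * u) * R.y i (v * u ^ 2)))) := by
      have cXX : ∀ w w', Commute (R.x i j w) (R.x i j w') := fun w w' =>
        R.x_comm (ne_neg i) hij.2 hij.symm.2 (ne_neg j) w w'
      exact (cWX _ _).symm.mul_right ((((cVX _ _).symm.mul_right (cXX _ _)).mul_right (cXZ _ _)).mul_right
        ((cXX _ _).mul_right (cXZ _ _)))
    calc _ = (D.wy j v * D.wy i (v * u ^ 2)) * (D.wx i j (v * u) * R.x i j e * R.y i f *
          (R.x i j (v * u) * R.y i (v * u ^ 2))) * (D.wy j v)⁻¹ := by simp only [mul_assoc]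
      _ = R.x i j s * D.wy i (v * u ^ 2) * (D.wy j v * (D.wx i j (v * u) * R.x i j e * R.y i f *
          (R.x i j (v * u) * R.y i (v * u ^ 2))) * (D.wy j v)⁻¹) := by rw [hb]; simp only [mul_assoc]
      _ = R.x i j s * (D.wy i (v * u ^ 2) * (D.wx i j (v * u) * R.x i j e * R.y i f *
          (R.x i j (v * u) * R.y i (v * u ^ 2)))) := by rw [c1.mul_inv_cancel]; simp only [mul_assoc]
      _ = _ := by rw [c2.eq]; simp only [mul_assoc]
  have key := t_aux (t := R.t) (a := D.wx i (neg j) u) (b := D.wy j v) (x := R.x i (neg j) u) (y := R.y j v)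
    R.tt (D.wx_t hn u) (D.wy_t j v) hxb' hxy
    ((((cyW _).symm.mul_right (cyV _).symm).mul_right (cyX _).symm).mul_right (cyZ _).symm)
    ((cyX _).symm.mul_right (cyZ _).symm) (cyZ z1).symm hya' hz1 hz2
    (((cbV _).symm.mul_right (cbX _).symm).mul_right (cbZ _).symm) hbmk (cbZ z1).symm
    ((((D.p_wx hij u v hij (ne_neg j) (u * v)).symm).mul_left (D.p_x hij u v hij (ne_neg j) c).symm).mul_left
      (D.p_y hij u v d).symm)
    ((D.p_y hij u v z2).symm)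
  refine ⟨c + e + v * u + s, d + z2 + f + v * u ^ 2 + z1, ?_⟩
  have hXZ : ∀ w w', R.y i w * R.x i j w' = R.x i j w' * R.y i w := fun w w' => ((cXZ w' w).symm).eq
  have hXZ' : ∀ w w' g, R.y i w * (R.x i j w' * g) = R.x i j w' * (R.y i w * g) := fun w w' g => by
    rw [← mul_assoc, hXZ, mul_assoc]
  have hWZ : ∀ w w', R.y i w' * D.wy i w = D.wy i w * R.y i w' := fun w w' => (cWZ w w').symm.eq
  have hWZ' : ∀ w w' g, R.y i w' * (D.wy i w * g) = D.wy i w * (R.y i w' * g) := fun w w' g => by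
    rw [← mul_assoc, hWZ, mul_assoc]
  have hWX : ∀ w w', R.x i j w' * D.wy i w = D.wy i w * R.x i j w' := fun w w' => (cWX w w').symm.eq
  have hWX' : ∀ w w' g, R.x i j w' * (D.wy i w * g) = D.wy i w * (R.x i j w' * g) := fun w w' g => by
    rw [← mul_assoc, hWX, mul_assoc]
  have hVW : ∀ w w' g, D.wx i j w' * (D.wy i w * g) = D.wy i w * (D.wx i j w' * g) := fun w w' g => by
    rw [← mul_assoc, (cWV w w').symm.eq, mul_assoc]
  have hVV : ∀ w g, D.wx i j w * (D.wx i j w * g) = g := fun w g => by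
    rw [← mul_assoc, D.wx_sq hij, one_mul]
  rw [show R.t * D.p i j u v * R.t = R.t * (D.wx i (neg j) u * D.wy j v * (D.wx i (neg j) u)⁻¹ * (D.wy j v)⁻¹) * R.t
    from rfl, key]
  have huv : u * v = v * u := mul_comm u v
  have huv2 : u ^ 2 * v = v * u ^ 2 := mul_comm _ _
  show D.p i j u v * _ = _
  simp only [mul_assoc]
  congr 1
  rw [mul_inv_rev, mul_inv_rev, R.y_inv, R.x_inv, D.wx_inv hij, huv, huv2]
  simp only [mul_assoc]
  have hVZ : ∀ w w' g, D.wx i j w * (R.y i w' * g) = R.y i w' * (D.wx i j w * g) := fun w w' g => by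
    rw [← mul_assoc, (cVZ w w').eq, mul_assoc]
  rw [hWZ', hVW, hVZ, hVV]
  simp only [hXZ', hWX', hWZ', R.x_add, R.y_add, mul_assoc]

end one

/-! ### the groups `N_i`, `F_i(J)` -/

/-- generators of `N_i` -/
def NS (i : Ix n) : Set G :=
  {g | (∃ u, g = D.wy i u) ∨ (∃ a, g = R.y i a) ∨ ∃ j, Dj i j ∧ ((∃ u, g = D.wx i j u) ∨ ∃ a, g = R.x i j a)}

/-- `N_i = W_{2e_i} ∏ W_{e_i±e_j}` -/
def N (i : Ix n) : Subgroup G := Subgroup.closure (D.NS i)

theorem NS_cy {i : Ix n} {g : G} (h : g ∈ D.NS i) : Cy R i g := by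
  rcases h with ⟨u, rfl⟩ | ⟨a, rfl⟩ | ⟨j, hij, ⟨u, rfl⟩ | ⟨a, rfl⟩⟩
  exacts [D.cy_wy i u, cy_y i a, D.cy_wx hij u, cy_x hij a]

omit D in
/-- a subgroup generated by elements which centralise `Y_i` and commute modulo `Y_i` -/
theorem closure_cm {i : Ix n} {S : Set G} (h1 : ∀ s ∈ S, Cy R i s) (h2 : ∀ s ∈ S, ∀ s' ∈ S, Cm R i s s') :
    ∀ g ∈ Subgroup.closure S, Cy R i g ∧ ∀ h ∈ Subgroup.closure S, Cm R i g h := by
  have e1 : ∀ s' ∈ S, Subgroup.closure S ≤ cen R i s' := fun s' hs' =>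
    (Subgroup.closure_le _).mpr fun s hs => ⟨h1 s hs, h2 s hs s' hs'⟩
  intro g hg
  have hS : ∀ x ∈ Subgroup.closure S, Cy R i x := by
    intro x hx
    refine Subgroup.closure_induction (p := fun g _ => Cy R i g) (fun s hs => h1 s hs) Cy.one
      (fun a b _ _ ha hb => ha.mul hb) (fun a _ ha => ha.inv) hx
  refine ⟨hS g hg, fun h hh => ?_⟩
  have : Subgroup.closure S ≤ cen R i g := (Subgroup.closure_le _).mpr fun s hs =>
    ⟨h1 s hs, (e1 s hs hg).2.symm⟩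
  exact (this hh).2.symm

theorem NS_cm {i : Ix n} {g h : G} (hg : g ∈ D.NS i) (hh : h ∈ D.NS i) : Cm R i g h := by
  have hwx : ∀ {j k}, Dj i j → Dj i k → ∀ u v, Cm R i (D.wx i j u) (D.wx i k v) := by
    intro j k hij hik u v
    by_cases hk : k = neg j
    · subst hk; exact D.c2 hij u v
    · refine Cm.of_commute (D.c1 hij hik (ne_neg i) hij.2 hik.symm.2 hk u v)
  have hwxx : ∀ {j k}, Dj i j → Dj i k → ∀ u v, Cm R i (D.wx i j u) (R.x i k v) := by
    intro j k hij hik u v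
    by_cases hk : k = neg j
    · subst hk; exact ⟨_, D.a2 hij u v⟩
    · refine Cm.of_commute (D.a1 hij hik (ne_neg i) hij.2 hik.symm.2 hk u v)
  have hxx : ∀ {j k}, Dj i j → Dj i k → ∀ u v, Cm R i (R.x i j u) (R.x i k v) := by
    intro j k hij hik u v
    by_cases hk : k = neg j
    · subst hk
      refine Cm.of_commute ?_
      rw [R.x_symm i j, R.x_symm i (neg j)]
      have := R.x_comm' (i := j) (j := i) u v
      exact this
    · refine Cm.of_commute (R.x_comm (ne_neg i) hij.2 hik.symm.2 hk u v)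
  rcases hg with ⟨u, rfl⟩ | ⟨a, rfl⟩ | ⟨j, hij, ⟨u, rfl⟩ | ⟨a, rfl⟩⟩ <;>
    rcases hh with ⟨u', rfl⟩ | ⟨a', rfl⟩ | ⟨k, hik, ⟨u', rfl⟩ | ⟨a', rfl⟩⟩
  · obtain ⟨c, hc⟩ := D.wy_add i u u'
    obtain ⟨c', hc'⟩ := D.wy_add i u' u
    refine ⟨c' + c, ?_⟩
    have e : D.wy i (u + u') = D.wy i u' * D.wy i u * R.y i c' := by
      rw [hc', mul_assoc, R.y_sq, mul_one, add_comm]
    rw [hc, e, mul_assoc _ (R.y i c'), ← R.y_add]
    exact ((D.cy_wy i u').mul (D.cy_wy i u) _).eq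
  · exact Cm.of_commute (D.cy_wy i u a')
  · exact Cm.of_commute (D.c5 hik (ne_neg i) hik.symm.2 _ _)
  · exact Cm.of_commute (D.b2 hik (ne_neg i) hik.symm.2 _ _)
  · exact Cm.of_commute (D.cy_wy i u' a).symm
  · exact Cm.of_commute (cy_y i a a')
  · exact Cm.of_commute (D.cy_wx hik u' a).symm
  · exact Cm.of_commute (cy_x hik a' a).symm
  · exact Cm.of_commute (D.c5 hij (ne_neg i) hij.symm.2 _ _).symm
  · exact Cm.of_commute (D.cy_wx hij u a')
  · exact hwx hij hik u u'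
  · exact hwxx hij hik u a'
  · exact Cm.of_commute (D.b2 hij (ne_neg i) hij.symm.2 _ _).symm
  · exact Cm.of_commute (cy_x hij a a')
  · exact (hwxx hik hij u' a).symm
  · exact hxx hij hik a a'

theorem N_cy {i : Ix n} {g : G} (h : g ∈ D.N i) : Cy R i g :=
  (closure_cm (fun _ h => D.NS_cy h) (fun _ h _ h' => D.NS_cm h h') g h).1

theorem N_cm {i : Ix n} {g h : G} (hg : g ∈ D.N i) (hh : h ∈ D.N i) : Cm R i g h :=
  (closure_cm (fun _ h => D.NS_cy h) (fun _ h _ h' => D.NS_cm h h') g hg).2 h hh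

theorem wy_mem_N (i : Ix n) (u : F) : D.wy i u ∈ D.N i := Subgroup.subset_closure (Or.inl ⟨u, rfl⟩)

theorem y_mem_N (i : Ix n) (u : F) : R.y i u ∈ D.N i := Subgroup.subset_closure (Or.inr (Or.inl ⟨u, rfl⟩))

theorem wx_mem_N {i j : Ix n} (h : Dj i j) (u : F) : D.wx i j u ∈ D.N i :=
  Subgroup.subset_closure (Or.inr (Or.inr ⟨j, h, Or.inl ⟨u, rfl⟩⟩))

theorem x_mem_N {i j : Ix n} (h : Dj i j) (u : F) : R.x i j u ∈ D.N i :=
  Subgroup.subset_closure (Or.inr (Or.inr ⟨j, h, Or.inr ⟨u, rfl⟩⟩))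

theorem Q_le_N (i : Ix n) : R.Q i ≤ D.N i := by
  refine (Subgroup.closure_le _).mpr ?_
  rintro g (⟨a, rfl⟩ | ⟨j, a, rfl⟩)
  · exact D.y_mem_N i a
  · by_cases h : Dj i j
    · exact D.x_mem_N h a
    · rw [R.x_of_not h]; exact one_mem _

theorem p_cmx {i j k : Ix n} (hij : Dj i j) (hik : Dj i k) (u v c : F) : Cm R i (D.p i j u v) (R.x i k c) := by
  by_cases hk : k = neg j
  · subst hk; exact D.p_xn hij u v c
  · exact Cm.of_commute (D.p_x hij u v hik hk c)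

/-- `a P a⁻¹ = P⁻¹` -/
theorem p_inv {i j : Ix n} (hij : Dj i j) (u v : F) :
    D.wx i (neg j) u * D.p i j u v * (D.wx i (neg j) u)⁻¹ = (D.p i j u v)⁻¹ := by
  have h1 := D.wx_inv (dj_neg_right.mpr hij) u
  have h2 := D.wx_sq (dj_neg_right.mpr hij) u
  rw [p, mul_inv_rev, mul_inv_rev, mul_inv_rev, inv_inv, inv_inv]
  calc _ = (D.wx i (neg j) u * D.wx i (neg j) u) * D.wy j v * (D.wx i (neg j) u)⁻¹ * (D.wy j v)⁻¹ *
        (D.wx i (neg j) u)⁻¹ := by simp only [mul_assoc]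
    _ = D.wy j v * (D.wx i (neg j) u)⁻¹ * (D.wy j v)⁻¹ * (D.wx i (neg j) u)⁻¹ := by rw [h2, one_mul]
    _ = _ := by rw [h1]; simp only [mul_assoc]

theorem eq_zero_of_commute {i j : Ix n} (hij : Dj i j) {u : F} {e : F}
    (h : Commute (D.wx i j 1) (R.x i (neg j) u * R.y i e)) : u = 0 := by
  have h1 : Commute (D.wx i j 1) (R.x i (neg j) u) := by
    have h2 := D.cy_wx hij 1 e
    have h3 := h.mul_right h2
    rwa [mul_assoc, R.y_sq, mul_one] at h3
  have h4 := D.a2 hij 1 u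
  rw [h1.eq, one_mul] at h4
  exact R.y_eq_one (mul_eq_right.mp h4.symm)

/-- (10.2) and the vanishing of the `t`-component -/
theorem p_div {i j k : Ix n} (hij : Dj i j) (hik : Dj i k) (hjk : Dj j k) {u v u' v' : F}
    (hs : u ^ 2 * v = u' ^ 2 * v') : D.p i j u v * (D.p i k u' v')⁻¹ ∈ D.N i := by
  by_cases h0 : u ^ 2 * v = 0
  · have e1 : D.p i j u v = 1 := by
      rcases mul_eq_zero.mp h0 with h | h
      · rw [pow_eq_zero_iff two_ne_zero] at h; rw [h, D.p_zero_left hij]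
      · rw [h, D.p_zero_right]
    have e2 : D.p i k u' v' = 1 := by
      rw [hs] at h0
      rcases mul_eq_zero.mp h0 with h | h
      · rw [pow_eq_zero_iff two_ne_zero] at h; rw [h, D.p_zero_left hik]
      · rw [h, D.p_zero_right]
    rw [e1, e2, inv_one, mul_one]; exact one_mem _
  have hu : u ≠ 0 := fun h => h0 (by rw [h]; ring)
  obtain ⟨c, d, h1⟩ := D.t_p hij u v
  obtain ⟨c', d', h2⟩ := D.t_p hik u' v'
  have hkj : k ≠ neg j := hjk.symm.2
  have hjk' : j ≠ neg k := hjk.2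
  set P := D.p i j u v with hP
  set P' := D.p i k u' v' with hP'
  have ti : R.t⁻¹ = R.t := R.t_inv
  have hWX : ∀ {l}, Dj i l → ∀ w w', Commute (D.wy i w) (R.x i l w') := fun h w w' =>
    D.b2 h (ne_neg i) h.symm.2 w w'
  have cP'j : Commute P' (R.x i j c) := D.p_x hik u' v' hij hjk' c
  have cP'k : Commute P' (R.x i k c') := D.p_x hik u' v' hik (ne_neg k) c'
  have g1 : R.t * (P * P'⁻¹) * R.t = (P * P'⁻¹) * (R.x i j c * R.x i k c' * R.y i (d + d')) := by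
    have e1 : R.t * (P * P'⁻¹) * R.t = (R.t * P * R.t) * (R.t * P' * R.t)⁻¹ := by
      rw [mul_inv_rev, mul_inv_rev, ti]
      calc _ = R.t * P * (R.t * R.t) * P'⁻¹ * R.t := by rw [R.tt]; group
        _ = _ := by simp only [mul_assoc]
    rw [e1, h1, h2, ← hs]
    have e2 : Commute (R.x i j c * R.x i k c' * R.y i (d + d')) P' :=
      ((cP'j.mul_right cP'k).mul_right (D.p_y hik u' v' _)).symm
    have e3 : Commute (D.wy i (u ^ 2 * v)) (R.x i j c * R.y i d * (R.y i d' * R.x i k c')) :=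
      ((hWX hij _ _).mul_right (D.cy_wy i _ _)).mul_right ((D.cy_wy i _ _).mul_right (hWX hik _ _))
    calc _ = P * (D.wy i (u ^ 2 * v) * (R.x i j c * R.y i d * (R.y i d' * R.x i k c'))) *
          (D.wy i (u ^ 2 * v))⁻¹ * P'⁻¹ := by
          simp only [mul_inv_rev, R.x_inv, R.y_inv, mul_assoc]
      _ = P * (R.x i j c * R.y i d * (R.y i d' * R.x i k c')) * P'⁻¹ := by rw [e3.eq]; group
      _ = P * (R.x i j c * (R.y i (d + d') * R.x i k c')) * P'⁻¹ := by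
          rw [R.y_add]; simp only [mul_assoc]
      _ = P * (R.x i j c * R.x i k c' * R.y i (d + d')) * P'⁻¹ := by
          rw [← (cy_x hik c' _).eq, mul_assoc (R.x i j c)]
      _ = _ := by rw [mul_assoc P, (e2.inv_right).eq, mul_assoc P]
  set e := d + d' with he
  set m := D.wx i j c * D.wx i k c' * D.wy i e with hm
  have cXX : Commute (R.x i j c) (R.x i k c') := R.x_comm (ne_neg i) hij.2 hik.symm.2 hkj _ _
  have cxm : Commute (R.x i j c * R.x i k c' * R.y i e) m := by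
    have cj : Commute (R.x i j c) m :=
      ((D.a1 hij hij (ne_neg i) hij.2 hij.symm.2 (ne_neg j) c c).symm.mul_right
        (D.a1 hik hij (ne_neg i) hik.2 hij.symm.2 hjk' c' c).symm).mul_right (hWX hij e c).symm
    have ck : Commute (R.x i k c') m :=
      ((D.a1 hij hik (ne_neg i) hij.2 hik.symm.2 hkj c c').symm.mul_right
        (D.a1 hik hik (ne_neg i) hik.2 hik.symm.2 (ne_neg k) c' c').symm).mul_right (hWX hik e c').symm
    have cy : Commute (R.y i e) m := (((D.cy_wx hij c).mul (D.cy_wx hik c')).mul (D.cy_wy i e) e).symm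
    exact (cj.mul_left ck).mul_left cy
  have mN : m ∈ D.N i := mul_mem (mul_mem (D.wx_mem_N hij _) (D.wx_mem_N hik _)) (D.wy_mem_N i _)
  have tm : R.t * m * R.t = m * (R.x i j c * R.x i k c' * R.y i e) := by
    have e1 : R.t * m * R.t = (R.t * D.wx i j c * R.t) * (R.t * D.wx i k c' * R.t) * (R.t * D.wy i e * R.t) := by
      rw [hm]
      calc _ = R.t * D.wx i j c * (R.t * R.t) * D.wx i k c' * (R.t * R.t) * D.wy i e * R.t := by
            rw [R.tt]; simp only [mul_one, mul_assoc]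
        _ = _ := by simp only [mul_assoc]
    rw [e1, D.wx_t hij, D.wx_t hik, D.wy_t]
    have c1 : Commute (R.x i j c) (D.wx i k c') := (D.a1 hik hij (ne_neg i) hik.2 hij.symm.2 hjk' c' c).symm
    have c2 : Commute (R.x i j c * R.x i k c') (D.wy i e) :=
      (hWX hij e c).symm.mul_left (hWX hik e c').symm
    calc _ = D.wx i j c * (R.x i j c * D.wx i k c') * R.x i k c' * (D.wy i e * R.y i e) := by
          simp only [mul_assoc]
      _ = D.wx i j c * D.wx i k c' * ((R.x i j c * R.x i k c') * D.wy i e) * R.y i e := by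
          rw [c1.eq]; simp only [mul_assoc]
      _ = _ := by rw [c2.eq, hm]; simp only [mul_assoc]
  have sq1 : (R.x i j c * R.x i k c' * R.y i e) * (R.x i j c * R.x i k c' * R.y i e) = 1 := by
    have h3 : Commute (R.x i j c * R.x i k c') (R.y i e) := ((cy_x hij c).mul (cy_x hik c')) e
    calc _ = (R.x i j c * R.x i k c') * (R.y i e * (R.x i j c * R.x i k c')) * R.y i e := by
          simp only [mul_assoc]
      _ = (R.x i j c * R.x i k c') * (R.x i j c * R.x i k c') * (R.y i e * R.y i e) := by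
          rw [← h3.eq]; simp only [mul_assoc]
      _ = R.x i j c * (R.x i k c' * R.x i j c) * R.x i k c' := by rw [R.y_sq]; simp only [mul_one, mul_assoc]
      _ = (R.x i j c * R.x i j c) * (R.x i k c' * R.x i k c') := by rw [← cXX.eq]; simp only [mul_assoc]
      _ = 1 := by rw [R.x_sq, R.x_sq, one_mul]
  set g := P * P'⁻¹ with hg
  have tgm : g * m * R.t = R.t * (g * m) := by
    have e1 : R.t * (g * m) * R.t = g * m := by
      calc R.t * (g * m) * R.t = (R.t * g * R.t) * (R.t * m * R.t) := by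
            calc _ = R.t * g * (R.t * R.t) * m * R.t := by rw [R.tt]; simp only [mul_one, mul_assoc]
              _ = _ := by simp only [mul_assoc]
        _ = g * ((R.x i j c * R.x i k c' * R.y i e) * m) * (R.x i j c * R.x i k c' * R.y i e) := by
            rw [g1, tm]; simp only [mul_assoc]
        _ = g * m * ((R.x i j c * R.x i k c' * R.y i e) * (R.x i j c * R.x i k c' * R.y i e)) := by
            rw [cxm.eq]; simp only [mul_assoc]
        _ = g * m := by rw [sq1, mul_one]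
    calc g * m * R.t = (R.t * R.t) * (g * m) * R.t := by rw [R.tt, one_mul]
      _ = R.t * (R.t * (g * m) * R.t) := by simp only [mul_assoc]
      _ = _ := by rw [e1]
  have cyg : Cy R i g := (D.p_y hij u v).mul (Cy.inv (D.p_y hik u' v'))
  have cmg : ∀ l, Dj i l → ∀ a, Cm R i (g * m) (R.x i l a) := fun l hil a =>
    Cm.mul cyg (Cm.mul (D.p_y hij u v) (D.p_cmx hij hil u v a)
      (Cm.inv (D.p_y hik u' v') (D.p_cmx hik hil u' v' a))) (D.N_cm mN (D.x_mem_N hil a))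
  rcases D.f3 i (g * m) tgm (cyg.mul (D.N_cy mN)) cmg with h | h
  · have : g = (g * m) * m⁻¹ := by group
    rw [this]
    exact mul_mem (D.Q_le_N i h) (inv_mem mN)
  · exfalso
    have hn := dj_neg_right.mpr hij
    have hPz : P = R.t * (R.t * (g * m) * m⁻¹ * P') := by
      calc P = g * P' := by rw [hg]; group
        _ = (R.t * R.t) * g * P' := by rw [R.tt, one_mul]
        _ = _ := by group
    set z := R.t * (g * m) * m⁻¹ * P' with hz
    have cyq : Cy R i (R.t * (g * m) * m⁻¹) := (D.N_cy (D.Q_le_N i h)).mul (D.N_cy mN).inv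
    have cza : Cm R i z (D.wx i (neg j) u) :=
      Cm.mul cyq (D.N_cm (mul_mem (D.Q_le_N i h) (inv_mem mN)) (D.wx_mem_N hn u))
        (Cm.of_commute (D.p_wx hik u' v' hn (by rw [Ne, neg_inj]; exact hjk.1) u))
    obtain ⟨c1, hc1⟩ := cza.symm
    have hx : Commute (D.wx i (neg j) u) (R.x i (neg j) u) := D.a1 hn hn (ne_neg i) hn.2 hn.symm.2 (ne_neg _) u u
    have ht := D.wx_t hn u
    have hat : D.wx i (neg j) u * R.t * (D.wx i (neg j) u)⁻¹ = R.t * R.x i (neg j) u := by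
      have e1 : R.t * D.wx i (neg j) u * R.t * (D.wx i (neg j) u)⁻¹ = R.x i (neg j) u := by
        rw [ht, hx.eq]; group
      calc _ = R.t * (R.t * D.wx i (neg j) u * R.t * (D.wx i (neg j) u)⁻¹) := by
            rw [← mul_assoc, ← mul_assoc, ← mul_assoc, R.tt, one_mul]
        _ = _ := by rw [e1]
    have hPi : P⁻¹ = R.x i (neg j) u * (R.y i c1 * P) := by
      rw [← D.p_inv hij u v, ← hP]
      calc _ = (D.wx i (neg j) u * R.t * (D.wx i (neg j) u)⁻¹) * (D.wx i (neg j) u * z) * (D.wx i (neg j) u)⁻¹ := by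
            rw [hPz]; group
        _ = (R.t * R.x i (neg j) u) * R.y i c1 * z := by rw [hat, hc1]; group
        _ = R.x i (neg j) u * (R.t * R.y i c1) * z := by rw [← (R.x_t i (neg j) u).eq]; simp only [mul_assoc]
        _ = _ := by rw [← (R.y_t i c1).eq, hPz]; simp only [mul_assoc]
    obtain ⟨c2, hc2⟩ := D.p_xn hij u v u
    have cyP : Cy R i P := D.p_y hij u v
    have hPP : P * P = R.x i (neg j) u * R.y i (c1 + c2) := by
      have e1 : P * (R.x i (neg j) u * (R.y i c1 * P)) = 1 := by rw [← hPi]; group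
      have e2 : R.y i c2 * (R.x i (neg j) u * (R.y i c1 * (P * P))) = 1 := by
        rw [← e1, ← mul_assoc P, hc2, ← mul_assoc (R.y i c1), ← (cyP c1).eq]
        simp only [mul_assoc]
        rw [(cyP c1).eq]
      have e3 : P * P = (R.y i c2 * (R.x i (neg j) u * R.y i c1))⁻¹ :=
        eq_inv_of_mul_eq_one_right (by rw [← e2]; simp only [mul_assoc])
      rw [e3, mul_inv_rev, mul_inv_rev, R.y_inv, R.y_inv, R.x_inv, R.y_add, ← (cy_x hn u c1).eq]
      simp only [mul_assoc]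
    refine hu (D.eq_zero_of_commute hij (e := c1 + c2) (u := u) ?_)
    rw [← hPP]
    have := D.p_wx hij u v hij (ne_neg j) 1
    exact this.symm.mul_right this.symm

theorem p_mem {i j k : Ix n} (hij : Dj i j) (hik : Dj i k) (hjk : Dj j k) {u v u' v' : F}
    (hs : u ^ 2 * v = u' ^ 2 * v') : ∃ m ∈ D.N i, D.p i j u v = m * D.p i k u' v' :=
  ⟨_, D.p_div hij hik hjk hs, by group⟩


/-- `N_i` is generated by elements commuting with `P` modulo `Y_i` -/
theorem N_le_cen {i : Ix n} {g : G} (hg : Cy R i g) (h1 : ∀ j, Dj i j → ∀ u, Cm R i g (D.wx i j u))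
    (h2 : ∀ j, Dj i j → ∀ a, Cm R i g (R.x i j a)) (h3 : ∀ u, Cm R i g (D.wy i u)) :
    ∀ m ∈ D.N i, Cm R i g m := by
  have : D.N i ≤ cen R i g := by
    refine (Subgroup.closure_le _).mpr ?_
    rintro m (⟨u, rfl⟩ | ⟨a, rfl⟩ | ⟨j, hij, ⟨u, rfl⟩ | ⟨a, rfl⟩⟩)
    · exact ⟨D.cy_wy i u, (h3 u).symm⟩
    · exact ⟨cy_y i a, Cm.of_commute (hg a).symm⟩
    · exact ⟨D.cy_wx hij u, (h1 j hij u).symm⟩
    · exact ⟨cy_x hij a, (h2 j hij a).symm⟩
  exact fun m hm => (this hm).2.symm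

section big

variable (h3 : ∀ i j : Ix n, ∃ k, Dj i k ∧ Dj j k)

include h3

theorem p_cm_wxn {i j : Ix n} (hij : Dj i j) (u v c : F) : Cm R i (D.p i j u v) (D.wx i (neg j) c) := by
  obtain ⟨k, hik, hjk⟩ := h3 i j
  obtain ⟨m, hm, e⟩ := D.p_mem hij hik hjk (u := u) (v := v) (u' := u) (v' := v) rfl
  rw [e]
  exact Cm.mul (D.N_cy hm) (D.N_cm hm (D.wx_mem_N (dj_neg_right.mpr hij) c))
    (Cm.of_commute (D.p_wx hik u v (dj_neg_right.mpr hij) (by rw [Ne, neg_inj]; exact hjk.1) c))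

theorem p_cm_N {i j : Ix n} (hij : Dj i j) (u v : F) : ∀ m ∈ D.N i, Cm R i (D.p i j u v) m :=
  D.N_le_cen (D.p_y hij u v) (fun k hik c => by
    by_cases hk : k = neg j
    · subst hk; exact D.p_cm_wxn h3 hij u v c
    · exact Cm.of_commute (D.p_wx hij u v hik hk c)) (fun k hik c => D.p_cmx hij hik u v c)
    (fun c => D.p_wy hij u v c)

theorem p_sq {i j : Ix n} (hij : Dj i j) (u v : F) : D.p i j u v * D.p i j u v ∈ Yg R i := by
  obtain ⟨c, hc⟩ := (D.p_cm_wxn h3 hij u v u).symm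
  have h1 := D.p_inv hij u v
  rw [hc] at h1
  refine ⟨c, ?_⟩
  have h2 : R.y i c * D.p i j u v = (D.p i j u v)⁻¹ := by rw [← h1]; group
  have h4 : R.y i c * (D.p i j u v * D.p i j u v) = 1 := by rw [← mul_assoc, h2, inv_mul_cancel]
  calc D.p i j u v * D.p i j u v = R.y i c * (R.y i c * (D.p i j u v * D.p i j u v)) := by
        rw [← mul_assoc, R.y_sq, one_mul]
    _ = _ := by rw [h4, mul_one]

theorem p_add {i j : Ix n} (hij : Dj i j) (u u' v : F) :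
    ∃ c, D.p i j (u + u') v = R.y i c * (D.p i j u' v * D.p i j u v) := by
  obtain ⟨c, hc⟩ := (D.p_cm_wxn h3 hij u' v u).symm
  refine ⟨c, ?_⟩
  have e : D.p i j (u + u') v = D.wx i (neg j) u * D.p i j u' v * (D.wx i (neg j) u)⁻¹ * D.p i j u v := by
    simp only [p]
    rw [D.wx_add (dj_neg_right.mpr hij)]
    group
  rw [e, hc]; group

theorem p_cm_same {i j : Ix n} (hij : Dj i j) (u u' v : F) : Cm R i (D.p i j u v) (D.p i j u' v) := by
  obtain ⟨c, hc⟩ := D.p_add h3 hij u u' v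
  obtain ⟨d, hd⟩ := D.p_add h3 hij u' u v
  rw [add_comm u' u, hc] at hd
  refine ⟨d + c, ?_⟩
  have e := congrArg (fun g => R.y i d * g) hd
  rw [← mul_assoc, ← mul_assoc (R.y i d) (R.y i d), R.y_sq, one_mul, ← R.y_add] at e
  exact e.symm

theorem p_mem' [Finite F] {i j k : Ix n} (hij : Dj i j) (hik : Dj i k) {u' v' v : F} (hv : v ≠ 0) :
    ∃ a, ∃ m ∈ D.N i, D.p i k u' v' = m * D.p i j a v := by
  obtain ⟨a, ha⟩ : ∃ a : F, a ^ 2 = u' ^ 2 * v' / v := by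
    have h2 : ringChar F = 2 := ringChar.eq F 2
    obtain ⟨a, ha⟩ := FiniteField.isSquare_of_char_two h2 (u' ^ 2 * v' / v)
    exact ⟨a, by rw [ha, sq]⟩
  have ha' : u' ^ 2 * v' = a ^ 2 * v := by rw [ha, div_mul_cancel₀ _ hv]
  refine ⟨a, ?_⟩
  by_cases hjk : Dj j k
  · exact D.p_mem hik hij hjk.symm ha'
  · obtain ⟨l, hil, hjl⟩ := h3 i j
    have hkl : Dj k l := by
      by_contra hkl
      simp only [Dj, not_and_or, not_not] at hjk hkl hjl
      rcases hjk with h | h <;> rcases hkl with h' | h'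
      · exact hjl.1 (h.trans h')
      · exact hjl.2 (h.trans h')
      · exact hjl.2 (by rw [h, h'])
      · exact hjl.1 (by rw [h, h', neg_neg])
    obtain ⟨m1, hm1, e1⟩ := D.p_mem hik hil hkl (u := u') (v := v') (u' := u') (v' := v') rfl
    obtain ⟨m2, hm2, e2⟩ := D.p_mem hil hij hjl.symm ha'
    exact ⟨m1 * m2, mul_mem hm1 hm2, by rw [e1, e2, mul_assoc]⟩

theorem p_cm [Finite F] {i j k : Ix n} (hij : Dj i j) (hik : Dj i k) (u v u' v' : F) :
    Cm R i (D.p i j u v) (D.p i k u' v') := by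
  by_cases hv : v = 0
  · rw [hv, D.p_zero_right]; exact Cm.of_commute (Commute.one_left _)
  obtain ⟨a, m, hm, e⟩ := D.p_mem' h3 hij hik hv (u' := u') (v' := v')
  rw [e]
  exact (Cm.mul (D.N_cy hm) (D.p_cm_N h3 hij u v m hm).symm (D.p_cm_same h3 hij a u v)).symm

end big

/-- generators of `F_i(J)` -/
def FS (i : Ix n) (J : Set (Ix n)) : Set G :=
  {g | (∃ u, g = D.wy i u) ∨ (∃ a, g = R.y i a) ∨ ∃ j ∈ J, Dj i j ∧
    ((∃ u, g = D.wx i j u) ∨ (∃ a, g = R.x i j a) ∨ ∃ u v, g = D.p i j u v)}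

/-- `F_i(J) = ⟨W_{2e_i}, W_{e_i+e_j}, p_j(u,v) : j ∈ J⟩` -/
def Fg (i : Ix n) (J : Set (Ix n)) : Subgroup G := Subgroup.closure (D.FS i J)

section Fmem

variable {i j : Ix n} {J : Set (Ix n)}

theorem wy_mem_F (u : F) : D.wy i u ∈ D.Fg i J := Subgroup.subset_closure (Or.inl ⟨u, rfl⟩)

theorem y_mem_F (u : F) : R.y i u ∈ D.Fg i J := Subgroup.subset_closure (Or.inr (Or.inl ⟨u, rfl⟩))

theorem wx_mem_F (hJ : j ∈ J) (h : Dj i j) (u : F) : D.wx i j u ∈ D.Fg i J :=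
  Subgroup.subset_closure (Or.inr (Or.inr ⟨j, hJ, h, Or.inl ⟨u, rfl⟩⟩))

theorem x_mem_F (hJ : j ∈ J) (h : Dj i j) (u : F) : R.x i j u ∈ D.Fg i J :=
  Subgroup.subset_closure (Or.inr (Or.inr ⟨j, hJ, h, Or.inr (Or.inl ⟨u, rfl⟩)⟩))

theorem p_mem_F (hJ : j ∈ J) (h : Dj i j) (u v : F) : D.p i j u v ∈ D.Fg i J :=
  Subgroup.subset_closure (Or.inr (Or.inr ⟨j, hJ, h, Or.inr (Or.inr ⟨u, v, rfl⟩)⟩))

theorem F_mono {J' : Set (Ix n)} (h : J ⊆ J') : D.Fg i J ≤ D.Fg i J' := by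
  refine Subgroup.closure_mono ?_
  rintro g (h1 | h1 | ⟨j, hj, hij, h1⟩)
  exacts [Or.inl h1, Or.inr (Or.inl h1), Or.inr (Or.inr ⟨j, h hj, hij, h1⟩)]

theorem N_le_F : D.N i ≤ D.Fg i Set.univ := by
  refine Subgroup.closure_mono ?_
  rintro g (h1 | h1 | ⟨j, hij, h1 | h1⟩)
  exacts [Or.inl h1, Or.inr (Or.inl h1), Or.inr (Or.inr ⟨j, trivial, hij, Or.inl h1⟩),
    Or.inr (Or.inr ⟨j, trivial, hij, Or.inr (Or.inl h1)⟩)]

variable [Finite F] (h3 : ∀ i j : Ix n, ∃ k, Dj i k ∧ Dj j k)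

include h3

theorem FS_cm {g h : G} (hg : g ∈ D.FS i Set.univ) (hh : h ∈ D.FS i Set.univ) : Cm R i g h := by
  have key : ∀ g, g ∈ D.FS i Set.univ → g ∈ D.N i ∨ ∃ j, Dj i j ∧ ∃ u v, g = D.p i j u v := by
    rintro g (⟨u, rfl⟩ | ⟨a, rfl⟩ | ⟨j, -, hij, ⟨u, rfl⟩ | ⟨a, rfl⟩ | ⟨u, v, rfl⟩⟩)
    exacts [Or.inl (D.wy_mem_N i u), Or.inl (D.y_mem_N i a), Or.inl (D.wx_mem_N hij u), Or.inl (D.x_mem_N hij a),
      Or.inr ⟨j, hij, u, v, rfl⟩]
  rcases key g hg with h1 | ⟨j, hij, u, v, rfl⟩ <;> rcases key h hh with h2 | ⟨k, hik, u', v', rfl⟩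
  · exact D.N_cm h1 h2
  · exact (D.p_cm_N h3 hik u' v' g h1).symm
  · exact D.p_cm_N h3 hij u v h h2
  · exact D.p_cm h3 hij hik u v u' v'

omit h3 [Finite F] in
theorem FS_cy {g : G} (hg : g ∈ D.FS i J) : Cy R i g := by
  rcases hg with ⟨u, rfl⟩ | ⟨a, rfl⟩ | ⟨j, -, hij, ⟨u, rfl⟩ | ⟨a, rfl⟩ | ⟨u, v, rfl⟩⟩
  exacts [D.cy_wy i u, cy_y i a, D.cy_wx hij u, cy_x hij a, D.p_y hij u v]

omit h3 [Finite F] in
theorem F_cy {g : G} (hg : g ∈ D.Fg i J) : Cy R i g :=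
  Subgroup.closure_induction (p := fun g _ => Cy R i g) (fun _ hs => D.FS_cy hs) Cy.one
    (fun _ _ _ _ ha hb => ha.mul hb) (fun _ _ ha => ha.inv) hg

theorem F_cm {g h : G} (hg : g ∈ D.Fg i J) (hh : h ∈ D.Fg i J) : Cm R i g h :=
  (closure_cm (fun _ h => D.FS_cy h) (fun _ h _ h' => D.FS_cm h3 h h') g (D.F_mono (Set.subset_univ J) hg)).2 h
    (D.F_mono (Set.subset_univ J) hh)

theorem F_sq {g : G} (hg : g ∈ D.Fg i J) : g * g ∈ Yg R i := by
  refine Subgroup.closure_induction (p := fun g _ => g * g ∈ Yg R i) ?_ ?_ ?_ ?_ hg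
  · rintro g (⟨u, rfl⟩ | ⟨a, rfl⟩ | ⟨j, -, hij, ⟨u, rfl⟩ | ⟨a, rfl⟩ | ⟨u, v, rfl⟩⟩)
    · rw [D.wy_sq]; exact y_mem_Yg i u
    · rw [R.y_sq]; exact one_mem _
    · rw [D.wx_sq hij]; exact one_mem _
    · rw [R.x_sq]; exact one_mem _
    · exact D.p_sq h3 hij u v
  · rw [one_mul]; exact one_mem _
  · intro a b ha hb h1 h2
    obtain ⟨c, hc⟩ := D.F_cm h3 hb ha
    have e : a * b * (a * b) = R.y i c * ((a * a) * (b * b)) := by
      calc a * b * (a * b) = a * (b * a) * b := by group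
        _ = (a * R.y i c) * (a * b * b) := by rw [hc]; group
        _ = _ := by rw [(D.F_cy ha c).eq]; group
    rw [e]
    exact mul_mem (y_mem_Yg i c) (mul_mem h1 h2)
  · intro a _ h1
    have : a⁻¹ * a⁻¹ = (a * a)⁻¹ := by group
    rw [this]; exact inv_mem h1

end Fmem

/-! ### normalisers -/

omit D in
theorem mem_normalizer_of_gen {H : Type*} [Group H] [Finite H] {S : Set H} {g : H}
    (h : ∀ s ∈ S, g * s * g⁻¹ ∈ Subgroup.closure S) :
    g ∈ Subgroup.normalizer (Subgroup.closure S : Set H) := by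
  have h1 : (Subgroup.closure S).map (MulAut.conj g).toMonoidHom ≤ Subgroup.closure S := by
    rw [Subgroup.map_le_iff_le_comap, Subgroup.closure_le]
    intro s hs
    exact h s hs
  have h2 : (Subgroup.closure S).map (MulAut.conj g).toMonoidHom = Subgroup.closure S :=
    Subgroup.eq_of_le_of_card_ge h1
      (Nat.card_congr ((Subgroup.closure S).equivMapOfInjective _ (MulAut.conj g).injective).toEquiv).le
  rw [Subgroup.mem_normalizer_iff]
  intro x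
  constructor
  · intro hx
    exact h1 ⟨x, hx, rfl⟩
  · intro hx
    have hx' : g * x * g⁻¹ ∈ (Subgroup.closure S).map (MulAut.conj g).toMonoidHom := by
      rw [h2]; exact hx
    obtain ⟨z, hz, e⟩ := hx'
    have e2 : g * z * g⁻¹ = g * x * g⁻¹ := e
    have e3 : z = x := mul_left_cancel (mul_right_cancel e2)
    rwa [← e3]

section nor

variable [Finite G] [Finite F] (h3 : ∀ i j : Ix n, ∃ k, Dj i k ∧ Dj j k) {i : Ix n}

/-- to normalise `F_i` -/
theorem mem_nor {g : G} (h0 : ∀ u, g * D.wy i u * g⁻¹ ∈ D.Fg i Set.univ) (h1 : Cy R i g)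
    (h2 : ∀ j, Dj i j → ∀ u, g * D.wx i j u * g⁻¹ ∈ D.Fg i Set.univ)
    (h4 : ∀ j, Dj i j → ∀ u, g * R.x i j u * g⁻¹ ∈ D.Fg i Set.univ)
    (h5 : ∀ j, Dj i j → ∀ u v, g * D.p i j u v * g⁻¹ ∈ D.Fg i Set.univ) :
    g ∈ Subgroup.normalizer (D.Fg i Set.univ : Set G) := by
  refine mem_normalizer_of_gen ?_
  rintro s (⟨u, rfl⟩ | ⟨a, rfl⟩ | ⟨j, -, hij, ⟨u, rfl⟩ | ⟨a, rfl⟩ | ⟨u, v, rfl⟩⟩)
  · exact h0 u
  · rw [(h1 a).mul_inv_cancel]; exact D.y_mem_F a
  · exact h2 j hij u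
  · exact h4 j hij a
  · exact h5 j hij u v

omit [Finite G] [Finite F] in
theorem conj_mem_of_comm {g s : G} {H : Subgroup G} (h : Commute g s) (hs : s ∈ H) : g * s * g⁻¹ ∈ H := by
  rw [h.mul_inv_cancel]; exact hs

omit [Finite G] in
theorem x_conj {k l : Ix n} (hik : Dj i k) (hil : Dj i l) (hkl : Dj k l) (c : F) :
    (∀ j, Dj i j → ∀ u, R.x k l c * D.wx i j u * (R.x k l c)⁻¹ ∈ D.N i) ∧
    (∀ j, Dj i j → ∀ u, R.x k l c * R.x i j u * (R.x k l c)⁻¹ ∈ D.N i) ∧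
    (∀ j, Dj i j → ∀ u v, R.x k l c * D.p i j u v * (R.x k l c)⁻¹ ∈ D.Fg i Set.univ) := by
  have hwx : ∀ {k l : Ix n}, Dj i k → Dj i l → Dj k l → ∀ (j : Ix n), Dj i j → ∀ u, l ≠ neg j →
      R.x k l c * D.wx i j u * (R.x k l c)⁻¹ ∈ D.N i := by
    intro k l hik hil hkl j hij u hjl
    by_cases hk : k = neg j
    · subst hk
      obtain ⟨d, hd⟩ := D.a3 hij (dj_neg_left.mp hkl) hil u c
      rw [hd]
      exact mul_mem (mul_mem (D.wx_mem_N hij _) (D.wx_mem_N hil _)) (D.x_mem_N hil _)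
    · exact D.conj_mem_of_comm (D.a1 hij hkl hik.symm.2 hk hil.symm.2 hjl u c).symm (D.wx_mem_N hij u)
  have hx : ∀ {k l : Ix n}, Dj i k → Dj i l → Dj k l → ∀ (j : Ix n), Dj i j → ∀ u, l ≠ neg j →
      R.x k l c * R.x i j u * (R.x k l c)⁻¹ ∈ D.N i := by
    intro k l hik hil hkl j hij u hjl
    by_cases hk : k = neg j
    · subst hk
      have hd := R.x_rel hij (dj_neg_left.mp hkl) hil u c
      have e : R.x (neg j) l c * R.x i j u * (R.x (neg j) l c)⁻¹ = (R.x i l (u * c))⁻¹ * R.x i j u := by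
        have h4 : R.x (neg j) l c * R.x i j u = (R.x i l (u * c))⁻¹ * (R.x i j u * R.x (neg j) l c) := by
          rw [hd]; group
        rw [h4]; group
      rw [e]
      exact mul_mem (inv_mem (D.x_mem_N hil _)) (D.x_mem_N hij _)
    · exact D.conj_mem_of_comm (R.x_comm hik.symm.2 hk hil.symm.2 hjl u c).symm (D.x_mem_N hij u)
  -- commuting with `p`
  have hp0 : ∀ {k l : Ix n}, Dj i k → Dj i l → Dj k l → ∀ (j : Ix n), Dj i j → ∀ u v, k ≠ neg j → l ≠ neg j →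
      Commute (R.x k l c) (D.p i j u v) := by
    intro k l hik hil hkl j hij u v hk hl
    by_cases hkj : k = j
    · subst hkj; exact (D.p_xj hij u v hil hkl c).symm
    by_cases hlj : l = j
    · subst hlj; rw [R.x_symm]; exact (D.p_xj hij u v hik hkl.symm c).symm
    · exact (D.p_xkl hij u v hkl hik hil ⟨fun e => hkj e.symm, fun e => hk (by rw [e, neg_neg])⟩
        ⟨fun e => hlj e.symm, fun e => hl (by rw [e, neg_neg])⟩ c).symm
  have hN : ∀ m ∈ D.N i, R.x k l c * m * (R.x k l c)⁻¹ ∈ D.N i := by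
    intro m hm
    refine Subgroup.closure_induction (p := fun m _ => R.x k l c * m * (R.x k l c)⁻¹ ∈ D.N i) ?_ ?_ ?_ ?_ hm
    · rintro s (⟨u, rfl⟩ | ⟨a, rfl⟩ | ⟨j, hij, h⟩)
      · exact D.conj_mem_of_comm (D.b2 hkl hik.symm.2 hil.symm.2 u c).symm (D.wy_mem_N i u)
      · exact D.conj_mem_of_comm (R.y_x_comm hik.symm.2 hil.symm.2 a c).symm (D.y_mem_N i a)
      · by_cases hl : l = neg j
        · have hk : k ≠ neg j := fun e => hkl.1 (e.trans hl.symm)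
          rw [R.x_symm k l]
          rcases h with ⟨u, rfl⟩ | ⟨u, rfl⟩
          exacts [hwx hil hik hkl.symm j hij u hk, hx hil hik hkl.symm j hij u hk]
        · rcases h with ⟨u, rfl⟩ | ⟨u, rfl⟩
          exacts [hwx hik hil hkl j hij u hl, hx hik hil hkl j hij u hl]
    · rw [mul_one, mul_inv_cancel]; exact one_mem _
    · intro a b _ _ ha hb
      have e : R.x k l c * (a * b) * (R.x k l c)⁻¹ =
          (R.x k l c * a * (R.x k l c)⁻¹) * (R.x k l c * b * (R.x k l c)⁻¹) := by group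
      rw [e]; exact mul_mem ha hb
    · intro a _ ha
      have e : R.x k l c * a⁻¹ * (R.x k l c)⁻¹ = (R.x k l c * a * (R.x k l c)⁻¹)⁻¹ := by group
      rw [e]; exact inv_mem ha
  refine ⟨fun j hij u => hN _ (D.wx_mem_N hij u), fun j hij u => hN _ (D.x_mem_N hij u), fun j hij u v => ?_⟩
  by_cases h : k ≠ neg j ∧ l ≠ neg j
  · exact D.conj_mem_of_comm (hp0 hik hil hkl j hij u v h.1 h.2) (D.p_mem_F (Set.mem_univ _) hij u v)
  · -- `p_j = m p_k'` with `k'` the other index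
    obtain ⟨k', hik', hjk', hc⟩ : ∃ k', Dj i k' ∧ Dj j k' ∧ Commute (R.x k l c) (D.p i k' u v) := by
      by_cases hk : k = neg j
      · refine ⟨l, hil, ?_, hp0 hik hil hkl l hil u v ?_ (ne_neg l)⟩
        · rw [hk] at hkl; exact dj_neg_left.mp hkl
        · exact hkl.2
      · have hl : l = neg j := by
          by_contra hl; exact h ⟨hk, hl⟩
        refine ⟨k, hik, ?_, hp0 hik hil hkl k hik u v (ne_neg k) ?_⟩
        · rw [hl] at hkl; exact (dj_neg_right.mp hkl).symm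
        · exact hkl.symm.2
    obtain ⟨m, hm, e⟩ := D.p_mem hij hik' hjk' (u := u) (v := v) (u' := u) (v' := v) rfl
    have e2 : R.x k l c * D.p i j u v * (R.x k l c)⁻¹ =
        (R.x k l c * m * (R.x k l c)⁻¹) * (R.x k l c * D.p i k' u v * (R.x k l c)⁻¹) := by rw [e]; group
    rw [e2, hc.mul_inv_cancel]
    exact mul_mem (D.N_le_F (hN m hm)) (D.p_mem_F (Set.mem_univ _) hik' u v)

theorem x_nor {k l : Ix n} (hik : Dj i k) (hil : Dj i l) (hkl : Dj k l) (c : F) :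
    R.x k l c ∈ Subgroup.normalizer (D.Fg i Set.univ : Set G) := by
  obtain ⟨h1, h2, h4⟩ := D.x_conj hik hil hkl c
  refine D.mem_nor (fun u => D.conj_mem_of_comm (D.b2 hkl hik.symm.2 hil.symm.2 u c).symm (D.wy_mem_F u))
    (fun a => (R.y_x_comm hik.symm.2 hil.symm.2 a c).symm) (fun j hij u => D.N_le_F (h1 j hij u))
    (fun j hij u => D.N_le_F (h2 j hij u)) h4

omit D [Finite G] [Finite F] in
theorem closure_conj {S : Set G} {g : G} {H : Subgroup G} (h : ∀ s ∈ S, g * s * g⁻¹ ∈ H) :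
    ∀ m ∈ Subgroup.closure S, g * m * g⁻¹ ∈ H := by
  intro m hm
  refine Subgroup.closure_induction (p := fun m _ => g * m * g⁻¹ ∈ H) h ?_ ?_ ?_ hm
  · rw [mul_one, mul_inv_cancel]; exact one_mem _
  · intro a b _ _ ha hb
    have e : g * (a * b) * g⁻¹ = (g * a * g⁻¹) * (g * b * g⁻¹) := by group
    rw [e]; exact mul_mem ha hb
  · intro a _ ha
    have e : g * a⁻¹ * g⁻¹ = (g * a * g⁻¹)⁻¹ := by group
    rw [e]; exact inv_mem ha

omit [Finite G] in
theorem wx_conj {k l : Ix n} (hik : Dj i k) (hil : Dj i l) (hkl : Dj k l) (c : F) :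
    (∀ j, Dj i j → ∀ u, D.wx k l c * D.wx i j u * (D.wx k l c)⁻¹ ∈ D.N i) ∧
    (∀ j, Dj i j → ∀ u, D.wx k l c * R.x i j u * (D.wx k l c)⁻¹ ∈ D.N i) ∧
    (∀ j, Dj i j → ∀ u v, D.wx k l c * D.p i j u v * (D.wx k l c)⁻¹ ∈ D.Fg i Set.univ) := by
  have hwx : ∀ {k l : Ix n}, Dj i k → Dj i l → Dj k l → ∀ (j : Ix n), Dj i j → ∀ u, l ≠ neg j →
      D.wx k l c * D.wx i j u * (D.wx k l c)⁻¹ ∈ D.N i := by
    intro k l hik hil hkl j hij u hjl
    by_cases hk : k = neg j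
    · subst hk
      obtain ⟨d, e, hd⟩ := D.c3 hij (dj_neg_left.mp hkl) hil u c
      rw [hd]
      exact mul_mem (mul_mem (D.wx_mem_N hij _) (D.wx_mem_N hil _)) (D.x_mem_N hil _)
    · exact D.conj_mem_of_comm (D.c1 hij hkl hik.symm.2 hk hil.symm.2 hjl u c).symm (D.wx_mem_N hij u)
  have hx : ∀ {k l : Ix n}, Dj i k → Dj i l → Dj k l → ∀ (j : Ix n), Dj i j → ∀ u, l ≠ neg j →
      D.wx k l c * R.x i j u * (D.wx k l c)⁻¹ ∈ D.N i := by
    intro k l hik hil hkl j hij u hjl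
    by_cases hk : k = neg j
    · subst hk
      obtain ⟨d, hd⟩ := D.a3 (i := l) (j := neg j) (k := i) hkl.symm (dj_neg_left.mpr hij.symm) hil.symm c u
      rw [neg_neg, R.x_symm j i, D.wx_symm l (neg j)] at hd
      have hw := D.wx_inv hkl c
      have e : D.wx (neg j) l c * R.x i j u * (D.wx (neg j) l c)⁻¹ =
          (D.wx l i (c * u) * R.x l i d) * R.x i j u := by
        have h4 : R.x i j u * D.wx (neg j) l c = D.wx (neg j) l c * (D.wx l i (c * u) * R.x l i d) * R.x i j u := by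
          rw [← mul_assoc, ← hd]; group
        have h5 : (D.wx (neg j) l c)⁻¹ * (R.x i j u * D.wx (neg j) l c) =
            (D.wx l i (c * u) * R.x l i d) * R.x i j u := by rw [h4]; group
        rw [← h5]
        rw [hw]; simp only [mul_assoc]
      rw [e, D.wx_symm, R.x_symm l i]
      exact mul_mem (mul_mem (D.wx_mem_N hil _) (D.x_mem_N hil _)) (D.x_mem_N hij _)
    · refine D.conj_mem_of_comm (D.a1 hkl hij ?_ ?_ ?_ ?_ c u) (D.x_mem_N hij u)
      · exact hik.2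
      · exact hil.2
      · intro e; exact hk (by rw [e, neg_neg])
      · intro e; exact hjl (by rw [e, neg_neg])
  -- commuting with `p`
  have hp0 : ∀ {k l : Ix n}, Dj i k → Dj i l → Dj k l → ∀ (j : Ix n), Dj i j → ∀ u v, k ≠ neg j → l ≠ neg j →
      Commute (D.wx k l c) (D.p i j u v) := by
    intro k l hik hil hkl j hij u v hk hl
    by_cases hkj : k = j
    · subst hkj; exact (D.p_wxj hij u v hil hkl c).symm
    by_cases hlj : l = j
    · subst hlj; rw [D.wx_symm]; exact (D.p_wxj hij u v hik hkl.symm c).symm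
    · exact (D.p_wxkl hij u v hkl hik hil ⟨fun e => hkj e.symm, fun e => hk (by rw [e, neg_neg])⟩
        ⟨fun e => hlj e.symm, fun e => hl (by rw [e, neg_neg])⟩ c).symm
  have hN : ∀ m ∈ D.N i, D.wx k l c * m * (D.wx k l c)⁻¹ ∈ D.N i := by
    refine closure_conj (S := D.NS i) ?_
    rintro s (⟨u, rfl⟩ | ⟨a, rfl⟩ | ⟨j, hij, h⟩)
    · exact D.conj_mem_of_comm (D.c5 hkl hik.symm.2 hil.symm.2 u c).symm (D.wy_mem_N i u)
    · exact D.conj_mem_of_comm (D.a4 hkl hik.2 hil.2 c a) (D.y_mem_N i a)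
    · by_cases hl : l = neg j
      · have hk : k ≠ neg j := fun e => hkl.1 (e.trans hl.symm)
        rw [D.wx_symm k l]
        rcases h with ⟨u, rfl⟩ | ⟨u, rfl⟩
        exacts [hwx hil hik hkl.symm j hij u hk, hx hil hik hkl.symm j hij u hk]
      · rcases h with ⟨u, rfl⟩ | ⟨u, rfl⟩
        exacts [hwx hik hil hkl j hij u hl, hx hik hil hkl j hij u hl]
  refine ⟨fun j hij u => hN _ (D.wx_mem_N hij u), fun j hij u => hN _ (D.x_mem_N hij u), fun j hij u v => ?_⟩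
  by_cases h : k ≠ neg j ∧ l ≠ neg j
  · exact D.conj_mem_of_comm (hp0 hik hil hkl j hij u v h.1 h.2) (D.p_mem_F (Set.mem_univ _) hij u v)
  · obtain ⟨k', hik', hjk', hc⟩ : ∃ k', Dj i k' ∧ Dj j k' ∧ Commute (D.wx k l c) (D.p i k' u v) := by
      by_cases hk : k = neg j
      · refine ⟨l, hil, ?_, hp0 hik hil hkl l hil u v ?_ (ne_neg l)⟩
        · rw [hk] at hkl; exact dj_neg_left.mp hkl
        · exact hkl.2
      · have hl : l = neg j := by
          by_contra hl; exact h ⟨hk, hl⟩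
        refine ⟨k, hik, ?_, hp0 hik hil hkl k hik u v (ne_neg k) ?_⟩
        · rw [hl] at hkl; exact (dj_neg_right.mp hkl).symm
        · exact hkl.symm.2
    obtain ⟨m, hm, e⟩ := D.p_mem hij hik' hjk' (u := u) (v := v) (u' := u) (v' := v) rfl
    have e2 : D.wx k l c * D.p i j u v * (D.wx k l c)⁻¹ =
        (D.wx k l c * m * (D.wx k l c)⁻¹) * (D.wx k l c * D.p i k' u v * (D.wx k l c)⁻¹) := by rw [e]; group
    rw [e2, hc.mul_inv_cancel]
    exact mul_mem (D.N_le_F (hN m hm)) (D.p_mem_F (Set.mem_univ _) hik' u v)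

theorem wx_nor {k l : Ix n} (hik : Dj i k) (hil : Dj i l) (hkl : Dj k l) (c : F) :
    D.wx k l c ∈ Subgroup.normalizer (D.Fg i Set.univ : Set G) := by
  obtain ⟨h1, h2, h4⟩ := D.wx_conj hik hil hkl c
  exact D.mem_nor (fun u => D.conj_mem_of_comm (D.c5 hkl hik.symm.2 hil.symm.2 u c).symm (D.wy_mem_F u))
    (fun a => D.a4 hkl hik.2 hil.2 c a) (fun j hij u => D.N_le_F (h1 j hij u))
    (fun j hij u => D.N_le_F (h2 j hij u)) h4

include h3

omit [Finite G] in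
theorem y_conj {k : Ix n} (hik : Dj i k) (c : F) :
    (∀ m ∈ D.N i, R.y k c * m * (R.y k c)⁻¹ ∈ D.N i) ∧
    (∀ j, Dj i j → ∀ u v, R.y k c * D.p i j u v * (R.y k c)⁻¹ ∈ D.Fg i Set.univ) := by
  have hN : ∀ m ∈ D.N i, R.y k c * m * (R.y k c)⁻¹ ∈ D.N i := by
    refine closure_conj (S := D.NS i) ?_
    rintro s (⟨u, rfl⟩ | ⟨a, rfl⟩ | ⟨j, hij, ⟨u, rfl⟩ | ⟨u, rfl⟩⟩)
    · exact D.conj_mem_of_comm (D.b1 hik.symm.2 u c).symm (D.wy_mem_N i u)
    · exact D.conj_mem_of_comm (R.y_comm hik.2 c a) (D.y_mem_N i a)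
    · by_cases hk : k = neg j
      · subst hk
        obtain ⟨d, e, hd⟩ := D.a5 hij u c
        rw [hd]
        exact mul_mem (mul_mem (mul_mem (D.wx_mem_N hij _) (D.wx_mem_N hik _)) (D.x_mem_N hik _)) (D.y_mem_N i _)
      · exact D.conj_mem_of_comm (D.a4 hij hik.symm.2 hk u c).symm (D.wx_mem_N hij u)
    · by_cases hk : k = neg j
      · subst hk
        have h4 := R.y_rel (i := neg j) (j := i) hik.symm c u
        rw [neg_neg, R.x_symm j i] at h4
        have e : R.y (neg j) c * R.x i j u * (R.y (neg j) c)⁻¹ =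
            R.x (neg j) i (c * u) * R.y i (c * u ^ 2) * R.x i j u := by rw [h4]; group
        rw [e, R.x_symm (neg j) i]
        exact mul_mem (mul_mem (D.x_mem_N hik _) (D.y_mem_N i _)) (D.x_mem_N hij _)
      · refine D.conj_mem_of_comm (R.y_x_comm hik.2 ?_ c u) (D.x_mem_N hij u)
        intro e; exact hk (by rw [e, neg_neg])
  refine ⟨hN, fun j hij u v => ?_⟩
  have hp0 : ∀ {j : Ix n}, Dj i j → k ≠ neg j → Commute (R.y k c) (D.p i j u v) := by
    intro j hij hk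
    by_cases hkj : k = j
    · subst hkj; exact (D.p_yj hij u v c).symm
    · exact (D.p_yk hij u v hik ⟨fun e => hkj e.symm, fun e => hk (by rw [e, neg_neg])⟩ c).symm
  by_cases hk : k = neg j
  · obtain ⟨l, hil, hjl⟩ := h3 i j
    obtain ⟨m, hm, e⟩ := D.p_mem hij hil hjl (u := u) (v := v) (u' := u) (v' := v) rfl
    have hc := hp0 hil (by rw [hk, Ne, neg_inj]; exact hjl.1)
    have e2 : R.y k c * D.p i j u v * (R.y k c)⁻¹ =
        (R.y k c * m * (R.y k c)⁻¹) * (R.y k c * D.p i l u v * (R.y k c)⁻¹) := by rw [e]; group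
    rw [e2, hc.mul_inv_cancel]
    exact mul_mem (D.N_le_F (hN m hm)) (D.p_mem_F (Set.mem_univ _) hil u v)
  · exact D.conj_mem_of_comm (hp0 hij hk) (D.p_mem_F (Set.mem_univ _) hij u v)

theorem y_nor {k : Ix n} (hik : Dj i k) (c : F) :
    R.y k c ∈ Subgroup.normalizer (D.Fg i Set.univ : Set G) := by
  obtain ⟨h1, h2⟩ := D.y_conj h3 hik c
  exact D.mem_nor (fun u => D.N_le_F (h1 _ (D.wy_mem_N i u)))
    (fun a => R.y_comm hik.2 c a) (fun j hij u => D.N_le_F (h1 _ (D.wx_mem_N hij u)))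
    (fun j hij u => D.N_le_F (h1 _ (D.x_mem_N hij u))) h2

theorem wy_nor {k : Ix n} (hik : Dj i k) (c : F) :
    D.wy k c ∈ Subgroup.normalizer (D.Fg i Set.univ : Set G) := by
  have hN : ∀ m ∈ D.N i, D.wy k c * m * (D.wy k c)⁻¹ ∈ D.Fg i Set.univ := by
    refine closure_conj (S := D.NS i) ?_
    rintro s (⟨u, rfl⟩ | ⟨a, rfl⟩ | ⟨j, hij, ⟨u, rfl⟩ | ⟨u, rfl⟩⟩)
    · obtain ⟨d, hd⟩ := D.c4 hik u c
      have e : D.wy k c * D.wy i u * (D.wy k c)⁻¹ = (R.x i k d)⁻¹ * D.wy i u := by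
        have : D.wy k c * D.wy i u = (R.x i k d)⁻¹ * (D.wy i u * D.wy k c) := by rw [hd]; group
        rw [this]; group
      rw [e]
      exact mul_mem (inv_mem (D.x_mem_F (Set.mem_univ _) hik _)) (D.wy_mem_F u)
    · exact D.conj_mem_of_comm (D.b1 hik.2 c a) (D.y_mem_F a)
    · by_cases hk : j = neg k
      · subst hk
        have e : D.wy k c * D.wx i (neg k) u * (D.wy k c)⁻¹ = (D.p i k u c)⁻¹ * D.wx i (neg k) u := by
          rw [p]; group
        rw [e]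
        exact mul_mem (inv_mem (D.p_mem_F (Set.mem_univ _) hik _ _)) (D.wx_mem_F (Set.mem_univ _) hij _)
      · exact D.conj_mem_of_comm (D.c5 hij hik.2 hk c u) (D.wx_mem_F (Set.mem_univ _) hij u)
    · by_cases hk : j = neg k
      · subst hk
        obtain ⟨d, e, hd⟩ := D.b3 hik.symm c u
        rw [R.x_symm (neg k) i] at hd
        have hy : D.wy k c = R.y k c * (D.wy k c)⁻¹ := by rw [← D.wy_sq]; group
        have e : D.wy k c * R.x i (neg k) u * (D.wy k c)⁻¹ =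
            R.y k c * ((D.wy i (c * u ^ 2) * D.wx k i (c * u) * R.x k i d * R.y i e) * R.x i (neg k) u) *
              (R.y k c)⁻¹ := by
          have h4 : (D.wy k c)⁻¹ * R.x i (neg k) u * D.wy k c =
              (D.wy i (c * u ^ 2) * D.wx k i (c * u) * R.x k i d * R.y i e) * R.x i (neg k) u := by
            have h5 : R.x i (neg k) u * D.wy k c = D.wy k c *
                (D.wy i (c * u ^ 2) * D.wx k i (c * u) * R.x k i d * R.y i e) * R.x i (neg k) u := by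
              have h6 : D.wy k c * (D.wy i (c * u ^ 2) * D.wx k i (c * u) * R.x k i d * R.y i e) =
                  R.x i (neg k) u * D.wy k c * (R.x i (neg k) u)⁻¹ := by rw [hd]; simp only [mul_assoc]
              rw [h6]; group
            rw [mul_assoc, h5]; group
          rw [← h4]
          conv_lhs => rw [hy]
          group
        rw [e]
        refine (Subgroup.mem_normalizer_iff.mp (D.y_nor h3 hik c) _).mp ?_
        rw [D.wx_symm k i, R.x_symm k i]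
        exact mul_mem (mul_mem (mul_mem (mul_mem (D.wy_mem_F _) (D.wx_mem_F (Set.mem_univ _) hik _))
          (D.x_mem_F (Set.mem_univ _) hik _)) (D.y_mem_F _)) (D.x_mem_F (Set.mem_univ _) hij _)
      · exact D.conj_mem_of_comm (D.b2 hij hik.2 hk c u) (D.x_mem_F (Set.mem_univ _) hij u)
  refine D.mem_nor (fun u => hN _ (D.wy_mem_N i u)) (fun a => D.b1 hik.2 c a)
    (fun j hij u => hN _ (D.wx_mem_N hij u)) (fun j hij u => hN _ (D.x_mem_N hij u)) ?_
  intro j hij u v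
  have hp0 : ∀ {j : Ix n}, Dj i j → Dj j k → D.wy k c * D.p i j u v * (D.wy k c)⁻¹ ∈ D.Fg i Set.univ := by
    intro j hij hjk
    have hn := dj_neg_right.mpr hij
    obtain ⟨s, hs⟩ := D.c4 hjk.symm c v
    obtain ⟨g1, -, g2⟩ := D.x_conj hik hij hjk.symm s
    have ca : Commute (D.wy k c) (D.wx i (neg j) u) := D.c5 hn hik.2 (by rw [Ne, neg_inj]; exact hjk.1) c u
    have cb : D.wy k c * D.wy j v * (D.wy k c)⁻¹ = R.x k j s * D.wy j v := by rw [hs]; group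
    have e : D.wy k c * D.p i j u v * (D.wy k c)⁻¹ =
        (D.wx i (neg j) u * (R.x k j s * D.wx i (neg j) u * (R.x k j s)⁻¹)⁻¹) *
          (R.x k j s * D.p i j u v * (R.x k j s)⁻¹) := by
      calc _ = (D.wy k c * D.wx i (neg j) u * (D.wy k c)⁻¹) * (D.wy k c * D.wy j v * (D.wy k c)⁻¹) *
            (D.wy k c * D.wx i (neg j) u * (D.wy k c)⁻¹)⁻¹ * (D.wy k c * D.wy j v * (D.wy k c)⁻¹)⁻¹ := by
            rw [p]; group
        _ = _ := by rw [ca.mul_inv_cancel, cb, p]; group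
    rw [e]
    exact mul_mem (D.N_le_F (mul_mem (D.wx_mem_N hn u) (inv_mem (g1 _ hn u)))) (g2 j hij u v)
  by_cases hjk : Dj j k
  · exact hp0 hij hjk
  · obtain ⟨l, hil, hjl⟩ := h3 i j
    have hlk : Dj l k := by
      by_contra hkl
      simp only [Dj, not_and_or, not_not] at hjk hkl hjl
      rcases hjk with h | h <;> rcases hkl with h' | h'
      · exact hjl.1 (by rw [h, h'])
      · exact hjl.2 (by rw [h, h', neg_neg])
      · exact hjl.2 (by rw [h, h'])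
      · exact hjl.1 (by rw [h, h'])
    obtain ⟨m, hm, e⟩ := D.p_mem hij hil hjl (u := u) (v := v) (u' := u) (v' := v) rfl
    have e2 : D.wy k c * D.p i j u v * (D.wy k c)⁻¹ =
        (D.wy k c * m * (D.wy k c)⁻¹) * (D.wy k c * D.p i l u v * (D.wy k c)⁻¹) := by rw [e]; group
    rw [e2]
    exact mul_mem (hN m hm) (hp0 hil hlk)

end nor

end COne

end Cfsg.Agent.OddHalf.SpN

end

-- merged: Cfsg.Agent.OddHalf.SpN.COneI
section

/-!
# ODD D7, `K = Sp_2n(q)`, pattern (C,O): involutions of `tF_i`, fixed points of the torus on `F_i` (helper63)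

* `inv_F` : every involution of `tF_i` is `F_i`-conjugate to `t`.
* `eq_one_of_fix` : `C_{F_i}(h) = 1` for `h = h(λ)`, `λ_i ≠ 1`, `λ_j = 1`.
* `mem_of_fix` : `C_{F_i}(h) ≤ F_i(J)`.
-/

set_option autoImplicit false

namespace Cfsg.Agent.OddHalf.SpN

/-- fixed point free action on generators of an abelian group -/
theorem eq_one_of_fpf {G : Type*} [Group G] {S : Set G} [Finite G] {A : Subgroup G} (hA : A = Subgroup.closure S)
    (comm : ∀ a ∈ A, ∀ b ∈ A, a * b = b * a) {h : G} (hh : ∀ a ∈ A, h * a * h⁻¹ ∈ A)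
    (hs : ∀ s ∈ S, ∃ s' ∈ A, h * s' * h⁻¹ * s'⁻¹ = s) {a : G} (ha : a ∈ A) (e : h * a * h⁻¹ = a) : a = 1 := by
  let ψ : A →* A :=
    { toFun := fun a => ⟨h * a.1 * h⁻¹ * a.1⁻¹, mul_mem (hh _ a.2) (inv_mem a.2)⟩
      map_one' := Subtype.ext (by simp)
      map_mul' := fun a b => Subtype.ext (by
        show h * (a.1 * b.1) * h⁻¹ * (a.1 * b.1)⁻¹ = (h * a.1 * h⁻¹ * a.1⁻¹) * (h * b.1 * h⁻¹ * b.1⁻¹)
        have e1 : (h * b.1 * h⁻¹ * b.1⁻¹) * a.1⁻¹ = a.1⁻¹ * (h * b.1 * h⁻¹ * b.1⁻¹) :=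
          comm _ (mul_mem (hh _ b.2) (inv_mem b.2)) _ (inv_mem a.2)
        calc _ = h * a.1 * h⁻¹ * ((h * b.1 * h⁻¹ * b.1⁻¹) * a.1⁻¹) := by group
          _ = _ := by rw [e1]; group) }
  have hsurj : Function.Surjective ψ := by
    rw [← MonoidHom.range_eq_top]
    have h1 : A ≤ ψ.range.map A.subtype := by
      conv_lhs => rw [hA]
      rw [Subgroup.closure_le]
      intro s hs'
      obtain ⟨s', h1, h2⟩ := hs s hs'
      exact ⟨ψ ⟨s', h1⟩, ⟨_, rfl⟩, h2⟩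
    rw [eq_top_iff]
    intro x _
    obtain ⟨y, hy, hyx⟩ := h1 x.2
    have : y = x := Subtype.ext hyx
    rwa [← this]
  have hinj : Function.Injective ψ := Finite.injective_iff_surjective.mpr hsurj
  have h1 : ψ ⟨a, ha⟩ = ψ 1 := by
    rw [map_one]
    exact Subtype.ext (by show h * a * h⁻¹ * a⁻¹ = 1; rw [e, mul_inv_cancel])
  exact congrArg Subtype.val (hinj h1)

namespace COne

variable {n : ℕ} {F : Type*} [Field F] [CharP F 2] {G : Type*} [Group G] {R : Frame n F G} (D : COne R)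

include D

theorem not_x_eq_y {i j : Ix n} (hij : Dj i j) {c : F} (h : R.x i j 1 = R.y i c) : False := by
  have h1 := D.a2' hij 1 1
  rw [h, one_mul, ((D.cy_wx (dj_neg_right.mpr hij) 1) c).eq] at h1
  exact one_ne_zero (R.y_eq_one (mul_eq_right.mp h1.symm))

theorem wy_conj_t (i : Ix n) (u : F) : D.wy i u * R.t * (D.wy i u)⁻¹ = R.t * R.y i u := by
  have h1 := D.wy_t i u
  have h2 : R.t * (D.wy i u * R.t * (D.wy i u)⁻¹) = R.y i u := by
    rw [← mul_assoc, ← mul_assoc, h1, (D.cy_wy i u u).eq]; group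
  rw [← h2, ← mul_assoc R.t R.t, R.tt, one_mul]

theorem wx_conj_t {i j : Ix n} (hij : Dj i j) (u : F) :
    D.wx i j u * R.t * (D.wx i j u)⁻¹ = R.t * R.x i j u := by
  have h1 := D.wx_t hij u
  have h2 : R.t * (D.wx i j u * R.t * (D.wx i j u)⁻¹) = R.x i j u := by
    rw [← mul_assoc, ← mul_assoc, h1, (D.a1 hij hij (ne_neg i) hij.2 hij.symm.2 (ne_neg j) u u).eq]; group
  rw [← h2, ← mul_assoc R.t R.t, R.tt, one_mul]

theorem wy_inv (i : Ix n) (u : F) : (D.wy i u)⁻¹ = D.wy i u * R.y i u := by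
  apply inv_eq_of_mul_eq_one_right
  rw [← mul_assoc, D.wy_sq, R.y_sq]

theorem wy_comm_Q {i : Ix n} {q : G} (hq : q ∈ R.Q i) (u : F) : Commute (D.wy i u) q := by
  refine Subgroup.closure_induction (p := fun q _ => Commute (D.wy i u) q) ?_ (Commute.one_right _)
    (fun _ _ _ _ h1 h2 => h1.mul_right h2) (fun _ _ h1 => h1.inv_right) hq
  rintro g (⟨a, rfl⟩ | ⟨j, a, rfl⟩)
  · exact D.cy_wy i u a
  · by_cases h : Dj i j
    · exact D.b2 h (ne_neg i) h.symm.2 u a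
    · rw [R.x_of_not h]; exact Commute.one_right _

section fin

variable [Finite F] (h3 : ∀ i j : Ix n, ∃ k, Dj i k ∧ Dj j k) {i : Ix n} {J : Set (Ix n)}

omit [Finite F] in
theorem Q_le_F : R.Q i ≤ D.Fg i Set.univ := (D.Q_le_N i).trans D.N_le_F

omit [Finite F] in
/-- `t b` is `F_i(J)`-conjugate to `t` -/
theorem rch_y {b : G} (h : ∃ c ∈ D.Fg i J, c * R.t * c⁻¹ = R.t * b) (e : F) :
    ∃ c ∈ D.Fg i J, c * R.t * c⁻¹ = R.t * (b * R.y i e) := by
  obtain ⟨c, hc, h1⟩ := h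
  refine ⟨c * D.wy i e, mul_mem hc (D.wy_mem_F e), ?_⟩
  have h2 := D.wy_conj_t i e
  calc c * D.wy i e * R.t * (c * D.wy i e)⁻¹ = c * (D.wy i e * R.t * (D.wy i e)⁻¹) * c⁻¹ := by group
    _ = (c * R.t * c⁻¹) * (c * R.y i e * c⁻¹) := by rw [h2]; group
    _ = _ := by rw [h1, (D.F_cy hc e).mul_inv_cancel, mul_assoc]

include h3

theorem rch_mul {b b' : G} (hb' : b' ∈ D.Fg i J) (h : ∃ c ∈ D.Fg i J, c * R.t * c⁻¹ = R.t * b)
    (h' : ∃ c ∈ D.Fg i J, c * R.t * c⁻¹ = R.t * b') : ∃ c ∈ D.Fg i J, c * R.t * c⁻¹ = R.t * (b * b') := by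
  obtain ⟨c, hc, h1⟩ := h
  obtain ⟨c', hc', h2⟩ := h'
  obtain ⟨e, he⟩ := D.F_cm h3 hc hb'
  have h4 : ∃ c ∈ D.Fg i J, c * R.t * c⁻¹ = R.t * (b * b' * R.y i e) := by
    refine ⟨c * c', mul_mem hc hc', ?_⟩
    calc c * c' * R.t * (c * c')⁻¹ = c * (c' * R.t * c'⁻¹) * c⁻¹ := by group
      _ = (c * R.t * c⁻¹) * (c * b') * c⁻¹ := by rw [h2]; group
      _ = R.t * b * (R.y i e * b') := by rw [h1, he]; group
      _ = _ := by rw [← (D.F_cy hb' e).eq]; simp only [mul_assoc]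
  have h5 := D.rch_y h4 e
  rwa [mul_assoc (b * b'), R.y_sq, mul_one] at h5

theorem rch_wy {j : Ix n} (hJ : j ∈ J) (hij : Dj i j) (a : F) :
    ∃ c ∈ D.Fg i J, c * R.t * c⁻¹ = R.t * D.wy i a := by
  obtain ⟨u, hu⟩ : ∃ u : F, u ^ 2 = a := by
    obtain ⟨u, hu⟩ := FiniteField.isSquare_of_char_two (ringChar.eq F 2) a
    exact ⟨u, by rw [hu, sq]⟩
  obtain ⟨c, d, h1⟩ := D.t_p hij u 1
  rw [mul_one, hu] at h1
  have hP := D.p_mem_F hJ hij u 1
  have hb : D.wy i a * R.x i j c * R.y i d ∈ D.Fg i J :=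
    mul_mem (mul_mem (D.wy_mem_F a) (D.x_mem_F hJ hij c)) (D.y_mem_F d)
  obtain ⟨e, he⟩ := D.F_cm h3 hP hb
  have h2 : ∃ c' ∈ D.Fg i J, c' * R.t * c'⁻¹ = R.t * (D.wy i a * R.x i j c * R.y i d * R.y i e) := by
    refine ⟨D.p i j u 1, hP, ?_⟩
    have h4 : R.t * (D.p i j u 1 * R.t * (D.p i j u 1)⁻¹) = D.wy i a * R.x i j c * R.y i d * R.y i e := by
      calc _ = (R.t * D.p i j u 1 * R.t) * (D.p i j u 1)⁻¹ := by group
        _ = D.p i j u 1 * (D.wy i a * R.x i j c * R.y i d) * (D.p i j u 1)⁻¹ := by rw [h1]; group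
        _ = _ := by rw [he, (D.F_cy hb e).eq]; group
    rw [← h4, ← mul_assoc R.t R.t, R.tt, one_mul]
  have h4 := D.rch_mul h3 (D.x_mem_F hJ hij c) h2 ⟨_, D.wx_mem_F hJ hij c, D.wx_conj_t hij c⟩
  have h5 := D.rch_y h4 (d + e)
  have e1 : D.wy i a * R.x i j c * R.y i d * R.y i e * R.x i j c * R.y i (d + e) = D.wy i a := by
    have e2 := (cy_x (R := R) hij c (d + e)).eq
    calc _ = D.wy i a * R.x i j c * (R.y i d * R.y i e) * R.x i j c * R.y i (d + e) := by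
          simp only [mul_assoc]
      _ = D.wy i a * (R.x i j c * (R.y i (d + e) * R.x i j c)) * R.y i (d + e) := by
          rw [← R.y_add]; simp only [mul_assoc]
      _ = D.wy i a * ((R.x i j c * R.x i j c) * R.y i (d + e)) * R.y i (d + e) := by
          rw [← e2]; simp only [mul_assoc]
      _ = _ := by rw [R.x_sq, one_mul, mul_assoc, R.y_sq, mul_one]
  rwa [e1] at h5

/-- `t b ~ t` for `b ∈ W_i Q_i(J)` -/
theorem rch_B {j : Ix n} (hJ : j ∈ J) (hij : Dj i j) {b : G}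
    (hb : b ∈ Subgroup.closure {g | (∃ u, g = D.wy i u) ∨ (∃ a, g = R.y i a) ∨ ∃ k ∈ J, Dj i k ∧ ∃ a, g = R.x i k a}) :
    b ∈ D.Fg i J ∧ ∃ c ∈ D.Fg i J, c * R.t * c⁻¹ = R.t * b := by
  have one : ∃ c ∈ D.Fg i J, c * R.t * c⁻¹ = R.t * 1 := ⟨1, one_mem _, by group⟩
  refine Subgroup.closure_induction (p := fun b _ => b ∈ D.Fg i J ∧ ∃ c ∈ D.Fg i J, c * R.t * c⁻¹ = R.t * b)
    ?_ ?_ ?_ ?_ hb
  · rintro g (⟨u, rfl⟩ | ⟨a, rfl⟩ | ⟨k, hk, hik, a, rfl⟩)
    · exact ⟨D.wy_mem_F u, D.rch_wy h3 hJ hij u⟩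
    · have := D.rch_y one a
      rw [one_mul] at this
      exact ⟨D.y_mem_F a, this⟩
    · exact ⟨D.x_mem_F hk hik a, _, D.wx_mem_F hk hik a, D.wx_conj_t hik a⟩
  · exact ⟨one_mem _, one⟩
  · rintro a b - - ⟨ha, ha'⟩ ⟨hb, hb'⟩
    exact ⟨mul_mem ha hb, D.rch_mul h3 hb ha' hb'⟩
  · rintro a - ⟨ha, ha'⟩
    obtain ⟨e, he⟩ := D.F_sq h3 ha
    have e1 : a⁻¹ = a * R.y i e := by
      apply inv_eq_of_mul_eq_one_right
      rw [← mul_assoc, he, R.y_sq]
    exact ⟨inv_mem ha, by rw [e1]; exact D.rch_y ha' e⟩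

theorem t_notMem_F : R.t ∉ D.Fg i J := by
  intro ht
  obtain ⟨j, hij, -⟩ := h3 i i
  have ht' := D.F_mono (Set.subset_univ J) ht
  obtain ⟨c, hc⟩ := D.F_cm h3 ht' (D.wx_mem_F (Set.mem_univ j) hij 1)
  have h1 := D.wx_t hij 1
  rw [hc] at h1
  refine D.not_x_eq_y hij (c := c) ?_
  have h2 : R.y i c * (D.wx i j 1 * R.t) * R.t = R.y i c * D.wx i j 1 := by
    rw [mul_assoc, mul_assoc (D.wx i j 1), R.tt, mul_one]
  rw [h2, ← ((D.cy_wx hij 1) c).eq] at h1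
  exact (mul_left_cancel h1).symm

theorem mem_Q_of_comm {g : G} (hg : g ∈ D.Fg i J) (hc : Commute g R.t) : g ∈ R.Q i := by
  have hg' := D.F_mono (Set.subset_univ J) hg
  rcases D.f3 i g hc (D.F_cy hg) (fun j hij a => D.F_cm h3 hg' (D.x_mem_F (Set.mem_univ j) hij a)) with h | h
  · exact h
  · exfalso
    apply D.t_notMem_F h3 (i := i) (J := Set.univ)
    have : R.t = (R.t * g) * g⁻¹ := by group
    rw [this]
    exact mul_mem (D.Q_le_F h) (inv_mem hg')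

/-- **every involution of `tF_i` is `F_i`-conjugate to `t`** -/
theorem inv_F {f : G} (hf : f ∈ D.Fg i Set.univ) (h : R.t * f * (R.t * f) = 1) :
    ∃ c ∈ D.Fg i Set.univ, c * R.t * c⁻¹ = R.t * f := by
  obtain ⟨e, he⟩ := D.F_sq h3 hf
  have h1 : R.t * f * R.t = f * R.y i e := by
    have h2 : R.t * f * R.t = f⁻¹ := eq_inv_of_mul_eq_one_left (by rw [← h]; simp only [mul_assoc])
    rw [h2]
    apply inv_eq_of_mul_eq_one_right
    rw [← mul_assoc, he, R.y_sq]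
  have h2 : Commute (f * D.wy i e) R.t := by
    have e1 : R.t * (f * D.wy i e) * R.t = f * D.wy i e := by
      calc _ = (R.t * f * R.t) * (R.t * D.wy i e * R.t) := by
            calc _ = R.t * f * (R.t * R.t) * D.wy i e * R.t := by rw [R.tt]; simp only [mul_one, mul_assoc]
              _ = _ := by simp only [mul_assoc]
        _ = f * (R.y i e * D.wy i e) * R.y i e := by rw [h1, D.wy_t]; simp only [mul_assoc]
        _ = _ := by rw [← (D.cy_wy i e e).eq, mul_assoc, mul_assoc, R.y_sq, mul_one]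
    show f * D.wy i e * R.t = R.t * (f * D.wy i e)
    calc _ = (R.t * R.t) * (f * D.wy i e) * R.t := by rw [R.tt, one_mul]
      _ = R.t * (R.t * (f * D.wy i e) * R.t) := by simp only [mul_assoc]
      _ = _ := by rw [e1]
  have h4 := D.mem_Q_of_comm h3 (mul_mem hf (D.wy_mem_F e)) h2
  obtain ⟨j, hij, -⟩ := h3 i i
  refine (D.rch_B h3 (Set.mem_univ j) hij ?_).2
  have e1 : f = (f * D.wy i e) * (D.wy i e)⁻¹ := by group
  rw [e1]
  refine mul_mem ?_ (inv_mem (Subgroup.subset_closure (Or.inl ⟨e, rfl⟩)))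
  have hle : R.Q i ≤ Subgroup.closure {g | (∃ u, g = D.wy i u) ∨ (∃ a, g = R.y i a) ∨
      ∃ k ∈ Set.univ, Dj i k ∧ ∃ a, g = R.x i k a} := by
    refine (Subgroup.closure_le _).mpr ?_
    rintro g (⟨a, rfl⟩ | ⟨k, a, rfl⟩)
    · exact Subgroup.subset_closure (Or.inr (Or.inl ⟨a, rfl⟩))
    · by_cases hik : Dj i k
      · exact Subgroup.subset_closure (Or.inr (Or.inr ⟨k, Set.mem_univ k, hik, a, rfl⟩))
      · rw [R.x_of_not hik]; exact one_mem _
  exact hle h4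

/-- `f t f⁻¹ = t w_i(a) q` -/
theorem conj_t {f : G} (hf : f ∈ D.Fg i Set.univ) : ∃ a, ∃ q ∈ R.Q i, f * R.t * f⁻¹ = R.t * (D.wy i a * q) := by
  refine Subgroup.closure_induction
    (p := fun f _ => ∃ a, ∃ q ∈ R.Q i, f * R.t * f⁻¹ = R.t * (D.wy i a * q)) ?_ ?_ ?_ ?_ hf
  · rintro g (⟨u, rfl⟩ | ⟨a, rfl⟩ | ⟨j, -, hij, ⟨u, rfl⟩ | ⟨a, rfl⟩ | ⟨u, v, rfl⟩⟩)
    · exact ⟨0, _, R.y_mem_Q i u, by rw [D.wy_conj_t, D.wy_zero, one_mul]⟩
    · exact ⟨0, 1, one_mem _, by rw [D.wy_zero, (R.y_t i a).mul_inv_cancel, mul_one, mul_one]⟩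
    · exact ⟨0, _, R.x_mem_Q i j u, by rw [D.wx_conj_t hij, D.wy_zero, one_mul]⟩
    · exact ⟨0, 1, one_mem _, by rw [D.wy_zero, (R.x_t i j a).mul_inv_cancel, mul_one, mul_one]⟩
    · obtain ⟨c, d, h1⟩ := D.t_p hij u v
      have hb : D.wy i (u ^ 2 * v) * R.x i j c * R.y i d ∈ D.Fg i Set.univ :=
        mul_mem (mul_mem (D.wy_mem_F _) (D.x_mem_F (Set.mem_univ _) hij c)) (D.y_mem_F d)
      obtain ⟨e, he⟩ := D.F_cm h3 (D.p_mem_F (Set.mem_univ _) hij u v) hb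
      refine ⟨u ^ 2 * v, R.x i j c * R.y i d * R.y i e,
        mul_mem (mul_mem (R.x_mem_Q i j c) (R.y_mem_Q i d)) (R.y_mem_Q i e), ?_⟩
      have h4 : R.t * (D.p i j u v * R.t * (D.p i j u v)⁻¹) = D.wy i (u ^ 2 * v) * R.x i j c * R.y i d * R.y i e := by
        calc _ = (R.t * D.p i j u v * R.t) * (D.p i j u v)⁻¹ := by group
          _ = D.p i j u v * (D.wy i (u ^ 2 * v) * R.x i j c * R.y i d) * (D.p i j u v)⁻¹ := by rw [h1]; group
          _ = _ := by rw [he, (D.F_cy hb e).eq]; group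
      have h5 : D.wy i (u ^ 2 * v) * (R.x i j c * R.y i d * R.y i e) =
          R.t * (D.p i j u v * R.t * (D.p i j u v)⁻¹) := by rw [h4]; simp only [mul_assoc]
      rw [h5, ← mul_assoc R.t R.t, R.tt, one_mul]
  · exact ⟨0, 1, one_mem _, by rw [D.wy_zero]; group⟩
  · rintro f f' hf hf' ⟨a, q, hq, h1⟩ ⟨a', q', hq', h2⟩
    have hb' : D.wy i a' * q' ∈ D.Fg i Set.univ := mul_mem (D.wy_mem_F _) (D.Q_le_F hq')
    obtain ⟨e, he⟩ := D.F_cm h3 hf hb'
    obtain ⟨c, hc⟩ := D.wy_add i a a'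
    refine ⟨a + a', R.y i c * q * q' * R.y i e,
      mul_mem (mul_mem (mul_mem (R.y_mem_Q i c) hq) hq') (R.y_mem_Q i e), ?_⟩
    calc f * f' * R.t * (f * f')⁻¹ = f * (f' * R.t * f'⁻¹) * f⁻¹ := by group
      _ = (f * R.t * f⁻¹) * (f * (D.wy i a' * q')) * f⁻¹ := by rw [h2]; group
      _ = R.t * (D.wy i a * q) * (R.y i e * (D.wy i a' * q')) := by rw [h1, he]; group
      _ = R.t * (D.wy i a * (q * D.wy i a') * q' * R.y i e) := by
          rw [← (D.F_cy hb' e).eq]; simp only [mul_assoc]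
      _ = R.t * ((D.wy i a * D.wy i a') * (q * q' * R.y i e)) := by
          rw [← (D.wy_comm_Q hq a').eq]; simp only [mul_assoc]
      _ = _ := by rw [hc]; simp only [mul_assoc]
  · rintro f hf ⟨a, q, hq, h1⟩
    have hb : D.wy i a * q ∈ D.Fg i Set.univ := mul_mem (D.wy_mem_F _) (D.Q_le_F hq)
    obtain ⟨e, he⟩ := D.F_cm h3 (inv_mem hf) (inv_mem hb)
    refine ⟨a, q⁻¹ * R.y i a * R.y i e, mul_mem (mul_mem (inv_mem hq) (R.y_mem_Q i a)) (R.y_mem_Q i e), ?_⟩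
    have h2 : f⁻¹ * R.t * f = R.t * (f⁻¹ * (D.wy i a * q)⁻¹ * f) := by
      have h4 : R.t = f⁻¹ * (R.t * (D.wy i a * q)) * f := by rw [← h1]; group
      have h5 : (f⁻¹ * R.t * f) * (f⁻¹ * (D.wy i a * q) * f) = R.t := by
        calc _ = f⁻¹ * (R.t * (D.wy i a * q)) * f := by group
          _ = _ := h4.symm
      have h6 : f⁻¹ * (D.wy i a * q)⁻¹ * f = (f⁻¹ * (D.wy i a * q) * f)⁻¹ := by group
      rw [h6, eq_mul_inv_iff_mul_eq, h5]
    rw [inv_inv, h2, he]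
    have h7 : R.y i e * ((D.wy i a * q)⁻¹ * f⁻¹) * f = (D.wy i a * q)⁻¹ * R.y i e := by
      rw [((D.F_cy (inv_mem hb)) e).eq]; group
    rw [h7, mul_inv_rev, D.wy_inv]
    have h8 : Commute q⁻¹ (D.wy i a) := (D.wy_comm_Q hq a).symm.inv_left
    rw [← mul_assoc q⁻¹, h8.eq]; simp only [mul_assoc]

end fin

/-! ### fixed points of the torus -/

omit D in
theorem sq_ne_one {x : Fˣ} (h : x ≠ 1) : x ^ 2 ≠ 1 := by
  intro h1
  apply h
  have h2 : (x : F) ^ 2 = 1 := by rw [← Units.val_pow_eq_pow_val, h1, Units.val_one]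
  have h4 : ((x : F) + 1) ^ 2 = 0 := by
    rw [CharTwo.add_sq, h2, one_pow, CharTwo.add_self_eq_zero]
  exact Units.ext (by rw [Units.val_one]; exact CharTwo.add_eq_zero.mp (eq_zero_of_pow_eq_zero (n := 2) h4))

omit D in
theorem exists_mul_add {x : Fˣ} (h : x ≠ 1) (a : F) : ∃ b : F, (x : F) * b + b = a := by
  have h1 : (x : F) + 1 ≠ 0 := fun e => h (Units.ext (by rw [Units.val_one]; exact CharTwo.add_eq_zero.mp e))
  exact ⟨a / (x + 1), by field_simp⟩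

omit D in
theorem Q_comm {i : Ix n} : ∀ a ∈ R.Q i, ∀ b ∈ R.Q i, a * b = b * a := by
  have hxx : ∀ {j k}, Dj i j → Dj i k → ∀ u v, Commute (R.x i j u) (R.x i k v) := by
    intro j k hij hik u v
    by_cases hk : k = neg j
    · subst hk
      rw [R.x_symm i j, R.x_symm i (neg j)]
      exact R.x_comm' (i := j) (j := i) u v
    · exact R.x_comm (ne_neg i) hij.2 hik.symm.2 hk u v
  have hx : ∀ j u, ∀ b ∈ R.Q i, Commute (R.x i j u) b := by
    intro j u b hb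
    by_cases hij : Dj i j
    · refine Subgroup.closure_induction (p := fun b _ => Commute (R.x i j u) b) ?_ (Commute.one_right _)
        (fun _ _ _ _ h1 h2 => h1.mul_right h2) (fun _ _ h1 => h1.inv_right) hb
      rintro g (⟨a, rfl⟩ | ⟨k, a, rfl⟩)
      · exact cy_x hij u a
      · by_cases hik : Dj i k
        · exact hxx hij hik u a
        · rw [R.x_of_not hik]; exact Commute.one_right _
    · rw [R.x_of_not hij]; exact Commute.one_left _
  have hy : ∀ u, ∀ b ∈ R.Q i, Commute (R.y i u) b := by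
    intro u b hb
    refine Subgroup.closure_induction (p := fun b _ => Commute (R.y i u) b) ?_ (Commute.one_right _)
      (fun _ _ _ _ h1 h2 => h1.mul_right h2) (fun _ _ h1 => h1.inv_right) hb
    rintro g (⟨a, rfl⟩ | ⟨k, a, rfl⟩)
    · exact cy_y i u a
    · by_cases hik : Dj i k
      · exact (cy_x hik a u).symm
      · rw [R.x_of_not hik]; exact Commute.one_right _
  intro a ha b hb
  refine Subgroup.closure_induction (p := fun a _ => Commute a b) ?_ (Commute.one_left _)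
    (fun _ _ _ _ h1 h2 => h1.mul_left h2) (fun _ _ h1 => h1.inv_left) ha
  rintro g (⟨a, rfl⟩ | ⟨k, a, rfl⟩)
  exacts [hy a b hb, hx k a b hb]

omit D in
theorem h_Q {i : Ix n} (lam : Fin n → Fˣ) : ∀ a ∈ R.Q i, R.h lam * a * (R.h lam)⁻¹ ∈ R.Q i := by
  refine closure_conj (S := ({g | ∃ a, g = R.y i a} ∪ {g | ∃ k a, g = R.x i k a})) ?_
  rintro s (⟨a, rfl⟩ | ⟨k, a, rfl⟩)
  · rw [R.h_y]; exact R.y_mem_Q i _
  · rw [R.h_x]; exact R.x_mem_Q i k _

omit D in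
/-- `C_{Q_i}(h) = 1` -/
theorem Q_fpf [Finite G] {i : Ix n} {lam : Fin n → Fˣ} (hi : ev lam i ≠ 1) (hj : ∀ j, Dj i j → ev lam i * ev lam j ≠ 1)
    {q : G} (hq : q ∈ R.Q i) (e : R.h lam * q * (R.h lam)⁻¹ = q) : q = 1 := by
  refine eq_one_of_fpf (h := R.h lam) rfl Q_comm (h_Q lam) ?_ hq e
  rintro s (⟨a, rfl⟩ | ⟨k, a, rfl⟩)
  · obtain ⟨b, hb⟩ := exists_mul_add (sq_ne_one hi) a
    refine ⟨R.y i b, R.y_mem_Q i b, ?_⟩
    rw [R.h_y, R.y_inv, ← R.y_add, ← hb]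
    push_cast; rfl
  · by_cases hik : Dj i k
    · obtain ⟨b, hb⟩ := exists_mul_add (hj k hik) a
      refine ⟨R.x i k b, R.x_mem_Q i k b, ?_⟩
      rw [R.h_x, R.x_inv, ← R.x_add, ← hb]
      push_cast; rfl
    · exact ⟨1, one_mem _, by rw [R.x_of_not hik]; group⟩

/-- `C_{F_i}(h) = 1` -/
theorem eq_one_of_fix [Finite F] [Finite G] (h3 : ∀ i j : Ix n, ∃ k, Dj i k ∧ Dj j k) {i : Ix n} {lam : Fin n → Fˣ}
    (hi : ev lam i ≠ 1) (hj : ∀ j, Dj i j → ev lam i * ev lam j ≠ 1) {f : G} (hf : f ∈ D.Fg i Set.univ)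
    (e : R.h lam * f * (R.h lam)⁻¹ = f) : f = 1 := by
  obtain ⟨a, q, hq, h1⟩ := D.conj_t h3 hf
  have ht : R.h lam * R.t * (R.h lam)⁻¹ = R.t := (R.h_t lam).mul_inv_cancel
  have hb : R.h lam * (D.wy i a * q) * (R.h lam)⁻¹ = D.wy i a * q := by
    have h2 : R.h lam * (f * R.t * f⁻¹) * (R.h lam)⁻¹ = f * R.t * f⁻¹ := by
      calc _ = (R.h lam * f * (R.h lam)⁻¹) * (R.h lam * R.t * (R.h lam)⁻¹) * (R.h lam * f * (R.h lam)⁻¹)⁻¹ := by
            group
        _ = _ := by rw [e, ht]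
    rw [h1] at h2
    have h4 : R.h lam * (R.t * (D.wy i a * q)) * (R.h lam)⁻¹ =
        (R.h lam * R.t * (R.h lam)⁻¹) * (R.h lam * (D.wy i a * q) * (R.h lam)⁻¹) := by group
    rw [h4, ht] at h2
    exact mul_left_cancel h2
  -- `[t, b] = y_i(a)`
  have hq1 : R.t * q * R.t = q := by
    have : Commute R.t q := by
      refine Subgroup.closure_induction (p := fun b _ => Commute R.t b) ?_ (Commute.one_right _)
        (fun _ _ _ _ h1 h2 => h1.mul_right h2) (fun _ _ h1 => h1.inv_right) hq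
      rintro g (⟨a, rfl⟩ | ⟨k, a, rfl⟩)
      exacts [(R.y_t i a).symm, (R.x_t i k a).symm]
    rw [this.eq, mul_assoc, R.tt, mul_one]
  have ha : R.h lam * R.y i a * (R.h lam)⁻¹ = R.y i a := by
    have h5 : R.t * (D.wy i a * q) * R.t = R.y i a * (D.wy i a * q) := by
      calc _ = (R.t * D.wy i a * R.t) * (R.t * q * R.t) := by
            calc _ = R.t * D.wy i a * (R.t * R.t) * q * R.t := by rw [R.tt]; simp only [mul_one, mul_assoc]
              _ = _ := by simp only [mul_assoc]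
        _ = _ := by rw [hq1, D.wy_t, (D.cy_wy i a a).eq]; simp only [mul_assoc]
    have h6 : R.y i a = R.t * (D.wy i a * q) * R.t * (D.wy i a * q)⁻¹ := by rw [h5]; group
    rw [h6]
    calc _ = (R.h lam * R.t * (R.h lam)⁻¹) * (R.h lam * (D.wy i a * q) * (R.h lam)⁻¹) *
          (R.h lam * R.t * (R.h lam)⁻¹) * (R.h lam * (D.wy i a * q) * (R.h lam)⁻¹)⁻¹ := by group
      _ = _ := by rw [ht, hb]
  rw [R.h_y] at ha
  have ha0 : a = 0 := by
    by_contra h0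
    have h7 := R.y_inj ha
    apply sq_ne_one hi
    apply Units.ext
    push_cast
    exact mul_right_cancel₀ h0 (by rw [h7, one_mul])
  rw [ha0, D.wy_zero, one_mul] at hb h1
  have hq0 := Q_fpf hi hj hq hb
  rw [hq0, mul_one] at h1
  have hc : Commute f R.t := by
    show f * R.t = R.t * f
    calc f * R.t = (f * R.t * f⁻¹) * f := by group
      _ = _ := by rw [h1]
  exact Q_fpf hi hj (D.mem_Q_of_comm h3 hf hc) e

omit D in
theorem Q_fix_mem [Finite G] {i : Ix n} {J : Set (Ix n)}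
    {lam : Fin n → Fˣ} (hi : ev lam i = 1) (hJ : ∀ j ∈ J, ev lam j = 1)
    (hj : ∀ j, Dj i j → j ∉ J → ev lam j ≠ 1) {q : G} (hq : q ∈ R.Q i) (e : R.h lam * q * (R.h lam)⁻¹ = q) :
    q ∈ Subgroup.closure {g | (∃ a, g = R.y i a) ∨ ∃ j ∈ J, Dj i j ∧ ∃ a, g = R.x i j a} := by
  have hleQ : Subgroup.closure {g | (∃ a, g = R.y i a) ∨ ∃ j ∈ J, Dj i j ∧ ∃ a, g = R.x i j a} ≤ R.Q i := by
    refine (Subgroup.closure_le _).mpr ?_
    rintro g (⟨b, rfl⟩ | ⟨j, hjJ, hij, b, rfl⟩)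
    exacts [R.y_mem_Q i b, R.x_mem_Q i j b]
  have hleQ' : Subgroup.closure {g | ∃ j, Dj i j ∧ j ∉ J ∧ ∃ a, g = R.x i j a} ≤ R.Q i := by
    refine (Subgroup.closure_le _).mpr ?_
    rintro g ⟨j, hij, hjJ, b, rfl⟩
    exact R.x_mem_Q i j b
  have dec : ∀ q ∈ R.Q i, ∃ q1 ∈ Subgroup.closure {g | (∃ a, g = R.y i a) ∨ ∃ j ∈ J, Dj i j ∧ ∃ a, g = R.x i j a},
      ∃ q2 ∈ Subgroup.closure {g | ∃ j, Dj i j ∧ j ∉ J ∧ ∃ a, g = R.x i j a}, q = q1 * q2 := by
    intro q hq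
    refine Subgroup.closure_induction (p := fun q _ =>
      ∃ q1 ∈ Subgroup.closure {g | (∃ a, g = R.y i a) ∨ ∃ j ∈ J, Dj i j ∧ ∃ a, g = R.x i j a},
      ∃ q2 ∈ Subgroup.closure {g | ∃ j, Dj i j ∧ j ∉ J ∧ ∃ a, g = R.x i j a}, q = q1 * q2) ?_ ?_ ?_ ?_ hq
    · rintro g (⟨a, rfl⟩ | ⟨k, a, rfl⟩)
      · exact ⟨_, Subgroup.subset_closure (Or.inl ⟨a, rfl⟩), 1, one_mem _, (mul_one _).symm⟩
      · by_cases hik : Dj i k
        · by_cases hk : k ∈ J
          · exact ⟨_, Subgroup.subset_closure (Or.inr ⟨k, hk, hik, a, rfl⟩), 1, one_mem _, (mul_one _).symm⟩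
          · exact ⟨1, one_mem _, _, Subgroup.subset_closure ⟨k, hik, hk, a, rfl⟩, (one_mul _).symm⟩
        · exact ⟨1, one_mem _, 1, one_mem _, by rw [R.x_of_not hik, one_mul]⟩
    · exact ⟨1, one_mem _, 1, one_mem _, (one_mul _).symm⟩
    · rintro _ _ - - ⟨q1, h1, q2, h2, rfl⟩ ⟨q1', h1', q2', h2', rfl⟩
      refine ⟨q1 * q1', mul_mem h1 h1', q2 * q2', mul_mem h2 h2', ?_⟩
      have := Q_comm q2 (hleQ' h2) q1' (hleQ h1')
      calc q1 * q2 * (q1' * q2') = q1 * (q2 * q1') * q2' := by group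
        _ = _ := by rw [this]; group
    · rintro _ - ⟨q1, h1, q2, h2, rfl⟩
      refine ⟨q1⁻¹, inv_mem h1, q2⁻¹, inv_mem h2, ?_⟩
      rw [mul_inv_rev]
      exact Q_comm _ (inv_mem (hleQ' h2)) _ (inv_mem (hleQ h1))
  obtain ⟨q1, h1, q2, h2, rfl⟩ := dec q hq
  have turn : ∀ {g : G}, R.h lam * g * (R.h lam)⁻¹ = g → Commute (R.h lam) g := by
    intro g hg
    show R.h lam * g = g * R.h lam
    calc R.h lam * g = (R.h lam * g * (R.h lam)⁻¹) * R.h lam := by group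
      _ = _ := by rw [hg]
  have c1 : Commute (R.h lam) q1 := by
    refine Subgroup.closure_induction (p := fun c _ => Commute (R.h lam) c) ?_ (Commute.one_right _)
      (fun _ _ _ _ h1 h2 => h1.mul_right h2) (fun _ _ h1 => h1.inv_right) h1
    rintro g (⟨b, rfl⟩ | ⟨j, hjJ, hij, b, rfl⟩) <;> apply turn
    · rw [R.h_y, hi, Units.val_one, one_pow, one_mul]
    · rw [R.h_x, hi, hJ j hjJ, Units.val_one, one_mul, one_mul]
  have e2 : R.h lam * q2 * (R.h lam)⁻¹ = q2 := by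
    have h4 : R.h lam * (q1 * q2) * (R.h lam)⁻¹ =
        (R.h lam * q1 * (R.h lam)⁻¹) * (R.h lam * q2 * (R.h lam)⁻¹) := by group
    rw [h4, c1.mul_inv_cancel] at e
    exact mul_left_cancel e
  have h5 : q2 = 1 := by
    refine eq_one_of_fpf (h := R.h lam) (S := {g | ∃ j, Dj i j ∧ j ∉ J ∧ ∃ a, g = R.x i j a}) rfl
      (fun a ha b hb => Q_comm a (hleQ' ha) b (hleQ' hb)) ?_ ?_ h2 e2
    · refine closure_conj ?_
      rintro s ⟨k, hik, hk, a, rfl⟩
      rw [R.h_x]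
      exact Subgroup.subset_closure ⟨k, hik, hk, _, rfl⟩
    · rintro s ⟨k, hik, hk, a, rfl⟩
      have hne : ev lam i * ev lam k ≠ 1 := by rw [hi, one_mul]; exact hj k hik hk
      obtain ⟨b, hb⟩ := exists_mul_add hne a
      refine ⟨R.x i k b, Subgroup.subset_closure ⟨k, hik, hk, _, rfl⟩, ?_⟩
      rw [R.h_x, R.x_inv, ← R.x_add, ← hb]
      push_cast; rfl
  rw [h5, mul_one]
  exact h1

/-- `C_{F_i}(h) ≤ F_i(J)` -/
theorem mem_of_fix [Finite F] [Finite G] (h3 : ∀ i j : Ix n, ∃ k, Dj i k ∧ Dj j k) {i : Ix n} {J : Set (Ix n)}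
    {lam : Fin n → Fˣ} (hi : ev lam i = 1) (hJ : ∀ j ∈ J, ev lam j = 1)
    (hj : ∀ j, Dj i j → j ∉ J → ev lam j ≠ 1) {j₀ : Ix n} (hj₀ : j₀ ∈ J) (hij₀ : Dj i j₀)
    {f : G} (hf : f ∈ D.Fg i Set.univ) (e : R.h lam * f * (R.h lam)⁻¹ = f) : f ∈ D.Fg i J := by
  obtain ⟨a, q, hq, h1⟩ := D.conj_t h3 hf
  have ht : R.h lam * R.t * (R.h lam)⁻¹ = R.t := (R.h_t lam).mul_inv_cancel
  have hb : R.h lam * (D.wy i a * q) * (R.h lam)⁻¹ = D.wy i a * q := by
    have h2 : R.h lam * (f * R.t * f⁻¹) * (R.h lam)⁻¹ = f * R.t * f⁻¹ := by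
      calc _ = (R.h lam * f * (R.h lam)⁻¹) * (R.h lam * R.t * (R.h lam)⁻¹) * (R.h lam * f * (R.h lam)⁻¹)⁻¹ := by
            group
        _ = _ := by rw [e, ht]
    rw [h1] at h2
    have h4 : R.h lam * (R.t * (D.wy i a * q)) * (R.h lam)⁻¹ =
        (R.h lam * R.t * (R.h lam)⁻¹) * (R.h lam * (D.wy i a * q) * (R.h lam)⁻¹) := by group
    rw [h4, ht] at h2
    exact mul_left_cancel h2
  have hq' : R.h lam * q * (R.h lam)⁻¹ = q := by
    have h2 : R.h lam * (D.wy i a * q) * (R.h lam)⁻¹ =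
        (R.h lam * D.wy i a * (R.h lam)⁻¹) * (R.h lam * q * (R.h lam)⁻¹) := by group
    rw [h2, D.h_wy, hi, Units.val_one, one_pow, one_mul] at hb
    exact mul_left_cancel hb
  have hqJ := Q_fix_mem hi hJ hj hq hq'
  have hle : Subgroup.closure {g | (∃ a, g = R.y i a) ∨ ∃ j ∈ J, Dj i j ∧ ∃ a, g = R.x i j a} ≤
      Subgroup.closure {g | (∃ u, g = D.wy i u) ∨ (∃ a, g = R.y i a) ∨ ∃ k ∈ J, Dj i k ∧ ∃ a, g = R.x i k a} :=
    Subgroup.closure_mono fun g hg => Or.inr hg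
  obtain ⟨hbF, c, hc, hct⟩ := D.rch_B h3 hj₀ hij₀
    (mul_mem (Subgroup.subset_closure (Or.inl ⟨a, rfl⟩)) (hle hqJ))
  -- `c` commutes with `h`
  have hch : Commute (R.h lam) c := by
    refine Subgroup.closure_induction (p := fun c _ => Commute (R.h lam) c) ?_ (Commute.one_right _)
      (fun _ _ _ _ h1 h2 => h1.mul_right h2) (fun _ _ h1 => h1.inv_right) hc
    have turn : ∀ {g : G}, R.h lam * g * (R.h lam)⁻¹ = g → Commute (R.h lam) g := by
      intro g hg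
      show R.h lam * g = g * R.h lam
      calc R.h lam * g = (R.h lam * g * (R.h lam)⁻¹) * R.h lam := by group
        _ = _ := by rw [hg]
    rintro g (⟨u, rfl⟩ | ⟨b, rfl⟩ | ⟨j, hjJ, hij, ⟨u, rfl⟩ | ⟨b, rfl⟩ | ⟨u, v, rfl⟩⟩) <;> apply turn
    · rw [D.h_wy, hi, Units.val_one, one_pow, one_mul]
    · rw [R.h_y, hi, Units.val_one, one_pow, one_mul]
    · rw [D.h_wx lam hij, hi, hJ j hjJ, Units.val_one, one_mul, one_mul]
    · rw [R.h_x, hi, hJ j hjJ, Units.val_one, one_mul, one_mul]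
    · rw [D.h_p hij u v, hi, hJ j hjJ]
      simp
  have hct2 : Commute (c⁻¹ * f) R.t := by
    have h5 : c * R.t * c⁻¹ = f * R.t * f⁻¹ := by rw [hct, h1]
    show c⁻¹ * f * R.t = R.t * (c⁻¹ * f)
    calc c⁻¹ * f * R.t = c⁻¹ * (f * R.t * f⁻¹) * f := by group
      _ = _ := by rw [← h5]; group
  have hcf : c⁻¹ * f ∈ D.Fg i Set.univ := mul_mem (inv_mem (D.F_mono (Set.subset_univ J) hc)) hf
  have hcq := D.mem_Q_of_comm h3 hcf hct2
  have hcfix : R.h lam * (c⁻¹ * f) * (R.h lam)⁻¹ = c⁻¹ * f := by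
    calc _ = (R.h lam * c⁻¹ * (R.h lam)⁻¹) * (R.h lam * f * (R.h lam)⁻¹) := by group
      _ = _ := by rw [e, hch.inv_right.mul_inv_cancel]
  have h6 := Q_fix_mem hi hJ hj hcq hcfix
  have hle2 : Subgroup.closure {g | (∃ a, g = R.y i a) ∨ ∃ j ∈ J, Dj i j ∧ ∃ a, g = R.x i j a} ≤ D.Fg i J := by
    refine (Subgroup.closure_le _).mpr ?_
    rintro g (⟨b, rfl⟩ | ⟨j, hjJ, hij, b, rfl⟩)
    exacts [D.y_mem_F b, D.x_mem_F hjJ hij b]
  have h7 : f = c * (c⁻¹ * f) := by group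
  rw [h7]
  exact mul_mem hc (hle2 h6)

end COne

end Cfsg.Agent.OddHalf.SpN

end

-- merged: Cfsg.Agent.OddHalf.SpN.COneU
section

/-!
# ODD D7, `K = Sp_2n(q)`, `q ≥ 4`, pattern (C,O): the group `U*` (helper63)

`COne.exists_Ustar` : a 2-group `S` containing `U`, normalised by `t`, `t ∉ S`, all involutions of `tS` are
`S`-conjugate to `t`.
-/

set_option autoImplicit false

namespace Cfsg.Agent.OddHalf.SpN

/-- A 2-group `A` normalised by the involution `t ∉ A` such that all involutions of `tA` are `A`-conjugate to `t`. -/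
structure Good {G : Type*} [Group G] (t : G) (A : Subgroup G) : Prop where
  p2 : IsPGroup 2 A
  nt : ∀ a ∈ A, t * a * t ∈ A
  tn : t ∉ A
  inv : ∀ a ∈ A, t * a * (t * a) = 1 → ∃ c ∈ A, c * t * c⁻¹ = t * a

section glue

variable {G : Type*} [Group G] {t : G} {A B : Subgroup G}

/-- the product `AB` -/
def glue (A B : Subgroup G) (h : ∀ a ∈ A, ∀ b ∈ B, a * b * a⁻¹ ∈ B) : Subgroup G where
  carrier := {g | ∃ a ∈ A, ∃ b ∈ B, g = a * b}
  one_mem' := ⟨1, one_mem _, 1, one_mem _, (one_mul _).symm⟩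
  mul_mem' := by
    rintro _ _ ⟨a, ha, b, hb, rfl⟩ ⟨a', ha', b', hb', rfl⟩
    refine ⟨a * a', mul_mem ha ha', (a'⁻¹ * b * a'⁻¹⁻¹) * b', mul_mem (h _ (inv_mem ha') _ hb) hb', ?_⟩
    group
  inv_mem' := by
    rintro _ ⟨a, ha, b, hb, rfl⟩
    refine ⟨a⁻¹, inv_mem ha, a * b⁻¹ * a⁻¹, h _ ha _ (inv_mem hb), ?_⟩
    group

theorem Good.glue (tt : t * t = 1) (hA : Good t A) (hB : Good t B) (h : ∀ a ∈ A, ∀ b ∈ B, a * b * a⁻¹ ∈ B)
    (disj : ∀ b ∈ B, b ∈ A ∨ t * b ∈ A → b = 1) : Good t (glue A B h) := by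
  have ti : t⁻¹ = t := inv_eq_of_mul_eq_one_left tt
  refine ⟨?_, ?_, ?_, ?_⟩
  · have h1 : A ≤ Subgroup.normalizer (B : Set G) := by
      intro a ha
      rw [Subgroup.mem_normalizer_iff]
      intro b
      constructor
      · exact fun hb => h a ha b hb
      · intro hb
        have := h a⁻¹ (inv_mem ha) _ hb
        have e : a⁻¹ * (a * b * a⁻¹) * a⁻¹⁻¹ = b := by group
        rwa [e] at this
    have h2 := hA.p2.to_sup_of_normal_right' hB.p2 h1
    refine h2.to_le ?_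
    rintro _ ⟨a, ha, b, hb, rfl⟩
    exact Subgroup.mul_mem_sup ha hb
  · rintro _ ⟨a, ha, b, hb, rfl⟩
    refine ⟨t * a * t, hA.nt a ha, t * b * t, hB.nt b hb, ?_⟩
    calc t * (a * b) * t = t * a * 1 * b * t := by group
      _ = _ := by rw [← tt]; simp only [mul_assoc]
  · rintro ⟨a, ha, b, hb, e⟩
    have h1 : t * b ∈ A := by
      have : t * b = t * a⁻¹ * t := by
        have : b = a⁻¹ * t := by rw [e]; group
        rw [this]; group
      rw [this]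
      exact hA.nt _ (inv_mem ha)
    have h2 := disj b hb (Or.inr h1)
    rw [h2, mul_one] at e
    exact hA.tn (by rw [e]; exact ha)
  · rintro _ ⟨a, ha, b, hb, rfl⟩ h0
    have e1 : t * a * (t * a) = 1 := by
      have h1 : t * a * (t * a) ∈ A := by
        have : t * a * (t * a) = (t * a * t) * a := by group
        rw [this]; exact mul_mem (hA.nt a ha) ha
      have h2 : t * a * (t * a) ∈ B := by
        have h3 : (t * a) * (t * a) * (((t * a)⁻¹ * b * (t * a)) * b) = 1 := by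
          rw [← h0]; group
        have h4 : (t * a)⁻¹ * b * (t * a) ∈ B := by
          have h5 := h a⁻¹ (inv_mem ha) _ (hB.nt b hb)
          have e : a⁻¹ * (t * b * t) * a⁻¹⁻¹ = (t * a)⁻¹ * b * (t * a) := by
            rw [mul_inv_rev, ti]; group
          rwa [e] at h5
        have h5 : t * a * (t * a) = (((t * a)⁻¹ * b * (t * a)) * b)⁻¹ := eq_inv_of_mul_eq_one_left h3
        rw [h5]; exact inv_mem (mul_mem h4 hb)
      exact disj _ h2 (Or.inl h1)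
    obtain ⟨c, hc, hc2⟩ := hA.inv a ha e1
    have hb' : c⁻¹ * b * c ∈ B := by
      have := h c⁻¹ (inv_mem hc) b hb
      rwa [inv_inv] at this
    have e2 : t * (c⁻¹ * b * c) * (t * (c⁻¹ * b * c)) = 1 := by
      have e3 : t * (c⁻¹ * b * c) = c⁻¹ * (t * (a * b)) * c := by
        have : t * (a * b) = c * t * c⁻¹ * b := by rw [hc2]; group
        rw [this]; group
      rw [e3]
      calc _ = c⁻¹ * (t * (a * b) * (t * (a * b))) * c := by group
        _ = 1 := by rw [h0]; group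
    obtain ⟨d, hd, hd2⟩ := hB.inv _ hb' e2
    refine ⟨c * d, ⟨c, hc, d, hd, rfl⟩, ?_⟩
    calc c * d * t * (c * d)⁻¹ = c * (d * t * d⁻¹) * c⁻¹ := by group
      _ = (c * t * c⁻¹) * b := by rw [hd2]; group
      _ = _ := by rw [hc2]; group

end glue

/-- coprime action on a coset of an elementary abelian 2-group -/
theorem avg {G : Type*} [Group G] [Finite G] {H Q : Subgroup G} (hodd : Odd (Nat.card H))
    (comm : ∀ a ∈ Q, ∀ b ∈ Q, a * b = b * a) (sq : ∀ a ∈ Q, a * a = 1) (hHQ : ∀ h ∈ H, ∀ q ∈ Q, h * q * h⁻¹ ∈ Q)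
    {c : G} (hc : ∀ h ∈ H, c⁻¹ * (h * c * h⁻¹) ∈ Q) : ∃ q ∈ Q, ∀ h ∈ H, h * (c * q) * h⁻¹ = c * q := by
  classical
  let _ : CommGroup Q := { (inferInstance : Group Q) with mul_comm := fun a b => Subtype.ext (comm _ a.2 _ b.2) }
  have _ : Fintype H := Fintype.ofFinite H
  let γ : H → Q := fun h => ⟨c⁻¹ * (h.1 * c * h.1⁻¹), hc _ h.2⟩
  let φ : H → (Q →* Q) := fun g =>
    { toFun := fun q => ⟨g.1 * q.1 * g.1⁻¹, hHQ _ g.2 _ q.2⟩
      map_one' := Subtype.ext (by show g.1 * 1 * g.1⁻¹ = 1; group)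
      map_mul' := fun a b => Subtype.ext (by
        show g.1 * (a.1 * b.1) * g.1⁻¹ = (g.1 * a.1 * g.1⁻¹) * (g.1 * b.1 * g.1⁻¹); group) }
  have hγ : ∀ g h : H, φ g (γ h) = (γ g)⁻¹ * γ (g * h) := fun g h => Subtype.ext (by
    show g.1 * (c⁻¹ * (h.1 * c * h.1⁻¹)) * g.1⁻¹ = (c⁻¹ * (g.1 * c * g.1⁻¹))⁻¹ *
      (c⁻¹ * ((g.1 * h.1) * c * (g.1 * h.1)⁻¹))
    group)
  have key : ∀ g : H, φ g (∏ h : H, γ h) = γ g * ∏ h : H, γ h := by
    intro g
    rw [map_prod]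
    simp only [hγ]
    rw [Finset.prod_mul_distrib, Finset.prod_const, Finset.card_univ]
    have h1 : ∏ h : H, γ (g * h) = ∏ h : H, γ h := Equiv.prod_comp (Equiv.mulLeft g) γ
    rw [h1]
    congr 1
    have h2 : (γ g)⁻¹ = γ g := inv_eq_of_mul_eq_one_left (Subtype.ext (sq _ (γ g).2))
    rw [h2]
    have h3 : γ g ^ 2 = 1 := by rw [pow_two]; exact Subtype.ext (sq _ (γ g).2)
    obtain ⟨m, hm⟩ := hodd
    rw [Nat.card_eq_fintype_card] at hm
    rw [hm, pow_add, pow_mul, h3, one_pow, one_mul, pow_one]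
  refine ⟨(∏ h : H, γ h : Q).1, (∏ h : H, γ h : Q).2, fun g hg => ?_⟩
  have h4 := congrArg Subtype.val (key ⟨g, hg⟩)
  have h5 : g * (∏ h : H, γ h : Q).1 * g⁻¹ = (c⁻¹ * (g * c * g⁻¹)) * (∏ h : H, γ h : Q).1 := h4
  have h6 := sq _ (hc g hg)
  calc g * (c * (∏ h : H, γ h : Q).1) * g⁻¹ = (g * c * g⁻¹) * (g * (∏ h : H, γ h : Q).1 * g⁻¹) := by group
    _ = c * ((c⁻¹ * (g * c * g⁻¹)) * (c⁻¹ * (g * c * g⁻¹))) * (∏ h : H, γ h : Q).1 := by rw [h5]; group
    _ = _ := by rw [h6, mul_one]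

namespace COne

variable {n : ℕ} {F : Type*} [Field F] [CharP F 2] {G : Type*} [Group G] {R : Frame n F G} (D : COne R)

include D

section conj

variable [Finite F] (h3 : ∀ i j : Ix n, ∃ k, Dj i k ∧ Dj j k) {i : Ix n} {J : Set (Ix n)}

omit [Finite F] in
/-- `t` normalises `F_i` -/
theorem t_F : ∀ f ∈ D.Fg i J, R.t * f * R.t ∈ D.Fg i J := by
  have ti : R.t⁻¹ = R.t := R.t_inv
  have h : ∀ f ∈ D.Fg i J, R.t * f * R.t⁻¹ ∈ D.Fg i J := by
    refine closure_conj (S := D.FS i J) ?_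
    rintro g (⟨u, rfl⟩ | ⟨a, rfl⟩ | ⟨j, hj, hij, ⟨u, rfl⟩ | ⟨a, rfl⟩ | ⟨u, v, rfl⟩⟩)
    · rw [ti, D.wy_t]; exact mul_mem (D.wy_mem_F u) (D.y_mem_F u)
    · rw [(R.y_t i a).symm.mul_inv_cancel]; exact D.y_mem_F a
    · rw [ti, D.wx_t hij]; exact mul_mem (D.wx_mem_F hj hij u) (D.x_mem_F hj hij u)
    · rw [(R.x_t i j a).symm.mul_inv_cancel]; exact D.x_mem_F hj hij a
    · obtain ⟨c, d, h1⟩ := D.t_p hij u v
      rw [ti, h1]
      exact mul_mem (mul_mem (mul_mem (D.p_mem_F hj hij u v) (D.wy_mem_F _)) (D.x_mem_F hj hij c)) (D.y_mem_F d)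
  intro f hf
  have := h f hf
  rwa [ti] at this

omit [Finite F] in
/-- the torus normalises `F_i` -/
theorem h_F (lam : Fin n → Fˣ) : ∀ f ∈ D.Fg i J, R.h lam * f * (R.h lam)⁻¹ ∈ D.Fg i J := by
  refine closure_conj (S := D.FS i J) ?_
  rintro g (⟨u, rfl⟩ | ⟨a, rfl⟩ | ⟨j, hj, hij, ⟨u, rfl⟩ | ⟨a, rfl⟩ | ⟨u, v, rfl⟩⟩)
  · rw [D.h_wy]; exact D.wy_mem_F _
  · rw [R.h_y]; exact D.y_mem_F _
  · rw [D.h_wx lam hij]; exact D.wx_mem_F hj hij _
  · rw [R.h_x]; exact D.x_mem_F hj hij _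
  · rw [D.h_p hij]; exact D.p_mem_F hj hij _ _

include h3

theorem F_p2 : IsPGroup 2 (D.Fg i J) := by
  intro g
  refine ⟨2, Subtype.ext ?_⟩
  obtain ⟨e, he⟩ := D.F_sq h3 g.2
  show (g.1) ^ (2 ^ 2) = 1
  calc g.1 ^ (2 ^ 2) = (g.1 * g.1) * (g.1 * g.1) := by rw [show 2 ^ 2 = 2 * 2 from rfl, pow_mul, pow_two, pow_two]
    _ = 1 := by rw [he, R.y_sq]

end conj

/-- the torus elements supported on the indices `< k` -/
def HL (R : Frame n F G) (k : ℕ) : Subgroup G where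
  carrier := {g | ∃ lam : Fin n → Fˣ, (∀ j : Fin n, k ≤ j → lam j = 1) ∧ g = R.h lam}
  one_mem' := ⟨1, fun _ _ => rfl, (map_one _).symm⟩
  mul_mem' := by
    rintro _ _ ⟨l, hl, rfl⟩ ⟨l', hl', rfl⟩
    exact ⟨l * l', fun j hj => by rw [Pi.mul_apply, hl j hj, hl' j hj, one_mul], (map_mul _ _ _).symm⟩
  inv_mem' := by
    rintro _ ⟨l, hl, rfl⟩
    exact ⟨l⁻¹, fun j hj => by rw [Pi.inv_apply, hl j hj, inv_one], (map_inv _ _).symm⟩

omit D in
theorem HL_mono {k m : ℕ} (h : k ≤ m) : HL R k ≤ HL R m := by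
  rintro _ ⟨l, hl, rfl⟩
  exact ⟨l, fun j hj => hl j (h.trans hj), rfl⟩

omit D in
theorem HL_odd [Finite G] (k : ℕ) : Odd (Nat.card (HL R k)) := by
  rw [← Nat.not_even_iff_odd, even_iff_two_dvd]
  intro h
  obtain ⟨x, ho⟩ := exists_prime_orderOf_dvd_card' 2 h
  obtain ⟨l, hl, hx⟩ := x.2
  have h1 : x.1 * x.1 = 1 := by
    have := pow_orderOf_eq_one x
    rw [ho, pow_two] at this
    exact congrArg Subtype.val this
  rw [hx, ← map_mul, ← map_one R.h] at h1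
  have h2 := R.h_injective h1
  have h4 : l = 1 := by
    funext j
    by_contra hj
    apply sq_ne_one hj
    rw [pow_two]
    exact congrFun h2 j
  rw [h4, map_one] at hx
  have h5 : x = 1 := Subtype.ext hx
  rw [h5, orderOf_one] at ho
  exact absurd ho (by norm_num)

/-- `R_k = C_{F_k}(H_{<k})` -/
def Rk (k : Fin n) : Subgroup G := D.Fg (Sum.inl k) Set.univ ⊓ Subgroup.centralizer (HL R k : Set G)

theorem mem_Rk {k : Fin n} {r : G} :
    r ∈ D.Rk k ↔ r ∈ D.Fg (Sum.inl k) Set.univ ∧ ∀ g ∈ HL R k, g * r = r * g := by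
  rw [Rk, Subgroup.mem_inf, Subgroup.mem_centralizer_iff]
  rfl

section Rk

variable [Finite F] [Finite G] (h3 : ∀ i j : Ix n, ∃ k, Dj i k ∧ Dj j k)

include h3

theorem Rk_good (k : Fin n) : Good R.t (D.Rk k) := by
  refine ⟨(D.F_p2 h3).to_le inf_le_left, ?_, fun h => D.t_notMem_F h3 (D.mem_Rk.mp h).1, ?_⟩
  · intro a ha0
    obtain ⟨ha, ha'⟩ := D.mem_Rk.mp ha0
    refine D.mem_Rk.mpr ⟨D.t_F a ha, ?_⟩
    rintro _ ⟨l, hl, rfl⟩
    have h1 := ha' _ ⟨l, hl, rfl⟩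
    have h2 := (R.h_t l).eq
    calc R.h l * (R.t * a * R.t) = (R.h l * R.t) * a * R.t := by group
      _ = R.t * (R.h l * a) * R.t := by rw [h2]; group
      _ = R.t * a * (R.h l * R.t) := by rw [h1]; group
      _ = _ := by rw [h2]; group
  · intro r hr0 h0
    obtain ⟨hr, hr'⟩ := D.mem_Rk.mp hr0
    obtain ⟨c, hc, hct⟩ := D.inv_F h3 hr h0
    have Qt : ∀ q ∈ R.Q (Sum.inl k), Commute q R.t := by
      intro q hq
      refine Subgroup.closure_induction (p := fun b _ => Commute b R.t) ?_ (Commute.one_left _)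
        (fun _ _ _ _ h1 h2 => h1.mul_left h2) (fun _ _ h1 => h1.inv_left) hq
      rintro g (⟨a, rfl⟩ | ⟨k, a, rfl⟩)
      exacts [R.y_t _ a, R.x_t _ k a]
    have sqQ : ∀ q ∈ R.Q (Sum.inl k), q * q = 1 := by
      intro q hq
      refine Subgroup.closure_induction (p := fun b _ => b ∈ R.Q (Sum.inl k) → b * b = 1) ?_ ?_ ?_ ?_ hq hq
      · rintro g (⟨a, rfl⟩ | ⟨k, a, rfl⟩) -
        exacts [R.y_sq _ a, R.x_sq _ k a]
      · intro _; rw [one_mul]
      · intro a b ha hb h1 h2 _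
        have h4 := Q_comm b hb a ha
        calc a * b * (a * b) = a * (b * a) * b := by group
          _ = (a * a) * (b * b) := by rw [h4]; group
          _ = 1 := by rw [h1 ha, h2 hb, one_mul]
      · intro a ha h1 _
        have : a⁻¹ * a⁻¹ = (a * a)⁻¹ := by group
        rw [this, h1 ha, inv_one]
    have hHQ : ∀ h ∈ HL R k, ∀ q ∈ R.Q (Sum.inl k), h * q * h⁻¹ ∈ R.Q (Sum.inl k) := by
      rintro _ ⟨l, -, rfl⟩ q hq
      exact h_Q l q hq
    have hcc : ∀ h ∈ HL R k, c⁻¹ * (h * c * h⁻¹) ∈ R.Q (Sum.inl k) := by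
      rintro _ ⟨l, hl, rfl⟩
      have hF : c⁻¹ * (R.h l * c * (R.h l)⁻¹) ∈ D.Fg (Sum.inl k) Set.univ := mul_mem (inv_mem hc) (D.h_F l c hc)
      refine D.mem_Q_of_comm h3 hF ?_
      have e1 : (R.h l * c * (R.h l)⁻¹) * R.t * (R.h l * c * (R.h l)⁻¹)⁻¹ = c * R.t * c⁻¹ := by
        have h4 : (R.h l)⁻¹ * R.t * R.h l = R.t := by
          rw [mul_assoc, ← (R.h_t l).eq]; group
        have h5 : Commute (R.h l) (R.t * r) := (R.h_t l).mul_right (hr' _ ⟨l, hl, rfl⟩)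
        calc _ = R.h l * (c * ((R.h l)⁻¹ * R.t * R.h l) * c⁻¹) * (R.h l)⁻¹ := by group
          _ = _ := by rw [h4, hct, h5.mul_inv_cancel]
      show c⁻¹ * (R.h l * c * (R.h l)⁻¹) * R.t = R.t * (c⁻¹ * (R.h l * c * (R.h l)⁻¹))
      calc _ = c⁻¹ * ((R.h l * c * (R.h l)⁻¹) * R.t * (R.h l * c * (R.h l)⁻¹)⁻¹) * (R.h l * c * (R.h l)⁻¹) := by group
        _ = _ := by rw [e1]; group
    obtain ⟨q, hq, hq2⟩ := avg (H := HL R k) (Q := R.Q (Sum.inl k)) (HL_odd k) Q_comm sqQ hHQ hcc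
    refine ⟨c * q, D.mem_Rk.mpr ⟨mul_mem hc (D.Q_le_F hq), ?_⟩, ?_⟩
    · intro g hg
      calc g * (c * q) = (g * (c * q) * g⁻¹) * g := by group
        _ = _ := by rw [hq2 g hg]
    · calc c * q * R.t * (c * q)⁻¹ = c * (q * R.t * q⁻¹) * c⁻¹ := by group
        _ = _ := by rw [(Qt q hq).mul_inv_cancel, hct]

/-- `C_{R_k}(h_k(μ)) = 1` -/
theorem Rk_fpf {k : Fin n} {μ : Fˣ} (hμ : μ ≠ 1) {r : G} (hr : r ∈ D.Rk k)
    (e : R.h (Pi.mulSingle k μ) * r = r * R.h (Pi.mulSingle k μ)) : r = 1 := by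
  have h1 : ev (Pi.mulSingle k μ) (Sum.inl k : Ix n) = μ := Pi.mulSingle_eq_same (M := fun _ : Fin n => Fˣ) k μ
  refine D.eq_one_of_fix h3 (i := Sum.inl k) (lam := Pi.mulSingle k μ) ?_ ?_ (D.mem_Rk.mp hr).1 ?_
  · rw [h1]; exact hμ
  · intro j hj
    have h2 : ev (Pi.mulSingle k μ) j = 1 := by
      rcases j with j | j
      · have : j ≠ k := fun h => hj.1 (by rw [h])
        exact Pi.mulSingle_eq_of_ne (M := fun _ : Fin n => Fˣ) this μ
      · have : j ≠ k := fun h => hj.2 (by rw [h]; rfl)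
        show ((Pi.mulSingle k μ : Fin n → Fˣ) j)⁻¹ = 1
        rw [Pi.mulSingle_eq_of_ne this, inv_one]
    rw [h1, h2, mul_one]; exact hμ
  · rw [e]; group

/-- `R_m ≤ N(F_k)` for `k < m` -/
theorem Rk_nor {k m : Fin n} (hkm : k < m) {μ : Fˣ} (hμ : μ ≠ 1) {r : G} (hr : r ∈ D.Rk m) :
    r ∈ Subgroup.normalizer (D.Fg (Sum.inl k) Set.univ : Set G) := by
  obtain ⟨hr1, hr2⟩ := D.mem_Rk.mp hr
  have hdj : Dj (Sum.inl m : Ix n) (Sum.inl k) :=
    ⟨fun h => hkm.ne' (Sum.inl_injective h), fun h => by simp at h⟩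
  have h0 : ∀ j : Ix n, Dj (Sum.inl k) j → ev (Pi.mulSingle k μ) j = 1 := by
    intro j hj
    rcases j with j | j
    · have : j ≠ k := fun h => hj.1 (by rw [h])
      exact Pi.mulSingle_eq_of_ne (M := fun _ : Fin n => Fˣ) this μ
    · have : j ≠ k := fun h => hj.2 (by rw [h]; rfl)
      show ((Pi.mulSingle k μ : Fin n → Fˣ) j)⁻¹ = 1
      rw [Pi.mulSingle_eq_of_ne this, inv_one]
  have h1 : ev (Pi.mulSingle k μ) (Sum.inl k : Ix n) = μ := Pi.mulSingle_eq_same (M := fun _ : Fin n => Fˣ) k μ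
  obtain ⟨j₀, hm0, hk0⟩ := h3 (Sum.inl m) (Sum.inl k)
  have hF : r ∈ D.Fg (Sum.inl m) {j | Dj (Sum.inl k) j} := by
    refine D.mem_of_fix h3 (lam := Pi.mulSingle k μ) (h0 _ hdj.symm) (fun j hj => h0 j hj) ?_ (j₀ := j₀) hk0 hm0 hr1 ?_
    · intro j hmj hj h
      have hj' : ¬ Dj (Sum.inl k) j := hj
      simp only [Dj, not_and_or, not_not] at hj'
      rcases hj' with hj | hj
      · rw [← hj, h1] at h; exact hμ h
      · have hj' : j = neg (Sum.inl k) := by rw [hj, neg_neg]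
        rw [hj', ev_neg, h1, inv_eq_one] at h; exact hμ h
    · have := hr2 (R.h (Pi.mulSingle k μ)) ⟨_, fun j hj => ?_, rfl⟩
      · rw [this]; group
      · have : j ≠ k := fun h => by rw [h] at hj; exact absurd hkm (not_lt.mpr hj)
        exact Pi.mulSingle_eq_of_ne (M := fun _ : Fin n => Fˣ) this μ
  have hle : D.Fg (Sum.inl m) {j | Dj (Sum.inl k) j} ≤ Subgroup.normalizer (D.Fg (Sum.inl k) Set.univ : Set G) := by
    refine (Subgroup.closure_le _).mpr ?_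
    rintro g (⟨u, rfl⟩ | ⟨a, rfl⟩ | ⟨j, hj, hij, ⟨u, rfl⟩ | ⟨a, rfl⟩ | ⟨u, v, rfl⟩⟩)
    · exact D.wy_nor h3 hdj.symm u
    · exact D.y_nor h3 hdj.symm a
    · exact D.wx_nor hdj.symm hj hij u
    · exact D.x_nor hdj.symm hj hij a
    · have e1 := D.wx_nor hdj.symm (dj_neg_right.mpr hj) (dj_neg_right.mpr hij) u
      have e2 := D.wy_nor h3 hj v
      exact mul_mem (mul_mem (mul_mem e1 e2) (inv_mem e1)) (inv_mem e2)
  exact hle hF

theorem exists_chain {μ : Fˣ} (hμ : μ ≠ 1) : ∀ m, m ≤ n → ∃ A : Subgroup G, Good R.t A ∧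
    (∀ k : Fin n, n - m ≤ k → D.Rk k ≤ A) ∧ (∀ a ∈ A, ∀ g ∈ HL R (n - m), g * a = a * g) ∧
    ∀ k : Fin n, (k : ℕ) < n - m → A ≤ Subgroup.normalizer (D.Fg (Sum.inl k) Set.univ : Set G) := by
  intro m
  induction m with
  | zero =>
    intro _
    refine ⟨⊥, ⟨IsPGroup.of_bot, ?_, ?_, ?_⟩, ?_, ?_, ?_⟩
    · intro a ha
      rw [Subgroup.mem_bot] at ha ⊢
      rw [ha, mul_one, R.tt]
    · intro h; exact R.t1 (Subgroup.mem_bot.mp h)
    · intro a ha _
      rw [Subgroup.mem_bot] at ha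
      exact ⟨1, one_mem _, by rw [ha]; group⟩
    · intro k hk; exact absurd k.2 (by omega)
    · intro a ha g _
      rw [Subgroup.mem_bot] at ha
      rw [ha]; group
    · intro k _; exact bot_le
  | succ m ih =>
    intro hm
    obtain ⟨A, hA, hA1, hA2, hA3⟩ := ih (by omega)
    have hk0 : n - (m + 1) < n := by omega
    let k0 : Fin n := ⟨n - (m + 1), hk0⟩
    have hk1 : n - m = (k0 : ℕ) + 1 := by show n - m = n - (m + 1) + 1; omega
    have h : ∀ a ∈ A, ∀ b ∈ D.Rk k0, a * b * a⁻¹ ∈ D.Rk k0 := by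
      intro a ha b hb
      obtain ⟨hb1, hb2⟩ := D.mem_Rk.mp hb
      refine D.mem_Rk.mpr ⟨(Subgroup.mem_normalizer_iff.mp (hA3 k0 (by omega) ha) b).mp hb1, ?_⟩
      intro g hg
      have e1 := hA2 a ha g (HL_mono (by omega) hg)
      have e2 := hb2 g hg
      calc g * (a * b * a⁻¹) = (g * a) * b * a⁻¹ := by group
        _ = a * (g * b) * a⁻¹ := by rw [e1]; group
        _ = a * b * (g * a⁻¹) := by rw [e2]; group
        _ = _ := by
          have : g * a⁻¹ = a⁻¹ * g := by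
            calc g * a⁻¹ = a⁻¹ * (a * g) * a⁻¹ := by group
              _ = _ := by rw [← e1]; group
          rw [this]; group
    have disj : ∀ b ∈ D.Rk k0, b ∈ A ∨ R.t * b ∈ A → b = 1 := by
      intro b hb hbA
      have hg : R.h (Pi.mulSingle k0 μ) ∈ HL R (n - m) := by
        refine ⟨_, fun j hj => ?_, rfl⟩
        have : j ≠ k0 := fun e => by rw [e] at hj; omega
        exact Pi.mulSingle_eq_of_ne (M := fun _ : Fin n => Fˣ) this μ
      refine D.Rk_fpf h3 hμ hb ?_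
      rcases hbA with hbA | hbA
      · exact hA2 b hbA _ hg
      · have e1 := hA2 _ hbA _ hg
        have e2 := (R.h_t (Pi.mulSingle k0 μ)).eq
        rw [← mul_assoc, e2, mul_assoc, mul_assoc] at e1
        exact mul_left_cancel e1
    refine ⟨glue A (D.Rk k0) h, hA.glue R.tt (D.Rk_good h3 k0) h disj, ?_, ?_, ?_⟩
    · intro k hk r hr
      by_cases hkm : n - m ≤ k
      · exact ⟨r, hA1 k hkm hr, 1, one_mem _, (mul_one _).symm⟩
      · have : k = k0 := Fin.ext (by show (k : ℕ) = n - (m + 1); omega)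
        exact ⟨1, one_mem _, r, by rw [← this]; exact hr, (one_mul _).symm⟩
    · rintro _ ⟨a, ha, b, hb, rfl⟩ g hg
      have e1 := hA2 a ha g (HL_mono (by omega) hg)
      have e2 := (D.mem_Rk.mp hb).2 g hg
      rw [← mul_assoc, e1, mul_assoc, e2, mul_assoc]
    · rintro k hk _ ⟨a, ha, b, hb, rfl⟩
      exact mul_mem (hA3 k (by omega) ha) (D.Rk_nor h3 (k := k) (m := k0) (Fin.lt_def.mpr hk) hμ hb)

/-- **Section 10**: the group `U*` of pattern (C,O). -/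
theorem exists_Ustar {μ : Fˣ} (hμ : μ ≠ 1) : ∃ S : Subgroup G, Good R.t S ∧
    (∀ (k : Fin n) (a : F), R.y (Sum.inl k) a ∈ S) ∧
    (∀ (k j : Fin n), k < j → ∀ a : F, R.x (Sum.inl k) (Sum.inl j) a ∈ S ∧ R.x (Sum.inl k) (Sum.inr j) a ∈ S) := by
  obtain ⟨S, hS, h1, -, -⟩ := D.exists_chain h3 hμ n le_rfl
  have h2 : ∀ k, D.Rk k ≤ S := fun k => h1 k (by omega)
  refine ⟨S, hS, fun k a => h2 k (D.mem_Rk.mpr ⟨D.y_mem_F a, ?_⟩), fun k j hkj a => ⟨?_, ?_⟩⟩
  · rintro _ ⟨l, hl, rfl⟩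
    have e := R.h_y l (Sum.inl k) a
    have hk : ev l (Sum.inl k : Ix n) = 1 := hl k le_rfl
    rw [hk, Units.val_one, one_pow, one_mul] at e
    exact mul_inv_eq_iff_eq_mul.mp e
  · have hd : Dj (Sum.inl k : Ix n) (Sum.inl j) := ⟨fun h => hkj.ne (Sum.inl_injective h), fun h => by simp at h⟩
    refine h2 k (D.mem_Rk.mpr ⟨D.x_mem_F (Set.mem_univ _) hd a, ?_⟩)
    rintro _ ⟨l, hl, rfl⟩
    have e := R.h_x l (Sum.inl k) (Sum.inl j) a
    have hk : ev l (Sum.inl k : Ix n) = 1 := hl k le_rfl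
    have hj : ev l (Sum.inl j : Ix n) = 1 := hl j hkj.le
    rw [hk, hj, Units.val_one, one_mul, one_mul] at e
    exact mul_inv_eq_iff_eq_mul.mp e
  · have hd : Dj (Sum.inl k : Ix n) (Sum.inr j) := ⟨fun h => by simp at h, fun h => hkj.ne (Sum.inl_injective h)⟩
    refine h2 k (D.mem_Rk.mpr ⟨D.x_mem_F (Set.mem_univ _) hd a, ?_⟩)
    rintro _ ⟨l, hl, rfl⟩
    have e := R.h_x l (Sum.inl k) (Sum.inr j) a
    have hk : ev l (Sum.inl k : Ix n) = 1 := hl k le_rfl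
    have hj : ev l (Sum.inr j : Ix n) = 1 := by
      show (l j)⁻¹ = 1
      rw [hl j hkj.le, inv_one]
    rw [hk, hj, Units.val_one, one_mul, one_mul] at e
    exact mul_inv_eq_iff_eq_mul.mp e

end Rk

end COne

end Cfsg.Agent.OddHalf.SpN

end

-- merged: Cfsg.Agent.OddHalf.SpN.COneEnd
section

/-!
# ODD D7, `K = Sp_2n(q)`, `n ≥ 3`, `q ≥ 4`, END of the pattern (C,O) (helper63)

`COne.exists_hom` : `t ↦ -1` for some homomorphism `G →* {±1}`.
-/

set_option autoImplicit false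

namespace Cfsg.Agent.OddHalf.SpN

open Cfsg.Agent.OddHalf.F4.EndO

/-- third index -/
theorem exists_third {n : ℕ} (hn : 3 ≤ n) (i j : Ix n) : ∃ k, Dj i k ∧ Dj j k := by
  classical
  let a : Ix n → Fin n := Sum.elim id id
  have ha : ∀ i j : Ix n, a i ≠ a j → Dj i j := by
    intro i j h
    refine ⟨fun e => h (by rw [e]), fun e => h ?_⟩
    rw [e]
    rcases j with j | j <;> rfl
  obtain ⟨k, hk⟩ : ∃ k : Fin n, k ∉ ({a i, a j} : Finset (Fin n)) := by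
    by_contra h
    push_neg at h
    have h1 : (Finset.univ : Finset (Fin n)) ⊆ {a i, a j} := fun k _ => h k
    have h2 := Finset.card_le_card h1
    rw [Finset.card_univ, Fintype.card_fin] at h2
    have h3 : ({a i, a j} : Finset (Fin n)).card ≤ 2 := Finset.card_le_two
    omega
  rw [Finset.mem_insert, Finset.mem_singleton, not_or] at hk
  exact ⟨Sum.inl k, ha _ _ (fun e => hk.1 e.symm), ha _ _ (fun e => hk.2 e.symm)⟩

variable {n : ℕ} {F : Type*} [Field F] [CharP F 2] [Finite F] {G : Type*} [Group G] [Finite G]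

/-- **transfer**: a good 2-group containing a Sylow subgroup of `C(t)` modulo `t` -/
theorem Good.exists_hom {t : G} (tt : t * t = 1) {S : Subgroup G} (hS : Good t S) {T : Subgroup G}
    (hT : T ≤ S ⊔ Subgroup.zpowers t) (hodd : Odd (T.relIndex (Subgroup.centralizer {t}))) :
    ∃ m : G →* ℤˣ, m t = -1 := by
  refine exists_hom_of_extremal tt hS.nt hS.tn hS.p2 (T := T) ?_ hodd ?_
  · have h1 : S ⊔ Subgroup.zpowers t ≤ Ht t S tt hS.nt := by
      refine sup_le (fun x hx => mem_Ht.2 (Or.inl hx)) ?_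
      rw [Subgroup.zpowers_le]
      exact mem_Ht.2 (Or.inr (by rw [tt]; exact one_mem _))
    exact fun x hx => mem_Ht.1 (h1 (hT hx))
  · intro g hg h0 _ _
    obtain ⟨c, hc, h1⟩ := hS.inv g hg h0
    exact ⟨c, hc, by rw [← h1]; group⟩

namespace COne

/-- **END (C,O)**. -/
theorem exists_hom {R : Frame n F G} (D : COne R) (hn : 3 ≤ n) {μ : Fˣ} (hμ : μ ≠ 1)
    (hodd : Odd ((R.Up ⊔ Subgroup.zpowers R.t).relIndex (Subgroup.centralizer {R.t}))) :
    ∃ m : G →* ℤˣ, m R.t = -1 := by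
  obtain ⟨S, hS, hy, hx⟩ := D.exists_Ustar (exists_third hn) hμ
  refine hS.exists_hom R.tt (sup_le_sup_right ?_ _) hodd
  rw [R.Up_eq_closure, Subgroup.closure_le]
  rintro _ (⟨i, j, hij, h, a, rfl⟩ | ⟨i, h, a, rfl⟩)
  · rcases i with i | i <;> rcases j with j | j
    · rcases lt_trichotomy i j with h1 | h1 | h1
      · exact (hx i j h1 a).1
      · exact absurd (by rw [h1]) hij.1
      · rw [R.x_symm]; exact (hx j i h1 a).1
    · rcases lt_trichotomy i j with h1 | h1 | h1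
      · exact (hx i j h1 a).2
      · exact absurd (by rw [h1]; rfl) hij.2
      · exfalso
        have h2 := Fd_inl_lt h1
        have h3 : Fd (Sum.inr j : Ix n) = -Fd (Sum.inl j : Ix n) := Fd_neg (Sum.inl j)
        omega
    · rcases lt_trichotomy i j with h1 | h1 | h1
      · exfalso
        have h2 := Fd_inl_lt h1
        have h3 : Fd (Sum.inr i : Ix n) = -Fd (Sum.inl i : Ix n) := Fd_neg (Sum.inl i)
        omega
      · exact absurd (by rw [h1]; rfl) hij.2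
      · rw [R.x_symm]; exact (hx j i h1 a).2
    · exfalso
      have h2 := Fd_inl_pos i
      have h4 := Fd_inl_pos j
      have h3 : Fd (Sum.inr i : Ix n) = -Fd (Sum.inl i : Ix n) := Fd_neg (Sum.inl i)
      have h5 : Fd (Sum.inr j : Ix n) = -Fd (Sum.inl j : Ix n) := Fd_neg (Sum.inl j)
      omega
  · rcases i with i | i
    · exact hy i a
    · exfalso
      have h2 := Fd_inl_pos i
      have h3 : Fd (Sum.inr i : Ix n) = -Fd (Sum.inl i : Ix n) := Fd_neg (Sum.inl i)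
      omega

/-- **END (C,O), clean case**. -/
theorem exists_hom' {R : CFrame n F G} (D : COne R.toFrame) (hn : 3 ≤ n) {μ : Fˣ} (hμ : μ ≠ 1) :
    ∃ m : G →* ℤˣ, m R.t = -1 := D.exists_hom hn hμ R.odd_cent

end COne

end Cfsg.Agent.OddHalf.SpN

end
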