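import Cfsg.Agent.OddHalf.SpN.Rel
import Cfsg.Agent.OddHalf.SpN.Dbl

-- merged: Cfsg.Agent.OddHalf.SpN.ShortS
section

/-!
# ODD D7, `K = Sp_2n(q)`, `q ≥ 4` even: the doubles of the short root groups (helper570)

Section 6 of `blueprints/ODD-D7-Sp-helper297.md` in subgroup form.

* `conj_mem` : `x_{i,-j}(b) g x_{i,-j}(b)⁻¹ ∈ g W_ik` for `g ∈ W_jk` (120 degrees);
* `sq` : `W_ij` is elementary.
-/

set_option autoImplicit false

namespace Cfsg.Agent.OddHalf.SpN

open scoped commutatorElement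

variable {n : ℕ} {F : Type*} [Field F] {G : Type*} [Group G]

/-- a torus element with prescribed value at `i` and `1` elsewhere -/
theorem exists_lam (i : Ix n) (μ : Fˣ) : ∃ lam : Fin n → Fˣ, ev lam i = μ ∧ ∀ l, Dj i l → ev lam l = 1 := by
  classical
  rcases i with i | i
  · refine ⟨Function.update 1 i μ, by simp [ev], ?_⟩
    rintro (l | l) h
    · have : l ≠ i := fun e => h.1 (by rw [e])
      simp [ev, this]
    · have : l ≠ i := fun e => h.2 (by rw [e]; rfl)
      simp [ev, this]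
  · refine ⟨Function.update 1 i μ⁻¹, by simp [ev], ?_⟩
    rintro (l | l) h
    · have : l ≠ i := fun e => h.2 (by rw [e]; rfl)
      simp [ev, this]
    · have : l ≠ i := fun e => h.1 (by rw [e])
      simp [ev, this]

/-- the facts on centralisers in `C_G(t)` used for the short roots -/
structure KS (R : Frame n F G) : Prop where
  /-- 60 degrees -/
  k60 : ∀ i j k, Dj i j → Dj i k → Dj j k → ∀ c, Commute c R.t →
    (∀ a b s, a ≠ neg i → a ≠ neg j → a ≠ neg k → b ≠ neg i → b ≠ neg j → b ≠ neg k → Commute c (R.x a b s)) →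
    (∀ a s, a ≠ neg i → a ≠ neg j → a ≠ neg k → Commute c (R.y a s)) →
    (∀ lam, ev lam i * ev lam j = 1 → ev lam i * ev lam k = 1 → Commute c (R.h lam)) →
    ∃ e f g, (e = 1 ∨ e = R.t) ∧ c = e * R.x i j f * R.x i k g

namespace Frame

variable (R : Frame n F G)

theorem t_mul (a b : G) : R.t * (a * b) * R.t = (R.t * a * R.t) * (R.t * b * R.t) := by
  calc R.t * (a * b) * R.t = R.t * a * 1 * b * R.t := by group
    _ = _ := by rw [← R.tt]; group

theorem t_inv' (a : G) : R.t * a⁻¹ * R.t = (R.t * a * R.t)⁻¹ := by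
  rw [mul_inv_rev, mul_inv_rev, R.t_inv]; group

theorem t_of_comm {a : G} (h : Commute a R.t) : R.t * a * R.t = a := by
  rw [← h.eq, mul_assoc, R.tt, mul_one]

theorem comm_of_t {a : G} (h : R.t * a * R.t = a) : Commute a R.t := by
  show a * R.t = R.t * a
  calc a * R.t = (R.t * a * R.t) * R.t := by rw [h]
    _ = R.t * a * (R.t * R.t) := by group
    _ = R.t * a := by rw [R.tt, mul_one]

variable [CharP F 2]

/-- conjugation of a short root element by `x_{i,-j}(b)` -/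
theorem conj_x {i j : Ix n} (hij : Dj i j) (b : F) {a d : Ix n} (ha : a ≠ neg i) (hd : d ≠ neg i)
    (s : F) : ∃ e p, (e = a ∨ e = d) ∧
      R.x i (neg j) b * R.x a d s * R.x i (neg j) b = R.x a d s * R.x i e p := by
  have hXX := R.x_sq i (neg j) b
  -- the commuting case
  have triv : Commute (R.x i (neg j) b) (R.x a d s) → ∃ e p, (e = a ∨ e = d) ∧
      R.x i (neg j) b * R.x a d s * R.x i (neg j) b = R.x a d s * R.x i e p := by
    intro h
    refine ⟨a, 0, Or.inl rfl, ?_⟩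
    rw [R.x_zero, mul_one, h.eq, mul_assoc, hXX, mul_one]
  by_cases hD : Dj a d
  swap
  · apply triv; rw [R.x_of_not hD]; exact Commute.one_right _
  -- the case `a = j`
  have main : ∀ d, Dj j d → d ≠ neg i → ∀ s, (Commute (R.x i (neg j) b) (R.x j d s)) ∨
      R.x i (neg j) b * R.x j d s * R.x i (neg j) b = R.x j d s * R.x i d (b * s) := by
    intro d hD hd s
    by_cases ed : d = i
    · left
      subst ed
      have h := R.x_comm' (i := neg j) (j := d) b s
      rw [neg_neg, R.x_symm] at h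
      exact h
    · right
      have hid : Dj i d := ⟨fun e => ed e.symm, fun e => hd (by rw [e, neg_neg])⟩
      have h := R.x_rel (i := i) (j := neg j) (k := d) (dj_neg_right.mpr hij) (dj_neg_left.mpr hD) hid b s
      rw [neg_neg] at h
      have hc : Commute (R.x i d (b * s)) (R.x j d s) :=
        R.x_comm hij.symm.2 hD.2 hd (ne_neg d) _ _
      calc R.x i (neg j) b * R.x j d s * R.x i (neg j) b
          = R.x i d (b * s) * R.x j d s * (R.x i (neg j) b * R.x i (neg j) b) := by rw [h]; group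
        _ = R.x j d s * R.x i d (b * s) := by rw [hXX, mul_one, hc.eq]
  by_cases ea : a = j
  · subst ea
    rcases main d hD hd s with h | h
    · exact triv h
    · exact ⟨d, _, Or.inr rfl, h⟩
  by_cases ed : d = j
  · subst ed
    rcases main a hD.symm ha s with h | h
    · apply triv; rw [R.x_symm a d]; exact h
    · exact ⟨a, b * s, Or.inl rfl, by rw [R.x_symm a d]; exact h⟩
  · apply triv
    exact R.x_comm ha (by rw [neg_neg]; exact ea) hd (by rw [neg_neg]; exact ed) _ _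

/-- conjugation of a long root element by `x_{i,-j}(b)` -/
theorem conj_y {i j : Ix n} (hij : Dj i j) (b : F) {a : Ix n} (ha : a ≠ neg i) (s : F) :
    ∃ p q, R.x i (neg j) b * R.y a s * R.x i (neg j) b = R.y a s * (R.x i a p * R.y i q) := by
  have hXX := R.x_sq i (neg j) b
  by_cases ea : a = j
  · subst ea
    have h := R.y_rel (i := a) (j := i) hij.symm s b
    rw [R.x_symm (neg a) i, R.x_symm a i] at h
    have c1 : Commute (R.y a s) (R.x i a (s * b) * R.y i (s * b ^ 2)) :=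
      (R.y_x_comm hij.2 (ne_neg a) _ _).mul_right (R.y_comm hij.2 _ _)
    have c2 : Commute (R.x i (neg a) b) (R.x i a (s * b) * R.y i (s * b ^ 2)) := by
      refine Commute.mul_right ?_ (R.y_x_comm (ne_neg i) (fun e => hij.1 (neg_inj.mp e).symm) _ _).symm
      have h3 := R.x_comm' (i := neg a) (j := i) b (s * b)
      rw [neg_neg, R.x_symm (neg a) i, R.x_symm a i] at h3
      exact h3
    refine ⟨s * b, s * b ^ 2, ?_⟩
    calc R.x i (neg a) b * R.y a s * R.x i (neg a) b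
        = R.x i (neg a) b * (R.y a s * R.x i (neg a) b) := by group
      _ = R.x i (neg a) b * (R.x i a (s * b) * R.y i (s * b ^ 2)) * R.x i (neg a) b * R.y a s := by
          rw [h]; group
      _ = (R.x i a (s * b) * R.y i (s * b ^ 2)) * (R.x i (neg a) b * R.x i (neg a) b) * R.y a s := by
          rw [c2.eq]; group
      _ = _ := by rw [hXX, mul_one, c1.eq]
  · refine ⟨0, 0, ?_⟩
    have h : Commute (R.x i (neg j) b) (R.y a s) :=
      (R.y_x_comm (fun e => ha (by rw [e, neg_neg])) (fun e => ea (neg_inj.mp e).symm) _ _).symm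
    rw [R.x_zero, R.y_zero, mul_one, mul_one, h.eq, mul_assoc, hXX, mul_one]

end Frame

namespace DS

variable [CharP F 2] {R : Frame n F G} {δ : F} (D : DS R δ)
include D

theorem cX {i j : Ix n} (hij : Dj i j) {g : G} (hg : g ∈ D.W i j) {k l : Ix n} (h1 : k ≠ neg i) (h2 : k ≠ neg j)
    (h3 : l ≠ neg i) (h4 : l ≠ neg j) (a : F) : Commute g (R.x k l a) := D.cx i j hij g hg k l a h1 h2 h3 h4

theorem t_mem {i j : Ix n} (hij : Dj i j) {g : G} (hg : g ∈ D.W i j) : R.t * g * R.t ∈ D.W i j := by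
  obtain ⟨u, hu⟩ := D.ht i j hij g hg
  rw [hu]
  exact mul_mem hg (D.x_mem i j u)

/-- the first step -/
theorem step {i j k : Ix n} (hK : KS R) (hij : Dj i j) (hik : Dj i k) (hjk : Dj j k) {g : G}
    (hg : g ∈ D.W j k) (b : F) :
    ∃ m ∈ D.W i k, ∃ e f, (e = 1 ∨ e = R.t) ∧
      g⁻¹ * (R.x i (neg j) b * g * R.x i (neg j) b) = m * (e * R.x j k f) := by
  obtain ⟨u, hu⟩ := D.ht j k hjk g hg
  obtain ⟨m, hm, hmu⟩ := D.onto i k hik (b * u)
  set X := R.x i (neg j) b with hX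
  have hXX : X * X = 1 := R.x_sq _ _ _
  -- indices
  have n1 : i ≠ neg j := hij.2
  have n2 : i ≠ neg k := hik.2
  have n3 : j ≠ neg k := hjk.2
  have n4 : i ≠ j := hij.1
  have n5 : i ≠ k := hik.1
  have n6 : j ≠ k := hjk.1
  have n1' : j ≠ neg i := hij.symm.2
  have n2' : k ≠ neg i := hik.symm.2
  have n3' : k ≠ neg j := hjk.symm.2
  -- `x_jk(u)` conjugated by `X`
  have hconj : X * R.x j k u * X = R.x i k (b * u) * R.x j k u := by
    have h := R.x_rel (i := i) (j := neg j) (k := k) (dj_neg_right.mpr hij) (dj_neg_left.mpr hjk) hik b u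
    rw [neg_neg] at h
    calc X * R.x j k u * X = R.x i k (b * u) * (R.x j k u * X) * X := by rw [hX, h]
      _ = R.x i k (b * u) * R.x j k u * (X * X) := by group
      _ = _ := by rw [hXX, mul_one]
  set c := X * g * X with hc
  have hXt : Commute X R.t := R.x_t _ _ _
  have hct : R.t * c * R.t = c * (R.x i k (b * u) * R.x j k u) := by
    rw [hc, R.t_mul, R.t_mul, R.t_of_comm hXt, hu]
    calc X * (g * R.x j k u) * X = (X * g) * 1 * (R.x j k u * X) := by group
      _ = (X * g) * (X * X) * (R.x j k u * X) := by rw [hXX]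
      _ = X * g * X * (X * R.x j k u * X) := by group
      _ = _ := by rw [hconj]
  -- commutation of `g`, `X`, `c` with `x_ik`
  have g_ik : ∀ s, Commute g (R.x i k s) := fun s => D.cX hjk hg n1 n2 n3' (ne_neg k) s
  have X_ik : ∀ s, Commute X (R.x i k s) := fun s =>
    R.x_comm (ne_neg i) (by rw [neg_neg]; exact n4) n2' (by rw [neg_neg]; exact n6.symm) _ _
  have c_ik : ∀ s, Commute c (R.x i k s) := fun s => ((X_ik s).mul_left (g_ik s)).mul_left (X_ik s)
  have g_jk : ∀ s, Commute g (R.x j k s) := fun s => D.cX hjk hg (ne_neg j) n3 n3' (ne_neg k) s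
  have ik_jk : ∀ s s', Commute (R.x i k s) (R.x j k s') := fun s s' => R.x_comm n1' n3 n2' (ne_neg k) _ _
  have c_jk : Commute c (R.x j k u) := by
    have h1 : Commute c (R.x i k (b * u) * R.x j k u) := by
      rw [← hconj]
      show (X * g * X) * (X * R.x j k u * X) = (X * R.x j k u * X) * (X * g * X)
      calc (X * g * X) * (X * R.x j k u * X) = X * g * (X * X) * R.x j k u * X := by group
        _ = X * (g * R.x j k u) * X := by rw [hXX]; group
        _ = X * (R.x j k u * g) * X := by rw [(g_jk u).eq]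
        _ = X * R.x j k u * 1 * g * X := by group
        _ = X * R.x j k u * (X * X) * g * X := by rw [hXX]
        _ = _ := by group
    have h2 : R.x j k u = (R.x i k (b * u))⁻¹ * (R.x i k (b * u) * R.x j k u) := by group
    rw [h2]
    exact ((c_ik _).inv_right).mul_right h1
  have hgc : R.t * (g⁻¹ * c) * R.t = g⁻¹ * c * R.x i k (b * u) := by
    rw [R.t_mul, R.t_inv', hu, hct]
    calc (g * R.x j k u)⁻¹ * (c * (R.x i k (b * u) * R.x j k u))
        = (R.x j k u)⁻¹ * (g⁻¹ * c) * (R.x i k (b * u) * R.x j k u) := by group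
      _ = (R.x j k u)⁻¹ * (g⁻¹ * c) * (R.x j k u * R.x i k (b * u)) := by rw [(ik_jk _ _).eq]
      _ = (R.x j k u)⁻¹ * ((g⁻¹ * c) * R.x j k u) * R.x i k (b * u) := by group
      _ = (R.x j k u)⁻¹ * (R.x j k u * (g⁻¹ * c)) * R.x i k (b * u) := by
          rw [((g_jk u).inv_left.mul_left c_jk).eq]
      _ = _ := by group
  have m_ik : ∀ s, Commute m (R.x i k s) := fun s => D.comm i k hik m hm _ (D.x_mem i k s)
  set c' := m⁻¹ * (g⁻¹ * c) with hc'
  have htc' : Commute c' R.t := by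
    apply R.comm_of_t
    rw [hc', R.t_mul, R.t_inv', hmu, hgc]
    calc (m * R.x i k (b * u))⁻¹ * (g⁻¹ * c * R.x i k (b * u))
        = (R.x i k (b * u))⁻¹ * ((m⁻¹ * (g⁻¹ * c)) * R.x i k (b * u)) := by group
      _ = (R.x i k (b * u))⁻¹ * (R.x i k (b * u) * (m⁻¹ * (g⁻¹ * c))) := by
          rw [((m_ik _).inv_left.mul_left ((g_ik _).inv_left.mul_left (c_ik _))).eq]
      _ = _ := by group
  -- if `X z X = z * r` with `r` commuting with `g`, and `g` commutes with `z`, then `c` commutes with `z`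
  have key : ∀ z r : G, X * z * X = z * r → Commute g z → Commute g r → Commute c z := by
    intro z r hz h1 h2
    have h3 : Commute g (X * z * X) := by rw [hz]; exact h1.mul_right h2
    show X * g * X * z = z * (X * g * X)
    calc X * g * X * z = X * (g * (X * z * X)) * X := by
          calc X * g * X * z = X * g * X * z * 1 := by group
            _ = X * g * X * z * (X * X) := by rw [hXX]
            _ = _ := by group
      _ = X * ((X * z * X) * g) * X := by rw [h3.eq]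
      _ = (X * X) * z * (X * g * X) := by group
      _ = _ := by rw [hXX, one_mul]
  have key' : ∀ z : G, Commute X z → Commute g z → Commute c z := fun z h1 h2 =>
    (h1.mul_left h2).mul_left h1
  have hcx : ∀ a d s, a ≠ neg i → a ≠ neg j → a ≠ neg k → d ≠ neg i → d ≠ neg j → d ≠ neg k →
      Commute c (R.x a d s) := by
    intro a d s a1 a2 a3 d1 d2 d3
    obtain ⟨e, p, he, h⟩ := R.conj_x hij b a1 d1 s
    refine key _ _ h (D.cX hjk hg a2 a3 d2 d3 s) ?_
    rcases he with rfl | rfl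
    · exact D.cX hjk hg n1 n2 a2 a3 _
    · exact D.cX hjk hg n1 n2 d2 d3 _
  have hcy : ∀ a s, a ≠ neg i → a ≠ neg j → a ≠ neg k → Commute c (R.y a s) := by
    intro a s a1 a2 a3
    obtain ⟨p, q, h⟩ := R.conj_y hij b a1 s
    exact key _ _ h (D.cy j k hjk g hg a s a2 a3)
      ((D.cX hjk hg n1 n2 a2 a3 _).mul_right (D.cy j k hjk g hg i q n1 n2))
  have A1 : ∀ a d s, a ≠ neg k → a ≠ neg j → a ≠ neg i → d ≠ neg k → d ≠ neg j → d ≠ neg i →
      Commute c' (R.x a d s) := by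
    intro a d s a1 a2 a3 d1 d2 d3
    exact ((D.cX hik hm a3 a1 d3 d1 s).inv_left).mul_left
      (((D.cX hjk hg a2 a1 d2 d1 s).inv_left).mul_left (hcx a d s a3 a2 a1 d3 d2 d1))
  have A2 : ∀ a s, a ≠ neg k → a ≠ neg j → a ≠ neg i → Commute c' (R.y a s) := by
    intro a s a1 a2 a3
    exact (Commute.inv_left (D.cy i k hik m hm a s a3 a1)).mul_left
      ((Commute.inv_left (D.cy j k hjk g hg a s a2 a1)).mul_left (hcy a s a3 a2 a1))
  have A3 : ∀ lam, ev lam k * ev lam j = 1 → ev lam k * ev lam i = 1 → Commute c' (R.h lam) := by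
    intro lam l1 l2
    have l3 : ev lam i * ev lam (neg j) = 1 := by
      rw [ev_neg]
      have e1 : ev lam j = ev lam i := mul_left_cancel (l1.trans l2.symm)
      rw [e1, mul_inv_cancel]
    have hX' : Commute X (R.h lam) := by
      have h := R.h_x lam i (neg j) b
      rw [← Units.val_mul, l3, Units.val_one, one_mul, mul_inv_eq_iff_eq_mul] at h
      exact h.symm
    have hg' : Commute g (R.h lam) := Commute.symm (D.torus_one j k hjk g hg lam (by rw [mul_comm]; exact l1))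
    have hm' : Commute m (R.h lam) := Commute.symm (D.torus_one i k hik m hm lam (by rw [mul_comm]; exact l2))
    exact (hm'.inv_left).mul_left ((hg'.inv_left).mul_left ((hX'.mul_left hg').mul_left hX'))
  obtain ⟨e, f, f', he, hef⟩ := hK.k60 k j i hjk.symm hik.symm hij.symm c' htc' A1 A2 A3
  refine ⟨m * R.x i k f', mul_mem hm (D.x_mem i k f'), e, f, he, ?_⟩
  have h1 : g⁻¹ * c = m * c' := by rw [hc']; group
  have h2 : Commute (e * R.x j k f) (R.x i k f') := by
    refine Commute.mul_left ?_ (ik_jk _ _).symm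
    rcases he with rfl | rfl
    · exact Commute.one_left _
    · exact (R.x_t _ _ _).symm
  rw [h1, hef, R.x_symm k j, R.x_symm k i]
  calc m * (e * R.x j k f * R.x i k f') = m * ((e * R.x j k f) * R.x i k f') := by group
    _ = m * (R.x i k f' * (e * R.x j k f)) := by rw [h2.eq]
    _ = _ := by group

/-- **(6.1a)** conjugation by a root element at 120 degrees -/
theorem conj_mem (hF : ∃ μ : Fˣ, (μ : F) ≠ 1) {i j k : Ix n} (hK : KS R) (hij : Dj i j) (hik : Dj i k)
    (hjk : Dj j k) {g : G} (hg : g ∈ D.W j k) (b : F) :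
    g⁻¹ * (R.x i (neg j) b * g * R.x i (neg j) b) ∈ D.W i k := by
  obtain ⟨μ, hμ⟩ := hF
  have hμ1 : (1 : F) + μ ≠ 0 := by
    intro h
    apply hμ
    have : (μ : F) = -1 := by linear_combination h
    rw [this, CharTwo.neg_eq]
  obtain ⟨m, hm, e, f, he, hb⟩ := D.step hK hij hik hjk hg ((1 + (μ : F))⁻¹ * b)
  obtain ⟨lam, l1, l2⟩ := exists_lam i μ
  set b0 := (1 + (μ : F))⁻¹ * b with hb0
  have hbb : b = μ * b0 + b0 := by
    rw [hb0]; field_simp; ring
  set X0 := R.x i (neg j) b0 with hX0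
  set X1 := R.x i (neg j) (μ * b0) with hX1
  have hX : R.x i (neg j) b = X1 * X0 := by rw [hX1, hX0, ← R.x_add, ← hbb]
  have hX' : R.x i (neg j) b = X0 * X1 := by rw [hX1, hX0, ← R.x_add, add_comm, ← hbb]
  have n1 : i ≠ neg j := hij.2
  have n2 : i ≠ neg k := hik.2
  have n3 : j ≠ neg k := hjk.2
  have n4 : i ≠ j := hij.1
  have n6 : j ≠ k := hjk.1
  have n1' : j ≠ neg i := hij.symm.2
  have n2' : k ≠ neg i := hik.symm.2
  have n3' : k ≠ neg j := hjk.symm.2
  have lj : ev lam j = 1 := l2 j hij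
  have lk : ev lam k = 1 := l2 k hik
  set H := R.h lam with hH
  have Hg : Commute H g := D.torus_one j k hjk g hg lam (by rw [lj, lk, one_mul])
  have HX : H * X0 * H⁻¹ = X1 := by
    rw [hH, hX0, R.h_x, ev_neg, lj, inv_one, l1, Units.val_one, mul_one]
  set s := e * R.x j k f with hs
  have Hs : Commute H s := by
    refine Commute.mul_right ?_ ?_
    · rcases he with rfl | rfl
      · exact Commute.one_right _
      · exact R.h_t _
    · have h := R.h_x lam j k f
      rw [lj, lk, Units.val_one, one_mul, one_mul, mul_inv_eq_iff_eq_mul] at h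
      exact h
  have h0 : X0 * g * X0 = g * (m * s) := by rw [← hb]; group
  have h1 : X1 * g * X1 = g * (H * m * H⁻¹ * s) := by
    calc X1 * g * X1 = (H * X0 * H⁻¹) * g * (H * X0 * H⁻¹) := by rw [HX]
      _ = H * X0 * H⁻¹ * (g * H) * X0 * H⁻¹ := by group
      _ = H * X0 * H⁻¹ * (H * g) * X0 * H⁻¹ := by rw [Hg.eq]
      _ = H * (X0 * g * X0) * H⁻¹ := by group
      _ = H * (g * (m * s)) * H⁻¹ := by rw [h0]
      _ = (H * g) * m * s * H⁻¹ := by group
      _ = g * H * m * s * H⁻¹ := by rw [Hg.eq]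
      _ = g * H * m * H⁻¹ * (H * s) * H⁻¹ := by group
      _ = g * H * m * H⁻¹ * (s * H) * H⁻¹ := by rw [Hs.eq]
      _ = _ := by group
  have X1m : Commute X1 m := (D.cX hik hm (ne_neg i) n2 (fun h => n4 (neg_inj.mp h).symm)
    (fun h => n6 (neg_inj.mp h)) _).symm
  obtain ⟨p, hp⟩ : ∃ p, X1 * s * X1 = s * R.x i k p := by
    have h2 := R.x_rel (i := i) (j := neg j) (k := k) (dj_neg_right.mpr hij) (dj_neg_left.mpr hjk) hik
      (μ * b0) f
    rw [neg_neg] at h2
    have hc : Commute (R.x i k (μ * b0 * f)) (R.x j k f) := R.x_comm n1' n3 n2' (ne_neg k) _ _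
    refine ⟨μ * b0 * f, ?_⟩
    have Xe : Commute X1 e := by
      rcases he with rfl | rfl
      · exact Commute.one_right _
      · exact R.x_t _ _ _
    calc X1 * (e * R.x j k f) * X1 = (X1 * e) * R.x j k f * X1 := by group
      _ = e * (X1 * R.x j k f) * X1 := by rw [Xe.eq]; group
      _ = e * (R.x i k (μ * b0 * f) * R.x j k f) * (X1 * X1) := by rw [hX1, h2]; group
      _ = e * (R.x j k f * R.x i k (μ * b0 * f)) := by rw [hX1, R.x_sq, mul_one, hc.eq]
      _ = s * R.x i k (μ * b0 * f) := by rw [hs, mul_assoc e]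
  have hfin : g⁻¹ * (R.x i (neg j) b * g * R.x i (neg j) b) = H * m * H⁻¹ * (s * m * s) * R.x i k p := by
    have hX11 : X1 * X1 = 1 := R.x_sq _ _ _
    calc g⁻¹ * (R.x i (neg j) b * g * R.x i (neg j) b)
        = g⁻¹ * ((X1 * X0) * g * (X0 * X1)) := by rw [← hX, ← hX', hX]
      _ = g⁻¹ * (X1 * (X0 * g * X0) * X1) := by group
      _ = g⁻¹ * (X1 * (g * (m * s)) * X1) := by rw [h0]
      _ = g⁻¹ * (X1 * g * 1 * m * s * X1) := by group
      _ = g⁻¹ * (X1 * g * (X1 * X1) * m * s * X1) := by rw [hX11]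
      _ = g⁻¹ * ((X1 * g * X1) * (X1 * m) * s * X1) := by group
      _ = g⁻¹ * ((X1 * g * X1) * (m * X1) * s * X1) := by rw [X1m.eq]
      _ = g⁻¹ * (X1 * g * X1) * m * (X1 * s * X1) := by group
      _ = g⁻¹ * (g * (H * m * H⁻¹ * s)) * m * (s * R.x i k p) := by rw [h1, hp]
      _ = _ := by group
  rw [hfin]
  have hxm : Commute (R.x j k f) m := (D.cX hik hm n1' n3 n2' (ne_neg k) f).symm
  have hsms : s * m * s ∈ D.W i k := by
    have e1 : s * m * s = e * m * e := by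
      rw [hs]
      have xe : Commute (R.x j k f) e := by
        rcases he with rfl | rfl
        · exact Commute.one_right _
        · exact R.x_t _ _ _
      calc e * R.x j k f * m * (e * R.x j k f) = e * (R.x j k f * m) * (e * R.x j k f) := by group
        _ = e * m * (R.x j k f * e) * R.x j k f := by rw [hxm.eq]; group
        _ = e * m * e * (R.x j k f * R.x j k f) := by rw [xe.eq]; group
        _ = _ := by rw [R.x_sq, mul_one]
    rw [e1]
    rcases he with rfl | rfl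
    · rw [one_mul, mul_one]; exact hm
    · exact D.t_mem hik hm
  exact mul_mem (mul_mem (D.torus i k hik m hm lam) hsms) (D.x_mem i k p)

/-- elements of the same height differ by an element of `X_ij` -/
theorem eq_mul_x {i j : Ix n} (hij : Dj i j) {g g' : G} (hg : g ∈ D.W i j) (hg' : g' ∈ D.W i j) {u : F}
    (h : R.t * g * R.t = g * R.x i j u) (h' : R.t * g' * R.t = g' * R.x i j u) :
    ∃ a, g' = g * R.x i j a := by
  have h1 : g⁻¹ * g' ∈ D.W i j := mul_mem (inv_mem hg) hg'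
  obtain ⟨a, ha⟩ := D.ker i j hij _ h1 (by
    rw [R.t_mul, R.t_inv', h, h']
    calc (g * R.x i j u)⁻¹ * (g' * R.x i j u) = (R.x i j u)⁻¹ * ((g⁻¹ * g') * R.x i j u) := by group
      _ = (R.x i j u)⁻¹ * (R.x i j u * (g⁻¹ * g')) := by rw [D.comm i j hij _ h1 _ (D.x_mem i j u)]
      _ = g⁻¹ * g' := by group)
  exact ⟨a, by rw [← ha]; group⟩

/-- **(6.1b)** `W_ik` is elementary -/
theorem sq (hF : ∃ μ : Fˣ, (μ : F) ≠ 1) {i j k : Ix n} (hK : KS R) (hij : Dj i j) (hik : Dj i k)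
    (hjk : Dj j k) {g : G} (hg : g ∈ D.W i k) : g * g = 1 := by
  have n1 : i ≠ neg j := hij.2
  have n2 : i ≠ neg k := hik.2
  have n3 : j ≠ neg k := hjk.2
  have n4 : i ≠ j := hij.1
  have n6 : j ≠ k := hjk.1
  have n1' : j ≠ neg i := hij.symm.2
  have n2' : k ≠ neg i := hik.symm.2
  obtain ⟨g0, hg0, h0⟩ := D.onto j k hjk 1
  let m : F → G := fun b => g0⁻¹ * (R.x i (neg j) b * g0 * R.x i (neg j) b)
  have hm : ∀ b, m b ∈ D.W i k := fun b => D.conj_mem hF hK hij hik hjk hg0 b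
  have hXm : ∀ b b', Commute (R.x i (neg j) b) (m b') := fun b b' =>
    (D.cX hik (hm b') (ne_neg i) n2 (fun h => n4 (neg_inj.mp h).symm) (fun h => n6 (neg_inj.mp h)) _).symm
  have hX : ∀ b, R.x i (neg j) b * g0 * R.x i (neg j) b = g0 * m b := fun b => by
    show _ = g0 * (g0⁻¹ * _); group
  have hadd : ∀ b b', m (b + b') = m b * m b' := by
    intro b b'
    show g0⁻¹ * (R.x i (neg j) (b + b') * g0 * R.x i (neg j) (b + b')) = m b * m b'
    calc g0⁻¹ * (R.x i (neg j) (b + b') * g0 * R.x i (neg j) (b + b'))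
        = g0⁻¹ * ((R.x i (neg j) b * R.x i (neg j) b') * g0 * (R.x i (neg j) b' * R.x i (neg j) b)) := by
          rw [← R.x_add, ← R.x_add, add_comm b' b]
      _ = g0⁻¹ * (R.x i (neg j) b * (R.x i (neg j) b' * g0 * R.x i (neg j) b') * R.x i (neg j) b) := by group
      _ = g0⁻¹ * (R.x i (neg j) b * g0 * (m b' * R.x i (neg j) b)) := by rw [hX b']; group
      _ = g0⁻¹ * (R.x i (neg j) b * g0 * R.x i (neg j) b * m b') := by rw [← (hXm b b').eq]; group
      _ = m b * m b' := by rw [hX b]; group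
  have hsq : ∀ b, m b * m b = 1 := by
    intro b
    rw [← hadd, CharTwo.add_self_eq_zero]
    show g0⁻¹ * (R.x i (neg j) 0 * g0 * R.x i (neg j) 0) = 1
    rw [R.x_zero]; group
  have hht : ∀ b, R.t * m b * R.t = m b * R.x i k b := by
    intro b
    have hXt : Commute (R.x i (neg j) b) R.t := R.x_t _ _ _
    have hXX := R.x_sq i (neg j) b
    have hconj : R.x i (neg j) b * R.x j k 1 * R.x i (neg j) b = R.x i k b * R.x j k 1 := by
      have h := R.x_rel (i := i) (j := neg j) (k := k) (dj_neg_right.mpr hij) (dj_neg_left.mpr hjk) hik b 1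
      rw [neg_neg, mul_one] at h
      calc R.x i (neg j) b * R.x j k 1 * R.x i (neg j) b
          = R.x i k b * R.x j k 1 * (R.x i (neg j) b * R.x i (neg j) b) := by rw [h]; group
        _ = _ := by rw [hXX, mul_one]
    have c1 : Commute (R.x j k 1) (m b) := (D.cX hik (hm b) n1' n3 n2' (ne_neg k) 1).symm
    have c2 : Commute (R.x i k b) (R.x j k 1) := R.x_comm n1' n3 n2' (ne_neg k) _ _
    show R.t * (g0⁻¹ * (R.x i (neg j) b * g0 * R.x i (neg j) b)) * R.t = m b * R.x i k b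
    rw [R.t_mul, R.t_inv', R.t_mul, R.t_mul, R.t_of_comm hXt, h0]
    calc (g0 * R.x j k 1)⁻¹ * (R.x i (neg j) b * (g0 * R.x j k 1) * R.x i (neg j) b)
        = (R.x j k 1)⁻¹ * (g0⁻¹ * (R.x i (neg j) b * g0 * 1 * R.x j k 1 * R.x i (neg j) b)) := by group
      _ = (R.x j k 1)⁻¹ * (g0⁻¹ * (R.x i (neg j) b * g0 * (R.x i (neg j) b * R.x i (neg j) b) *
            R.x j k 1 * R.x i (neg j) b)) := by rw [hXX]
      _ = (R.x j k 1)⁻¹ * (m b * (R.x i (neg j) b * R.x j k 1 * R.x i (neg j) b)) := by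
          show _ = (R.x j k 1)⁻¹ * ((g0⁻¹ * (R.x i (neg j) b * g0 * R.x i (neg j) b)) * _); group
      _ = (R.x j k 1)⁻¹ * (m b * (R.x j k 1 * R.x i k b)) := by rw [hconj, c2.eq]
      _ = (R.x j k 1)⁻¹ * (m b * R.x j k 1) * R.x i k b := by group
      _ = (R.x j k 1)⁻¹ * (R.x j k 1 * m b) * R.x i k b := by rw [c1.eq]
      _ = _ := by group
  obtain ⟨u, hu⟩ := D.ht i k hik g hg
  obtain ⟨a, rfl⟩ := D.eq_mul_x hik (hm u) hg (hht u) hu
  have c3 : Commute (m u) (R.x i k a) := D.comm i k hik _ (hm u) _ (D.x_mem i k a)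
  calc m u * R.x i k a * (m u * R.x i k a) = m u * (R.x i k a * m u) * R.x i k a := by group
    _ = m u * (m u * R.x i k a) * R.x i k a := by rw [c3.eq]
    _ = (m u * m u) * (R.x i k a * R.x i k a) := by group
    _ = 1 := by rw [hsq, R.x_sq, one_mul]

end DS

end Cfsg.Agent.OddHalf.SpN

end

-- merged: Cfsg.Agent.OddHalf.SpN.ShortC
section

/-!
# ODD D7, `K = Sp_2n(q)`, `q ≥ 4` even: commutators of the doubles of the short root groups (helper570)

Section (6.2) of `blueprints/ODD-D7-Sp-helper297.md` in subgroup form.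

* `kill` : the abstract lemma which replaces 'equivariance + additivity';
* `comm60`, `comm90` : `[W_ij, W_ik] = 1`, `[W_ij, W_kl] = 1`;
* `par_mem` : `[W_ij, W_{i,-j}] ≤ Y_i`;
* `mem120` : `[W_jk, W_{i,-j}] ≤ W_ik`.
-/

set_option autoImplicit false

namespace Cfsg.Agent.OddHalf.SpN

open scoped commutatorElement

variable {n : ℕ} {F : Type*} [Field F] {G : Type*} [Group G]

/-- **Equivariance and additivity.** If `c = ⁅g, g'⁆ ∈ e p Q` and `H` centralises `g`, `e`, `p`, then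
`⁅g, g' g'^H⁆ ∈ Q`. -/
theorem kill {g g' H e p q : G} (Q : Subgroup G) (hq : q ∈ Q) (hc : ⁅g, g'⁆ = e * p * q)
    (Hg : Commute H g) (He : Commute H e) (Hp : Commute H p) (ee : e * e = 1) (pp : p * p = 1) (ep : Commute e p)
    (HQ : ∀ x ∈ Q, H * x * H⁻¹ ∈ Q) (eQ : ∀ x ∈ Q, e * x * e ∈ Q) (pQ : ∀ x ∈ Q, p * x * p ∈ Q)
    (gQ : ∀ x ∈ Q, g' * x * g'⁻¹ ∈ Q) (ge : g' * e * g'⁻¹ * e ∈ Q) (gp : g' * p * g'⁻¹ * p ∈ Q) :
    ⁅g, g' * (H * g' * H⁻¹)⁆ ∈ Q := by
  have h1 : ⁅g, H * g' * H⁻¹⁆ = H * ⁅g, g'⁆ * H⁻¹ := by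
    rw [commutatorElement_def, commutatorElement_def]
    calc g * (H * g' * H⁻¹) * g⁻¹ * (H * g' * H⁻¹)⁻¹
        = (g * H) * g' * (H⁻¹ * g⁻¹) * H * g'⁻¹ * H⁻¹ := by group
      _ = (H * g) * g' * (g⁻¹ * H⁻¹) * H * g'⁻¹ * H⁻¹ := by rw [Hg.eq, Hg.inv_inv.eq]
      _ = _ := by group
  have h2 : ⁅g, g' * (H * g' * H⁻¹)⁆ = ⁅g, g'⁆ * (g' * ⁅g, H * g' * H⁻¹⁆ * g'⁻¹) := by
    rw [commutatorElement_def, commutatorElement_def, commutatorElement_def]; group
  have h3 : H * (e * p * q) * H⁻¹ = e * p * (H * q * H⁻¹) := by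
    calc H * (e * p * q) * H⁻¹ = (H * (e * p)) * q * H⁻¹ := by group
      _ = (e * p * H) * q * H⁻¹ := by rw [(He.mul_right Hp).eq]
      _ = _ := by group
  have h4 : g' * (e * p * (H * q * H⁻¹)) * g'⁻¹ =
      (g' * e * g'⁻¹ * e) * e * ((g' * p * g'⁻¹ * p) * p) * (g' * (H * q * H⁻¹) * g'⁻¹) := by
    calc g' * (e * p * (H * q * H⁻¹)) * g'⁻¹
        = (g' * e * g'⁻¹) * (g' * p * g'⁻¹) * (g' * (H * q * H⁻¹) * g'⁻¹) := by group
      _ = (g' * e * g'⁻¹) * (e * e) * ((g' * p * g'⁻¹) * (p * p)) * (g' * (H * q * H⁻¹) * g'⁻¹) := by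
          rw [ee, pp, mul_one, mul_one]
      _ = _ := by group
  rw [h2, h1, hc, h3, h4]
  set a1 := g' * e * g'⁻¹ * e
  set a2 := g' * p * g'⁻¹ * p
  have h5 : e * p * q * (a1 * e * (a2 * p) * (g' * (H * q * H⁻¹) * g'⁻¹)) =
      (e * (p * (q * a1) * p) * e) * (p * a2 * p) * (g' * (H * q * H⁻¹) * g'⁻¹) := by
    calc e * p * q * (a1 * e * (a2 * p) * (g' * (H * q * H⁻¹) * g'⁻¹))
        = e * (p * (q * a1)) * 1 * e * a2 * p * (g' * (H * q * H⁻¹) * g'⁻¹) := by group
      _ = e * (p * (q * a1)) * (p * p) * e * a2 * p * (g' * (H * q * H⁻¹) * g'⁻¹) := by rw [pp]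
      _ = e * (p * (q * a1) * p) * (p * e) * a2 * p * (g' * (H * q * H⁻¹) * g'⁻¹) := by group
      _ = e * (p * (q * a1) * p) * (e * p) * a2 * p * (g' * (H * q * H⁻¹) * g'⁻¹) := by rw [ep.eq]
      _ = _ := by group
  rw [h5]
  exact mul_mem (mul_mem (eQ _ (pQ _ (mul_mem hq ge))) (pQ _ gp)) (gQ _ (HQ _ hq))

theorem comm_mul_x {g A x : G} (h : Commute g x) : ⁅g, A * x⁆ = ⁅g, A⁆ := by
  rw [commutatorElement_def, commutatorElement_def]
  calc g * (A * x) * g⁻¹ * (A * x)⁻¹ = g * A * (x * g⁻¹) * x⁻¹ * A⁻¹ := by group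
    _ = g * A * (g⁻¹ * x) * x⁻¹ * A⁻¹ := by rw [h.inv_left.eq]
    _ = _ := by group

/-- an element centralising `x` and `g'⁻¹ x g'` -/
theorem comm_of_conj {g g' x : G} (h1 : Commute g x) (h2 : Commute g (g'⁻¹ * x * g')) : Commute ⁅g, g'⁆ x := by
  show ⁅g, g'⁆ * x = x * ⁅g, g'⁆
  have h3 : g⁻¹ * (g'⁻¹ * x * g') * g = g'⁻¹ * x * g' := by
    rw [mul_assoc, ← h2.eq]; group
  have h4 : g * x * g⁻¹ = x := by rw [h1.eq]; group
  have h5 : ⁅g, g'⁆ * x * ⁅g, g'⁆⁻¹ = x := by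
    rw [commutatorElement_def]
    calc g * g' * g⁻¹ * g'⁻¹ * x * (g * g' * g⁻¹ * g'⁻¹)⁻¹
        = g * g' * (g⁻¹ * (g'⁻¹ * x * g') * g) * g'⁻¹ * g⁻¹ := by group
      _ = g * x * g⁻¹ := by rw [h3]; group
      _ = x := h4
  rw [mul_inv_eq_iff_eq_mul] at h5
  exact h5

/-- the same with the roles exchanged -/
theorem comm_of_conj' {g g' x : G} (h1 : Commute g' x) (h2 : Commute g' (g⁻¹ * x * g)) : Commute ⁅g, g'⁆ x := by
  have h := (comm_of_conj h1 h2).inv_left
  rwa [commutatorElement_inv] at h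

namespace Frame

variable [CharP F 2] (R : Frame n F G)

theorem h_comm {i j : Ix n} {lam : Fin n → Fˣ} (hl : ev lam i * ev lam j = 1) (a : F) :
    Commute (R.h lam) (R.x i j a) := by
  have h := R.h_x lam i j a
  rw [← Units.val_mul, hl, Units.val_one, one_mul, mul_inv_eq_iff_eq_mul] at h
  exact h

/-- the short root groups -/
def xs (i j : Ix n) : Subgroup G where
  carrier := {x | ∃ a, x = R.x i j a}
  one_mem' := ⟨0, (R.x_zero _ _).symm⟩
  mul_mem' := by
    rintro _ _ ⟨a, rfl⟩ ⟨b, rfl⟩; exact ⟨a + b, (R.x_add _ _ _ _).symm⟩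
  inv_mem' := by
    rintro _ ⟨a, rfl⟩; exact ⟨a, R.x_inv _ _ _⟩

theorem mem_xs {R : Frame n F G} {i j : Ix n} {x : G} : x ∈ R.xs i j ↔ ∃ a, x = R.x i j a := Iff.rfl

/-- the long root groups -/
def ys (i : Ix n) : Subgroup G where
  carrier := {x | ∃ a, x = R.y i a}
  one_mem' := ⟨0, (R.y_zero _).symm⟩
  mul_mem' := by
    rintro _ _ ⟨a, rfl⟩ ⟨b, rfl⟩; exact ⟨a + b, (R.y_add _ _ _).symm⟩
  inv_mem' := by
    rintro _ ⟨a, rfl⟩; exact ⟨a, R.y_inv _ _⟩

theorem mem_ys {R : Frame n F G} {i : Ix n} {x : G} : x ∈ R.ys i ↔ ∃ a, x = R.y i a := Iff.rfl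

end Frame

/-- the facts on centralisers in `C_G(t)` used for the commutators of the short doubles -/
structure KT (R : Frame n F G) : Prop extends KS R where
  /-- 90 degrees -/
  k90 : ∀ i j k l, Dj i j → Dj i k → Dj i l → Dj j k → Dj j l → Dj k l → ∀ c, Commute c R.t →
    (∀ a b s, a ≠ neg i → a ≠ neg j → a ≠ neg k → a ≠ neg l → b ≠ neg i → b ≠ neg j → b ≠ neg k → b ≠ neg l →
      Commute c (R.x a b s)) →
    (∀ a s, a ≠ neg i → a ≠ neg j → a ≠ neg k → a ≠ neg l → Commute c (R.y a s)) →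
    (∀ lam, ev lam i * ev lam j = 1 → ev lam k * ev lam l = 1 → Commute c (R.h lam)) →
    ∃ e f g, (e = 1 ∨ e = R.t) ∧ c = e * R.x i j f * R.x k l g
  /-- `F3` for `Q_i` -/
  kQ : ∀ i j, Dj i j → ∀ c, Commute c R.t → (∀ s, Commute c (R.y i s)) →
    (∀ l s, Dj i l → Commute c (R.x i l s)) →
    (∀ lam, ev lam i = 1 → ev lam j = 1 → Commute c (R.h lam)) →
    ∃ e f g r, (e = 1 ∨ e = R.t) ∧ c = e * R.x i j g * R.x i (neg j) r * R.y i f
  /-- `F4` -/
  k4 : ∀ i j k, Dj i j → Dj i k → Dj j k → ∀ c, Commute c R.t → (∀ s, Commute c (R.y i s)) →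
    (∀ s, Commute c (R.y k s)) → (∀ s, Commute c (R.x i j s)) → (∀ s, Commute c (R.x k (neg j) s)) →
    (∀ l s, Dj i l → Dj j l → Dj k l → Commute c (R.y l s)) →
    (∀ lam, ev lam j * ev lam k = 1 → ev lam i = ev lam j → Commute c (R.h lam)) →
    ∃ e f g r, (e = 1 ∨ e = R.t) ∧ c = e * R.x j k f * R.x i (neg j) g * R.x i k r

namespace DS

variable [CharP F 2] {R : Frame n F G} {δ : F} (D : DS R δ)
include D

/-- every element of `W_ij` is `g' g'^H x` if `H` induces `μ ≠ 1` on the heights -/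
theorem exists_decomp {i j : Ix n} (hij : Dj i j) {lam : Fin n → Fˣ} {μ : Fˣ} (hμ : (μ : F) ≠ 1)
    (hl : ev lam i * ev lam j = μ) {g : G} (hg : g ∈ D.W i j) :
    ∃ g' ∈ D.W i j, ∃ a, g = g' * (R.h lam * g' * (R.h lam)⁻¹) * R.x i j a := by
  obtain ⟨u, hu⟩ := D.ht i j hij g hg
  have hμ1 : (1 : F) + μ ≠ 0 := by
    intro h
    apply hμ
    have : (μ : F) = -1 := by linear_combination h
    rw [this, CharTwo.neg_eq]
  obtain ⟨g', hg', hu'⟩ := D.onto i j hij ((1 + (μ : F))⁻¹ * u)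
  refine ⟨g', hg', ?_⟩
  have hH := D.torus i j hij g' hg' lam
  refine D.eq_mul_x hij (mul_mem hg' hH) hg ?_ hu
  have h1 : R.t * (R.h lam * g' * (R.h lam)⁻¹) * R.t =
      (R.h lam * g' * (R.h lam)⁻¹) * R.x i j (μ * ((1 + (μ : F))⁻¹ * u)) := by
    rw [R.t_mul, R.t_mul, R.t_of_comm (R.h_t lam), R.t_inv', R.t_of_comm (R.h_t lam), hu']
    have h2 := R.h_x lam i j ((1 + (μ : F))⁻¹ * u)
    rw [← Units.val_mul, hl] at h2
    rw [← h2]; group
  rw [R.t_mul, h1, hu']
  have h3 : Commute (R.x i j ((1 + (μ : F))⁻¹ * u)) (R.h lam * g' * (R.h lam)⁻¹) :=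
    D.comm i j hij _ (D.x_mem i j _) _ hH
  calc g' * R.x i j ((1 + (μ : F))⁻¹ * u) *
        (R.h lam * g' * (R.h lam)⁻¹ * R.x i j (μ * ((1 + (μ : F))⁻¹ * u)))
      = g' * (R.x i j ((1 + (μ : F))⁻¹ * u) * (R.h lam * g' * (R.h lam)⁻¹)) *
          R.x i j (μ * ((1 + (μ : F))⁻¹ * u)) := by group
    _ = g' * (R.h lam * g' * (R.h lam)⁻¹) * (R.x i j ((1 + (μ : F))⁻¹ * u) *
          R.x i j (μ * ((1 + (μ : F))⁻¹ * u))) := by rw [h3.eq]; group
    _ = _ := by
      rw [← R.x_add]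
      congr 2
      field_simp

/-- `g' t g'⁻¹ ∈ t X_ij` -/
theorem conj_t {i j : Ix n} (hij : Dj i j) {g' : G} (hg' : g' ∈ D.W i j) :
    ∃ u, g' * R.t * g'⁻¹ * R.t = R.x i j u := by
  obtain ⟨u, hu⟩ := D.ht i j hij g' hg'
  refine ⟨u, ?_⟩
  have h1 : g' * R.t = R.t * (g' * R.x i j u) := by
    rw [← hu, ← mul_assoc, ← mul_assoc, R.tt, one_mul]
  have h2 : Commute (R.x i j u) g' := D.comm i j hij _ (D.x_mem i j u) _ hg'
  calc g' * R.t * g'⁻¹ * R.t = R.t * (g' * R.x i j u) * g'⁻¹ * R.t := by rw [h1]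
    _ = R.t * (R.x i j u * g') * g'⁻¹ * R.t := by rw [h2.eq]
    _ = R.t * R.x i j u * R.t := by group
    _ = R.x i j u := R.t_of_comm (R.x_t _ _ _)

/-- the common part of 60 and 90 degrees -/
theorem mem_of_two {i j k l : Ix n} (hij : Dj i j) (hkl : Dj k l)
    (hF : ∃ μ : Fˣ, (μ : F) ≠ 1)
    (hlam : ∀ μ : Fˣ, ∃ lam : Fin n → Fˣ, ev lam i * ev lam j = 1 ∧ ev lam k * ev lam l = μ)
    (hxg : ∀ g' ∈ D.W k l, ∀ s, Commute g' (R.x i j s))
    (hxg' : ∀ g ∈ D.W i j, ∀ s, Commute g (R.x k l s))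
    (hxx : ∀ s s', Commute (R.x i j s) (R.x k l s'))
    (hc : ∀ g ∈ D.W i j, ∀ g' ∈ D.W k l, ∃ e f r, (e = 1 ∨ e = R.t) ∧ ⁅g, g'⁆ = e * R.x i j f * R.x k l r)
    {g g' : G} (hg : g ∈ D.W i j) (hg' : g' ∈ D.W k l) : ⁅g, g'⁆ ∈ R.xs k l := by
  obtain ⟨μ, hμ⟩ := hF
  obtain ⟨lam, l1, l2⟩ := hlam μ
  obtain ⟨g1, hg1, a, rfl⟩ := D.exists_decomp hkl hμ l2 hg'
  obtain ⟨e, f, r, he, h⟩ := hc g hg g1 hg1
  rw [comm_mul_x (hxg' g hg a)]
  have het : ∀ x : G, Commute x R.t → Commute x e := by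
    intro x hx
    rcases he with rfl | rfl
    · exact Commute.one_right _
    · exact hx
  have hee : e * e = 1 := by
    rcases he with rfl | rfl
    · rw [mul_one]
    · exact R.tt
  refine kill (R.xs k l) (Frame.mem_xs.2 ⟨r, rfl⟩) h (D.torus_one i j hij g hg lam l1) (het _ (R.h_t lam))
    (R.h_comm l1 f) hee (R.x_sq _ _ _) (het _ (R.x_t _ _ _)).symm ?_ ?_ ?_ ?_ ?_ ?_
  · intro x hx
    obtain ⟨a, rfl⟩ := Frame.mem_xs.1 hx
    exact Frame.mem_xs.2 ⟨_, R.h_x _ _ _ _⟩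
  · intro x hx
    obtain ⟨a, rfl⟩ := Frame.mem_xs.1 hx
    rw [← (het _ (R.x_t k l a)).eq, mul_assoc, hee, mul_one]
    exact hx
  · intro x hx
    obtain ⟨a, rfl⟩ := Frame.mem_xs.1 hx
    rw [(hxx f a).eq, mul_assoc, R.x_sq, mul_one]
    exact hx
  · intro x hx
    obtain ⟨a, rfl⟩ := Frame.mem_xs.1 hx
    have := D.comm k l hkl g1 hg1 _ (D.x_mem k l a)
    rw [this]
    simpa using hx
  · rcases he with rfl | rfl
    · simpa using one_mem _
    · obtain ⟨u, hu⟩ := D.conj_t hkl hg1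
      rw [hu]
      exact Frame.mem_xs.2 ⟨u, rfl⟩
  · rw [(hxg g1 hg1 f).eq]
    have : R.x i j f * g1 * g1⁻¹ * R.x i j f = 1 := by
      rw [mul_inv_cancel_right, R.x_sq]
    rw [this]
    exact one_mem _

/-- `e = 1` or `e = t` -/
theorem comm_e {e : G} (he : e = 1 ∨ e = R.t) {x : G} (hx : Commute x R.t) : Commute x e := by
  rcases he with rfl | rfl
  · exact Commute.one_right _
  · exact hx

theorem xs_disj {i j k l : Ix n} (hij : Dj i j) (hF : ∃ μ : Fˣ, (μ : F) ≠ 1)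
    (hlam : ∀ μ : Fˣ, ∃ lam : Fin n → Fˣ, ev lam i * ev lam j = μ ∧ ev lam k * ev lam l = 1)
    {x : G} (h1 : x ∈ R.xs i j) (h2 : x ∈ R.xs k l) : x = 1 := by
  obtain ⟨a, rfl⟩ := Frame.mem_xs.1 h1
  obtain ⟨b, hb⟩ := Frame.mem_xs.1 h2
  obtain ⟨μ, hμ⟩ := hF
  obtain ⟨lam, l1, l2⟩ := hlam μ
  have h3 := R.h_x lam i j a
  rw [hb, ((R.h_comm l2 b)).eq, mul_inv_cancel_right, ← hb, ← Units.val_mul, l1] at h3
  have h4 := R.x_inj hij h3
  have h5 : a * (μ - 1) = 0 := by linear_combination -h4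
  rcases mul_eq_zero.1 h5 with h6 | h6
  · rw [h6, R.x_zero]
  · exact absurd (sub_eq_zero.1 h6) hμ

/-- **(6.2), 60 degrees** -/
theorem comm60 (hF : ∃ μ : Fˣ, (μ : F) ≠ 1) (hK : KT R) {i j k : Ix n} (hij : Dj i j) (hik : Dj i k)
    (hjk : Dj j k) {g g' : G} (hg : g ∈ D.W i j) (hg' : g' ∈ D.W i k) : Commute g g' := by
  -- the general decomposition
  have main : ∀ j k, Dj i j → Dj i k → Dj j k → ∀ g ∈ D.W i j, ∀ g' ∈ D.W i k,
      ∃ e f r, (e = 1 ∨ e = R.t) ∧ ⁅g, g'⁆ = e * R.x i j f * R.x i k r := by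
    intro j k hij hik hjk g hg g' hg'
    have n1 : i ≠ neg j := hij.2
    have n2 : i ≠ neg k := hik.2
    have n3 : j ≠ neg k := hjk.2
    have n1' : j ≠ neg i := hij.symm.2
    have n2' : k ≠ neg i := hik.symm.2
    have n3' : k ≠ neg j := hjk.symm.2
    refine hK.k60 i j k hij hik hjk _ ?_ ?_ ?_ ?_
    · obtain ⟨u, hu⟩ := D.ht i j hij g hg
      obtain ⟨u', hu'⟩ := D.ht i k hik g' hg'
      apply R.comm_of_t
      have hgx : Commute g (R.x i j u) := D.cX hij hg (ne_neg i) n1 n1' (ne_neg j) _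
      have hgx' : Commute g (R.x i k u') := D.cX hij hg (ne_neg i) n1 n2' n3' _
      have hg'x : Commute g' (R.x i j u) := D.cX hik hg' (ne_neg i) n2 n1' n3 _
      have hxx : Commute (R.x i j u) (R.x i k u') := R.x_comm (ne_neg i) n1 n2' n3' _ _
      rw [commutatorElement_def, R.t_mul, R.t_mul, R.t_mul, R.t_inv', R.t_inv', hu, hu']
      show ⁅g * R.x i j u, g' * R.x i k u'⁆ = ⁅g, g'⁆
      have e1 : Commute (g * R.x i j u) (R.x i k u') := hgx'.mul_left hxx
      rw [comm_mul_x e1]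
      rw [← inv_inj, commutatorElement_inv, commutatorElement_inv, comm_mul_x hg'x]
    · intro a b s a1 a2 a3 b1 b2 b3
      exact comm_of_conj (D.cX hij hg a1 a2 b1 b2 s) (by
        have h := D.cX hik hg' a1 a3 b1 b3 s
        have : g'⁻¹ * R.x a b s * g' = R.x a b s := by rw [h.inv_left.eq]; group
        rw [this]
        exact D.cX hij hg a1 a2 b1 b2 s)
    · intro a s a1 a2 a3
      have h0 : Commute g (R.y a s) := D.cy i j hij g hg a s a1 a2
      exact comm_of_conj h0 (by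
        have h : Commute g' (R.y a s) := D.cy i k hik g' hg' a s a1 a3
        have : g'⁻¹ * R.y a s * g' = R.y a s := by rw [h.inv_left.eq]; group
        rw [this]
        exact h0)
    · intro lam l1 l2
      have h1 : Commute g (R.h lam) := Commute.symm (D.torus_one i j hij g hg lam l1)
      have h2 : Commute g' (R.h lam) := Commute.symm (D.torus_one i k hik g' hg' lam l2)
      exact comm_of_conj h1 (by
        have : g'⁻¹ * R.h lam * g' = R.h lam := by rw [h2.inv_left.eq]; group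
        rw [this]; exact h1)
  have lam1 : ∀ j k, Dj i j → Dj i k → Dj j k → ∀ μ : Fˣ, ∃ lam : Fin n → Fˣ,
      ev lam i * ev lam j = 1 ∧ ev lam i * ev lam k = μ := by
    intro j k hij hik hjk μ
    obtain ⟨lam, l1, l2⟩ := exists_lam k μ
    exact ⟨lam, by rw [l2 i hik.symm, l2 j hjk.symm, one_mul], by rw [l2 i hik.symm, l1, one_mul]⟩
  have two : ∀ j k, Dj i j → Dj i k → Dj j k → ∀ g ∈ D.W i j, ∀ g' ∈ D.W i k, ⁅g, g'⁆ ∈ R.xs i k := by
    intro j k hij hik hjk g hg g' hg'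
    refine D.mem_of_two hij hik hF (lam1 j k hij hik hjk) ?_ ?_ ?_ (main j k hij hik hjk) hg hg'
    · intro g' hg' s
      exact D.cX hik hg' (ne_neg i) hik.2 hij.symm.2 hjk.2 s
    · intro g hg s
      exact D.cX hij hg (ne_neg i) hij.2 hik.symm.2 hjk.symm.2 s
    · intro s s'
      exact R.x_comm (ne_neg i) hij.2 hik.symm.2 hjk.symm.2 _ _
  have h1 := two j k hij hik hjk g hg g' hg'
  have h2 := inv_mem (two k j hik hij hjk.symm g' hg' g hg)
  rw [commutatorElement_inv] at h2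
  have h3 := D.xs_disj hij hF (fun μ => by
    obtain ⟨lam, l1, l2⟩ := lam1 k j hik hij hjk.symm μ
    exact ⟨lam, l2, l1⟩) h2 h1
  exact commutatorElement_eq_one_iff_commute.1 h3

/-- **(6.2), 90 degrees, disjoint** -/
theorem comm90 (hF : ∃ μ : Fˣ, (μ : F) ≠ 1) (hK : KT R) {i j k l : Ix n} (hij : Dj i j) (hik : Dj i k)
    (hil : Dj i l) (hjk : Dj j k) (hjl : Dj j l) (hkl : Dj k l) {g g' : G} (hg : g ∈ D.W i j)
    (hg' : g' ∈ D.W k l) : Commute g g' := by
  have main : ∀ i j k l, Dj i j → Dj i k → Dj i l → Dj j k → Dj j l → Dj k l → ∀ g ∈ D.W i j,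
      ∀ g' ∈ D.W k l, ∃ e f r, (e = 1 ∨ e = R.t) ∧ ⁅g, g'⁆ = e * R.x i j f * R.x k l r := by
    intro i j k l hij hik hil hjk hjl hkl g hg g' hg'
    refine hK.k90 i j k l hij hik hil hjk hjl hkl _ ?_ ?_ ?_ ?_
    · obtain ⟨u, hu⟩ := D.ht i j hij g hg
      obtain ⟨u', hu'⟩ := D.ht k l hkl g' hg'
      apply R.comm_of_t
      have hgx' : Commute g (R.x k l u') := D.cX hij hg hik.symm.2 hjk.symm.2 hil.symm.2 hjl.symm.2 _
      have hg'x : Commute g' (R.x i j u) := D.cX hkl hg' hik.2 hil.2 hjk.2 hjl.2 _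
      have hxx : Commute (R.x i j u) (R.x k l u') := R.x_comm hik.symm.2 hjk.symm.2 hil.symm.2 hjl.symm.2 _ _
      rw [commutatorElement_def, R.t_mul, R.t_mul, R.t_mul, R.t_inv', R.t_inv', hu, hu']
      show ⁅g * R.x i j u, g' * R.x k l u'⁆ = ⁅g, g'⁆
      have e1 : Commute (g * R.x i j u) (R.x k l u') := hgx'.mul_left hxx
      rw [comm_mul_x e1]
      rw [← inv_inj, commutatorElement_inv, commutatorElement_inv, comm_mul_x hg'x]
    · intro a b s a1 a2 a3 a4 b1 b2 b3 b4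
      exact comm_of_conj (D.cX hij hg a1 a2 b1 b2 s) (by
        have h := D.cX hkl hg' a3 a4 b3 b4 s
        have : g'⁻¹ * R.x a b s * g' = R.x a b s := by rw [h.inv_left.eq]; group
        rw [this]
        exact D.cX hij hg a1 a2 b1 b2 s)
    · intro a s a1 a2 a3 a4
      have h0 : Commute g (R.y a s) := D.cy i j hij g hg a s a1 a2
      exact comm_of_conj h0 (by
        have h : Commute g' (R.y a s) := D.cy k l hkl g' hg' a s a3 a4
        have : g'⁻¹ * R.y a s * g' = R.y a s := by rw [h.inv_left.eq]; group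
        rw [this]
        exact h0)
    · intro lam l1 l2
      have h1 : Commute g (R.h lam) := Commute.symm (D.torus_one i j hij g hg lam l1)
      have h2 : Commute g' (R.h lam) := Commute.symm (D.torus_one k l hkl g' hg' lam l2)
      exact comm_of_conj h1 (by
        have : g'⁻¹ * R.h lam * g' = R.h lam := by rw [h2.inv_left.eq]; group
        rw [this]; exact h1)
  have lam1 : ∀ i j k l : Ix n, Dj i k → Dj j k → Dj k l → ∀ μ : Fˣ, ∃ lam : Fin n → Fˣ,
      ev lam i * ev lam j = 1 ∧ ev lam k * ev lam l = μ := by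
    intro i j k l hik hjk hkl μ
    obtain ⟨lam, l1, l2⟩ := exists_lam k μ
    exact ⟨lam, by rw [l2 i hik.symm, l2 j hjk.symm, one_mul], by rw [l2 l hkl, l1, mul_one]⟩
  have two : ∀ i j k l, Dj i j → Dj i k → Dj i l → Dj j k → Dj j l → Dj k l → ∀ g ∈ D.W i j,
      ∀ g' ∈ D.W k l, ⁅g, g'⁆ ∈ R.xs k l := by
    intro i j k l hij hik hil hjk hjl hkl g hg g' hg'
    refine D.mem_of_two hij hkl hF (lam1 i j k l hik hjk hkl) ?_ ?_ ?_
      (main i j k l hij hik hil hjk hjl hkl) hg hg'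
    · intro g' hg' s
      exact D.cX hkl hg' hik.2 hil.2 hjk.2 hjl.2 s
    · intro g hg s
      exact D.cX hij hg hik.symm.2 hjk.symm.2 hil.symm.2 hjl.symm.2 s
    · intro s s'
      exact R.x_comm hik.symm.2 hjk.symm.2 hil.symm.2 hjl.symm.2 _ _
  have h1 := two i j k l hij hik hil hjk hjl hkl g hg g' hg'
  have h2 := inv_mem (two k l i j hkl hik.symm hjk.symm hil.symm hjl.symm hij g' hg' g hg)
  rw [commutatorElement_inv] at h2
  have h3 := D.xs_disj hij hF (fun μ => by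
    obtain ⟨lam, l1, l2⟩ := lam1 k l i j hik.symm hil.symm hij μ
    exact ⟨lam, l2, l1⟩) h2 h1
  exact commutatorElement_eq_one_iff_commute.1 h3

end DS

end Cfsg.Agent.OddHalf.SpN

end

-- merged: Cfsg.Agent.OddHalf.SpN.ShortP
section

/-!
# ODD D7, `K = Sp_2n(q)`, `q ≥ 4` even: commutators of the doubles of the short root groups, 2 (helper570)

* `par_mem` : `[W_ij, W_{i,-j}] ≤ Y_i`;
* `mem120` : `[W_jk, W_{i,-j}] ≤ W_ik`.
-/

set_option autoImplicit false

namespace Cfsg.Agent.OddHalf.SpN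

open scoped commutatorElement

variable {n : ℕ} {F : Type*} [Field F] {G : Type*} [Group G]

theorem exists_nu [CharP F 2] (hF : ∃ μ : Fˣ, (μ : F) ≠ 1) : ∃ ν : Fˣ, ((ν * ν : Fˣ) : F) ≠ 1 := by
  obtain ⟨μ, hμ⟩ := hF
  refine ⟨μ, fun h => hμ ?_⟩
  have h1 : ((μ : F) - 1) ^ 2 = 0 := by
    have : ((μ : F) - 1) ^ 2 = (μ : F) * μ - 1 - 2 * (μ - 1) := by ring
    rw [this, two0, zero_mul, sub_zero, ← Units.val_mul, h, sub_self]
  exact sub_eq_zero.1 (pow_eq_zero_iff (two_ne_zero) |>.1 h1)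

/-- a torus element with two prescribed values -/
theorem exists_lam2 {i j : Ix n} (hij : Dj i j) (μ ν : Fˣ) : ∃ lam : Fin n → Fˣ, ev lam i = μ ∧ ev lam j = ν ∧
    ∀ l, Dj i l → Dj j l → ev lam l = 1 := by
  obtain ⟨l1, a1, a2⟩ := exists_lam i μ
  obtain ⟨l2, b1, b2⟩ := exists_lam j ν
  have hm : ∀ k, ev (l1 * l2) k = ev l1 k * ev l2 k := by
    intro k
    rcases k with k | k <;> simp [ev, mul_comm]
  exact ⟨l1 * l2, by rw [hm, a1, b2 i hij.symm, mul_one], by rw [hm, a2 j hij, b1, one_mul],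
    fun l h1 h2 => by rw [hm, a2 l h1, b2 l h2, mul_one]⟩

/-- `⁅g, A x⁆` if `x⁻¹`-conjugation moves `g` by `w` commuting with everything -/
theorem comm_mul_x' {g A x w : G} (h : x * g * x⁻¹ = g * w) (wg : Commute w g) (wA : Commute w A) :
    ⁅g, A * x⁆ = ⁅g, A⁆ * w⁻¹ := by
  have h1 : x * g⁻¹ * x⁻¹ = w⁻¹ * g⁻¹ := by
    have : x * g⁻¹ * x⁻¹ = (x * g * x⁻¹)⁻¹ := by group
    rw [this, h, mul_inv_rev]
  rw [commutatorElement_def, commutatorElement_def]
  calc g * (A * x) * g⁻¹ * (A * x)⁻¹ = g * A * (x * g⁻¹ * x⁻¹) * A⁻¹ := by group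
    _ = g * A * (w⁻¹ * g⁻¹) * A⁻¹ := by rw [h1]
    _ = g * A * (g⁻¹ * w⁻¹) * A⁻¹ := by rw [wg.inv_inv.eq]
    _ = g * A * g⁻¹ * (w⁻¹ * A⁻¹) := by group
    _ = g * A * g⁻¹ * (A⁻¹ * w⁻¹) := by rw [wA.inv_inv.eq]
    _ = _ := by group

namespace DS

variable [CharP F 2] {R : Frame n F G} {δ : F} (D : DS R δ)
include D

/-- conjugates of partners -/
theorem par' {i j : Ix n} (hij : Dj i j) {g : G} (hg : g ∈ D.W i j) (b : F) :
    ∃ f, g⁻¹ * R.x i (neg j) b * g = R.x i (neg j) b * R.y i f := by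
  obtain ⟨u, hu⟩ := D.ht i j hij g hg
  have h := D.par i j hij g hg u hu b
  refine ⟨δ * u * b, ?_⟩
  have h1 : Commute (R.y i (δ * u * b)) (R.x i (neg j) b) :=
    R.y_x_comm (ne_neg i) (fun e => hij.1 (neg_inj.1 e).symm) _ _
  have h2 : Commute g (R.y i (δ * u * b)) := D.cy i j hij g hg i _ (ne_neg i) hij.2
  have h3 : g * R.x i (neg j) b = R.y i (δ * u * b) * R.x i (neg j) b * g := by
    rw [← h, commutatorElement_def]; group
  have h4 : R.y i (δ * u * b) * (g⁻¹ * R.x i (neg j) b * g) = R.x i (neg j) b := by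
    calc R.y i (δ * u * b) * (g⁻¹ * R.x i (neg j) b * g)
        = (R.y i (δ * u * b) * g⁻¹) * R.x i (neg j) b * g := by group
      _ = g⁻¹ * (R.y i (δ * u * b) * R.x i (neg j) b * g) := by rw [← h2.inv_left.eq]; group
      _ = _ := by rw [← h3]; group
  calc g⁻¹ * R.x i (neg j) b * g
      = (R.y i (δ * u * b) * R.y i (δ * u * b)) * (g⁻¹ * R.x i (neg j) b * g) := by rw [R.y_sq, one_mul]
    _ = R.y i (δ * u * b) * R.x i (neg j) b := by rw [mul_assoc, h4]
    _ = _ := h1.eq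

/-- one half of `par_mem` -/
theorem par_half (hF : ∃ μ : Fˣ, (μ : F) ≠ 1) (hK : KT R) {i j : Ix n} (hij : Dj i j)
    {g g' : G} (hg : g ∈ D.W i j) (hg' : g' ∈ D.W i (neg j)) :
    ∃ a b, ⁅g, g'⁆ = R.x i (neg j) a * R.y i b := by
  have hij' : Dj i (neg j) := dj_neg_right.2 hij
  have n1 : i ≠ neg j := hij.2
  have n1' : j ≠ neg i := hij.symm.2
  have n4 : i ≠ j := hij.1
  have n4' : neg j ≠ neg i := fun e => hij.1 (neg_inj.1 e).symm
  have nn : ∀ {l : Ix n}, l ≠ j → l ≠ neg (neg j) := fun h e => h (by rw [e, neg_neg])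
  -- the decomposition
  have main : ∀ g' ∈ D.W i (neg j), ∃ e f r s, (e = 1 ∨ e = R.t) ∧
      ⁅g, g'⁆ = e * R.x i j f * R.x i (neg j) r * R.y i s := by
    intro g' hg'
    have gy : ∀ s, Commute g (R.y i s) := fun s => D.cy i j hij g hg i s (ne_neg i) n1
    have gy' : ∀ s, Commute g' (R.y i s) := fun s => D.cy i (neg j) hij' g' hg' i s (ne_neg i) (nn n4)
    obtain ⟨u, hu⟩ := D.ht i j hij g hg
    obtain ⟨u', hu'⟩ := D.ht i (neg j) hij' g' hg'
    have p1 := D.par i j hij g hg u hu u'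
    have p2 := D.par i (neg j) hij' g' hg' u' hu' u
    rw [neg_neg] at p2
    have e1 : δ * u' * u = δ * u * u' := by ring
    rw [e1] at p2
    set x := R.x i j u with hx
    set x' := R.x i (neg j) u' with hx'
    set y := R.y i (δ * u * u') with hy
    have xx' : Commute x x' := by
      have h := R.x_comm' (i := j) (j := i) u u'
      rw [R.x_symm j i, R.x_symm (neg j) i] at h
      exact h
    have yx : Commute y x := R.y_x_comm (ne_neg i) n1' _ _
    have yx' : Commute y x' := R.y_x_comm (ne_neg i) n4' _ _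
    have xsq : x * x = 1 := R.x_sq _ _ _
    have x'sq : x' * x' = 1 := R.x_sq _ _ _
    have ysq : y * y = 1 := R.y_sq _ _
    have xinv : x⁻¹ = x := R.x_inv _ _ _
    have x'inv : x'⁻¹ = x' := R.x_inv _ _ _
    have yg : Commute y g := (gy _).symm
    have yg' : Commute y g' := (gy' _).symm
    -- `x' g x'⁻¹ = g y`
    have q1 : x' * g * x'⁻¹ = g * y := by
      have h1 : g * x' = y * x' * g := by rw [← p1, commutatorElement_def]; group
      have h2 : y * (x' * g * x'⁻¹) = g := by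
        calc y * (x' * g * x'⁻¹) = (y * x' * g) * x'⁻¹ := by group
          _ = g * x' * x'⁻¹ := by rw [h1]
          _ = g := by group
      calc x' * g * x'⁻¹ = (y * y) * (x' * g * x'⁻¹) := by rw [ysq, one_mul]
        _ = y * g := by rw [mul_assoc, h2]
        _ = _ := yg.eq
    have q2 : x * g' * x⁻¹ = g' * y := by
      have h1 : g' * x = y * x * g' := by rw [← p2, commutatorElement_def]; group
      have h2 : y * (x * g' * x⁻¹) = g' := by
        calc y * (x * g' * x⁻¹) = (y * x * g') * x⁻¹ := by group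
          _ = g' * x * x⁻¹ := by rw [h1]
          _ = g' := by group
      calc x * g' * x⁻¹ = (y * y) * (x * g' * x⁻¹) := by rw [ysq, one_mul]
        _ = y * g' := by rw [mul_assoc, h2]
        _ = _ := yg'.eq
    have ct : Commute ⁅g, g'⁆ R.t := by
      apply R.comm_of_t
      rw [commutatorElement_def, R.t_mul, R.t_mul, R.t_mul, R.t_inv', R.t_inv', hu, hu']
      show ⁅g * x, g' * x'⁆ = g * g' * g⁻¹ * g'⁻¹
      have c1 : x' * (g * x) * x'⁻¹ = (g * x) * y := by
        calc x' * (g * x) * x'⁻¹ = (x' * g * x'⁻¹) * (x' * x) * x'⁻¹ := by group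
          _ = (g * y) * (x * x') * x'⁻¹ := by rw [q1, xx'.eq]
          _ = g * (y * x) := by group
          _ = _ := by rw [yx.eq]; group
      rw [comm_mul_x' c1 (yg.mul_right yx) yg']
      have c2 : ⁅g * x, g'⁆ = ⁅g, g'⁆ * y := by
        have h1 : ⁅g', g * x⁆ = ⁅g', g⁆ * y⁻¹ := comm_mul_x' q2 yg' yg
        rw [← commutatorElement_inv, h1, mul_inv_rev, inv_inv, commutatorElement_inv]
        have : Commute y ⁅g, g'⁆ := by
          rw [commutatorElement_def]
          exact ((yg.mul_right yg').mul_right yg.inv_right).mul_right yg'.inv_right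
        exact this.eq
      rw [c2, mul_assoc, mul_inv_cancel, mul_one]
      rfl
    have cy : ∀ s, Commute ⁅g, g'⁆ (R.y i s) := by
      intro s
      exact comm_of_conj (gy s) (by
        have : g'⁻¹ * R.y i s * g' = R.y i s := by rw [(gy' s).inv_left.eq]; group
        rw [this]; exact gy s)
    have cx : ∀ l s, Dj i l → Commute ⁅g, g'⁆ (R.x i l s) := by
      intro l s hl
      have l1 : l ≠ neg i := hl.symm.2
      by_cases h1 : l = neg j
      · rw [h1]
        have c1 : Commute g' (R.x i (neg j) s) := D.comm i (neg j) hij' g' hg' _ (D.x_mem i (neg j) s)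
        obtain ⟨f, hf⟩ := D.par' hij hg s
        exact comm_of_conj' c1 (by rw [hf]; exact c1.mul_right (gy' f))
      have c0 : Commute g (R.x i l s) := D.cX hij hg (ne_neg i) n1 l1 h1 s
      by_cases h2 : l = j
      · rw [h2] at c0 ⊢
        obtain ⟨f, hf⟩ := D.par' hij' hg' s
        rw [neg_neg] at hf
        exact comm_of_conj c0 (by rw [hf]; exact c0.mul_right (gy f))
      · have c1 : Commute g' (R.x i l s) := D.cX hij' hg' (ne_neg i) (nn n4) l1 (nn h2) s
        exact comm_of_conj c0 (by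
          have : g'⁻¹ * R.x i l s * g' = R.x i l s := by rw [c1.inv_left.eq]; group
          rw [this]; exact c0)
    have ch : ∀ lam, ev lam i = 1 → ev lam j = 1 → Commute ⁅g, g'⁆ (R.h lam) := by
      intro lam l1 l2
      have h1 : Commute g (R.h lam) := Commute.symm (D.torus_one i j hij g hg lam (by rw [l1, l2, one_mul]))
      have h2 : Commute g' (R.h lam) := Commute.symm (D.torus_one i (neg j) hij' g' hg' lam (by
        rw [ev_neg, l1, l2, inv_one, one_mul]))
      exact comm_of_conj h1 (by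
        have : g'⁻¹ * R.h lam * g' = R.h lam := by rw [h2.inv_left.eq]; group
        rw [this]; exact h1)
    obtain ⟨e, f, g0, r, he, h⟩ := hK.kQ i j hij _ ct cy cx ch
    exact ⟨e, g0, r, f, he, h⟩
  -- equivariance
  obtain ⟨ν, hν⟩ := exists_nu hF
  obtain ⟨lam, l1, l2, -⟩ := exists_lam2 hij ν ν⁻¹
  have l3 : ev lam i * ev lam j = 1 := by rw [l1, l2, mul_inv_cancel]
  have l4 : ev lam i * ev lam (neg j) = ν * ν := by rw [ev_neg, l1, l2, inv_inv]
  obtain ⟨g1, hg1, a, rfl⟩ := D.exists_decomp hij' hν l4 hg'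
  obtain ⟨e, f, r, s, he, h⟩ := main g1 hg1
  have gy1 : ∀ s, Commute g1 (R.y i s) := fun s => D.cy i (neg j) hij' g1 hg1 i s (ne_neg i) (nn n4)
  -- the subgroup `Q`
  have xy : ∀ a b, Commute (R.x i (neg j) a) (R.y i b) := fun a b => (R.y_x_comm (ne_neg i) n4' _ _).symm
  let Q : Subgroup G :=
    { carrier := {z | ∃ a b, z = R.x i (neg j) a * R.y i b}
      one_mem' := ⟨0, 0, by rw [R.x_zero, R.y_zero, mul_one]⟩
      mul_mem' := by
        rintro _ _ ⟨a, b, rfl⟩ ⟨a', b', rfl⟩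
        refine ⟨a + a', b + b', ?_⟩
        rw [R.x_add, R.y_add]
        calc R.x i (neg j) a * R.y i b * (R.x i (neg j) a' * R.y i b')
            = R.x i (neg j) a * (R.y i b * R.x i (neg j) a') * R.y i b' := by group
          _ = R.x i (neg j) a * (R.x i (neg j) a' * R.y i b) * R.y i b' := by rw [(xy a' b).eq]
          _ = _ := by group
      inv_mem' := by
        rintro _ ⟨a, b, rfl⟩
        exact ⟨a, b, by rw [mul_inv_rev, R.x_inv, R.y_inv, (xy a b).eq]⟩ }
  have memQ : ∀ {z}, z ∈ Q ↔ ∃ a b, z = R.x i (neg j) a * R.y i b := Iff.rfl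
  have het : ∀ x : G, Commute x R.t → Commute x e := fun x hx => D.comm_e he hx
  have hee : e * e = 1 := by
    rcases he with rfl | rfl
    · rw [mul_one]
    · exact R.tt
  have hcom : ∀ z x : G, x ∈ Q → Commute z x → z * z = 1 → z * x * z ∈ Q := by
    intro z x hx hzx hz
    rw [hzx.eq, mul_assoc, hz, mul_one]; exact hx
  have key : ⁅g, g1 * (R.h lam * g1 * (R.h lam)⁻¹)⁆ ∈ Q := by
    refine kill (e := e) (p := R.x i j f) (q := R.x i (neg j) r * R.y i s) Q (memQ.2 ⟨r, s, rfl⟩)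
      (by rw [h]; group) (D.torus_one i j hij g hg lam l3) (het _ (R.h_t lam))
      (R.h_comm l3 f) hee (R.x_sq _ _ _) (het _ (R.x_t _ _ _)).symm ?_ ?_ ?_ ?_ ?_ ?_
    · rintro x ⟨a, b, rfl⟩
      refine ⟨ev lam i * ev lam (neg j) * a, ev lam i ^ 2 * b, ?_⟩
      calc R.h lam * (R.x i (neg j) a * R.y i b) * (R.h lam)⁻¹
            = (R.h lam * R.x i (neg j) a * (R.h lam)⁻¹) * (R.h lam * R.y i b * (R.h lam)⁻¹) := by group
        _ = _ := by rw [R.h_x, R.h_y]
    · intro x hx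
      refine hcom _ _ hx (Commute.symm (het _ ?_)) hee
      obtain ⟨a, b, rfl⟩ := hx
      exact (R.x_t _ _ _).mul_left (R.y_t _ _)
    · intro x hx
      refine hcom _ _ hx ?_ (R.x_sq _ _ _)
      obtain ⟨a, b, rfl⟩ := hx
      refine Commute.mul_right ?_ (R.y_x_comm (ne_neg i) n1' _ _).symm
      have h := R.x_comm' (i := j) (j := i) f a
      rw [R.x_symm j i, R.x_symm (neg j) i] at h
      exact h
    · rintro x ⟨a, b, rfl⟩
      have c1 : Commute g1 (R.x i (neg j) a) := D.comm i (neg j) hij' g1 hg1 _ (D.x_mem i (neg j) a)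
      rw [(c1.mul_right (gy1 b)).eq, mul_inv_cancel_right]
      exact ⟨a, b, rfl⟩
    · rcases he with rfl | rfl
      · simpa using one_mem _
      · obtain ⟨u, hu⟩ := D.conj_t hij' hg1
        rw [hu]
        exact ⟨u, 0, by rw [R.y_zero, mul_one]⟩
    · have h1 := D.par' hij' (inv_mem hg1) f
      rw [neg_neg, inv_inv] at h1
      obtain ⟨b, hb⟩ := h1
      rw [hb]
      refine ⟨0, b, ?_⟩
      have c3 : Commute (R.x i j f) (R.y i b) := (R.y_x_comm (ne_neg i) n1' _ _).symm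
      rw [R.x_zero, one_mul, c3.eq, mul_assoc, R.x_sq, mul_one]
  -- the factor `x_{i,-j}(a)`
  obtain ⟨b, hb⟩ := D.par' hij (g := g⁻¹) (inv_mem hg) a
  rw [inv_inv] at hb
  have gyi : ∀ s, Commute g (R.y i s) := fun s => D.cy i j hij g hg i s (ne_neg i) n1
  have hH1 : R.h lam * g1 * (R.h lam)⁻¹ ∈ D.W i (neg j) := D.torus i (neg j) hij' g1 hg1 lam
  have c4 : R.x i (neg j) a * g * (R.x i (neg j) a)⁻¹ = g * R.y i b := by
    have h1 : g * R.x i (neg j) a = R.x i (neg j) a * (g * R.y i b) := by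
      calc g * R.x i (neg j) a = (g * R.x i (neg j) a * g⁻¹) * g := by group
        _ = R.x i (neg j) a * (R.y i b * g) := by rw [hb]; group
        _ = _ := by rw [(gyi b).eq]
    rw [R.x_inv]
    calc R.x i (neg j) a * g * R.x i (neg j) a = R.x i (neg j) a * (g * R.x i (neg j) a) := by group
      _ = (R.x i (neg j) a * R.x i (neg j) a) * (g * R.y i b) := by rw [h1]; group
      _ = _ := by rw [R.x_sq, one_mul]
  rw [comm_mul_x' c4 (gyi b).symm (Commute.symm (D.cy i (neg j) hij' _ (mul_mem hg1 hH1) i b (ne_neg i) (nn n4)))]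
  obtain ⟨a', b', h'⟩ := key
  refine ⟨a', b' + b, ?_⟩
  rw [h', R.y_inv, R.y_add]
  group

/-- **partners**: `[W_ij, W_{i,-j}] ≤ Y_i` -/
theorem par_mem (hF : ∃ μ : Fˣ, (μ : F) ≠ 1) (hK : KT R) {i j k : Ix n} (hij : Dj i j) (hik : Dj i k)
    (hjk : Dj j k) {g g' : G} (hg : g ∈ D.W i j) (hg' : g' ∈ D.W i (neg j)) : ∃ b, ⁅g, g'⁆ = R.y i b := by
  have hij' : Dj i (neg j) := dj_neg_right.2 hij
  obtain ⟨a, b, h1⟩ := D.par_half hF hK hij hg hg'
  obtain ⟨a', b', h2⟩ := D.par_half hF hK hij' hg' (g' := g) (by rw [neg_neg]; exact hg)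
  rw [neg_neg] at h2
  have h3 : R.x i (neg j) a = R.x i j a' * R.y i b' * R.y i b := by
    have h4 : ⁅g, g'⁆ = R.x i j a' * R.y i b' := by
      rw [← commutatorElement_inv, h2, mul_inv_rev, R.x_inv, R.y_inv]
      exact (R.y_x_comm (ne_neg i) hij.symm.2 _ _).eq
    calc R.x i (neg j) a = R.x i (neg j) a * (R.y i b * R.y i b) := by rw [R.y_sq, mul_one]
      _ = ⁅g, g'⁆ * R.y i b := by rw [h1]; group
      _ = _ := by rw [h4]
  have h5 : Commute (R.x i (neg j) a) (R.x j k 1) := by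
    rw [h3]
    exact ((R.x_comm hij.symm.2 (ne_neg j) hik.symm.2 hjk.symm.2 _ _).mul_left
      (R.y_x_comm hij.symm.2 hik.symm.2 _ _)).mul_left (R.y_x_comm hij.symm.2 hik.symm.2 _ _)
  have h6 := R.x_rel (i := i) (j := neg j) (k := k) hij' (dj_neg_left.mpr hjk) hik a 1
  rw [neg_neg, h5.eq, mul_one] at h6
  have h7 : R.x i k a = 1 := by
    calc R.x i k a = R.x i k a * (R.x j k 1 * R.x i (neg j) a) * (R.x j k 1 * R.x i (neg j) a)⁻¹ := by group
      _ = 1 := by rw [← h6]; group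
  have h8 := R.x_eq_one hik h7
  rw [h8, R.x_zero, one_mul] at h1
  exact ⟨b, h1⟩

/-- one half of `mem120` -/
theorem half120 (hF : ∃ μ : Fˣ, (μ : F) ≠ 1) (hK : KT R) {i j k : Ix n} (hij : Dj i j) (hik : Dj i k)
    (hjk : Dj j k) {g g' : G} (hg : g ∈ D.W j k) (hg' : g' ∈ D.W i (neg j)) :
    ∃ a, ∃ m ∈ D.W i k, ⁅g, g'⁆ = R.x i (neg j) a * m := by
  have hij' : Dj i (neg j) := dj_neg_right.2 hij
  have n1 : i ≠ neg j := hij.2
  have n2 : i ≠ neg k := hik.2
  have n3 : j ≠ neg k := hjk.2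
  have n1' : j ≠ neg i := hij.symm.2
  have n2' : k ≠ neg i := hik.symm.2
  have n3' : k ≠ neg j := hjk.symm.2
  have n4 : i ≠ j := hij.1
  have n5 : i ≠ k := hik.1
  have n6 : j ≠ k := hjk.1
  have m4 : neg j ≠ neg i := fun e => hij.1 (neg_inj.1 e).symm
  have m6 : neg j ≠ neg k := fun e => hjk.1 (neg_inj.1 e)
  have nn : ∀ {l : Ix n}, l ≠ j → l ≠ neg (neg j) := fun h e => h (by rw [e, neg_neg])
  -- `W_ik` centralises `W_jk` and `W_{i,-j}`
  have cjk : ∀ m ∈ D.W i k, ∀ g ∈ D.W j k, Commute m g := by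
    intro m hm g hg
    have hm' : m ∈ D.W k i := by rw [D.symm]; exact hm
    have hg' : g ∈ D.W k j := by rw [D.symm]; exact hg
    exact D.comm60 hF hK hik.symm hjk.symm hij hm' hg'
  have cij : ∀ m ∈ D.W i k, ∀ g' ∈ D.W i (neg j), Commute m g' := fun m hm g' hg' =>
    D.comm60 hF hK hik hij' (dj_neg_right.2 hjk.symm) hm hg'
  have cik : ∀ m ∈ D.W i k, ∀ m' ∈ D.W i k, Commute m m' := fun m hm m' hm' => D.comm i k hik m hm m' hm'
  -- conjugates
  have w1 : ∀ g ∈ D.W j k, ∀ b, g⁻¹ * (R.x i (neg j) b * g * R.x i (neg j) b) ∈ D.W i k := fun g hg b =>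
    D.conj_mem hF hK.toKS hij hik hjk hg b
  have w2 : ∀ g' ∈ D.W i (neg j), ∀ b, g'⁻¹ * (R.x j k b * g' * R.x j k b) ∈ D.W i k := by
    intro g' hg' b
    have h := D.conj_mem hF hK.toKS (i := k) (j := neg j) (k := i) (dj_neg_right.2 hjk.symm) hik.symm
      (dj_neg_left.2 hij.symm) (g := g') (by rw [D.symm]; exact hg') b
    rw [neg_neg, R.x_symm k j, D.symm] at h
    exact h
  have ik_jk : ∀ s s', Commute (R.x i k s) (R.x j k s') := fun s s' => R.x_comm n1' n3 n2' (ne_neg k) _ _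
  -- `x_{i,-j}` and `x_jk`
  have xx : ∀ b u, R.x j k u * R.x i (neg j) b * R.x j k u = R.x i (neg j) b * R.x i k (b * u) := by
    intro b u
    have h := R.x_rel (i := i) (j := neg j) (k := k) hij' (dj_neg_left.mpr hjk) hik b u
    rw [neg_neg] at h
    have c1 : Commute (R.x i k (b * u)) (R.x i (neg j) b) :=
      R.x_comm (ne_neg i) n2 m4 m6 _ _
    calc R.x j k u * R.x i (neg j) b * R.x j k u
        = R.x j k u * (R.x i k (b * u) * (R.x j k u * R.x i (neg j) b)) := by rw [← h]; group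
      _ = (R.x j k u * R.x i k (b * u)) * R.x j k u * R.x i (neg j) b := by group
      _ = R.x i k (b * u) * (R.x j k u * R.x j k u) * R.x i (neg j) b := by rw [← (ik_jk _ _).eq]; group
      _ = _ := by rw [R.x_sq, mul_one, c1.eq]
  -- the decomposition
  have main : ∀ g' ∈ D.W i (neg j), ∃ e f r, ∃ m ∈ D.W i k, (e = 1 ∨ e = R.t) ∧
      ⁅g, g'⁆ = e * R.x j k f * (R.x i (neg j) r * m) := by
    intro g' hg'
    obtain ⟨u, hu⟩ := D.ht j k hjk g hg
    obtain ⟨u', hu'⟩ := D.ht i (neg j) hij' g' hg'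
    set c := ⁅g, g'⁆ with hc
    have cc : ∀ m ∈ D.W i k, Commute m c := by
      intro m hm
      have h1 := cjk m hm g hg
      have h2 := cij m hm g' hg'
      rw [hc, commutatorElement_def]
      exact ((h1.mul_right h2).mul_right h1.inv_right).mul_right h2.inv_right
    obtain ⟨w, hw, hwc⟩ : ∃ w ∈ D.W i k, R.t * c * R.t = w * c := by
      set x := R.x j k u with hx
      set x' := R.x i (neg j) u' with hx'
      set a1 := g⁻¹ * (x' * g * x') with ha1
      set a2 := g'⁻¹ * (x * g' * x) with ha2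
      have ma1 : a1 ∈ D.W i k := w1 g hg u'
      have ma2 : a2 ∈ D.W i k := w2 g' hg' u
      have mz : R.x i k (u' * u) ∈ D.W i k := D.x_mem i k _
      have xsq : x * x = 1 := R.x_sq _ _ _
      have x'sq : x' * x' = 1 := R.x_sq _ _ _
      refine ⟨a2 * R.x i k (u' * u) * a1⁻¹, mul_mem (mul_mem ma2 mz) (inv_mem ma1), ?_⟩
      rw [hc, commutatorElement_def, R.t_mul, R.t_mul, R.t_mul, R.t_inv', R.t_inv', hu, hu']
      have e1 : x * g' * x = g' * a2 := by rw [ha2]; group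
      have e2 : x' * g * x' = g * a1 := by rw [ha1]; group
      have e3 : x * x' * x = x' * R.x i k (u' * u) := xx u' u
      have e4 : x' * g⁻¹ * x' = a1⁻¹ * g⁻¹ := by
        have h1 : (x' * g * x')⁻¹ = x' * g⁻¹ * x' := by
          rw [mul_inv_rev, mul_inv_rev, hx', R.x_inv]; group
        rw [← h1, e2, mul_inv_rev]
      have c1 := cjk _ mz g hg
      have c2 := cjk _ ma2 g hg
      have c3 := cij _ ma2 g' hg'
      have c4 := cjk _ ma1 g hg
      have c5 := cij _ ma1 g' hg'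
      have c6 := cij _ mz g' hg'
      have c7 : Commute (R.x i k (u' * u)) x' := (R.x_comm (ne_neg i) n2 m4 m6 _ _)
      have c8 : Commute a2 x' := cij _ ma2 x' (D.x_mem i (neg j) u')
      calc g * x * (g' * x') * (g * x)⁻¹ * (g' * x')⁻¹
          = g * x * g' * x' * x⁻¹ * g⁻¹ * x'⁻¹ * g'⁻¹ := by group
        _ = g * x * g' * (x * x) * x' * x * g⁻¹ * x' * g'⁻¹ := by
            rw [xsq, mul_one, hx, hx', R.x_inv, R.x_inv]
        _ = g * (x * g' * x) * (x * x' * x) * g⁻¹ * x' * g'⁻¹ := by group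
        _ = g * (g' * a2) * (x' * R.x i k (u' * u)) * g⁻¹ * x' * g'⁻¹ := by rw [e1, e3]
        _ = g * g' * (a2 * (x' * R.x i k (u' * u))) * g⁻¹ * x' * g'⁻¹ := by group
        _ = g * g' * (a2 * (R.x i k (u' * u) * x')) * g⁻¹ * x' * g'⁻¹ := by rw [c7.eq]
        _ = g * g' * (a2 * R.x i k (u' * u)) * (x' * g⁻¹ * x') * g'⁻¹ := by group
        _ = g * g' * (a2 * R.x i k (u' * u)) * (a1⁻¹ * g⁻¹) * g'⁻¹ := by rw [e4]
        _ = g * g' * (a2 * R.x i k (u' * u) * a1⁻¹) * g⁻¹ * g'⁻¹ := by group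
        _ = (a2 * R.x i k (u' * u) * a1⁻¹) * (g * g') * g⁻¹ * g'⁻¹ := by
            have h1 : Commute (a2 * R.x i k (u' * u) * a1⁻¹) (g * g') :=
              (((c2.mul_left c1).mul_left c4.inv_left)).mul_right ((c3.mul_left c6).mul_left c5.inv_left)
            rw [h1.eq]
        _ = _ := by group
    have hww : w * w = 1 := D.sq hF hK.toKS hij hik hjk hw
    have hwt : R.t * w * R.t = w := by
      have h1 : R.t * (R.t * c * R.t) * R.t = c := by
        calc R.t * (R.t * c * R.t) * R.t = (R.t * R.t) * c * (R.t * R.t) := by group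
          _ = c := by rw [R.tt, one_mul, mul_one]
      rw [hwc, R.t_mul, hwc] at h1
      calc R.t * w * R.t = (R.t * w * R.t) * (w * c) * (w * c)⁻¹ := by group
        _ = c * (w * c)⁻¹ := by rw [h1]
        _ = w⁻¹ := by group
        _ = w := inv_eq_of_mul_eq_one_left hww
    obtain ⟨s, rfl⟩ := D.ker i k hik w hw hwt
    obtain ⟨m0, hm0, hm0s⟩ := D.onto i k hik s
    have m0m0 : m0 * m0 = 1 := D.sq hF hK.toKS hij hik hjk hm0
    have cm0 := cc m0 hm0
    have cxs := cc _ (D.x_mem i k s)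
    -- `c m0 ∈ C(t)`
    have ht : Commute (c * m0) R.t := by
      apply R.comm_of_t
      rw [R.t_mul, hwc, hm0s]
      calc R.x i k s * c * (m0 * R.x i k s) = R.x i k s * (c * m0) * R.x i k s := by group
        _ = (c * m0) * R.x i k s * R.x i k s := by
            rw [(cxs.mul_right (cik _ (D.x_mem i k s) _ hm0)).eq]
        _ = _ := by rw [mul_assoc, R.x_sq, mul_one]
    have fix : ∀ {z : G}, Commute c z → Commute m0 z → Commute (c * m0) z := fun h1 h2 => h1.mul_left h2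
    have triv : ∀ {z : G}, Commute g z → Commute g' z → Commute c z := by
      intro z h1 h2
      exact comm_of_conj h1 (by
        have : g'⁻¹ * z * g' = z := by rw [h2.inv_left.eq]; group
        rw [this]; exact h1)
    obtain ⟨e, f, r, s', he, h⟩ := hK.k4 i j k hij hik hjk (c * m0) ht
      (fun s => fix (triv (D.cy j k hjk g hg i s n1 n2) (D.cy i (neg j) hij' g' hg' i s (ne_neg i) (nn n4)))
        (D.cy i k hik m0 hm0 i s (ne_neg i) n2))
      (fun s => fix (triv (D.cy j k hjk g hg k s n3' (ne_neg k)) (D.cy i (neg j) hij' g' hg' k s n2' (nn n6.symm)))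
        (D.cy i k hik m0 hm0 k s n2' (ne_neg k)))
      (fun s => by
        refine fix ?_ (D.cX hik hm0 (ne_neg i) n2 n1' n3 s)
        have c1 : Commute g (R.x i j s) := D.cX hjk hg n1 n2 (ne_neg j) n3 s
        obtain ⟨f, hf⟩ := D.par' hij' hg' s
        rw [neg_neg] at hf
        exact comm_of_conj c1 (by rw [hf]; exact c1.mul_right (D.cy j k hjk g hg i f n1 n2)))
      (fun s => by
        refine fix ?_ (D.cX hik hm0 n2' (ne_neg k) m4 m6 s)
        have c1 : Commute g' (R.x k (neg j) s) := D.cX hij' hg' n2' (nn n6.symm) m4 (nn (neg_ne j)) s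
        obtain ⟨f, hf⟩ := D.par' hjk.symm (g := g) (by rw [D.symm]; exact hg) s
        exact comm_of_conj' c1 (by
          rw [hf]; exact c1.mul_right (D.cy i (neg j) hij' g' hg' k f n2' (nn n6.symm))))
      (fun l s h1 h2 h3 => fix (triv (D.cy j k hjk g hg l s h2.symm.2 h3.symm.2)
        (D.cy i (neg j) hij' g' hg' l s h1.symm.2 (nn h2.symm.1))) (D.cy i k hik m0 hm0 l s h1.symm.2 h3.symm.2))
      (fun lam l1 l2 => fix
        (triv (Commute.symm (D.torus_one j k hjk g hg lam l1))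
          (Commute.symm (D.torus_one i (neg j) hij' g' hg' lam (by rw [ev_neg, l2, mul_inv_cancel]))))
        (Commute.symm (D.torus_one i k hik m0 hm0 lam (by rw [l2, l1]))))
    refine ⟨e, f, r, R.x i k s' * m0, mul_mem (D.x_mem i k s') hm0, he, ?_⟩
    calc c = c * (m0 * m0) := by rw [m0m0, mul_one]
      _ = (c * m0) * m0 := by group
      _ = _ := by rw [h]; group
  -- equivariance
  obtain ⟨μ, hμ⟩ := hF
  obtain ⟨lam, l1, l2⟩ := exists_lam i μ
  have l3 : ev lam j * ev lam k = 1 := by rw [l2 j hij, l2 k hik, one_mul]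
  have l4 : ev lam i * ev lam (neg j) = μ := by rw [ev_neg, l1, l2 j hij, inv_one, mul_one]
  obtain ⟨g1, hg1, a, rfl⟩ := D.exists_decomp hij' hμ l4 hg'
  obtain ⟨e, f, r, m, hm, he, h⟩ := main g1 hg1
  -- the subgroup `Q`
  have xm : ∀ a, ∀ m ∈ D.W i k, Commute (R.x i (neg j) a) m := fun a m hm =>
    (cij m hm _ (D.x_mem i (neg j) a)).symm
  let Q : Subgroup G :=
    { carrier := {z | ∃ a, ∃ m ∈ D.W i k, z = R.x i (neg j) a * m}
      one_mem' := ⟨0, 1, one_mem _, by rw [R.x_zero, mul_one]⟩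
      mul_mem' := by
        rintro _ _ ⟨a, m, hm, rfl⟩ ⟨a', m', hm', rfl⟩
        refine ⟨a + a', m * m', mul_mem hm hm', ?_⟩
        rw [R.x_add]
        calc R.x i (neg j) a * m * (R.x i (neg j) a' * m')
            = R.x i (neg j) a * (m * R.x i (neg j) a') * m' := by group
          _ = R.x i (neg j) a * (R.x i (neg j) a' * m) * m' := by rw [(xm a' m hm).eq]
          _ = _ := by group
      inv_mem' := by
        rintro _ ⟨a, m, hm, rfl⟩
        exact ⟨a, m⁻¹, inv_mem hm, by rw [mul_inv_rev, R.x_inv, (xm a m hm).inv_right.eq]⟩ }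
  have memQ : ∀ {z}, z ∈ Q ↔ ∃ a, ∃ m ∈ D.W i k, z = R.x i (neg j) a * m := Iff.rfl
  have mQ : ∀ m ∈ D.W i k, m ∈ Q := fun m hm => ⟨0, m, hm, by rw [R.x_zero, one_mul]⟩
  have xQ : ∀ a, R.x i (neg j) a ∈ Q := fun a => ⟨a, 1, one_mem _, by rw [mul_one]⟩
  have het : ∀ x : G, Commute x R.t → Commute x e := fun x hx => D.comm_e he hx
  have hee : e * e = 1 := by
    rcases he with rfl | rfl
    · rw [mul_one]
    · exact R.tt
  have jkm : ∀ s, ∀ m ∈ D.W i k, Commute (R.x j k s) m := fun s m hm =>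
    (cjk m hm _ (D.x_mem j k s)).symm
  have key : ⁅g, g1 * (R.h lam * g1 * (R.h lam)⁻¹)⁆ ∈ Q := by
    refine kill (e := e) (p := R.x j k f) (q := R.x i (neg j) r * m) Q ⟨r, m, hm, rfl⟩
      h (D.torus_one j k hjk g hg lam l3) (het _ (R.h_t lam))
      (R.h_comm l3 f) hee (R.x_sq _ _ _) (het _ (R.x_t _ _ _)).symm ?_ ?_ ?_ ?_ ?_ ?_
    · rintro x ⟨a, m, hm, rfl⟩
      refine ⟨ev lam i * ev lam (neg j) * a, R.h lam * m * (R.h lam)⁻¹, D.torus i k hik m hm lam, ?_⟩
      calc R.h lam * (R.x i (neg j) a * m) * (R.h lam)⁻¹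
            = (R.h lam * R.x i (neg j) a * (R.h lam)⁻¹) * (R.h lam * m * (R.h lam)⁻¹) := by group
        _ = _ := by rw [R.h_x]
    · rintro x ⟨a, m, hm, rfl⟩
      have e1 : e * (R.x i (neg j) a * m) * e = (e * R.x i (neg j) a * e) * (e * m * e) := by
        calc e * (R.x i (neg j) a * m) * e = e * R.x i (neg j) a * 1 * m * e := by group
          _ = e * R.x i (neg j) a * (e * e) * m * e := by rw [hee]
          _ = _ := by group
      rw [e1]
      refine mul_mem ?_ (mQ _ ?_)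
      · rw [← (het _ (R.x_t i (neg j) a)).eq, mul_assoc, hee, mul_one]; exact xQ a
      · rcases he with rfl | rfl
        · rw [one_mul, mul_one]; exact hm
        · exact D.t_mem hik hm
    · rintro x ⟨a, m, hm, rfl⟩
      have e1 : R.x j k f * (R.x i (neg j) a * m) * R.x j k f =
          (R.x j k f * R.x i (neg j) a * R.x j k f) * m := by
        calc R.x j k f * (R.x i (neg j) a * m) * R.x j k f
            = R.x j k f * R.x i (neg j) a * (m * R.x j k f) := by group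
          _ = R.x j k f * R.x i (neg j) a * (R.x j k f * m) := by rw [(jkm f m hm).eq]
          _ = _ := by group
      rw [e1, xx a f]
      exact mul_mem (mul_mem (xQ a) (mQ _ (D.x_mem i k _))) (mQ _ hm)
    · rintro x ⟨a, m, hm, rfl⟩
      have c1 : Commute g1 (R.x i (neg j) a) := D.comm i (neg j) hij' g1 hg1 _ (D.x_mem i (neg j) a)
      have c2 : Commute g1 m := (cij m hm g1 hg1).symm
      rw [(c1.mul_right c2).eq, mul_inv_cancel_right]
      exact ⟨a, m, hm, rfl⟩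
    · rcases he with rfl | rfl
      · simpa using one_mem _
      · obtain ⟨u, hu⟩ := D.conj_t hij' hg1
        rw [hu]; exact xQ u
    · have h1 := w2 _ (inv_mem hg1) f
      rw [inv_inv] at h1
      have h2 : g1 * R.x j k f * g1⁻¹ * R.x j k f = g1 * (R.x j k f * g1⁻¹ * R.x j k f) := by group
      rw [h2]
      exact mQ _ h1
  -- the factor `x_{i,-j}(a)`
  have m1 := w1 g hg a
  set w := g⁻¹ * (R.x i (neg j) a * g * R.x i (neg j) a) with hw
  have hH1 : R.h lam * g1 * (R.h lam)⁻¹ ∈ D.W i (neg j) := D.torus i (neg j) hij' g1 hg1 lam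
  have c4 : R.x i (neg j) a * g * (R.x i (neg j) a)⁻¹ = g * w := by
    rw [R.x_inv, hw]; group
  rw [comm_mul_x' c4 (cjk w m1 g hg) (cij w m1 _ (mul_mem hg1 hH1))]
  exact mul_mem key (mQ _ (inv_mem m1))

/-- **120 degrees**: `[W_jk, W_{i,-j}] ≤ W_ik` -/
theorem mem120 (hF : ∃ μ : Fˣ, (μ : F) ≠ 1) (hK : KT R) {i j k : Ix n} (hij : Dj i j) (hik : Dj i k)
    (hjk : Dj j k) {g g' : G} (hg : g ∈ D.W j k) (hg' : g' ∈ D.W i (neg j)) : ⁅g, g'⁆ ∈ D.W i k := by
  obtain ⟨a, m, hm, h1⟩ := D.half120 hF hK hij hik hjk hg hg'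
  obtain ⟨b, m', hm', h2⟩ := D.half120 hF hK (i := k) (j := neg j) (k := i) (dj_neg_right.2 hjk.symm) hik.symm
    (dj_neg_left.2 hij.symm) (g := g') (g' := g) (by rw [D.symm]; exact hg') (by rw [neg_neg, D.symm]; exact hg)
  rw [neg_neg, R.x_symm k j] at h2
  rw [D.symm] at hm'
  have h3 : R.x i (neg j) a = m'⁻¹ * R.x j k b * m⁻¹ := by
    have h4 : ⁅g, g'⁆ = m'⁻¹ * R.x j k b := by
      rw [← commutatorElement_inv, h2, mul_inv_rev, R.x_inv]
    rw [← h4, h1]; group
  have n2 : i ≠ neg k := hik.2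
  have cx : ∀ m ∈ D.W i k, ∀ s, Commute m (R.x j k s) := fun m hm s =>
    D.cX hik hm hij.symm.2 hjk.2 hik.symm.2 (ne_neg k) s
  have h5 : Commute (R.x i (neg j) a) (R.x j k 1) := by
    rw [h3]
    exact ((cx _ hm' 1).inv_left.mul_left (R.x_comm (ne_neg j) hjk.2 hjk.symm.2 (ne_neg k) _ _)).mul_left
      (cx _ hm 1).inv_left
  have h6 := R.x_rel (i := i) (j := neg j) (k := k) (dj_neg_right.2 hij) (dj_neg_left.mpr hjk) hik a 1
  rw [neg_neg, h5.eq, mul_one] at h6
  have h7 : R.x i k a = 1 := by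
    calc R.x i k a = R.x i k a * (R.x j k 1 * R.x i (neg j) a) * (R.x j k 1 * R.x i (neg j) a)⁻¹ := by group
      _ = 1 := by rw [← h6]; group
  have h8 := R.x_eq_one hik h7
  rw [h1, h8, R.x_zero, one_mul]
  exact hm

end DS

end Cfsg.Agent.OddHalf.SpN

end
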