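import Mathlib
import Cfsg.Agent.OddHalf.F4.EndO
import Cfsg.Agent.OddHalf.SpN.SylU
import Cfsg.Agent.OddHalf.SpN.ShortP
import Cfsg.Agent.OddHalf.SpN.RelsOf
import Cfsg.Agent.OddHalf.SpN.ShortY
import Cfsg.Agent.OddHalf.SpN.KInst
import Cfsg.Agent.OddHalf.SpN.OutDefs

-- merged: Cfsg.Agent.OddHalf.SpN.GradeOf
section

/-!
# A graded group from a family of root groups with distinct degrees (helper200)

`P` = type of roots, `deg : P → ℕ` (0 = not positive), roots of the same positive degree give the same groups.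
-/

set_option autoImplicit false

namespace Cfsg.Agent.OddHalf.SpN.GradeOf

open Cfsg.Agent.OddHalf.F4.EndO

variable {G P : Type*} [Group G]

/-- the graded pieces -/
def Vd (deg : P → ℕ) (V : P → Subgroup G) (d : ℕ) : Subgroup G := ⨆ p : P, ⨆ _ : 0 < deg p ∧ deg p = d, V p

/-- the marked degrees -/
def lgd (deg : P → ℕ) (lg : P → Prop) (d : ℕ) : Prop := ∃ p, 0 < deg p ∧ deg p = d ∧ lg p

theorem le_Vd {deg : P → ℕ} {V : P → Subgroup G} {p : P} (h : 0 < deg p) : V p ≤ Vd deg V (deg p) :=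
  le_iSup₂_of_le (f := fun q (_ : 0 < deg q ∧ deg q = deg p) => V q) p ⟨h, rfl⟩ le_rfl

theorem Vd_eq {deg : P → ℕ} {V : P → Subgroup G} (hV : ∀ p q, 0 < deg p → deg p = deg q → V p = V q) {p : P}
    (h : 0 < deg p) : Vd deg V (deg p) = V p := by
  apply le_antisymm
  · exact iSup₂_le fun q hq => (hV q p hq.1 hq.2).le
  · exact le_Vd h

theorem Vd_bot {deg : P → ℕ} {V : P → Subgroup G} {d : ℕ} (h : ∀ p, 0 < deg p → deg p ≠ d) : Vd deg V d = ⊥ := by
  rw [eq_bot_iff]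
  exact iSup₂_le fun q hq => absurd hq.2 (h q hq.1)

theorem le_N' {deg : P → ℕ} {V : P → Subgroup G} {p : P} {h : ℕ} (hp : 0 < deg p) (hh : h ≤ deg p) :
    V p ≤ N (Vd deg V) h := (le_Vd hp).trans (le_N _ hh)

theorem le_Lg' {deg : P → ℕ} {V : P → Subgroup G} {lg : P → Prop} {p : P} {h : ℕ} (hp : 0 < deg p) (hl : lg p)
    (hh : h ≤ deg p) : V p ≤ Lg (Vd deg V) (lgd deg lg) h := (le_Vd hp).trans (le_Lg hh ⟨p, hp, rfl, hl⟩)

theorem N_eq (deg : P → ℕ) (V : P → Subgroup G) {h : ℕ} (hh : 1 ≤ h) :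
    N (Vd deg V) h = ⨆ p : P, ⨆ _ : h ≤ deg p, V p := by
  apply le_antisymm
  · refine N_le fun i hi => iSup₂_le fun p hp => ?_
    exact le_iSup₂_of_le (f := fun q (_ : h ≤ deg q) => V q) p (by rw [hp.2]; exact hi) le_rfl
  · exact iSup₂_le fun p hp => le_N' (by omega) hp

/-- The graded group. -/
theorem grd {t : G} {deg : P → ℕ} {V X : P → Subgroup G} {lg : P → Prop} {R n : ℕ}
    (hV : ∀ p q, 0 < deg p → deg p = deg q → V p = V q) (hX : ∀ p q, 0 < deg p → deg p = deg q → X p = X q)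
    (hlg : ∀ p q, 0 < deg p → deg p = deg q → lg p → lg q)
    (tt : t * t = 1)
    (conj : ∀ p, 0 < deg p → ∀ v ∈ V p, t * v * t ∈ V p)
    (sq : ∀ p, 0 < deg p → ∀ v ∈ V p, v * v = 1)
    (X_le : ∀ p, 0 < deg p → X p ≤ V p)
    (X_fix : ∀ p, 0 < deg p → ∀ x ∈ X p, t * x * t = x)
    (fix : ∀ p, 0 < deg p → ∀ v ∈ V p, t * v * t = v → v ∈ X p)
    (free : ∀ p, 0 < deg p → ¬ lg p → ∀ x ∈ X p, ∃ w ∈ V p, w⁻¹ * (t * w * t) = x)
    (lgV : ∀ p, 0 < deg p → lg p → V p ≤ X p)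
    (comm : ∀ p q, 0 < deg p → 0 < deg q → deg p ≠ deg q → ∀ v ∈ V p, ∀ w ∈ V q,
      v * w * v⁻¹ * w⁻¹ ∈ ⨆ r : P, ⨆ _ : deg p + deg q ≤ deg r, V r)
    (lcomm : ∀ p q, 0 < deg p → 0 < deg q → deg p ≠ deg q → lg p → lg q → ∀ v ∈ X p, ∀ w ∈ X q,
      v * w * v⁻¹ * w⁻¹ ∈ ⨆ r : P, ⨆ _ : deg p + deg q ≤ deg r ∧ lg r, X r)
    (top : ∀ p, deg p ≤ n)
    (indep : ∀ p, 0 < deg p → X p ⊓ (⨆ r : P, ⨆ _ : deg p + 1 ≤ deg r, X r) = ⊥)
    (lR : ∀ p, 0 < deg p → lg p → deg p ≤ R) :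
    Grd t (Vd deg V) (Vd deg X) (lgd deg lg) R n := by
  have cases : ∀ d : ℕ, (∃ p, 0 < deg p ∧ deg p = d) ∨ (∀ p, 0 < deg p → deg p ≠ d) := by
    intro d
    by_cases h : ∃ p, 0 < deg p ∧ deg p = d
    · exact Or.inl h
    · right
      intro p hp he
      exact h ⟨p, hp, he⟩
  have hlg' : ∀ p, 0 < deg p → (lgd deg lg (deg p) ↔ lg p) := by
    intro p hp
    constructor
    · rintro ⟨q, hq, he, hl⟩
      exact hlg q p hq he hl
    · intro hl
      exact ⟨p, hp, rfl, hl⟩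
  refine ⟨tt, ?_, ?_, ?_, ?_, ?_, ?_, ?_, ?_, ?_, ?_, ?_, ?_⟩
  · intro d v hv
    rcases cases d with ⟨p, hp, rfl⟩ | h
    · rw [Vd_eq hV hp] at hv ⊢
      exact conj p hp v hv
    · rw [Vd_bot h, Subgroup.mem_bot] at hv ⊢
      rw [hv, mul_one, tt]
  · intro d v hv
    rcases cases d with ⟨p, hp, rfl⟩ | h
    · rw [Vd_eq hV hp] at hv
      exact sq p hp v hv
    · rw [Vd_bot h, Subgroup.mem_bot] at hv
      rw [hv, mul_one]
  · intro d
    rcases cases d with ⟨p, hp, rfl⟩ | h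
    · rw [Vd_eq hV hp, Vd_eq hX hp]
      exact X_le p hp
    · rw [Vd_bot h]; exact bot_le
  · intro d v hv
    rcases cases d with ⟨p, hp, rfl⟩ | h
    · rw [Vd_eq hX hp] at hv
      exact X_fix p hp v hv
    · rw [Vd_bot h, Subgroup.mem_bot] at hv
      rw [hv, mul_one, tt]
  · intro d v hv hf
    rcases cases d with ⟨p, hp, rfl⟩ | h
    · rw [Vd_eq hV hp] at hv
      rw [Vd_eq hX hp]
      exact fix p hp v hv hf
    · rw [Vd_bot h, Subgroup.mem_bot] at hv
      rw [hv]; exact one_mem _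
  · intro d hl x hx
    rcases cases d with ⟨p, hp, rfl⟩ | h
    · rw [Vd_eq hX hp] at hx
      rw [Vd_eq hV hp]
      exact free p hp (fun h => hl ((hlg' p hp).2 h)) x hx
    · rw [Vd_bot h, Subgroup.mem_bot] at hx
      exact ⟨1, one_mem _, by rw [hx, mul_one, tt, inv_one, one_mul]⟩
  · intro d hl
    rcases cases d with ⟨p, hp, rfl⟩ | h
    · rw [Vd_eq hV hp, Vd_eq hX hp]
      exact lgV p hp ((hlg' p hp).1 hl)
    · rw [Vd_bot h]; exact bot_le
  · intro d e hd he hne v hv w hw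
    rcases cases d with ⟨p, hp, rfl⟩ | h
    · rcases cases e with ⟨q, hq, rfl⟩ | h'
      · rw [Vd_eq hV hp] at hv
        rw [Vd_eq hV hq] at hw
        rw [N_eq deg V (by omega)]
        exact comm p q hp hq hne v hv w hw
      · rw [Vd_bot h', Subgroup.mem_bot] at hw
        rw [hw, mul_one, inv_one, mul_one, mul_inv_cancel]; exact one_mem _
    · rw [Vd_bot h, Subgroup.mem_bot] at hv
      rw [hv, one_mul, inv_one, mul_one, mul_inv_cancel]; exact one_mem _
  · intro d e hd he hne hld hle v hv w hw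
    rcases cases d with ⟨p, hp, rfl⟩ | h
    · rcases cases e with ⟨q, hq, rfl⟩ | h'
      · rw [Vd_eq hX hp] at hv
        rw [Vd_eq hX hq] at hw
        have h1 : (⨆ r : P, ⨆ _ : deg p + deg q ≤ deg r ∧ lg r, X r) ≤ Lg (Vd deg X) (lgd deg lg) (deg p + deg q) :=
          iSup₂_le fun r hr => le_Lg' (by omega) hr.2 hr.1
        exact h1 (lcomm p q hp hq hne ((hlg' p hp).1 hld) ((hlg' q hq).1 hle) v hv w hw)
      · rw [Vd_bot h', Subgroup.mem_bot] at hw
        rw [hw, mul_one, inv_one, mul_one, mul_inv_cancel]; exact one_mem _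
    · rw [Vd_bot h, Subgroup.mem_bot] at hv
      rw [hv, one_mul, inv_one, mul_one, mul_inv_cancel]; exact one_mem _
  · intro d hd
    apply Vd_bot
    intro p _ he
    have := top p
    omega
  · intro d hd
    rcases cases d with ⟨p, hp, rfl⟩ | h
    · rw [Vd_eq hX hp, N_eq deg X (by omega)]
      exact indep p hp
    · rw [Vd_bot h, bot_inf_eq]
  · rintro d ⟨p, hp, rfl, hl⟩
    exact lR p hp hl

end Cfsg.Agent.OddHalf.SpN.GradeOf

end

-- merged: Cfsg.Agent.OddHalf.SpN.PosGrp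
section

/-!
# The root groups of a frame as a graded family, roots = pairs `(i, j)` (helper200)

`XP R (i, i) = Y_i`, `XP R (i, j) = X_ij`; degree functions `dgB`, `dgC`.
-/

set_option autoImplicit false

namespace Cfsg.Agent.OddHalf.SpN

open Cfsg.Agent.OddHalf.F4.EndO

variable {n : ℕ} {F : Type*} [Field F] {G : Type*} [Group G]

set_option maxHeartbeats 400000

theorem le_iSupP {P : Type*} {V : P → Subgroup G} {S : P → Prop} {r : P} (h : S r) :
    V r ≤ ⨆ q, ⨆ _ : S q, V q := le_iSup₂_of_le (f := fun q (_ : S q) => V q) r h le_rfl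

theorem iSupP_mono {P : Type*} {V : P → Subgroup G} {S S' : P → Prop} (h : ∀ r, S r → S' r) :
    (⨆ q, ⨆ _ : S q, V q) ≤ ⨆ q, ⨆ _ : S' q, V q := iSup₂_le fun r hr => le_iSupP (S := S') (h r hr)

/-- pairs of signed indices -/
abbrev PP (n : ℕ) : Type := Ix n × Ix n

/-- degree as a natural number -/
def dN (dg : Ix n → Ix n → ℤ) (p : PP n) : ℕ := (dg p.1 p.2).toNat

theorem dN_pos {dg : Ix n → Ix n → ℤ} {p : PP n} : 0 < dN dg p ↔ 0 < dg p.1 p.2 := by
  unfold dN; omega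

theorem dN_le {dg : Ix n → Ix n → ℤ} {p : PP n} {d : ℕ} (hd : 0 < d) : d ≤ dN dg p ↔ (d : ℤ) ≤ dg p.1 p.2 := by
  unfold dN; omega

theorem dN_cast {dg : Ix n → Ix n → ℤ} {p : PP n} (h : 0 < dg p.1 p.2) : (dN dg p : ℤ) = dg p.1 p.2 := by
  unfold dN; omega

theorem dgB_ii (i : Ix n) : dgB i i = Fd i := if_pos rfl

theorem dgB_ij {i j : Ix n} (h : i ≠ j) : dgB i j = Fd i + Fd j := if_neg h

theorem dj_of_dgB {i j : Ix n} (h : i ≠ j) (hp : 0 < dgB i j) : Dj i j := by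
  refine ⟨h, fun e => ?_⟩
  rw [dgB_ij h, e, Fd_neg] at hp
  omega

theorem dj_of_dgC {i j : Ix n} (h : i ≠ j) (hp : 0 < dgC i j) : Dj i j := by
  refine ⟨h, fun e => ?_⟩
  unfold dgC at hp
  rw [e, Fd_neg] at hp
  omega

/-- the same positive degree: the same root -/
theorem uniqB {p q : PP n} (hp : 0 < dgB p.1 p.2) (h : dgB p.1 p.2 = dgB q.1 q.2) : p = q ∨ p = (q.2, q.1) := by
  obtain ⟨i, j⟩ := p
  obtain ⟨k, l⟩ := q
  simp only at hp h ⊢
  by_cases h1 : i = j
  · subst h1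
    by_cases h2 : k = l
    · subst h2
      rw [dgB_ii, dgB_ii] at h
      rw [Fd_inj h]
      exact Or.inl rfl
    · rw [dgB_ii, dgB_ij h2] at h
      exact absurd h Fd_ne_two
  · have d1 := dj_of_dgB h1 hp
    rw [h] at hp
    by_cases h2 : k = l
    · subst h2
      rw [dgB_ij h1, dgB_ii] at h
      exact absurd h.symm Fd_ne_two
    · have d2 := dj_of_dgB h2 hp
      rw [dgB_ij h1, dgB_ij h2] at h
      rcases Fd_two d1 d2 h with ⟨e1, e2⟩ | ⟨e1, e2⟩
      · left; rw [e1, e2]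
      · right; rw [e1, e2]

theorem uniqC {p q : PP n} (hp : 0 < dgC p.1 p.2) (h : dgC p.1 p.2 = dgC q.1 q.2) : p = q ∨ p = (q.2, q.1) := by
  obtain ⟨i, j⟩ := p
  obtain ⟨k, l⟩ := q
  simp only at hp h ⊢
  by_cases h1 : i = j
  · subst h1
    by_cases h2 : k = l
    · subst h2
      unfold dgC at h
      have : Fd i = Fd k := by omega
      rw [Fd_inj this]
      exact Or.inl rfl
    · rw [h] at hp
      have d2 := dj_of_dgC h2 hp
      exact absurd h (two_Fd_ne d2)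
  · have d1 := dj_of_dgC h1 hp
    rw [h] at hp
    by_cases h2 : k = l
    · subst h2
      exact absurd h.symm (two_Fd_ne d1)
    · have d2 := dj_of_dgC h2 hp
      rcases Fd_two d1 d2 h with ⟨e1, e2⟩ | ⟨e1, e2⟩
      · left; rw [e1, e2]
      · right; rw [e1, e2]

namespace Frame

variable [CharP F 2] (R : Frame n F G)

/-- the root groups -/
def XP (p : PP n) : Subgroup G := open Classical in if p.1 = p.2 then R.ys p.1 else R.xs p.1 p.2

theorem XP_ii (i : Ix n) : R.XP (i, i) = R.ys i := if_pos rfl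

theorem XP_ij {i j : Ix n} (h : i ≠ j) : R.XP (i, j) = R.xs i j := if_neg h

theorem xs_symm (i j : Ix n) : R.xs i j = R.xs j i := by
  ext x
  rw [mem_xs, mem_xs]
  constructor <;> rintro ⟨a, rfl⟩ <;> exact ⟨a, R.x_symm _ _ _⟩

theorem XP_symm (i j : Ix n) : R.XP (i, j) = R.XP (j, i) := by
  by_cases h : i = j
  · subst h; rfl
  · rw [R.XP_ij h, R.XP_ij (Ne.symm h), R.xs_symm]

theorem XP_fix {p : PP n} {x : G} (hx : x ∈ R.XP p) : R.t * x * R.t = x := by
  have hc : Commute R.t x := by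
    unfold XP at hx
    split_ifs at hx with h
    · obtain ⟨a, rfl⟩ := hx; exact (R.y_t _ _).symm
    · obtain ⟨a, rfl⟩ := hx; exact (R.x_t _ _ _).symm
  rw [hc.eq, mul_assoc, R.tt, mul_one]

theorem XP_sq {p : PP n} {x : G} (hx : x ∈ R.XP p) : x * x = 1 := by
  unfold XP at hx
  split_ifs at hx with h
  · obtain ⟨a, rfl⟩ := hx; exact R.y_sq _ _
  · obtain ⟨a, rfl⟩ := hx; exact R.x_sq _ _ _

/-- commutators of short root elements at positive degrees -/
theorem comm_xx {i j k l : Ix n} (hij : Dj i j) (hkl : Dj k l) (hp : 0 < Fd i + Fd j) (hq : 0 < Fd k + Fd l)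
    (a b : F) : R.x i j a * R.x k l b * (R.x i j a)⁻¹ * (R.x k l b)⁻¹ = 1 ∨
      ∃ r s c, Dj r s ∧ Fd r + Fd s = (Fd i + Fd j) + (Fd k + Fd l) ∧
        R.x i j a * R.x k l b * (R.x i j a)⁻¹ * (R.x k l b)⁻¹ = R.x r s c := by
  -- one opposite pair of indices: `k = -j`
  have aux : ∀ i j l : Ix n, Dj i j → Dj (neg j) l → 0 < Fd i + Fd j → 0 < Fd (neg j) + Fd l → ∀ a b : F,
      R.x i j a * R.x (neg j) l b * (R.x i j a)⁻¹ * (R.x (neg j) l b)⁻¹ = 1 ∨
      ∃ r s c, Dj r s ∧ Fd r + Fd s = (Fd i + Fd j) + (Fd (neg j) + Fd l) ∧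
        R.x i j a * R.x (neg j) l b * (R.x i j a)⁻¹ * (R.x (neg j) l b)⁻¹ = R.x r s c := by
    intro i j l hij hjl hp hq a b
    have hjl' : Dj j l := dj_neg_left.1 hjl
    rw [Fd_neg] at hq
    have hil : i ≠ neg l := by
      intro e
      rw [e, Fd_neg] at hp
      omega
    by_cases e1 : i = l
    · left
      subst e1
      have hc : Commute (R.x i j a) (R.x (neg j) i b) := by
        rw [R.x_symm i j]
        exact R.x_comm' a b
      rw [hc.eq]; group
    · right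
      refine ⟨i, l, a * b, ⟨e1, hil⟩, by rw [Fd_neg]; ring, ?_⟩
      rw [R.x_rel hij hjl' ⟨e1, hil⟩]
      group
  by_cases h1 : k = neg j
  · subst h1; exact aux i j l hij hkl hp hq a b
  by_cases h2 : k = neg i
  · subst h2
    rw [R.x_symm i j, add_comm (Fd i)]
    exact aux j i l hij.symm hkl (by omega) hq a b
  by_cases h3 : l = neg j
  · subst h3
    rw [R.x_symm k, add_comm (Fd k)]
    exact aux i j k hij hkl.symm hp (by omega) a b
  by_cases h4 : l = neg i
  · subst h4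
    rw [R.x_symm k, add_comm (Fd k), R.x_symm i j, add_comm (Fd i)]
    exact aux j i k hij.symm hkl.symm (by omega) (by omega) a b
  left
  have hc : Commute (R.x i j a) (R.x k l b) := R.x_comm h2 h1 h4 h3 a b
  rw [hc.eq]; group

/-- the group of the root groups of degree `≥ d` -/
theorem map_Ud {dg : Ix n → Ix n → ℤ} (hdg : DegOk dg) (hs : ∀ i j, dg i j = dg j i)
    (hdj : ∀ i j, i ≠ j → 0 < dg i j → Dj i j) {d : ℕ} (hd : 0 < d) :
    (⨆ r : PP n, ⨆ _ : d ≤ dN dg r, R.XP r) ≤ (Ud hdg (d : ℤ) (by exact_mod_cast hd)).map R.ι := by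
  refine iSup₂_le fun r hr => ?_
  rw [dN_le hd] at hr
  obtain ⟨i, j⟩ := r
  intro x hx
  unfold XP at hx
  simp only at hx hr
  split_ifs at hx with h
  · obtain ⟨a, rfl⟩ := hx
    subst h
    exact ⟨_, sy_mem_Ud hdg (by omega) hr a, rfl⟩
  · obtain ⟨a, rfl⟩ := hx
    exact ⟨_, sx_mem_Ud hdg hs (by omega) (hdj i j h (by omega)) hr a, rfl⟩

/-- independence of the root groups -/
theorem indepP {dg : Ix n → Ix n → ℤ} (hdg : DegOk dg) (hs : ∀ i j, dg i j = dg j i)
    (hdj : ∀ i j, i ≠ j → 0 < dg i j → Dj i j) {p : PP n} (hp : 0 < dN dg p) :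
    R.XP p ⊓ (⨆ r : PP n, ⨆ _ : dN dg p + 1 ≤ dN dg r, R.XP r) = ⊥ := by
  rw [eq_bot_iff]
  rintro x ⟨hx, hx'⟩
  have h1 := R.map_Ud hdg hs hdj (d := dN dg p + 1) (by omega) hx'
  obtain ⟨A, hA, hAx⟩ := h1
  rw [dN_pos] at hp
  have hc := dN_cast hp
  obtain ⟨i, j⟩ := p
  unfold XP at hx
  simp only at hx hp hc
  rw [Subgroup.mem_bot]
  split_ifs at hx with h
  · obtain ⟨a, rfl⟩ := hx
    subst h
    have e1 : A = sy i a := R.inj hAx
    subst e1
    have := sy_eq_zero hdg _ (by push_cast; omega) hA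
    rw [this, R.y_zero]
  · obtain ⟨a, rfl⟩ := hx
    have e1 : A = sx i j a := R.inj hAx
    subst e1
    have := sx_eq_zero hdg _ (hdj i j h hp) (by push_cast; omega) hA
    rw [this, R.x_zero]

/-- the positive root groups generate a subgroup of `K` -/
theorem N_XP_le_K (dg : Ix n → Ix n → ℤ) : N (GradeOf.Vd (dN dg) R.XP) 1 ≤ R.K := by
  rw [GradeOf.N_eq _ _ le_rfl]
  refine iSup₂_le fun r _ => ?_
  intro x hx
  unfold XP at hx
  split_ifs at hx with h
  · obtain ⟨a, rfl⟩ := hx; exact R.y_mem_K _ _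
  · obtain ⟨a, rfl⟩ := hx; exact R.x_mem_K _ _ _

/-- the positive unipotent group -/
def UpP : Subgroup G := ⨆ p : PP n, ⨆ _ : 0 < Fd p.1 + Fd p.2, R.XP p

theorem N_XP_of (dg : Ix n → Ix n → ℤ) (key : ∀ r : PP n, 0 < dg r.1 r.2 ↔ 0 < Fd r.1 + Fd r.2) :
    N (GradeOf.Vd (dN dg) R.XP) 1 = R.UpP := by
  rw [GradeOf.N_eq _ _ le_rfl]
  apply le_antisymm
  · exact iSupP_mono fun r hr => (key r).1 (dN_pos.1 hr)
  · exact iSupP_mono fun r hr => dN_pos.2 ((key r).2 hr)

theorem N_XP_C : N (GradeOf.Vd (dN dgC) R.XP) 1 = R.UpP := R.N_XP_of dgC fun _ => Iff.rfl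

theorem N_XP_B : N (GradeOf.Vd (dN dgB) R.XP) 1 = R.UpP := by
  refine R.N_XP_of dgB fun r => ?_
  by_cases h : r.1 = r.2
  · rw [← h, dgB_ii]; constructor <;> intro h <;> omega
  · rw [dgB_ij h]

end Frame

end Cfsg.Agent.OddHalf.SpN

end

-- merged: Cfsg.Agent.OddHalf.SpN.EndS
section

/-!
# END of the pattern (0,O) = `{s}` for `Sp_2n(q)` (helper200)

`DataSE R W`: the doubles `W i j` of the short root groups with all their relations; long root elements are not moved.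
`DataSE.exists_hom`: a homomorphism `G → {±1}` with `t ↦ -1`.
-/

set_option autoImplicit false
set_option maxHeartbeats 400000

namespace Cfsg.Agent.OddHalf.SpN

open Cfsg.Agent.OddHalf.F4.EndO

variable {n : ℕ} {F : Type*} [Field F] {G : Type*} [Group G] [CharP F 2]

/-- Input of the end of pattern `{s}`. -/
structure DataSE (R : Frame n F G) (W : Ix n → Ix n → Subgroup G) : Prop where
  symm : ∀ i j, W i j = W j i
  xW : ∀ i j, Dj i j → ∀ a, R.x i j a ∈ W i j
  sq : ∀ i j, Dj i j → ∀ w ∈ W i j, w * w = 1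
  d : ∀ i j, Dj i j → ∀ w ∈ W i j, ∃ a, R.t * w * R.t = w * R.x i j a
  onto : ∀ i j, Dj i j → ∀ a, ∃ w ∈ W i j, R.t * w * R.t = w * R.x i j a
  fix : ∀ i j, Dj i j → ∀ w ∈ W i j, R.t * w * R.t = w → ∃ a, w = R.x i j a
  cy : ∀ i j k, Dj i j → k ≠ neg i → k ≠ neg j → ∀ w ∈ W i j, ∀ a, Commute w (R.y k a)
  w60 : ∀ i j k, Dj i j → Dj i k → Dj j k → ∀ w ∈ W i j, ∀ w' ∈ W i k, Commute w w'
  w90 : ∀ i j k l, Dj i j → Dj i k → Dj i l → Dj j k → Dj j l → Dj k l → ∀ w ∈ W i j, ∀ w' ∈ W k l, Commute w w'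
  par : ∀ i j, Dj i j → ∀ w ∈ W i j, ∀ w' ∈ W i (neg j), ∃ a, w * w' * w⁻¹ * w'⁻¹ = R.y i a
  w120 : ∀ i j k, Dj i j → Dj i k → Dj j k → ∀ w ∈ W j k, ∀ w' ∈ W i (neg j), w * w' * w⁻¹ * w'⁻¹ ∈ W i k
  yw : ∀ i j, Dj i j → ∀ w ∈ W i (neg j), ∀ v, ∃ w' ∈ W i j, ∃ a, R.y j v * w * R.y j v = w * w' * R.y i a
  nm : ∀ i a, a ≠ 0 → ¬ IsConj R.t (R.t * R.y i a)

/-- the pieces: short doubled, long not -/
def VS (R : Frame n F G) (W : Ix n → Ix n → Subgroup G) (p : PP n) : Subgroup G :=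
  open Classical in if p.1 = p.2 then R.ys p.1 else W p.1 p.2

theorem VS_ii (R : Frame n F G) (W : Ix n → Ix n → Subgroup G) (i : Ix n) : VS R W (i, i) = R.ys i := if_pos rfl

theorem VS_ij (R : Frame n F G) (W : Ix n → Ix n → Subgroup G) {i j : Ix n} (h : i ≠ j) : VS R W (i, j) = W i j :=
  if_neg h

omit [CharP F 2] in
theorem dNC {i j : Ix n} (h : 0 < Fd i + Fd j) : (dN dgC (i, j) : ℤ) = Fd i + Fd j := dN_cast (p := (i, j)) h

namespace DataSE

variable {R : Frame n F G} {W : Ix n → Ix n → Subgroup G}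

theorem VS_symm (h : DataSE R W) (i j : Ix n) : VS R W (i, j) = VS R W (j, i) := by
  by_cases hij : i = j
  · subst hij; rfl
  · rw [VS_ij R W hij, VS_ij R W (Ne.symm hij), h.symm]

/-- commutators of the doubles at positive degrees -/
theorem comm_ww (h : DataSE R W) {i j k l : Ix n} (hij : Dj i j) (hkl : Dj k l) (hp : 0 < Fd i + Fd j)
    (hq : 0 < Fd k + Fd l) (hne : Fd i + Fd j ≠ Fd k + Fd l) {w w' : G} (hw : w ∈ W i j) (hw' : w' ∈ W k l) :
    w * w' * w⁻¹ * w'⁻¹ = 1 ∨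
      ∃ r s, Fd r + Fd s = (Fd i + Fd j) + (Fd k + Fd l) ∧ w * w' * w⁻¹ * w'⁻¹ ∈ VS R W (r, s) := by
  -- one opposite pair: `k = -j`
  have aux : ∀ i j l : Ix n, Dj i j → Dj (neg j) l → 0 < Fd i + Fd j → 0 < Fd (neg j) + Fd l →
      ∀ w ∈ W i j, ∀ w' ∈ W (neg j) l,
      ∃ r s, Fd r + Fd s = (Fd i + Fd j) + (Fd (neg j) + Fd l) ∧ w * w' * w⁻¹ * w'⁻¹ ∈ VS R W (r, s) := by
    intro i j l hij hjl hp hq w hw w' hw'
    have hjl' : Dj j l := dj_neg_left.1 hjl
    rw [Fd_neg] at hq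
    by_cases e1 : i = l
    · subst e1
      rw [h.symm (neg j) i] at hw'
      obtain ⟨a, ha⟩ := h.par i j hij w hw w' hw'
      refine ⟨i, i, by rw [Fd_neg]; ring, ?_⟩
      rw [VS_ii, ha]; exact ⟨a, rfl⟩
    · have hil : Dj i l := ⟨e1, fun e => by rw [e, Fd_neg] at hp; omega⟩
      refine ⟨i, l, by rw [Fd_neg]; ring, ?_⟩
      rw [VS_ij R W e1]
      -- `w ∈ W i j = W j i`, `w' ∈ W (-j) l = W l (-j)`
      rw [h.symm] at hw hw'
      have := h.w120 l j i hjl'.symm hil.symm hij.symm w hw w' hw'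
      rw [h.symm]; exact this
  by_cases h1 : k = neg j
  · subst h1; exact Or.inr (aux i j l hij hkl hp hq w hw w' hw')
  by_cases h2 : k = neg i
  · subst h2
    obtain ⟨r, s, h3, h4⟩ := aux j i l hij.symm hkl (by omega) hq w (by rw [h.symm]; exact hw) w' hw'
    exact Or.inr ⟨r, s, by omega, h4⟩
  by_cases h3 : l = neg j
  · subst h3
    obtain ⟨r, s, h4, h5⟩ := aux i j k hij hkl.symm hp (by omega) w hw w' (by rw [h.symm]; exact hw')
    exact Or.inr ⟨r, s, by omega, h5⟩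
  by_cases h4 : l = neg i
  · subst h4
    obtain ⟨r, s, h5, h6⟩ := aux j i k hij.symm hkl.symm (by omega) (by omega) w (by rw [h.symm]; exact hw) w'
      (by rw [h.symm]; exact hw')
    exact Or.inr ⟨r, s, by omega, h6⟩
  -- no opposite pair: commute
  have hc : Commute w w' := by
    have n1 : i ≠ neg k := fun e => h2 (by rw [e, neg_neg])
    have n2 : i ≠ neg l := fun e => h4 (by rw [e, neg_neg])
    have n3 : j ≠ neg k := fun e => h1 (by rw [e, neg_neg])
    have n4 : j ≠ neg l := fun e => h3 (by rw [e, neg_neg])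
    by_cases e1 : i = k
    · subst e1
      have e2 : j ≠ l := fun e => hne (by rw [e])
      exact h.w60 i j l hij hkl ⟨e2, n4⟩ w hw w' hw'
    by_cases e2 : i = l
    · subst e2
      have e3 : j ≠ k := fun e => hne (by rw [e, add_comm])
      rw [h.symm k i] at hw'
      exact h.w60 i j k hij hkl.symm ⟨e3, n3⟩ w hw w' hw'
    by_cases e3 : j = k
    · subst e3
      rw [h.symm i j] at hw
      exact h.w60 j i l hij.symm hkl ⟨e2, n2⟩ w hw w' hw'
    by_cases e4 : j = l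
    · subst e4
      rw [h.symm i j] at hw
      rw [h.symm k j] at hw'
      exact h.w60 j i k hij.symm hkl.symm ⟨e1, n1⟩ w hw w' hw'
    exact h.w90 i j k l hij ⟨e1, n1⟩ ⟨e2, n2⟩ ⟨e3, n3⟩ ⟨e4, n4⟩ hkl w hw w' hw'
  left
  rw [hc.eq]; group

/-- commutators `[y, w]` at positive degrees -/
theorem comm_yw (h : DataSE R W) {k i j : Ix n} (hij : Dj i j) (hk : 0 < Fd k) (hp : 0 < Fd i + Fd j)
    {w : G} (hw : w ∈ W i j) (v : F) : R.y k v * w * (R.y k v)⁻¹ * w⁻¹ ∈
      ⨆ r : PP n, ⨆ _ : dN dgC (k, k) + dN dgC (i, j) ≤ dN dgC r, VS R W r := by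
  have key : ∀ k j : Ix n, Dj (neg k) j → 0 < Fd k → 0 < Fd (neg k) + Fd j → ∀ w ∈ W (neg k) j,
      R.y k v * w * (R.y k v)⁻¹ * w⁻¹ ∈ 
        ⨆ r : PP n, ⨆ _ : dN dgC (k, k) + dN dgC (neg k, j) ≤ dN dgC r, VS R W r := by
    intro k j hkj hk hp w hw
    have hkj' : Dj k j := dj_neg_left.1 hkj
    rw [h.symm] at hw
    obtain ⟨w', hw', a, e1⟩ := h.yw j k hkj'.symm w hw v
    have hw1 : w⁻¹ = w := inv_eq_of_mul_eq_one_left (h.sq j (neg k) hkj.symm w hw)
    have hww' : ∃ b, w * w' * w⁻¹ * w'⁻¹ = R.y j b := by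
      obtain ⟨b, hb⟩ := h.par j k hkj'.symm w' hw' w hw
      refine ⟨b, ?_⟩
      have : w * w' * w⁻¹ * w'⁻¹ = (w' * w * w'⁻¹ * w⁻¹)⁻¹ := by group
      rw [this, hb, R.y_inv]
    obtain ⟨b, hb⟩ := hww'
    have hc : Commute w (R.y j a) := h.cy j (neg k) j hkj.symm (ne_neg j) (by rw [neg_neg]; exact hkj'.1.symm) w hw a
    have e2 : R.y k v * w * (R.y k v)⁻¹ * w⁻¹ = R.y j b * w' * R.y j a := by
      calc R.y k v * w * (R.y k v)⁻¹ * w⁻¹ = w * w' * R.y j a * w⁻¹ := by rw [R.y_inv, e1]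
        _ = w * w' * (w⁻¹ * R.y j a) := by rw [mul_assoc, hc.inv_left.eq]
        _ = (w * w' * w⁻¹ * w'⁻¹) * w' * R.y j a := by group
        _ = R.y j b * w' * R.y j a := by rw [hb]
    rw [e2]
    rw [Fd_neg] at hp
    have n1 : (dN dgC (k, k) : ℤ) = Fd k + Fd k := dNC (by omega)
    have n2 : (dN dgC (neg k, j) : ℤ) = -Fd k + Fd j := by rw [dNC (by rw [Fd_neg]; omega), Fd_neg]
    have n3 : (dN dgC (j, j) : ℤ) = Fd j + Fd j := dNC (by omega)
    have n4 : (dN dgC (j, k) : ℤ) = Fd j + Fd k := dNC (by omega)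
    have m1 : ∀ b, R.y j b ∈ VS R W (j, j) := fun b => by rw [VS_ii]; exact ⟨b, rfl⟩
    have m2 : w' ∈ VS R W (j, k) := by rw [VS_ij R W hkj'.1.symm]; exact hw'
    refine mul_mem (mul_mem ?_ ?_) ?_
    · exact le_iSupP (r := (j, j)) (S := fun r => dN dgC (k, k) + dN dgC (neg k, j) ≤ dN dgC r) (by omega) (m1 b)
    · exact le_iSupP (r := (j, k)) (S := fun r => dN dgC (k, k) + dN dgC (neg k, j) ≤ dN dgC r) (by omega) m2
    · exact le_iSupP (r := (j, j)) (S := fun r => dN dgC (k, k) + dN dgC (neg k, j) ≤ dN dgC r) (by omega) (m1 a)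
  by_cases h1 : i = neg k
  · subst h1; exact key k j hij hk hp w hw
  by_cases h2 : j = neg k
  · subst h2
    have h3 := key k i hij.symm hk (by omega) w (by rw [h.symm]; exact hw)
    have h4 : dN dgC (i, neg k) = dN dgC (neg k, i) := by unfold dN; rw [dgC_symm]
    rw [h4]; exact h3
  have hc : Commute w (R.y k v) := h.cy i j k hij (fun e => h1 (by rw [e, neg_neg])) (fun e => h2 (by rw [e, neg_neg]))
    w hw v
  have : R.y k v * w * (R.y k v)⁻¹ * w⁻¹ = 1 := by rw [← hc.eq]; group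
  rw [this]; exact one_mem _

theorem grdS (h : DataSE R W) :
    Grd R.t (GradeOf.Vd (dN dgC) (VS R W)) (GradeOf.Vd (dN dgC) R.XP)
      (GradeOf.lgd (dN dgC) fun p : PP n => p.1 = p.2) (2 * 5 ^ n) (2 * 5 ^ n) := by
  have uniq : ∀ p q : PP n, 0 < dN dgC p → dN dgC p = dN dgC q → p = q ∨ p = (q.2, q.1) := by
    intro p q hp hpq
    have h1 := dN_pos.1 hp
    have h2 := dN_pos.1 (hpq ▸ hp)
    refine uniqC h1 ?_
    rw [← dN_cast h1, ← dN_cast h2, hpq]
  have hle : ∀ p : PP n, dN dgC p ≤ 2 * 5 ^ n := by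
    rintro ⟨i, j⟩
    have h1 : Fd i ≤ 5 ^ n := by
      rcases Fd_cases i with h | h
      · rw [h]; exact pow_le_pow_right₀ (by norm_num) (by unfold ex; omega)
      · rw [h]
        have h1 := pow_pos (show (0 : ℤ) < 5 by norm_num) (ex i)
        have h2 := pow_pos (show (0 : ℤ) < 5 by norm_num) n
        linarith
    have h2 : Fd j ≤ 5 ^ n := by
      rcases Fd_cases j with h | h
      · rw [h]; exact pow_le_pow_right₀ (by norm_num) (by unfold ex; omega)
      · rw [h]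
        have h1 := pow_pos (show (0 : ℤ) < 5 by norm_num) (ex j)
        have h2 := pow_pos (show (0 : ℤ) < 5 by norm_num) n
        linarith
    have h4 : dgC i j ≤ 2 * 5 ^ n := by unfold dgC; linarith
    have : ((2 * 5 ^ n : ℕ) : ℤ) = 2 * 5 ^ n := by push_cast; rfl
    unfold dN
    simp only
    have h5 := pow_pos (show (0 : ℤ) < 5 by norm_num) n
    omega
  refine GradeOf.grd ?_ ?_ ?_ R.tt ?_ ?_ ?_ ?_ ?_ ?_ ?_ ?_ ?_ ?_ ?_ ?_
  · intro p q hp hpq
    rcases uniq p q hp hpq with rfl | rfl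
    · rfl
    · exact h.VS_symm _ _
  · intro p q hp hpq
    rcases uniq p q hp hpq with rfl | rfl
    · rfl
    · exact R.XP_symm _ _
  · intro p q hp hpq hl
    rcases uniq p q hp hpq with rfl | rfl
    · exact hl
    · exact Eq.symm hl
  · rintro ⟨i, j⟩ hp v hv
    by_cases hij : i = j
    · subst hij
      have hx := hv
      rw [VS_ii, ← R.XP_ii] at hx
      rw [R.XP_fix hx]; exact hv
    · have hd := dj_of_dgC hij (dN_pos.1 hp)
      rw [VS_ij R W hij] at hv ⊢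
      obtain ⟨a, ha⟩ := h.d i j hd v hv
      rw [ha]; exact mul_mem hv (h.xW i j hd a)
  · rintro ⟨i, j⟩ hp v hv
    by_cases hij : i = j
    · subst hij
      rw [VS_ii, ← R.XP_ii] at hv
      exact R.XP_sq hv
    · have hd := dj_of_dgC hij (dN_pos.1 hp)
      rw [VS_ij R W hij] at hv
      exact h.sq i j hd v hv
  · rintro ⟨i, j⟩ hp
    by_cases hij : i = j
    · subst hij
      rw [VS_ii, R.XP_ii]
    · have hd := dj_of_dgC hij (dN_pos.1 hp)
      rw [VS_ij R W hij, R.XP_ij hij]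
      rintro _ ⟨a, rfl⟩
      exact h.xW i j hd a
  · intro p hp x hx
    exact R.XP_fix hx
  · rintro ⟨i, j⟩ hp v hv hf
    by_cases hij : i = j
    · subst hij
      rw [VS_ii] at hv
      rw [R.XP_ii]; exact hv
    · have hd := dj_of_dgC hij (dN_pos.1 hp)
      rw [VS_ij R W hij] at hv
      rw [R.XP_ij hij]
      obtain ⟨a, ha⟩ := h.fix i j hd v hv hf
      exact ⟨a, ha⟩
  · rintro ⟨i, j⟩ hp hl x hx
    have hd := dj_of_dgC hl (dN_pos.1 hp)
    rw [R.XP_ij hl] at hx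
    rw [VS_ij R W hl]
    obtain ⟨a, rfl⟩ := hx
    obtain ⟨w, hw, hw'⟩ := h.onto i j hd a
    exact ⟨w, hw, by rw [hw']; group⟩
  · rintro ⟨i, j⟩ hp hl
    simp only at hl
    subst hl
    rw [VS_ii, R.XP_ii]
  · rintro ⟨i, j⟩ ⟨k, l⟩ hp hq hne v hv w hw
    have hp' := dN_pos.1 hp
    have hq' := dN_pos.1 hq
    by_cases hij : i = j
    · subst hij
      rw [VS_ii] at hv
      obtain ⟨a, rfl⟩ := hv
      by_cases hkl : k = l
      · subst hkl
        rw [VS_ii] at hw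
        obtain ⟨b, rfl⟩ := hw
        have hik : k ≠ neg i := by
          intro e
          unfold dgC at hp' hq'
          simp only at hp' hq'
          rw [e, Fd_neg] at hq'
          omega
        have : R.y i a * R.y k b * (R.y i a)⁻¹ * (R.y k b)⁻¹ = 1 := by rw [(R.y_comm hik a b).eq]; group
        rw [this]; exact one_mem _
      · have hd := dj_of_dgC hkl hq'
        rw [VS_ij R W hkl] at hw
        have hp2 : 0 < Fd i := by
          have : 0 < Fd i + Fd i := hp'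
          omega
        exact h.comm_yw hd hp2 hq' hw a
    · have hd := dj_of_dgC hij hp'
      rw [VS_ij R W hij] at hv
      by_cases hkl : k = l
      · subst hkl
        rw [VS_ii] at hw
        obtain ⟨b, rfl⟩ := hw
        have hq2 : 0 < Fd k := by
          have : 0 < Fd k + Fd k := hq'
          omega
        have h1 := inv_mem (h.comm_yw hd hq2 hp' hv b)
        have h3 : (R.y k b * v * (R.y k b)⁻¹ * v⁻¹)⁻¹ = v * R.y k b * v⁻¹ * (R.y k b)⁻¹ := by group
        rw [h3, add_comm] at h1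
        exact h1
      · have hd' := dj_of_dgC hkl hq'
        rw [VS_ij R W hkl] at hw
        have f1 : (dN dgC (i, j) : ℤ) = Fd i + Fd j := dNC hp'
        have f2 : (dN dgC (k, l) : ℤ) = Fd k + Fd l := dNC hq'
        have hpp : 0 < Fd i + Fd j := hp'
        have hqq : 0 < Fd k + Fd l := hq'
        rcases h.comm_ww hd hd' hp' hq' (fun e => hne (by
          have : (dN dgC (i, j) : ℤ) = dN dgC (k, l) := by rw [f1, f2, e]
          exact_mod_cast this)) hv hw with h1 | ⟨r, s, hdeg, h1⟩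
        · rw [h1]; exact one_mem _
        · have f3 : (dN dgC (r, s) : ℤ) = Fd r + Fd s := dNC (by omega)
          exact le_iSupP (r := (r, s)) (S := fun r => dN dgC (i, j) + dN dgC (k, l) ≤ dN dgC r) (by omega) h1
  · rintro ⟨i, j⟩ ⟨k, l⟩ hp hq hne hij hkl v hv w hw
    simp only at hij hkl
    subst hij
    subst hkl
    have hp' := dN_pos.1 hp
    have hq' := dN_pos.1 hq
    rw [R.XP_ii] at hv hw
    obtain ⟨a, rfl⟩ := hv
    obtain ⟨b, rfl⟩ := hw
    have hik : k ≠ neg i := by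
      intro e
      unfold dgC at hp' hq'
      simp only at hp' hq'
      rw [e, Fd_neg] at hq'
      omega
    have : R.y i a * R.y k b * (R.y i a)⁻¹ * (R.y k b)⁻¹ = 1 := by rw [(R.y_comm hik a b).eq]; group
    rw [this]; exact one_mem _
  · exact hle
  · intro p hp
    exact R.indepP dgC_ok dgC_symm (fun i j => dj_of_dgC) hp
  · intro p _ _
    exact hle p

/-! ### The diagonal elements -/

/-- the group generated by `Y_k`, `k ∈ S` -/
def YS (R : Frame n F G) (S : Finset (Fin n)) : Subgroup G := ⨆ k : Fin n, ⨆ _ : k ∈ S, R.ys (Sum.inl k)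

theorem YS_comm {S : Finset (Fin n)} {l : G} (hl : l ∈ YS R S) {g : G}
    (hg : ∀ k ∈ S, ∀ a, Commute g (R.y (Sum.inl k) a)) : Commute g l := by
  have h1 : YS R S ≤ Subgroup.centralizer {g} := by
    refine iSup₂_le fun k hk => ?_
    rintro _ ⟨a, rfl⟩
    rw [Subgroup.mem_centralizer_singleton_iff]
    exact (hg k hk a).eq.symm
  exact (Subgroup.mem_centralizer_singleton_iff.1 (h1 hl)).symm

theorem YS_mono {S S' : Finset (Fin n)} (h : S ⊆ S') : YS R S ≤ YS R S' :=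
  iSup₂_le fun k hk => le_iSup₂_of_le (f := fun k (_ : k ∈ S') => R.ys (Sum.inl k)) k (h hk) le_rfl

theorem inl_ne_neg_inl (k l : Fin n) : (Sum.inl k : Ix n) ≠ neg (Sum.inl l) := by simp

theorem YS_insert {S : Finset (Fin n)} {k : Fin n} {l : G} (hl : l ∈ YS R (insert k S)) :
    ∃ a, ∃ l' ∈ YS R S, l = R.y (Sum.inl k) a * l' := by
  let T : Subgroup G :=
    { carrier := {l | ∃ a, ∃ l' ∈ YS R S, l = R.y (Sum.inl k) a * l'}
      one_mem' := ⟨0, 1, one_mem _, by rw [R.y_zero, mul_one]⟩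
      mul_mem' := by
        rintro _ _ ⟨a, l, hl, rfl⟩ ⟨b, m, hm, rfl⟩
        refine ⟨a + b, l * m, mul_mem hl hm, ?_⟩
        have hc : Commute (R.y (Sum.inl k) b) l := YS_comm hl fun j _ c => R.y_comm (inl_ne_neg_inl j k) _ _
        rw [R.y_add]
        calc R.y (Sum.inl k) a * l * (R.y (Sum.inl k) b * m) = R.y (Sum.inl k) a * (l * R.y (Sum.inl k) b) * m := by
              group
          _ = _ := by rw [← hc.eq]; group
      inv_mem' := by
        rintro _ ⟨a, l, hl, rfl⟩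
        refine ⟨a, l⁻¹, inv_mem hl, ?_⟩
        have hc : Commute (R.y (Sum.inl k) a) l⁻¹ := YS_comm (inv_mem hl) fun j _ c => R.y_comm (inl_ne_neg_inl j k) _ _
        rw [mul_inv_rev, R.y_inv, hc.eq] }
  have hT : YS R (insert k S) ≤ T := by
    refine iSup₂_le fun j hj => ?_
    rintro _ ⟨a, rfl⟩
    rcases Finset.mem_insert.1 hj with rfl | hj'
    · exact ⟨a, 1, one_mem _, (mul_one _).symm⟩
    · refine ⟨0, R.y (Sum.inl j) a, ?_, by rw [R.y_zero, one_mul]⟩
      exact le_iSup₂_of_le (f := fun k (_ : k ∈ S) => R.ys (Sum.inl k)) j hj' le_rfl ⟨a, rfl⟩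
  exact hT hl

/-- a nontrivial diagonal element has a nontrivial component -/
theorem YS_split {S : Finset (Fin n)} {l : G} (hl : l ∈ YS R S) :
    l = 1 ∨ ∃ k ∈ S, ∃ b, b ≠ 0 ∧ ∃ l' ∈ YS R (S.erase k), l = R.y (Sum.inl k) b * l' := by
  classical
  induction S using Finset.induction_on generalizing l with
  | empty =>
    left
    have : YS R (∅ : Finset (Fin n)) = ⊥ := by
      rw [eq_bot_iff]
      exact iSup₂_le fun k hk => absurd hk (Finset.notMem_empty k)
    rw [this] at hl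
    exact Subgroup.mem_bot.1 hl
  | insert k S hk ih =>
    obtain ⟨a, l', hl', rfl⟩ := YS_insert hl
    by_cases ha : a = 0
    · subst ha
      rw [R.y_zero, one_mul]
      rcases ih hl' with h1 | ⟨j, hj, b, hb, m, hm, h1⟩
      · exact Or.inl h1
      · right
        exact ⟨j, Finset.mem_insert_of_mem hj, b, hb, m, YS_mono (Finset.erase_subset_erase _
          (Finset.subset_insert _ _)) hm, h1⟩
    · right
      refine ⟨k, Finset.mem_insert_self _ _, a, ha, l', ?_, rfl⟩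
      rw [Finset.erase_insert hk]; exact hl'

/-- removal of the other components -/
theorem conj_single (h : DataSE R W) [Finite F] {j : Fin n} {b : F} (hb : b ≠ 0) (S : Finset (Fin n)) (hj : j ∉ S) {l : G}
    (hl : l ∈ YS R S) : IsConj (R.t * (R.y (Sum.inl j) b * l)) (R.t * R.y (Sum.inl j) b) := by
  classical
  induction S using Finset.induction_on generalizing l with
  | empty =>
    have : YS R (∅ : Finset (Fin n)) = ⊥ := by
      rw [eq_bot_iff]
      exact iSup₂_le fun k hk => absurd hk (Finset.notMem_empty k)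
    rw [this] at hl
    rw [Subgroup.mem_bot.1 hl, mul_one]
  | insert k S hk ih =>
    rw [Finset.mem_insert, not_or] at hj
    obtain ⟨a, l', hl', rfl⟩ := YS_insert hl
    refine IsConj.trans ?_ (ih hj.2 hl')
    -- `g = x_{k,-j}(c)`, `b c² = a`
    set K : Ix n := Sum.inl k with hK
    set J : Ix n := Sum.inl j with hJ
    have hKJ : Dj K J := by
      refine ⟨fun e => hj.1 ?_, inl_ne_neg_inl k j⟩
      exact (Sum.inl_injective e).symm
    have hJK := hKJ.symm
    obtain ⟨c, hc⟩ : ∃ c, b * c ^ 2 = a := by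
      obtain ⟨c, hc⟩ : ∃ c : F, c ^ 2 = a / b := by
        have : Function.Surjective (fun x : F => x ^ 2) := by
          refine Finite.injective_iff_surjective.mp ?_
          intro x y hxy
          have h0 : (x - y) * (x - y) = 0 := by
            have : x ^ 2 = y ^ 2 := hxy
            linear_combination this - (x * y - y ^ 2) * (two0 : (2 : F) = 0)
          exact sub_eq_zero.mp (mul_self_eq_zero.mp h0)
        exact this (a / b)
      exact ⟨c, by rw [hc]; field_simp⟩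
    set g := R.x (neg J) K c with hg
    have gg : g * g = 1 := R.x_sq _ _ _
    have ginv : g⁻¹ = g := inv_eq_of_mul_eq_one_left gg
    have tg : Commute R.t g := (R.x_t _ _ _).symm
    have g1 : g * R.y J b * g = R.y J b * R.x J K (b * c) * R.y K a := by
      have := R.rels.sl J K b c hJK
      rw [hc] at this; exact this
    have g2 : Commute g (R.y K a) := (R.y_x_comm (i := K) (j := neg J) (k := K)
      (fun e => hKJ.1 (neg_inj.1 e).symm) (ne_neg K) a c).symm
    have g3 : Commute g l' := YS_comm hl' fun m hm d => by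
      refine (R.y_x_comm (i := Sum.inl m) (j := neg J) (k := K) (fun e => ?_) (inl_ne_neg_inl k m) d c).symm
      have := neg_inj.1 e
      exact hj.2 (by rw [Sum.inl_injective this]; exact hm)
    obtain ⟨w, hw, hwt⟩ := h.onto K J hKJ (b * c)
    have w2 : w * w = 1 := h.sq K J hKJ w hw
    have wi : w⁻¹ = w := inv_eq_of_mul_eq_one_left w2
    have w1 : Commute w (R.y J b) := h.cy K J J hKJ (fun e => hKJ.2 (by rw [e, neg_neg])) (ne_neg J) w hw b
    have w3 : Commute w l' := YS_comm hl' fun m hm d => h.cy K J _ hKJ (inl_ne_neg_inl m k) (inl_ne_neg_inl m j) w hw d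
    have w4 : Commute w (R.x K J (b * c)) := by
      -- `t w t = w x`, so `w x w = ...`
      have h1 : (w * R.x K J (b * c)) * (w * R.x K J (b * c)) = 1 := by
        rw [← hwt]
        calc R.t * w * R.t * (R.t * w * R.t) = R.t * w * (R.t * R.t) * w * R.t := by group
          _ = R.t * (w * w) * R.t := by rw [R.tt]; group
          _ = 1 := by rw [w2, mul_one, R.tt]
      have hx : (R.x K J (b * c))⁻¹ = R.x K J (b * c) := R.x_inv _ _ _
      calc w * R.x K J (b * c) = (w * R.x K J (b * c))⁻¹ * ((w * R.x K J (b * c)) * (w * R.x K J (b * c))) := by group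
        _ = R.x K J (b * c) * w := by rw [h1, mul_one, mul_inv_rev, hx, wi]
    have ly : Commute (R.y K a) l' := YS_comm hl' fun m hm d => R.y_comm (inl_ne_neg_inl m k) _ _
    have yy : Commute (R.y J b) (R.y K a) := R.y_comm hKJ.2 _ _
    have yx : Commute (R.x J K (b * c)) (R.y K a) := (R.y_x_comm hJK.2 (ne_neg K) _ _).symm
    have yx' : Commute (R.x J K (b * c)) (R.y J b) := (R.y_x_comm (ne_neg J) hKJ.2 _ _).symm
    have hxx : R.x J K (b * c) = R.x K J (b * c) := R.x_symm _ _ _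
    have hxt : Commute R.t (R.x K J (b * c)) := (R.x_t _ _ _).symm
    rw [isConj_iff]
    refine ⟨w * g, ?_⟩
    -- after `g`
    have e1 : g * (R.t * (R.y J b * (R.y K a * l'))) * g⁻¹ = R.t * (R.y J b * R.x K J (b * c) * l') := by
      rw [ginv]
      calc g * (R.t * (R.y J b * (R.y K a * l'))) * g = (g * R.t) * R.y J b * R.y K a * (l' * g) := by group
        _ = R.t * (g * R.y J b) * (R.y K a * g) * l' := by rw [← tg.eq, ← g3.eq]; group
        _ = R.t * (g * R.y J b * g) * R.y K a * l' := by rw [← g2.eq]; group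
        _ = R.t * (R.y J b * R.x J K (b * c) * (R.y K a * R.y K a)) * l' := by rw [g1]; group
        _ = _ := by rw [R.y_sq, mul_one, hxx]; group
    have e2 : w * (R.t * (R.y J b * R.x K J (b * c) * l')) * w⁻¹ = R.t * (R.y J b * l') := by
      have h1 : w * R.t = R.t * (w * R.x K J (b * c)) := by
        rw [← hwt]
        calc w * R.t = (R.t * R.t) * w * R.t := by rw [R.tt, one_mul]
          _ = _ := by group
      have hx2 : R.x K J (b * c) * R.x K J (b * c) = 1 := R.x_sq _ _ _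
      rw [hxx] at yx'
      calc w * (R.t * (R.y J b * R.x K J (b * c) * l')) * w⁻¹
          = (w * R.t) * (R.y J b * R.x K J (b * c) * l') * w⁻¹ := by group
        _ = R.t * w * (R.x K J (b * c) * R.y J b) * R.x K J (b * c) * l' * w⁻¹ := by rw [h1]; group
        _ = R.t * w * R.y J b * (R.x K J (b * c) * R.x K J (b * c)) * l' * w⁻¹ := by rw [yx'.eq]; group
        _ = R.t * (w * (R.y J b * l')) * w⁻¹ := by rw [hx2]; group
        _ = R.t * (R.y J b * l') := by rw [(w1.mul_right w3).eq]; group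
    calc w * g * (R.t * (R.y J b * (R.y K a * l'))) * (w * g)⁻¹
        = w * (g * (R.t * (R.y J b * (R.y K a * l'))) * g⁻¹) * w⁻¹ := by group
      _ = _ := by rw [e1, e2]

theorem nm_Lg [Finite F] (h : DataSE R W) {l : G}
    (hl : l ∈ Lg (GradeOf.Vd (dN dgC) R.XP) (GradeOf.lgd (dN dgC) fun p : PP n => p.1 = p.2) 1) (hl1 : l ≠ 1) :
    ¬ IsConj R.t (R.t * l) := by
  intro hconj
  have h1 : Lg (GradeOf.Vd (dN dgC) R.XP) (GradeOf.lgd (dN dgC) fun p : PP n => p.1 = p.2) 1 ≤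
      YS R Finset.univ := by
    refine Lg_le fun d _ hld => ?_
    obtain ⟨⟨i, j⟩, hp, rfl, hij⟩ := hld
    simp only at hij
    subst hij
    have hX : ∀ p q : PP n, 0 < dN dgC p → dN dgC p = dN dgC q → R.XP p = R.XP q := by
      intro p q hp hpq
      have h1 := dN_pos.1 hp
      have h2 := dN_pos.1 (hpq ▸ hp)
      rcases uniqC (p := p) (q := q) h1 (by rw [← dN_cast h1, ← dN_cast h2, hpq]) with rfl | rfl
      · rfl
      · exact R.XP_symm _ _
    rw [GradeOf.Vd_eq hX hp, R.XP_ii]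
    have hpos : 0 < Fd i + Fd i := dN_pos.1 hp
    rcases i with k | k
    · exact le_iSup₂_of_le (f := fun k (_ : k ∈ Finset.univ) => R.ys (Sum.inl k)) k (Finset.mem_univ k) le_rfl
    · exfalso
      have h2 : Fd (Sum.inr k : Ix n) = -5 ^ ex (Sum.inr k : Ix n) := rfl
      have h3 := pow_pos (show (0 : ℤ) < 5 by norm_num) (ex (Sum.inr k : Ix n))
      omega
  rcases YS_split (h1 hl) with h2 | ⟨k, -, b, hb, l', hl', rfl⟩
  · exact hl1 h2
  · exact h.nm (Sum.inl k) b hb (hconj.trans (h.conj_single hb _ (Finset.notMem_erase _ _) hl'))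

/-- **END (0,O)**. -/
theorem exists_hom [Finite F] [Finite G] (h : DataSE R W)
    (hodd : Odd ((R.UpP ⊔ Subgroup.zpowers R.t).relIndex (Subgroup.centralizer {R.t}))) :
    ∃ m : G →* ℤˣ, m R.t = -1 := by
  refine h.grdS.exists_hom' ?_ ?_ fun l hl hl1 _ _ => h.nm_Lg hl hl1
  · intro ht
    exact R.t_notMem_K (R.N_XP_le_K dgC ht)
  · rw [R.N_XP_C]; exact hodd

end DataSE

end Cfsg.Agent.OddHalf.SpN

end

-- merged: Cfsg.Agent.OddHalf.SpN.EndL
section

/-!
# END of the pattern (O,0) = `{l}` for `Sp_2n(q)`, all `q` (helper200)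
-/

set_option autoImplicit false
set_option maxHeartbeats 400000

namespace Cfsg.Agent.OddHalf.SpN

open Cfsg.Agent.OddHalf.F4.EndO

variable {n : ℕ} {F : Type*} [Field F] {G : Type*} [Group G] [CharP F 2] (R : Frame n F G)

/-- the pieces: long doubled, short not -/
def VL (W : Ix n → Subgroup G) (p : PP n) : Subgroup G := open Classical in if p.1 = p.2 then W p.1 else R.xs p.1 p.2

theorem VL_ii (W : Ix n → Subgroup G) (i : Ix n) : VL R W (i, i) = W i := if_pos rfl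

theorem VL_ij (W : Ix n → Subgroup G) {i j : Ix n} (h : i ≠ j) : VL R W (i, j) = R.xs i j := if_neg h

theorem VL_symm (W : Ix n → Subgroup G) (i j : Ix n) : VL R W (i, j) = VL R W (j, i) := by
  by_cases h : i = j
  · subst h; rfl
  · rw [VL_ij R W h, VL_ij R W (Ne.symm h), R.xs_symm]

/-- bounds of the degrees -/
theorem ex_le (i : Ix n) : ex i ≤ n := by unfold ex; omega

theorem Fd_le_ex (i : Ix n) : Fd i ≤ 5 ^ ex i := by
  rcases Fd_cases i with h | h
  · rw [h]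
  · rw [h]; have := pow_pos (show (0 : ℤ) < 5 by norm_num) (ex i); linarith

theorem pow5_le {a b : ℕ} (h : a ≤ b) : (5 : ℤ) ^ a ≤ 5 ^ b := pow_le_pow_right₀ (by norm_num) h

theorem pow5_lt {a b : ℕ} (h : a < b) : (5 : ℤ) ^ a < 5 ^ b := pow_lt_pow_right₀ (by norm_num) h

theorem Fd_le_n (i : Ix n) : Fd i ≤ 5 ^ n := (Fd_le_ex i).trans (pow5_le (ex_le i))

theorem Fd_add_le {i j : Ix n} (h : Dj i j) : Fd i + Fd j ≤ 5 ^ n + 5 ^ (n - 1) := by
  have h1 := ex_ne h
  have h2 := ex_le i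
  have h3 := ex_le j
  have h4 := Fd_le_ex i
  have h5 := Fd_le_ex j
  rcases lt_or_gt_of_ne h1 with h6 | h6
  · have h7 := pow5_le (show ex i ≤ n - 1 by omega)
    have h8 := pow5_le h3
    linarith
  · have h7 := pow5_le (show ex j ≤ n - 1 by omega)
    have h8 := pow5_le h2
    linarith

/-- the combinatorial push -/
theorem exists_push (hn : 3 ≤ n) {i j : Ix n} (hij : Dj i j) (hp : 0 < Fd i + Fd j)
    (hR : Fd i + Fd j ≠ 5 ^ n + 5 ^ (n - 1)) : ∃ k, Dj i k ∧ Dj j k ∧ (Fd j < Fd k ∨ Fd i < Fd k) := by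
  have mk : ∀ m : ℕ, m < 3 → ∃ k : Ix n, Fd k = 5 ^ (n - m) ∧ ex k = n - m := fun m hm =>
    ⟨Sum.inl ⟨m, by omega⟩, rfl, rfl⟩
  have dj : ∀ i k : Ix n, ex i ≠ ex k → Dj i k := fun i k h => ⟨fun e => h (by rw [e]),
    fun e => h (by rw [e, ex_neg])⟩
  have hi := ex_le i
  have hj := ex_le j
  have hne := ex_ne hij
  have fi := Fd_le_ex i
  have fj := Fd_le_ex j
  obtain ⟨k0, f0, e0⟩ := mk 0 (by omega)
  obtain ⟨k1, f1, e1⟩ := mk 1 (by omega)
  obtain ⟨k2, f2, e2⟩ := mk 2 (by omega)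
  rw [Nat.sub_zero] at f0 e0
  -- the symmetric half
  have half : ∀ i j : Ix n, Dj i j → 0 < Fd i + Fd j → Fd i + Fd j ≠ 5 ^ n + 5 ^ (n - 1) → ex i = n → 
      ∃ k, Dj i k ∧ Dj j k ∧ Fd j < Fd k := by
    intro i j hij hp hR hi
    have hne := ex_ne hij
    have hj := ex_le j
    by_cases h1 : ex j = n - 1
    · refine ⟨k2, dj _ _ (by omega), dj _ _ (by omega), ?_⟩
      rw [f2]
      have p2 := pow_pos (show (0 : ℤ) < 5 by norm_num) (n - 2)
      have p1 := pow_pos (show (0 : ℤ) < 5 by norm_num) (n - 1)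
      have p3 := pow5_lt (show n - 1 < n by omega)
      rcases Fd_cases i with h2 | h2 <;> rcases Fd_cases j with h3 | h3
      all_goals rw [hi] at h2; rw [h1] at h3
      · exfalso; apply hR; rw [h2, h3]
      · linarith
      · rw [h2, h3] at hp; linarith
      · rw [h2, h3] at hp; linarith
    · refine ⟨k1, dj _ _ (by omega), dj _ _ (by omega), ?_⟩
      rw [f1]
      exact (Fd_le_ex j).trans_lt (pow5_lt (by omega))
  by_cases h1 : ex i = n
  · obtain ⟨k, a, b, c⟩ := half i j hij hp hR h1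
    exact ⟨k, a, b, Or.inl c⟩
  · by_cases h2 : ex j = n
    · obtain ⟨k, a, b, c⟩ := half j i hij.symm (by rw [add_comm]; exact hp) (by rw [add_comm (Fd j)]; exact hR) h2
      exact ⟨k, b, a, Or.inr c⟩
    · refine ⟨k0, dj _ _ (by omega), dj _ _ (by omega), Or.inl ?_⟩
      rw [f0]
      exact fj.trans_lt (pow5_lt (by omega))

namespace DataO

variable {R} {W : Ix n → Subgroup G}

/-- commutators `[w, x]` at positive degrees -/
theorem comm_wx (h : DataO R.t R.x R.y W) (he : ∀ i, ∀ w ∈ W i, w * w = 1) {k i j : Ix n} (hij : Dj i j)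
    (hk : 0 < Fd k) (hp : 0 < Fd i + Fd j) {w : G} (hw : w ∈ W k) (a : F) :
    w * R.x i j a * w⁻¹ * (R.x i j a)⁻¹ ∈ ⨆ r : PP n, ⨆ _ : dN dgB (k, k) + dN dgB (i, j) ≤ dN dgB r, VL R W r := by
  have key : ∀ k j : Ix n, Dj (neg k) j → 0 < Fd k → 0 < Fd (neg k) + Fd j → ∀ w ∈ W k, ∀ a : F,
      w * R.x (neg k) j a * w⁻¹ * (R.x (neg k) j a)⁻¹ ∈
        ⨆ r : PP n, ⨆ _ : dN dgB (k, k) + dN dgB (neg k, j) ≤ dN dgB r, VL R W r := by
    intro k j hkj hk hp w hw a
    have hkj' : Dj k j := dj_neg_left.1 hkj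
    obtain ⟨w', hw', d, h2⟩ := h.r2 he hkj'.symm hw a
    obtain ⟨m, hm⟩ := h.ww he hkj' hw hw'
    have gi : (R.x (neg k) j a)⁻¹ = R.x (neg k) j a := R.x_inv _ _ _
    have wi : w⁻¹ = w := inv_eq_of_mul_eq_one_left (he k w hw)
    have wi' : w'⁻¹ = w' := inv_eq_of_mul_eq_one_left (he j w' hw')
    have e0 : R.x (neg k) j a * w * (R.x (neg k) j a)⁻¹ = R.x j k d * (w * w') := by rw [gi]; exact h2
    have e1 : w * R.x (neg k) j a * w⁻¹ * (R.x (neg k) j a)⁻¹ = R.x k j m * w' * R.x j k d := by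
      calc w * R.x (neg k) j a * w⁻¹ * (R.x (neg k) j a)⁻¹
          = w * (R.x (neg k) j a * w * (R.x (neg k) j a)⁻¹)⁻¹ := by group
        _ = w * w'⁻¹ * w⁻¹ * (R.x j k d)⁻¹ := by rw [e0]; group
        _ = w * w' * w * R.x j k d := by rw [wi', wi, R.x_inv]
        _ = (w * w' * w * w') * w'⁻¹ * R.x j k d := by group
        _ = R.x k j m * w' * R.x j k d := by rw [hm, wi']
    rw [e1]
    rw [Fd_neg] at hp
    have d1 : dgB k k = Fd k := dgB_ii k
    have d2 : dgB (neg k) j = -Fd k + Fd j := by rw [dgB_ij hkj.1, Fd_neg]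
    have d3 : dgB k j = Fd k + Fd j := dgB_ij hkj'.1
    have d4 : dgB j k = Fd j + Fd k := dgB_ij hkj'.1.symm
    have d5 : dgB j j = Fd j := dgB_ii j
    have m1 : R.x k j m ∈ VL R W (k, j) := by rw [VL_ij R W hkj'.1]; exact ⟨m, rfl⟩
    have m2 : w' ∈ VL R W (j, j) := by rw [VL_ii]; exact hw'
    have m3 : R.x j k d ∈ VL R W (j, k) := by rw [VL_ij R W hkj'.1.symm]; exact ⟨d, rfl⟩
    refine mul_mem (mul_mem ?_ ?_) ?_
    · refine le_iSupP (r := (k, j)) (S := fun r => dN dgB (k, k) + dN dgB (neg k, j) ≤ dN dgB r) ?_ m1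
      unfold dN; simp only; rw [d1, d2, d3]; omega
    · refine le_iSupP (r := (j, j)) (S := fun r => dN dgB (k, k) + dN dgB (neg k, j) ≤ dN dgB r) ?_ m2
      unfold dN; simp only; rw [d1, d2, d5]; omega
    · refine le_iSupP (r := (j, k)) (S := fun r => dN dgB (k, k) + dN dgB (neg k, j) ≤ dN dgB r) ?_ m3
      unfold dN; simp only; rw [d1, d2, d4]; omega
  by_cases h1 : i = neg k
  · subst h1; exact key k j hij hk hp w hw a
  by_cases h2 : j = neg k
  · subst h2
    have h3 := key k i hij.symm hk (by omega) w hw a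
    have h4 : dN dgB (i, neg k) = dN dgB (neg k, i) := by unfold dN; rw [dgB_symm]
    rw [R.x_symm i (neg k), h4]
    exact h3
  have hc : Commute w (R.x i j a) := by
    by_cases h3 : k = i
    · subst h3; exact h.Wx k j hij w hw a
    by_cases h4 : k = j
    · subst h4; rw [R.x_symm]; exact h.Wx k i hij.symm w hw a
    exact h.Wx' k i j ⟨h3, fun e => h1 (by rw [e, neg_neg])⟩ ⟨h4, fun e => h2 (by rw [e, neg_neg])⟩ hij w hw a
  have : w * R.x i j a * w⁻¹ * (R.x i j a)⁻¹ = 1 := by rw [hc.eq]; group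
  rw [this]; exact one_mem _

theorem grdL (hn : 3 ≤ n) (h : DataO R.t R.x R.y W) (he : ∀ i, ∀ w ∈ W i, w * w = 1) :
    Grd R.t (GradeOf.Vd (dN dgB) (VL R W)) (GradeOf.Vd (dN dgB) R.XP)
      (GradeOf.lgd (dN dgB) fun p : PP n => p.1 ≠ p.2) (5 ^ n + 5 ^ (n - 1)) (2 * 5 ^ n) := by
  have uniq : ∀ p q : PP n, 0 < dN dgB p → dN dgB p = dN dgB q → p = q ∨ p = (q.2, q.1) := by
    intro p q hp hpq
    have h1 := dN_pos.1 hp
    have h2 := dN_pos.1 (hpq ▸ hp)
    refine uniqB h1 ?_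
    rw [← dN_cast h1, ← dN_cast h2, hpq]
  have dj : ∀ p : PP n, 0 < dN dgB p → p.1 ≠ p.2 → Dj p.1 p.2 := fun p hp hne => dj_of_dgB hne (dN_pos.1 hp)
  refine GradeOf.grd ?_ ?_ ?_ R.tt ?_ ?_ ?_ ?_ ?_ ?_ ?_ ?_ ?_ ?_ ?_ ?_
  · intro p q hp hpq
    rcases uniq p q hp hpq with rfl | rfl
    · rfl
    · exact VL_symm R W _ _
  · intro p q hp hpq
    rcases uniq p q hp hpq with rfl | rfl
    · rfl
    · exact R.XP_symm _ _
  · intro p q hp hpq hl
    rcases uniq p q hp hpq with rfl | rfl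
    · exact hl
    · exact Ne.symm hl
  · rintro ⟨i, j⟩ hp v hv
    by_cases hij : i = j
    · subst hij
      rw [VL_ii] at hv ⊢
      obtain ⟨a, ha⟩ := h.d i v hv
      rw [ha]; exact mul_mem hv (h.yW i a)
    · have hx := hv
      rw [VL_ij R W hij, ← R.XP_ij hij] at hx
      rw [R.XP_fix hx]; exact hv
  · rintro ⟨i, j⟩ hp v hv
    by_cases hij : i = j
    · subst hij
      rw [VL_ii] at hv
      exact he i v hv
    · rw [VL_ij R W hij, ← R.XP_ij hij] at hv
      exact R.XP_sq hv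
  · rintro ⟨i, j⟩ hp
    by_cases hij : i = j
    · subst hij
      rw [VL_ii, R.XP_ii]
      rintro _ ⟨a, rfl⟩
      exact h.yW i a
    · rw [VL_ij R W hij, R.XP_ij hij]
  · intro p hp x hx
    exact R.XP_fix hx
  · rintro ⟨i, j⟩ hp v hv hf
    by_cases hij : i = j
    · subst hij
      rw [VL_ii] at hv
      rw [R.XP_ii]
      obtain ⟨a, ha⟩ := h.fix i v hv hf
      exact ⟨a, ha⟩
    · rw [VL_ij R W hij] at hv
      rw [R.XP_ij hij]; exact hv
  · rintro ⟨i, j⟩ hp hl x hx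
    have hij : i = j := by
      by_contra h'; exact hl h'
    subst hij
    rw [R.XP_ii] at hx
    rw [VL_ii]
    obtain ⟨a, rfl⟩ := hx
    obtain ⟨w, hw, hw'⟩ := h.onto i a
    exact ⟨w, hw, by rw [hw']; group⟩
  · rintro ⟨i, j⟩ hp hl
    rw [VL_ij R W hl, R.XP_ij hl]
  · rintro ⟨i, j⟩ ⟨k, l⟩ hp hq hne v hv w hw
    have hp' := dN_pos.1 hp
    have hq' := dN_pos.1 hq
    simp only at hp' hq'
    by_cases hij : i = j
    · subst hij
      rw [VL_ii] at hv
      rw [dgB_ii] at hp'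
      by_cases hkl : k = l
      · subst hkl
        rw [VL_ii] at hw
        rw [dgB_ii] at hq'
        have hik : i ≠ k := fun e => hne (by rw [e])
        have hd : Dj i k := ⟨hik, fun e => by rw [e, Fd_neg] at hp'; omega⟩
        obtain ⟨d, hd'⟩ := h.ww he hd hv hw
        have e1 : v * w * v⁻¹ * w⁻¹ = R.x i k d := by
          rw [inv_eq_of_mul_eq_one_left (he i v hv), inv_eq_of_mul_eq_one_left (he k w hw), hd']
        rw [e1]
        refine le_iSupP (r := (i, k)) (S := fun r => dN dgB (i, i) + dN dgB (k, k) ≤ dN dgB r) ?_ (by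
          rw [VL_ij R W hik]; exact ⟨d, rfl⟩)
        have d1 : dgB i i = Fd i := dgB_ii i
        have d2 : dgB k k = Fd k := dgB_ii k
        have d3 : dgB i k = Fd i + Fd k := dgB_ij hik
        unfold dN; simp only; rw [d1, d2, d3]; omega
      · have hd := dj_of_dgB hkl hq'
        rw [VL_ij R W hkl] at hw
        obtain ⟨a, rfl⟩ := hw
        rw [dgB_ij hkl] at hq'
        exact h.comm_wx he hd hp' hq' hv a
    · have hd := dj_of_dgB hij hp'
      rw [VL_ij R W hij] at hv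
      obtain ⟨a, rfl⟩ := hv
      rw [dgB_ij hij] at hp'
      by_cases hkl : k = l
      · subst hkl
        rw [VL_ii] at hw
        rw [dgB_ii] at hq'
        have h1 := h.comm_wx he hd hq' hp' hw a
        have h2 := inv_mem h1
        have h3 : (w * R.x i j a * w⁻¹ * (R.x i j a)⁻¹)⁻¹ = R.x i j a * w * (R.x i j a)⁻¹ * w⁻¹ := by group
        rw [h3, add_comm] at h2
        exact h2
      · have hd' := dj_of_dgB hkl hq'
        rw [VL_ij R W hkl] at hw
        obtain ⟨b, rfl⟩ := hw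
        rw [dgB_ij hkl] at hq'
        rcases R.comm_xx hd hd' hp' hq' a b with h1 | ⟨r, s, c, hrs, hdeg, h1⟩
        · rw [h1]; exact one_mem _
        · rw [h1]
          refine le_iSupP (r := (r, s)) (S := fun r => dN dgB (i, j) + dN dgB (k, l) ≤ dN dgB r) ?_ (by
            rw [VL_ij R W hrs.1]; exact ⟨c, rfl⟩)
          have d1 : dgB i j = Fd i + Fd j := dgB_ij hij
          have d2 : dgB k l = Fd k + Fd l := dgB_ij hkl
          have d3 : dgB r s = Fd r + Fd s := dgB_ij hrs.1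
          unfold dN; simp only; rw [d1, d2, d3]; omega
  · rintro ⟨i, j⟩ ⟨k, l⟩ hp hq hne hij hkl v hv w hw
    have hp' := dN_pos.1 hp
    have hq' := dN_pos.1 hq
    simp only at hp' hq' hij hkl
    have hd := dj_of_dgB hij hp'
    have hd' := dj_of_dgB hkl hq'
    rw [R.XP_ij hij] at hv
    rw [R.XP_ij hkl] at hw
    obtain ⟨a, rfl⟩ := hv
    obtain ⟨b, rfl⟩ := hw
    rw [dgB_ij hij] at hp'
    rw [dgB_ij hkl] at hq'
    rcases R.comm_xx hd hd' hp' hq' a b with h1 | ⟨r, s, c, hrs, hdeg, h1⟩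
    · rw [h1]; exact one_mem _
    · rw [h1]
      refine le_iSupP (r := (r, s)) (S := fun r => dN dgB (i, j) + dN dgB (k, l) ≤ dN dgB r ∧ r.1 ≠ r.2) ?_ (by
        rw [R.XP_ij hrs.1]; exact ⟨c, rfl⟩)
      have d1 : dgB i j = Fd i + Fd j := dgB_ij hij
      have d2 : dgB k l = Fd k + Fd l := dgB_ij hkl
      have d3 : dgB r s = Fd r + Fd s := dgB_ij hrs.1
      refine ⟨?_, hrs.1⟩
      unfold dN; simp only; rw [d1, d2, d3]; omega
  · rintro ⟨i, j⟩
    have h1 := Fd_le_n i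
    have h2 := Fd_le_n j
    have h3 := pow_pos (show (0 : ℤ) < 5 by norm_num) n
    have h4 : dgB i j ≤ 2 * 5 ^ n := by
      by_cases hij : i = j
      · rw [← hij, dgB_ii]; linarith
      · rw [dgB_ij hij]; linarith
    unfold dN
    simp only
    have : ((2 * 5 ^ n : ℕ) : ℤ) = 2 * 5 ^ n := by push_cast; rfl
    omega
  · intro p hp
    exact R.indepP dgB_ok dgB_symm (fun i j => dj_of_dgB) hp
  · rintro ⟨i, j⟩ hp hl
    have hp' := dN_pos.1 hp
    have hd := dj_of_dgB hl hp'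
    have h1 : Fd i + Fd j ≤ 5 ^ n + 5 ^ (n - 1) := Fd_add_le hd
    have h2 : dgB i j = Fd i + Fd j := dgB_ij hl
    have h3 := pow_pos (show (0 : ℤ) < 5 by norm_num) n
    have h4 := pow_pos (show (0 : ℤ) < 5 by norm_num) (n - 1)
    unfold dN
    simp only
    rw [h2]
    have : ((5 ^ n + 5 ^ (n - 1) : ℕ) : ℤ) = 5 ^ n + 5 ^ (n - 1) := by push_cast; rfl
    omega

omit [CharP F 2] in
theorem dN_symm (i j : Ix n) : dN dgB (i, j) = dN dgB (j, i) := by unfold dN; rw [dgB_symm]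

theorem XP_dgB {p q : PP n} (hp : 0 < dN dgB p) (hpq : dN dgB p = dN dgB q) : R.XP p = R.XP q := by
  have h1 := dN_pos.1 hp
  have h2 := dN_pos.1 (hpq ▸ hp)
  rcases uniqB (p := p) (q := q) h1 (by rw [← dN_cast h1, ← dN_cast h2, hpq]) with rfl | rfl
  · rfl
  · exact R.XP_symm _ _

theorem pushL (hn : 3 ≤ n) (d : ℕ) (hd : 1 ≤ d) (hld : GradeOf.lgd (dN dgB) (fun p : PP n => p.1 ≠ p.2) d)
    (hR : d ≠ 5 ^ n + 5 ^ (n - 1)) (x : G) (hx : x ∈ GradeOf.Vd (dN dgB) R.XP d) (hx1 : x ≠ 1) :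
    ∃ j, 1 ≤ j ∧ GradeOf.lgd (dN dgB) (fun p : PP n => p.1 ≠ p.2) j ∧
      GradeOf.lgd (dN dgB) (fun p : PP n => p.1 ≠ p.2) (d + j) ∧
      ∃ y ∈ GradeOf.Vd (dN dgB) R.XP j, y * x * y⁻¹ * x⁻¹ ∈ GradeOf.Vd (dN dgB) R.XP (d + j) ∧ y * x ≠ x * y := by
  have hX : ∀ p q : PP n, 0 < dN dgB p → dN dgB p = dN dgB q → R.XP p = R.XP q := by
    intro p q hp hpq
    exact XP_dgB hp hpq
  have h5n := pow_pos (show (0 : ℤ) < 5 by norm_num) n
  have h5n' := pow_pos (show (0 : ℤ) < 5 by norm_num) (n - 1)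
  have hRc : ((5 ^ n + 5 ^ (n - 1) : ℕ) : ℤ) = 5 ^ n + 5 ^ (n - 1) := by push_cast; rfl
  obtain ⟨⟨i, j⟩, hp, rfl, hij⟩ := hld
  simp only at hij
  rw [GradeOf.Vd_eq hX hp, R.XP_ij hij] at hx
  obtain ⟨a, rfl⟩ := hx
  have hp' := dN_pos.1 hp
  have hdj := dj_of_dgB hij hp'
  have hdg : dgB i j = Fd i + Fd j := dgB_ij hij
  have hdN : (dN dgB (i, j) : ℤ) = Fd i + Fd j := by rw [dN_cast hp']; exact hdg
  have hpos : 0 < Fd i + Fd j := by rw [← hdg]; exact hp'
  obtain ⟨k, hik, hjk, hk⟩ := exists_push hn hdj hpos (by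
    intro e
    apply hR
    have : (dN dgB (i, j) : ℤ) = ((5 ^ n + 5 ^ (n - 1) : ℕ) : ℤ) := by rw [hdN, e, hRc]
    exact_mod_cast this)
  have main : ∀ i j : Ix n, Dj i j → Dj i k → Dj j k → 0 < Fd i + Fd j → Fd j < Fd k → R.x i j a ≠ 1 →
      ∃ e, 1 ≤ e ∧ GradeOf.lgd (dN dgB) (fun p : PP n => p.1 ≠ p.2) e ∧
        GradeOf.lgd (dN dgB) (fun p : PP n => p.1 ≠ p.2) (dN dgB (i, j) + e) ∧
        ∃ y ∈ GradeOf.Vd (dN dgB) R.XP e, y * R.x i j a * y⁻¹ * (R.x i j a)⁻¹ ∈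
          GradeOf.Vd (dN dgB) R.XP (dN dgB (i, j) + e) ∧ y * R.x i j a ≠ R.x i j a * y := by
    intro i j hij hik hjk hpos hk hx1
    have hjk' : Dj (neg j) k := dj_neg_left.2 hjk
    have d1 : dgB (neg j) k = -Fd j + Fd k := by rw [dgB_ij hjk'.1, Fd_neg]
    have d2 : dgB i j = Fd i + Fd j := dgB_ij hij.1
    have d3 : dgB i k = Fd i + Fd k := dgB_ij hik.1
    have n1 : (dN dgB (neg j, k) : ℤ) = -Fd j + Fd k := by rw [dN_cast (by simp only; omega)]; exact d1
    have n2 : (dN dgB (i, j) : ℤ) = Fd i + Fd j := by rw [dN_cast (by simp only; omega)]; exact d2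
    have n3 : (dN dgB (i, k) : ℤ) = Fd i + Fd k := by rw [dN_cast (by simp only; omega)]; exact d3
    have n4 : dN dgB (i, j) + dN dgB (neg j, k) = dN dgB (i, k) := by
      have : ((dN dgB (i, j) + dN dgB (neg j, k) : ℕ) : ℤ) = (dN dgB (i, k) : ℤ) := by
        push_cast; rw [n1, n2, n3]; ring
      exact_mod_cast this
    have e1 : R.x (neg j) k 1 * R.x i j a * (R.x (neg j) k 1)⁻¹ * (R.x i j a)⁻¹ = R.x i k a := by
      have h1 := R.rels.ss i j k a 1 hij hjk hik
      rw [mul_one] at h1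
      have h2 : Commute (R.x i k a) (R.x i j a) := R.x_comm (ne_neg i) hik.2 hij.symm.2 hjk.2 _ _
      rw [R.x_inv (neg j), h1, ← h2.eq]; group
    have pk : 0 < dN dgB (neg j, k) := by omega
    have pk' : 0 < dN dgB (i, k) := by omega
    refine ⟨dN dgB (neg j, k), by omega, ⟨(neg j, k), pk, rfl, hjk'.1⟩, ?_, R.x (neg j) k 1, ?_, ?_, ?_⟩
    · rw [n4]; exact ⟨(i, k), pk', rfl, hik.1⟩
    · rw [GradeOf.Vd_eq hX pk, R.XP_ij hjk'.1]; exact ⟨1, rfl⟩
    · rw [n4, GradeOf.Vd_eq hX pk', R.XP_ij hik.1, e1]; exact ⟨a, rfl⟩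
    · intro hc
      have h1 : R.x i k a = 1 := by rw [← e1, hc]; group
      have h2 := R.x_eq_one hik h1
      apply hx1
      rw [h2, R.x_zero]
  rcases hk with hk | hk
  · exact main i j hdj hik hjk hpos hk hx1
  · have h1 := main j i hdj.symm hjk hik (by omega) hk (by rw [R.x_symm]; exact hx1)
    rw [R.x_symm j i, dN_symm j i] at h1
    exact h1

theorem nmL (hn : 3 ≤ n) (h : DataO R.t R.x R.y W) :
    ∀ x ∈ GradeOf.Vd (dN dgB) R.XP (5 ^ n + 5 ^ (n - 1)), x ≠ 1 → ¬ IsConj R.t (R.t * x) := by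
  have hX : ∀ p q : PP n, 0 < dN dgB p → dN dgB p = dN dgB q → R.XP p = R.XP q := by
    intro p q hp hpq
    exact XP_dgB hp hpq
  have h5n := pow_pos (show (0 : ℤ) < 5 by norm_num) n
  have h5n' := pow_pos (show (0 : ℤ) < 5 by norm_num) (n - 1)
  have hRc : ((5 ^ n + 5 ^ (n - 1) : ℕ) : ℤ) = 5 ^ n + 5 ^ (n - 1) := by push_cast; rfl
  intro x hx hx1
  let k0 : Ix n := Sum.inl ⟨0, by omega⟩
  let k1 : Ix n := Sum.inl ⟨1, by omega⟩
  have h01 : Dj k0 k1 := by
    refine ⟨fun e => ?_, fun e => ?_⟩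
    · have := congrArg ex e
      have e0 : ex k0 = n := rfl
      have e1 : ex k1 = n - 1 := rfl
      omega
    · have := congrArg ex e
      rw [ex_neg] at this
      have e0 : ex k0 = n := rfl
      have e1 : ex k1 = n - 1 := rfl
      omega
  have d0 : dgB k0 k1 = 5 ^ n + 5 ^ (n - 1) := dgB_ij h01.1
  have n0 : dN dgB (k0, k1) = 5 ^ n + 5 ^ (n - 1) := by
    have : (dN dgB (k0, k1) : ℤ) = ((5 ^ n + 5 ^ (n - 1) : ℕ) : ℤ) := by
      rw [dN_cast (by simp only; omega), hRc]; exact d0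
    exact_mod_cast this
  have p0 : 0 < dN dgB (k0, k1) := by rw [n0]; positivity
  rw [← n0, GradeOf.Vd_eq hX p0, R.XP_ij h01.1] at hx
  obtain ⟨a, rfl⟩ := hx
  refine h.nm k0 k1 a h01 ?_
  rintro rfl
  exact hx1 (R.x_zero _ _)

/-- **END (O,0)**. -/
theorem exists_hom [Finite G] (hn : 3 ≤ n) (h : DataO R.t R.x R.y W) (he : ∀ i, ∀ w ∈ W i, w * w = 1)
    (hodd : Odd ((R.UpP ⊔ Subgroup.zpowers R.t).relIndex (Subgroup.centralizer {R.t}))) :
    ∃ m : G →* ℤˣ, m R.t = -1 := by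
  refine (h.grdL hn he).exists_hom (fun d hd hld hR x hx hx1 => pushL hn d hd hld hR x hx hx1) ?_ ?_ (h.nmL hn)
  · intro ht
    exact R.t_notMem_K (R.N_XP_le_K dgB ht)
  · rw [R.N_XP_B]; exact hodd

end DataO

end Cfsg.Agent.OddHalf.SpN

end

-- merged: Cfsg.Agent.OddHalf.SpN.OfDL
section

/-!
# Pattern `{l}` from helper570's structure `DL` (helper200)
-/

set_option autoImplicit false
set_option maxHeartbeats 400000

namespace Cfsg.Agent.OddHalf.SpN

variable {n : ℕ} {F : Type*} [Field F] {G : Type*} [Group G] [CharP F 2] {R : Frame n F G}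

theorem exists_root [Finite F] (a : F) : ∃ b : F, b ^ 2 = a := by
  have : Function.Surjective (fun x : F => x ^ 2) := by
    refine Finite.injective_iff_surjective.mp ?_
    intro x y hxy
    have h0 : (x - y) * (x - y) = 0 := by
      have : x ^ 2 = y ^ 2 := hxy
      linear_combination this - (x * y - y ^ 2) * (two0 : (2 : F) = 0)
    exact sub_eq_zero.mp (mul_self_eq_zero.mp h0)
  exact this a

/-- `DataO` from the long doubles if short root elements are not moved -/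
theorem DL.dataO [Finite F] (hn : 3 ≤ n) {γ : F} (D : DL R γ)
    (nm : ∀ i j a, Dj i j → a ≠ 0 → ¬ IsConj R.t (R.t * R.x i j a)) : DataO R.t R.x R.y D.V where
  toRels := R.rels
  yW := D.y_mem
  Wsq := fun i w hw => by
    obtain ⟨u, hu⟩ := D.ht i w hw
    refine D.ker i (w * w) (mul_mem hw hw) ?_
    have hc : Commute w (R.y i u) := D.cy i w hw u
    calc R.t * (w * w) * R.t = R.t * w * (R.t * R.t)⁻¹ * w * R.t := by rw [R.tt]; group
      _ = (R.t * w * R.t) * (R.t * w * R.t) := by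
        have : (R.t * R.t)⁻¹ = R.t * R.t := by rw [R.tt, inv_one]
        rw [this]; group
      _ = w * (R.y i u * w) * R.y i u := by rw [hu]; group
      _ = w * w * (R.y i u * R.y i u) := by rw [← hc.eq]; group
      _ = w * w := by rw [R.y_sq, mul_one]
  Wy := fun i w hw a => D.cy i w hw a
  d := fun i w hw => D.ht i w hw
  onto := fun i a => D.onto i a
  fix := fun i w hw hf => D.ker i w hw hf
  Wx := fun i j hij w hw a => D.cx i w hw i j a (ne_neg i) hij.symm.2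
  Wx' := fun i j k hij hik _ w hw a => D.cx i w hw j k a hij.symm.2 hik.symm.2
  cent := fun i j hij g hg h0 hl _ => R.cent_short hn hij hg h0 hl
  nm := nm
  three := exists_dj hn
  root := exists_root

/-- **pattern `{l}`**, `q ≥ 4`: a homomorphism to `{±1}` with `t ↦ -1`. -/
theorem DL.exists_hom [Finite F] [Finite G] (hn : 3 ≤ n) {γ : F} (D : DL R γ) (hq : 3 ≤ Nat.card F)
    (nm : ∀ i j a, Dj i j → a ≠ 0 → ¬ IsConj R.t (R.t * R.x i j a))
    (hodd : Odd ((R.UpP ⊔ Subgroup.zpowers R.t).relIndex (Subgroup.centralizer {R.t}))) :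
    ∃ m : G →* ℤˣ, m R.t = -1 := by
  have h := D.dataO hn nm
  refine h.exists_hom hn (h.elem (fun i w hw w' hw' => D.comm i w hw w' hw') ?_) hodd
  intro b hb
  -- `b' ∉ {0, b}`
  have := Fintype.ofFinite F
  classical
  obtain ⟨b', hb'⟩ := Finset.exists_mem_notMem_of_card_lt_card (s := ({0, b} : Finset F)) (t := Finset.univ) (by
    refine lt_of_le_of_lt Finset.card_le_two ?_
    rw [Finset.card_univ, ← Nat.card_eq_fintype_card]; omega)
  have h2 := hb'.2
  rw [Finset.mem_insert, Finset.mem_singleton, not_or] at h2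
  refine ⟨b', h2.1, fun e => h2.2 ?_⟩
  have : b' = -b := by linear_combination e
  rw [this, CharTwo.neg_eq]

end Cfsg.Agent.OddHalf.SpN

end

-- merged: Cfsg.Agent.OddHalf.SpN.OfDS
section

/-!
# Patterns `{l}` and `{s}` in the clean case, `q ≥ 4` (helper200)
-/

set_option autoImplicit false
set_option maxHeartbeats 400000

namespace Cfsg.Agent.OddHalf.SpN

open scoped commutatorElement

variable {n : ℕ} {F : Type*} [Field F] {G : Type*} [Group G] [CharP F 2] {R : Frame n F G}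

/-- the two descriptions of the positive unipotent group -/
theorem UpP_eq (R : Frame n F G) : R.UpP = R.Up := by
  rw [R.Up_eq_closure]
  apply le_antisymm
  · refine iSup₂_le ?_
    rintro ⟨i, j⟩ hr
    simp only at hr
    by_cases hij : i = j
    · subst hij
      rw [R.XP_ii]
      rintro _ ⟨a, rfl⟩
      exact Subgroup.subset_closure (Or.inr ⟨i, by omega, a, rfl⟩)
    · rw [R.XP_ij hij]
      rintro _ ⟨a, rfl⟩
      exact Subgroup.subset_closure (Or.inl ⟨i, j, dj_of_dgC hij hr, hr, a, rfl⟩)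
  · rw [Subgroup.closure_le]
    rintro _ (⟨i, j, hij, h, a, rfl⟩ | ⟨i, h, a, rfl⟩)
    · exact le_iSupP (V := R.XP) (r := (i, j)) (S := fun q : PP n => 0 < Fd q.1 + Fd q.2) h (by
        rw [R.XP_ij hij.1]; exact ⟨a, rfl⟩)
    · exact le_iSupP (V := R.XP) (r := (i, i)) (S := fun q : PP n => 0 < Fd q.1 + Fd q.2) (by simp only; omega) (by
        rw [R.XP_ii]; exact ⟨a, rfl⟩)

/-- (3.2): if long root elements are not moved then `δ = 1`. -/
theorem DS.delta_eq_one {δ : F} (D : DS R δ) {i j : Ix n} (hij : Dj i j)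
    (nm : ∀ i a, a ≠ 0 → ¬ IsConj R.t (R.t * R.y i a)) : δ = 1 := by
  by_contra hne
  have hδ : 1 + δ ≠ 0 := by
    intro h
    apply hne
    have : δ = -1 := by linear_combination h
    rw [this, CharTwo.neg_eq]
  have hij' : Dj i (neg j) := dj_neg_right.2 hij
  obtain ⟨w, hw, hwt⟩ := D.onto i j hij 1
  obtain ⟨w', hw', hwt'⟩ := D.onto i (neg j) hij' 1
  set g := R.y (neg j) 1 with hg
  have gg : g * g = 1 := R.y_sq _ _
  have ginv : g⁻¹ = g := inv_eq_of_mul_eq_one_left gg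
  have tg : Commute R.t g := (R.y_t _ _).symm
  have ti := R.t_inv
  -- `g x_ij(1) g = x_ij(1) x_{i,-j}(1) y_i(1)`
  have gx : g * R.x i j 1 * g = R.x i j 1 * R.x i (neg j) 1 * R.y i 1 := by
    have h1 := R.rels.sl (neg j) i 1 1 (dj_neg_left.2 hij.symm)
    rw [neg_neg, mul_one, one_pow, mul_one] at h1
    -- `x_{j,i} y_{-j} x_{j,i} = y_{-j} x_{-j,i} y_i`
    rw [R.x_symm j i, R.x_symm (neg j) i, ← hg] at h1
    have h2 : R.x i j 1 * R.x i j 1 = 1 := R.x_sq _ _ _
    calc g * R.x i j 1 * g = g * (R.x i j 1 * g * R.x i j 1) * R.x i j 1 := by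
          calc g * R.x i j 1 * g = g * R.x i j 1 * g * (R.x i j 1 * R.x i j 1) := by rw [h2, mul_one]
            _ = _ := by group
      _ = (g * g) * R.x i (neg j) 1 * (R.y i 1 * R.x i j 1) := by rw [h1]; group
      _ = R.x i (neg j) 1 * (R.x i j 1 * R.y i 1) := by
        rw [gg, one_mul, (R.y_x_comm (ne_neg i) hij.symm.2 1 1).eq]
      _ = _ := by
        have h3 := R.rels.xx' i j 1 1
        rw [← mul_assoc, ← h3.eq]
  set u := g * w * g with hu
  have tu : R.t * u * R.t = u * (R.x i j 1 * R.x i (neg j) 1 * R.y i 1) := by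
    have tgt : R.t * g * R.t = g := R.t_of_comm tg.symm
    calc R.t * (g * w * g) * R.t = (R.t * g * R.t) * (R.t * w * R.t) * (R.t * g * R.t) := by rw [R.t_mul, R.t_mul]
      _ = g * w * (g * g) * R.x i j 1 * g := by rw [tgt, hwt, gg]; group
      _ = (g * w * g) * (g * R.x i j 1 * g) := by group
      _ = _ := by rw [gx]
  have t_of : ∀ v z : G, R.t * v * R.t = v * z → v⁻¹ * R.t * v = z * R.t := by
    intro v z hv
    calc v⁻¹ * R.t * v = v⁻¹ * (R.t * v * R.t) * R.t⁻¹ := by group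
      _ = z * R.t := by rw [hv, ti]; group
  have e1 := t_of _ _ tu
  have e2 := t_of _ _ hwt
  have e3 := t_of _ _ hwt'
  have e4 := D.par i (neg j) hij' w' hw' 1 hwt' 1
  rw [neg_neg, mul_one, mul_one] at e4
  -- `w'⁻¹ x_ij(1) w' = x_ij(1) y_i(δ)`
  have hy : Commute w' (R.y i δ) := D.cy i (neg j) hij' w' hw' i δ (ne_neg i) (by rw [neg_neg]; exact hij.1)
  have hyx : Commute (R.y i δ) (R.x i j 1) := R.y_x_comm (ne_neg i) hij.symm.2 _ _
  have e5 : w'⁻¹ * R.x i j 1 * w' = R.x i j 1 * R.y i δ := by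
    rw [commutatorElement_def] at e4
    have h1 : w' * R.x i j 1 * w'⁻¹ = R.y i δ * R.x i j 1 := by rw [← e4]; group
    have h2 : R.x i j 1 = w'⁻¹ * R.y i δ * w' * (w'⁻¹ * R.x i j 1 * w') := by
      calc R.x i j 1 = w'⁻¹ * (w' * R.x i j 1 * w'⁻¹) * w' := by group
        _ = _ := by rw [h1]; group
    have h3 : w'⁻¹ * R.y i δ * w' = R.y i δ := by rw [mul_assoc, ← hy.eq]; group
    rw [h3] at h2
    calc w'⁻¹ * R.x i j 1 * w' = R.y i δ * (R.y i δ * (w'⁻¹ * R.x i j 1 * w')) := by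
          rw [← mul_assoc, R.y_sq, one_mul]
      _ = R.x i j 1 * R.y i δ := by rw [← h2, hyx.eq]
  have ux : ∀ a, Commute u (R.y i a) := by
    intro a
    have c1 : Commute g (R.y i a) := R.y_comm (by rw [neg_neg]; exact hij.1) _ _
    have c2 : Commute w (R.y i a) := D.cy i j hij w hw i a (ne_neg i) hij.2
    exact (c1.mul_left c2).mul_left c1
  have e6 : (w * w')⁻¹ * R.t * (w * w') = (u⁻¹ * R.t * u) * R.y i (1 + δ) := by
    have c1 : Commute (R.y i δ) (R.x i (neg j) 1) := R.y_x_comm (ne_neg i) hij'.symm.2 _ _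
    have c2 : Commute R.t (R.y i (1 + δ)) := (R.y_t _ _).symm
    rw [e1]
    calc (w * w')⁻¹ * R.t * (w * w') = w'⁻¹ * (w⁻¹ * R.t * w) * w' := by group
      _ = (w'⁻¹ * R.x i j 1 * w') * (w'⁻¹ * R.t * w') := by rw [e2]; group
      _ = R.x i j 1 * (R.y i δ * R.x i (neg j) 1) * R.t := by rw [e5, e3]; group
      _ = R.x i j 1 * R.x i (neg j) 1 * R.y i δ * R.t := by rw [c1.eq]; group
      _ = R.x i j 1 * R.x i (neg j) 1 * (R.y i 1 * R.y i (1 + δ)) * R.t := by
        rw [← R.y_add, ← add_assoc, CharTwo.add_self_eq_zero, zero_add]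
      _ = R.x i j 1 * R.x i (neg j) 1 * R.y i 1 * (R.y i (1 + δ) * R.t) := by group
      _ = _ := by rw [← c2.eq]; group
  refine nm i (1 + δ) hδ ?_
  rw [isConj_iff]
  refine ⟨u * (w * w')⁻¹, ?_⟩
  calc u * (w * w')⁻¹ * R.t * (u * (w * w')⁻¹)⁻¹ = u * ((w * w')⁻¹ * R.t * (w * w')) * u⁻¹ := by group
    _ = u * ((u⁻¹ * R.t * u) * R.y i (1 + δ)) * u⁻¹ := by rw [e6]
    _ = R.t * (u * R.y i (1 + δ) * u⁻¹) := by group
    _ = R.t * R.y i (1 + δ) := by rw [(ux _).eq]; group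

/-- the relations of pattern `{s}`, `q ≥ 4` -/
theorem DS.dataSE [Finite F] (hn : 3 ≤ n) (hF : ∃ μ : Fˣ, (μ : F) ≠ 1) (D : DS R (1 : F))
    (nm : ∀ i a, a ≠ 0 → ¬ IsConj R.t (R.t * R.y i a)) : DataSE R D.W where
  symm := D.symm
  xW := fun i j _ a => D.x_mem i j a
  sq := fun i k hik w hw => by
    obtain ⟨j, hij, hkj⟩ := exists_dj hn i k
    exact D.sq hF (R.ks hn hF) hij hik hkj.symm hw
  d := fun i j hij w hw => D.ht i j hij w hw
  onto := fun i j hij a => D.onto i j hij a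
  fix := fun i j hij w hw hf => D.ker i j hij w hw hf
  cy := fun i j k hij h1 h2 w hw a => D.cy i j hij w hw k a h1 h2
  w60 := fun i j k hij hik hjk w hw w' hw' => D.comm60 hF (R.kt hn hF) hij hik hjk hw hw'
  w90 := fun i j k l hij hik hil hjk hjl hkl w hw w' hw' => D.comm90 hF (R.kt hn hF) hij hik hil hjk hjl hkl hw hw'
  par := fun i j hij w hw w' hw' => by
    obtain ⟨k, hik, hjk⟩ := exists_dj hn i j
    exact D.par_mem hF (R.kt hn hF) hij hik hjk hw hw'
  w120 := fun i j k hij hik hjk w hw w' hw' => D.mem120 hF (R.kt hn hF) hij hik hjk hw hw'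
  yw := fun i j hij w hw v => by
    obtain ⟨m, hm, s, h⟩ := D.y_conj_mem hF (R.kt hn hF) hij hw v
    exact ⟨m, hm, s, by rw [h]; group⟩
  nm := nm

/-- **pattern `{s}`**, `q ≥ 4`. -/
theorem DS.exists_hom [Finite F] [Finite G] (hn : 3 ≤ n) (hF : ∃ μ : Fˣ, (μ : F) ≠ 1) {δ : F} (D : DS R δ)
    (nm : ∀ i a, a ≠ 0 → ¬ IsConj R.t (R.t * R.y i a))
    (hodd : Odd ((R.Up ⊔ Subgroup.zpowers R.t).relIndex (Subgroup.centralizer {R.t}))) :
    ∃ m : G →* ℤˣ, m R.t = -1 := by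
  obtain ⟨j, hj, -⟩ := exists_dj hn (Sum.inl ⟨0, by omega⟩ : Ix n) (Sum.inl ⟨0, by omega⟩)
  have hδ := D.delta_eq_one hj nm
  subst hδ
  rw [← UpP_eq] at hodd
  exact (D.dataSE hn hF nm).exists_hom hodd

/-- clean case, `{l}` -/
theorem CFrame.exists_hom_l [Finite F] [Finite G] (R : CFrame n F G) (hn : 3 ≤ n) (hq : 3 ≤ Nat.card F) {γ : F}
    (D : DL R.toFrame γ) (nm : ∀ i j a, Dj i j → a ≠ 0 → ¬ IsConj R.t (R.t * R.x i j a)) :
    ∃ m : G →* ℤˣ, m R.t = -1 := by
  refine D.exists_hom hn hq nm ?_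
  rw [UpP_eq]
  exact R.odd_cent

/-- clean case, `{s}` -/
theorem CFrame.exists_hom_s [Finite F] [Finite G] (R : CFrame n F G) (hn : 3 ≤ n) (hF : ∃ μ : Fˣ, (μ : F) ≠ 1) {δ : F}
    (D : DS R.toFrame δ) (nm : ∀ i a, a ≠ 0 → ¬ IsConj R.t (R.t * R.y i a)) :
    ∃ m : G →* ℤˣ, m R.t = -1 := D.exists_hom hn hF nm R.odd_cent

end Cfsg.Agent.OddHalf.SpN

end

-- merged: Cfsg.Agent.OddHalf.SpN.OutEq
section

/-!
# Field automorphisms in `C(t)` normalise the doubles of the root groups (helper200)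

`FldAct R σ g` : `g ∈ C(t)` induces the (standard) field automorphism `σ` on `K`.
`DL.fld_mem`, `DS.fld_mem` : `g` normalises `V i`, `W i j`.
`DL.sem_mem`, `DS.sem_mem` : the same for helper859's `Sem`.
-/

set_option autoImplicit false
set_option maxHeartbeats 400000

namespace Cfsg.Agent.OddHalf.SpN

open scoped commutatorElement

variable {n : ℕ} {F : Type*} [Field F] {G : Type*} [Group G] [CharP F 2] {R : Frame n F G}

/-- `g ∈ C(t)` acts on the root elements and on the torus as the field automorphism `σ` -/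
structure FldAct (R : Frame n F G) (σ : F ≃+* F) (g : G) : Prop where
  ct : Commute g R.t
  x : ∀ i j a, g * R.x i j a * g⁻¹ = R.x i j (σ a)
  y : ∀ i a, g * R.y i a * g⁻¹ = R.y i (σ a)
  h : ∀ lam : Fin n → Fˣ, g * R.h lam * g⁻¹ = R.h (fm σ lam)

namespace FldAct

variable {σ τ : F ≃+* F} {g g' : G}

omit [CharP F 2] in
/-- conjugation commutes with conjugation by `t` -/
theorem tconj (A : FldAct R σ g) (v : G) : R.t * (g * v * g⁻¹) * R.t = g * (R.t * v * R.t) * g⁻¹ := by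
  have h1 := A.ct.eq
  have h2 : g⁻¹ * R.t = R.t * g⁻¹ := by rw [(A.ct.inv_left).eq]
  calc R.t * (g * v * g⁻¹) * R.t = (R.t * g) * v * (g⁻¹ * R.t) := by group
    _ = _ := by rw [← h1, h2]; group

omit [CharP F 2] in
theorem conj_mul (g a b : G) : g * (a * b) * g⁻¹ = (g * a * g⁻¹) * (g * b * g⁻¹) := by group

end FldAct

theorem one_add_sq_ne {a : F} (h : a ≠ 1) : 1 + a ^ 2 ≠ 0 := by
  intro h0
  have h1 : (a - 1) * (a - 1) = 0 := by linear_combination h0 - a * (two0 : (2 : F) = 0)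
  exact h (sub_eq_zero.mp (mul_self_eq_zero.mp h1))

/-- `g` normalises the long doubles -/
theorem DL.fld_mem (hn : 3 ≤ n) (hF : ∃ μ : Fˣ, (μ : F) ≠ 1) [Finite F] {γ : F} (D : DL R γ) {σ : F ≃+* F} {g : G}
    (A : FldAct R σ g) (hσ : σ γ = γ) {i : Ix n} {v : G} (hv : v ∈ D.V i) : g * v * g⁻¹ ∈ D.V i := by
  have tV : ∀ v ∈ D.V i, R.t * v * R.t ∈ D.V i := by
    intro v hv
    obtain ⟨u, hu⟩ := D.ht i v hv
    rw [hu]; exact mul_mem hv (D.y_mem i u)
  -- up to `t`
  have key : ∀ v ∈ D.V i, g * v * g⁻¹ ∈ D.V i ∨ R.t * (g * v * g⁻¹) ∈ D.V i := by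
    intro v hv
    obtain ⟨u, hu⟩ := D.ht i v hv
    obtain ⟨r, hr⟩ := exists_root u
    obtain ⟨w, hw, hwt⟩ := D.onto i (σ u)
    have hyw : ∀ a, Commute w (R.y i a) := fun a => D.cy i w hw a
    set v' := g * v * g⁻¹ with hv'
    have hyv : ∀ a, Commute v' (R.y i a) := by
      intro a
      have h1 : R.y i a = g * R.y i (σ.symm a) * g⁻¹ := by rw [A.y, RingEquiv.apply_symm_apply]
      have h2 : Commute v (R.y i (σ.symm a)) := D.cy i v hv _
      rw [h1]
      change v' * _ = _ * v'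
      rw [hv']
      calc g * v * g⁻¹ * (g * R.y i (σ.symm a) * g⁻¹) = g * (v * R.y i (σ.symm a)) * g⁻¹ := by group
        _ = _ := by rw [h2.eq]; group
    have hvt : R.t * v' * R.t = v' * R.y i (σ u) := by
      rw [hv', A.tconj, hu, FldAct.conj_mul, A.y]
    set k := v' * w⁻¹ with hk
    have hkt : Commute k R.t := by
      have h2 : R.t * k * R.t = k := by
        rw [hk, R.t_mul, R.t_inv', hvt, hwt]; group
      change k * R.t = R.t * k
      calc k * R.t = (R.t * k * R.t) * R.t := by rw [h2]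
        _ = R.t * k * (R.t * R.t) := by group
        _ = _ := by rw [R.tt, mul_one]
    have hky : ∀ l, l ≠ neg i → ∀ b, Commute k (R.y l b) := by
      intro l hl b
      by_cases hli : l = i
      · subst hli
        exact (hyv b).mul_left (hyw b).inv_left
      have hd : Dj i l := ⟨fun e => hli e.symm, fun e => hl (by rw [e, neg_neg])⟩
      obtain ⟨s, hs⟩ := exists_root b
      have h1 : ⁅w, R.y l b⁆ = R.x i l (γ * σ r * s) := by
        rw [← hs]
        exact D.par i l hd w hw (σ r) (by rw [hwt, ← map_pow, hr]) s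
      have h2 : ⁅v', R.y l b⁆ = R.x i l (γ * σ r * s) := by
        have h3 := D.par i l hd v hv r (by rw [hu, hr]) (σ.symm s)
        have h4 : R.y l b = g * R.y l (σ.symm s ^ 2) * g⁻¹ := by
          rw [A.y, map_pow, RingEquiv.apply_symm_apply, hs]
        have h5 : g * ⁅v, R.y l (σ.symm s ^ 2)⁆ * g⁻¹ = ⁅v', R.y l b⁆ := by
          rw [h4, hv', commutatorElement_def, commutatorElement_def]; group
        rw [← h5, h3, A.x, map_mul, map_mul, hσ, RingEquiv.apply_symm_apply]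
      -- `v' y v'⁻¹ = w y w⁻¹`
      have h3 : v' * R.y l b * v'⁻¹ = w * R.y l b * w⁻¹ := by
        rw [commutatorElement_def] at h1 h2
        rw [← h2] at h1
        exact mul_right_cancel h1.symm
      have h4 : R.y l b = w⁻¹ * (v' * R.y l b * v'⁻¹) * w := by rw [h3]; group
      -- `w⁻¹ v'` commutes; `k = v' w⁻¹`
      have hx : ∀ c, Commute w (R.x i l c) := fun c => D.cx i w hw i l c (ne_neg i) hd.symm.2
      have hx' : ∀ c, Commute v' (R.x i l c) := by
        intro c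
        have h1 : R.x i l c = g * R.x i l (σ.symm c) * g⁻¹ := by rw [A.x, RingEquiv.apply_symm_apply]
        have h2 : Commute v (R.x i l (σ.symm c)) := D.cx i v hv i l _ (ne_neg i) hd.symm.2
        rw [h1]
        change v' * _ = _ * v'
        rw [hv']
        calc g * v * g⁻¹ * (g * R.x i l (σ.symm c) * g⁻¹) = g * (v * R.x i l (σ.symm c)) * g⁻¹ := by group
          _ = _ := by rw [h2.eq]; group
      -- `w⁻¹ y w = w⁻¹ [w, y]⁻¹ (w y) = x y`
      have h5 : w⁻¹ * R.y l b * w = R.x i l (γ * σ r * s) * R.y l b := by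
        rw [commutatorElement_def] at h1
        have e1 : w * R.y l b * w⁻¹ = R.x i l (γ * σ r * s) * R.y l b := by rw [← h1]; group
        have e2 : R.y l b = w⁻¹ * R.x i l (γ * σ r * s) * w * (w⁻¹ * R.y l b * w) := by
          calc R.y l b = w⁻¹ * (w * R.y l b * w⁻¹) * w := by group
            _ = _ := by rw [e1]; group
        have e3 : w⁻¹ * R.x i l (γ * σ r * s) * w = R.x i l (γ * σ r * s) := by
          rw [mul_assoc, ← (hx _).eq]; group
        rw [e3] at e2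
        calc w⁻¹ * R.y l b * w = R.x i l (γ * σ r * s) * (R.x i l (γ * σ r * s) * (w⁻¹ * R.y l b * w)) := by
              rw [← mul_assoc, R.x_sq, one_mul]
          _ = _ := by rw [← e2]
      have h6 : v' * R.y l b * v'⁻¹ = R.x i l (γ * σ r * s) * R.y l b := by
        rw [commutatorElement_def] at h2
        rw [← h2]; group
      have h7 : v' * R.x i l (γ * σ r * s) * v'⁻¹ = R.x i l (γ * σ r * s) := by rw [(hx' _).eq]; group
      change k * R.y l b = R.y l b * k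
      have h8 : k * R.y l b * k⁻¹ = R.y l b := by
        calc k * R.y l b * k⁻¹ = v' * (w⁻¹ * R.y l b * w) * v'⁻¹ := by rw [hk]; group
          _ = (v' * R.x i l (γ * σ r * s) * v'⁻¹) * (v' * R.y l b * v'⁻¹) := by rw [h5]; group
          _ = R.x i l (γ * σ r * s) * R.x i l (γ * σ r * s) * R.y l b := by rw [h7, h6]; group
          _ = _ := by rw [R.x_sq, one_mul]
      calc k * R.y l b = k * R.y l b * k⁻¹ * k := by group
        _ = _ := by rw [h8]
    obtain ⟨a, ha⟩ := R.FU1 hn hkt hky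
    have hvk : v' = k * w := by rw [hk]; group
    rcases ha with ha | ha
    · left; rw [hvk, ha]; exact mul_mem (D.y_mem i a) hw
    · right
      rw [hvk, ha]
      have : R.t * (R.t * R.y i a * w) = R.y i a * w := by
        rw [← mul_assoc, ← mul_assoc, R.tt, one_mul]
      rw [this]
      exact mul_mem (D.y_mem i a) hw
  -- the commutators with the torus
  have key2 : ∀ v ∈ D.V i, ∀ lam, g * (v⁻¹ * (R.h lam * v * (R.h lam)⁻¹)) * g⁻¹ ∈ D.V i := by
    intro v hv lam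
    set lam' : Fin n → Fˣ := fm σ lam with hlam
    have e : g * (v⁻¹ * (R.h lam * v * (R.h lam)⁻¹)) * g⁻¹ =
        (g * v * g⁻¹)⁻¹ * (R.h lam' * (g * v * g⁻¹) * (R.h lam')⁻¹) := by
      rw [← A.h lam]; group
    rw [e]
    rcases key v hv with h1 | h1
    · exact mul_mem (inv_mem h1) (D.torus i _ h1 lam')
    · have h2 := D.torus i _ h1 lam'
      have h3 : R.t * (R.h lam' * (g * v * g⁻¹) * (R.h lam')⁻¹) ∈ D.V i := by
        have : R.t * (R.h lam' * (g * v * g⁻¹) * (R.h lam')⁻¹) =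
            R.h lam' * (R.t * (g * v * g⁻¹)) * (R.h lam')⁻¹ := by
          have hc := (R.h_t lam').eq
          calc R.t * (R.h lam' * (g * v * g⁻¹) * (R.h lam')⁻¹) =
              (R.t * R.h lam') * (g * v * g⁻¹) * (R.h lam')⁻¹ := by group
            _ = _ := by rw [← hc]; group
        rw [this]; exact h2
      have h4 := mul_mem (inv_mem h1) h3
      have h5 : (R.t * (g * v * g⁻¹))⁻¹ * (R.t * (R.h lam' * (g * v * g⁻¹) * (R.h lam')⁻¹)) =
          (g * v * g⁻¹)⁻¹ * (R.h lam' * (g * v * g⁻¹) * (R.h lam')⁻¹) := by group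
      rwa [h5] at h4
  obtain ⟨u, hu⟩ := D.ht i v hv
  obtain ⟨μ, hμ⟩ := hF
  obtain ⟨lam, hlam, -⟩ := exists_lam i μ
  have hl : (ev lam i : F) ≠ 1 := by rw [hlam]; exact hμ
  have hl2 := one_add_sq_ne hl
  obtain ⟨v0, hv0, hvt⟩ := D.onto i (u / (1 + (ev lam i : F) ^ 2))
  set v1 := v0⁻¹ * (R.h lam * v0 * (R.h lam)⁻¹) with hv1
  have hv1m : v1 ∈ D.V i := mul_mem (inv_mem hv0) (D.torus i _ hv0 lam)
  have hy0 : ∀ a, Commute v0 (R.y i a) := fun a => D.cy i v0 hv0 a
  have hh : ∀ z, R.t * (R.h lam * z * (R.h lam)⁻¹) * R.t = R.h lam * (R.t * z * R.t) * (R.h lam)⁻¹ := by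
    intro z
    have hc := (R.h_t lam).eq
    have hc' : (R.h lam)⁻¹ * R.t = R.t * (R.h lam)⁻¹ := (R.h_t lam).inv_left.eq
    calc R.t * (R.h lam * z * (R.h lam)⁻¹) * R.t = (R.t * R.h lam) * z * ((R.h lam)⁻¹ * R.t) := by group
      _ = _ := by rw [← hc, hc']; group
  have hv1t : R.t * v1 * R.t = v1 * R.y i u := by
    have e1 : R.t * v0⁻¹ * R.t = v0⁻¹ * R.y i (u / (1 + (ev lam i : F) ^ 2)) := by
      rw [R.t_inv', hvt, mul_inv_rev, R.y_inv, ← (hy0 _).inv_left.eq]
    have e2 : R.t * (R.h lam * v0 * (R.h lam)⁻¹) * R.t = (R.h lam * v0 * (R.h lam)⁻¹) *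
        R.y i ((ev lam i : F) ^ 2 * (u / (1 + (ev lam i : F) ^ 2))) := by
      rw [hh, hvt, FldAct.conj_mul, R.h_y]
    have e3 : Commute (R.y i (u / (1 + (ev lam i : F) ^ 2))) (R.h lam * v0 * (R.h lam)⁻¹) :=
      (D.cy i _ (D.torus i _ hv0 lam) _).symm
    calc R.t * v1 * R.t = (R.t * v0⁻¹ * R.t) * (R.t * (R.h lam * v0 * (R.h lam)⁻¹) * R.t) := by
          rw [hv1, R.t_mul]
      _ = v0⁻¹ * (R.y i (u / (1 + (ev lam i : F) ^ 2)) * (R.h lam * v0 * (R.h lam)⁻¹)) *
          R.y i ((ev lam i : F) ^ 2 * (u / (1 + (ev lam i : F) ^ 2))) := by rw [e1, e2]; group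
      _ = v1 * (R.y i (u / (1 + (ev lam i : F) ^ 2)) *
          R.y i ((ev lam i : F) ^ 2 * (u / (1 + (ev lam i : F) ^ 2)))) := by rw [e3.eq, hv1]; group
      _ = v1 * R.y i u := by
        rw [← R.y_add]
        congr 2
        field_simp
  -- `v = v1 y(a)`
  obtain ⟨a, ha⟩ := D.ker i (v1⁻¹ * v) (mul_mem (inv_mem hv1m) hv) (by
    have hy1 : Commute v1 (R.y i u) := D.cy i v1 hv1m _
    have e1 : R.t * v1⁻¹ * R.t = (v1 * R.y i u)⁻¹ := by rw [R.t_inv', hv1t]
    calc R.t * (v1⁻¹ * v) * R.t = (v1 * R.y i u)⁻¹ * (v * R.y i u) := by rw [R.t_mul, e1, hu]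
      _ = v1⁻¹ * ((R.y i u)⁻¹ * v * R.y i u) := by rw [hy1.eq]; group
      _ = v1⁻¹ * v := by
        rw [mul_assoc (R.y i u)⁻¹, (D.cy i v hv u : v * R.y i u = R.y i u * v)]; group)
  have hv2 : v = v1 * R.y i a := by rw [← ha]; group
  rw [hv2, FldAct.conj_mul, A.y]
  exact mul_mem (key2 v0 hv0 lam) (D.y_mem i _)

/-- `g` normalises the short doubles -/
theorem DS.fld_mem [Finite F] (hn : 3 ≤ n) (hF : ∃ μ : Fˣ, (μ : F) ≠ 1) {δ : F} (D : DS R δ) {σ : F ≃+* F} {g : G}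
    (A : FldAct R σ g) {i j : Ix n} (hij : Dj i j) {v : G} (hv : v ∈ D.W i j) : g * v * g⁻¹ ∈ D.W i j := by
  obtain ⟨μ, hμ⟩ := hF
  -- up to `t`
  have key : ∀ v ∈ D.W i j, g * v * g⁻¹ ∈ D.W i j ∨ R.t * (g * v * g⁻¹) ∈ D.W i j := by
    intro v hv
    obtain ⟨u, hu⟩ := D.ht i j hij v hv
    obtain ⟨w, hw, hwt⟩ := D.onto i j hij (σ u)
    set v' := g * v * g⁻¹ with hv'
    have hyv : ∀ l, l ≠ neg i → l ≠ neg j → ∀ a, Commute v' (R.y l a) := by
      intro l h1 h2 a
      have h3 : R.y l a = g * R.y l (σ.symm a) * g⁻¹ := by rw [A.y, RingEquiv.apply_symm_apply]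
      have h4 : Commute v (R.y l (σ.symm a)) := D.cy i j hij v hv l _ h1 h2
      rw [h3]
      change v' * _ = _ * v'
      rw [hv']
      calc g * v * g⁻¹ * (g * R.y l (σ.symm a) * g⁻¹) = g * (v * R.y l (σ.symm a)) * g⁻¹ := by group
        _ = _ := by rw [h4.eq]; group
    have hvt : R.t * v' * R.t = v' * R.x i j (σ u) := by
      rw [hv', A.tconj, hu, FldAct.conj_mul, A.x]
    set k := v' * w⁻¹ with hk
    have hkt : Commute k R.t := by
      apply R.comm_of_t
      rw [hk, R.t_mul, R.t_inv', hvt, hwt]; group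
    have hky : ∀ l, l ≠ neg i → l ≠ neg j → ∀ b, Commute k (R.y l b) := fun l h1 h2 b =>
      (hyv l h1 h2 b).mul_left (Commute.inv_left (D.cy i j hij w hw l b h1 h2))
    obtain ⟨a, b, d, hc, hlam⟩ := R.FU2 hn hij hkt hky
    -- the torus
    obtain ⟨l1, hl1, hl1'⟩ := exists_lam i μ
    obtain ⟨l2, hl2, hl2'⟩ := exists_lam j μ⁻¹
    have e1 : ev (l1 * l2) i = μ := by rw [ev_mul_at, hl1, hl2' i hij.symm, mul_one]
    have e2 : ev (l1 * l2) j = μ⁻¹ := by rw [ev_mul_at, hl2, hl1' j hij, one_mul]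
    set lam := l1 * l2 with hlamd
    have hkh : Commute k (R.h lam) := by
      have h1 : Commute w (R.h lam) := (D.torus_one i j hij w hw lam (by rw [e1, e2, mul_inv_cancel])).symm
      set lam' : Fin n → Fˣ := fm σ.symm lam with hlam'
      have h2 : g * R.h lam' * g⁻¹ = R.h lam := by
        rw [A.h]
        congr 1
        funext k
        exact Units.ext (σ.apply_symm_apply _)
      have h3 : Commute v (R.h lam') := (D.torus_one i j hij v hv lam' (by
        apply Units.ext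
        rw [Units.val_mul, hlam', ev_fm, ev_fm, e1, e2, ← map_mul, Units.mul_inv, map_one]; rfl)).symm
      have h4 : Commute v' (R.h lam) := by
        rw [← h2]
        change v' * _ = _ * v'
        rw [hv']
        calc g * v * g⁻¹ * (g * R.h lam' * g⁻¹) = g * (v * R.h lam') * g⁻¹ := by group
          _ = _ := by rw [h3.eq]; group
      exact h4.mul_left h1.inv_left
    obtain ⟨h1, h2, -⟩ := hlam lam hkh
    have ne0 : ∀ ν : F, ν ≠ 1 → ∀ a : F, ν ^ 2 * a = a → a = 0 := by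
      intro ν hν a ha
      have h3 := one_add_sq_ne hν
      have h4 : (1 + ν ^ 2) * a = 0 := by linear_combination ha + a * (two0 : (2 : F) = 0)
      exact (mul_eq_zero.mp h4).resolve_left h3
    have ha : a = 0 := ne0 _ (by rw [e1]; exact hμ) a h1
    have hb : b = 0 := ne0 _ (by
      rw [e2]
      intro h
      apply hμ
      have : μ⁻¹ = 1 := Units.ext h
      rw [inv_eq_one.mp this]; rfl) b h2
    rw [ha, hb, R.y_zero, R.y_zero, one_mul, one_mul] at hc
    have hvk : v' = k * w := by rw [hk]; group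
    rcases hc with hc | hc
    · left; rw [hvk, hc]; exact mul_mem (D.x_mem i j d) hw
    · right
      rw [hvk, hc]
      have : R.t * (R.t * R.x i j d * w) = R.x i j d * w := by
        rw [← mul_assoc, ← mul_assoc, R.tt, one_mul]
      rw [this]
      exact mul_mem (D.x_mem i j d) hw
  -- the commutators with the torus
  have key2 : ∀ v ∈ D.W i j, ∀ lam, g * (v⁻¹ * (R.h lam * v * (R.h lam)⁻¹)) * g⁻¹ ∈ D.W i j := by
    intro v hv lam
    set lam' : Fin n → Fˣ := fm σ lam with hlam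
    have e : g * (v⁻¹ * (R.h lam * v * (R.h lam)⁻¹)) * g⁻¹ =
        (g * v * g⁻¹)⁻¹ * (R.h lam' * (g * v * g⁻¹) * (R.h lam')⁻¹) := by
      rw [← A.h lam]; group
    rw [e]
    rcases key v hv with h1 | h1
    · exact mul_mem (inv_mem h1) (D.torus i j hij _ h1 lam')
    · have h2 := D.torus i j hij _ h1 lam'
      have h3 : R.t * (R.h lam' * (g * v * g⁻¹) * (R.h lam')⁻¹) ∈ D.W i j := by
        have : R.t * (R.h lam' * (g * v * g⁻¹) * (R.h lam')⁻¹) =
            R.h lam' * (R.t * (g * v * g⁻¹)) * (R.h lam')⁻¹ := by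
          have hc := (R.h_t lam').eq
          calc R.t * (R.h lam' * (g * v * g⁻¹) * (R.h lam')⁻¹) =
              (R.t * R.h lam') * (g * v * g⁻¹) * (R.h lam')⁻¹ := by group
            _ = _ := by rw [← hc]; group
        rw [this]; exact h2
      have h4 := mul_mem (inv_mem h1) h3
      have h5 : (R.t * (g * v * g⁻¹))⁻¹ * (R.t * (R.h lam' * (g * v * g⁻¹) * (R.h lam')⁻¹)) =
          (g * v * g⁻¹)⁻¹ * (R.h lam' * (g * v * g⁻¹) * (R.h lam')⁻¹) := by group
      rwa [h5] at h4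
  obtain ⟨u, hu⟩ := D.ht i j hij v hv
  obtain ⟨lam, hlam, hlam'⟩ := exists_lam i μ
  have hl : (ev lam i : F) * ev lam j = μ := by rw [hlam, hlam' j hij, Units.val_one, mul_one]
  have hl2 : 1 + (μ : F) ≠ 0 := by
    intro h0
    apply hμ
    linear_combination h0 - (two0 : (2 : F) = 0)
  obtain ⟨v0, hv0, hvt⟩ := D.onto i j hij (u / (1 + (μ : F)))
  have hx : ∀ w ∈ D.W i j, ∀ a, Commute w (R.x i j a) := fun w hw a =>
    D.comm i j hij w hw _ (D.x_mem i j a)
  set v1 := v0⁻¹ * (R.h lam * v0 * (R.h lam)⁻¹) with hv1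
  have hv1m : v1 ∈ D.W i j := mul_mem (inv_mem hv0) (D.torus i j hij _ hv0 lam)
  have hh : ∀ z, R.t * (R.h lam * z * (R.h lam)⁻¹) * R.t = R.h lam * (R.t * z * R.t) * (R.h lam)⁻¹ := by
    intro z
    have hc := (R.h_t lam).eq
    have hc' : (R.h lam)⁻¹ * R.t = R.t * (R.h lam)⁻¹ := (R.h_t lam).inv_left.eq
    calc R.t * (R.h lam * z * (R.h lam)⁻¹) * R.t = (R.t * R.h lam) * z * ((R.h lam)⁻¹ * R.t) := by group
      _ = _ := by rw [← hc, hc']; group
  have hv1t : R.t * v1 * R.t = v1 * R.x i j u := by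
    have e1 : R.t * v0⁻¹ * R.t = v0⁻¹ * R.x i j (u / (1 + (μ : F))) := by
      rw [R.t_inv', hvt, mul_inv_rev, R.x_inv, ← (hx _ hv0 _).inv_left.eq]
    have e2 : R.t * (R.h lam * v0 * (R.h lam)⁻¹) * R.t = (R.h lam * v0 * (R.h lam)⁻¹) *
        R.x i j (μ * (u / (1 + (μ : F)))) := by
      rw [hh, hvt, FldAct.conj_mul, R.h_x, hl]
    have e3 : Commute (R.x i j (u / (1 + (μ : F)))) (R.h lam * v0 * (R.h lam)⁻¹) :=
      (hx _ (D.torus i j hij _ hv0 lam) _).symm
    calc R.t * v1 * R.t = (R.t * v0⁻¹ * R.t) * (R.t * (R.h lam * v0 * (R.h lam)⁻¹) * R.t) := by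
          rw [hv1, R.t_mul]
      _ = v0⁻¹ * (R.x i j (u / (1 + (μ : F))) * (R.h lam * v0 * (R.h lam)⁻¹)) *
          R.x i j (μ * (u / (1 + (μ : F)))) := by rw [e1, e2]; group
      _ = v1 * (R.x i j (u / (1 + (μ : F))) * R.x i j (μ * (u / (1 + (μ : F))))) := by
        rw [e3.eq, hv1]; group
      _ = v1 * R.x i j u := by
        rw [← R.x_add]
        congr 2
        field_simp
  -- `v = v1 x(a)`
  obtain ⟨a, ha⟩ := D.ker i j hij (v1⁻¹ * v) (mul_mem (inv_mem hv1m) hv) (by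
    have e1 : R.t * v1⁻¹ * R.t = (v1 * R.x i j u)⁻¹ := by rw [R.t_inv', hv1t]
    calc R.t * (v1⁻¹ * v) * R.t = (v1 * R.x i j u)⁻¹ * (v * R.x i j u) := by rw [R.t_mul, e1, hu]
      _ = v1⁻¹ * ((R.x i j u)⁻¹ * v * R.x i j u) := by rw [(hx _ hv1m u).eq]; group
      _ = v1⁻¹ * v := by rw [mul_assoc (R.x i j u)⁻¹, (hx _ hv u).eq]; group)
  have hv2 : v = v1 * R.x i j a := by rw [← ha]; group
  rw [hv2, FldAct.conj_mul, A.x]
  exact mul_mem (key2 v0 hv0 lam) (D.x_mem i j _)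

/-- `Sem` up to the torus -/
theorem Frame.Sem.fld {y : G} {σ : F ≃+* F} {lam : Fin n → Fˣ} (h : R.Sem y σ lam) :
    FldAct R σ ((R.h lam)⁻¹ * y) where
  ct := (R.h_t lam).inv_left.mul_left h.yt
  x := fun i j a => by
    by_cases hij : Dj i j
    · have h1 := h.yx i j hij a
      have h2 := R.h_x lam i j (σ a)
      have h3 : R.x i j (σ a) = (R.h lam)⁻¹ * R.x i j (ev lam i * ev lam j * σ a) * R.h lam := by
        rw [← h2]; group
      rw [h3, ← h1]; group
    · rw [R.x_of_not hij, R.x_of_not hij]; group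
  y := fun i a => by
    have h1 := h.yy i a
    have h2 := R.h_y lam i (σ a)
    have h3 : R.y i (σ a) = (R.h lam)⁻¹ * R.y i (ev lam i ^ 2 * σ a) * R.h lam := by
      rw [← h2]; group
    rw [h3, ← h1]; group
  h := fun mu => by
    have h1 := h.yh mu
    have h2 : (R.h lam)⁻¹ * R.h (fm σ mu) * R.h lam = R.h (fm σ mu) := by
      rw [← map_inv, ← map_mul, ← map_mul]
      congr 1
      rw [mul_comm lam⁻¹, inv_mul_cancel_right]
    calc (R.h lam)⁻¹ * y * R.h mu * ((R.h lam)⁻¹ * y)⁻¹ = (R.h lam)⁻¹ * (y * R.h mu * y⁻¹) * R.h lam := by group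
      _ = _ := by rw [h1, h2]

theorem DL.sem_mem [Finite F] (hn : 3 ≤ n) (hF : ∃ μ : Fˣ, (μ : F) ≠ 1) {γ : F} (D : DL R γ) {σ : F ≃+* F}
    {lam : Fin n → Fˣ} {y : G} (A : R.Sem y σ lam) (hσ : σ γ = γ) {i : Ix n} {v : G} (hv : v ∈ D.V i) :
    y * v * y⁻¹ ∈ D.V i := by
  have h1 := D.torus i _ (D.fld_mem hn hF A.fld hσ hv) lam
  have h2 : R.h lam * ((R.h lam)⁻¹ * y * v * ((R.h lam)⁻¹ * y)⁻¹) * (R.h lam)⁻¹ = y * v * y⁻¹ := by group
  rwa [h2] at h1

theorem DS.sem_mem [Finite F] (hn : 3 ≤ n) (hF : ∃ μ : Fˣ, (μ : F) ≠ 1) {δ : F} (D : DS R δ) {σ : F ≃+* F}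
    {lam : Fin n → Fˣ} {y : G} (A : R.Sem y σ lam) {i j : Ix n} (hij : Dj i j) {v : G} (hv : v ∈ D.W i j) :
    y * v * y⁻¹ ∈ D.W i j := by
  have h1 := D.torus i j hij _ (D.fld_mem hn hF A.fld hij hv) lam
  have h2 : R.h lam * ((R.h lam)⁻¹ * y * v * ((R.h lam)⁻¹ * y)⁻¹) * (R.h lam)⁻¹ = y * v * y⁻¹ := by group
  rwa [h2] at h1

end Cfsg.Agent.OddHalf.SpN

end
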