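import Mathlib
import Cfsg.Agent.OddHalf.SpN.Red

-- merged: Cfsg.Agent.OddHalf.SpN.OutSemi
section

/-!
# D7, `K = Sp_2n(q)`, `q` even: semi-isometries (helper979)

`SI s φ`: `s` is a `φ`-semilinear isometry of the symplectic space. `Acts ι g s`: `g` acts on `K = ι(Sp)` as conjugation
by `s`.

* `exists_acts`, `Acts.unique`: every `g` normalising `K` acts as a unique semi-isometry (`n ≥ 3`, `char F = 2`);
* `Dat.sH`, `Dat.lf`: the homomorphisms from `C(t)` to the semi-isometries and to `Aut F`.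
-/

set_option autoImplicit false

namespace Cfsg.Agent.OddHalf.SpN.Out

open Cfsg Cfsg.Agent.ClassicalGeometry.SympBasic Cfsg.Agent.ClassicalGeometry.SympAutSemi
open Cfsg.Agent.OddHalf.SpN
open scoped Matrix commutatorElement

variable {n : ℕ} {F : Type*} [Field F]

/-- `s` is a semi-isometry with field automorphism `φ` -/
abbrev SI (s : Equiv.Perm (Ix n → F)) (φ : F ≃+* F) : Prop := IsSemi s φ 1

section basic

variable {s t : Equiv.Perm (Ix n → F)} {φ ψ : F ≃+* F}

theorem SI.add (h : SI s φ) (u v : Ix n → F) : s (u + v) = s u + s v := h.1 u v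

theorem SI.smul (h : SI s φ) (a : F) (v : Ix n → F) : s (a • v) = φ a • s v := h.2.1 a v

theorem SI.form (h : SI s φ) (u v : Ix n → F) : sympForm n F (s u) (s v) = φ (sympForm n F u v) := by
  rw [h.2.2, one_mul]

theorem SI.mul' (hs : SI s φ) (ht : SI t ψ) : SI (s * t) (φ * ψ) := by
  have h := IsSemi.mul hs ht
  rw [map_one, mul_one] at h
  exact h

theorem SI.one : SI (1 : Equiv.Perm (Ix n → F)) 1 :=
  ⟨fun _ _ => rfl, fun _ _ => rfl, fun _ _ => by rw [one_mul]; rfl⟩

theorem SI.inv' (hs : SI s φ) : SI s⁻¹ φ⁻¹ := by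
  have h := IsSemi.inv one_ne_zero hs
  rw [inv_one, map_one] at h
  exact h

theorem SI.of_rho (A : Sy n F) : SI (rho n F A) 1 := isSemi_rho A

theorem SI.zero (h : SI s φ) : s 0 = 0 := by
  have := h.add 0 0
  rw [add_zero] at this
  exact (add_eq_left (a := s 0)).mp this.symm

theorem SI.ne (h : SI s φ) {v : Ix n → F} (hv : v ≠ 0) : s v ≠ 0 :=
  fun e => hv (s.injective (e.trans h.zero.symm))

theorem SI.sum (h : SI s φ) {ι : Type*} (S : Finset ι) (f : ι → Ix n → F) :
    s (∑ i ∈ S, f i) = ∑ i ∈ S, s (f i) := by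
  let g : (Ix n → F) →+ (Ix n → F) := ⟨⟨s, h.zero⟩, h.add⟩
  exact map_sum g f S

theorem expand (v : Ix n → F) : v = ∑ k, v k • be n F k := by
  ext m
  simp [be, Finset.sum_apply, Pi.single_apply]

theorem SI.exp (h : SI s φ) (v : Ix n → F) (m : Ix n) : s v m = ∑ k, φ (v k) * s (be n F k) m := by
  have h1 : s v = ∑ k, s (v k • be n F k) := by
    rw [← h.sum, ← expand]
  rw [h1, Finset.sum_apply]
  exact Finset.sum_congr rfl fun k _ => by rw [h.smul, Pi.smul_apply, smul_eq_mul]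

theorem SI.ext (hs : SI s φ) (ht : SI t φ) (h : ∀ k, s (be n F k) = t (be n F k)) : s = t := by
  ext v m
  rw [hs.exp, ht.exp]
  simp only [h]

theorem SI.phi_eq (hn : 0 < n) (hs : SI s φ) (ht : SI s ψ) : φ = ψ := by
  ext a
  have h0 : s (be n F (Sum.inl ⟨0, hn⟩)) ≠ 0 := hs.ne (be_ne _)
  have h1 := (hs.smul a (be n F (Sum.inl ⟨0, hn⟩))).symm.trans (ht.smul a (be n F (Sum.inl ⟨0, hn⟩)))
  rw [← sub_eq_zero, ← sub_smul, smul_eq_zero] at h1
  exact sub_eq_zero.mp (h1.resolve_right h0)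

/-- a linear isometry comes from `Sp` -/
theorem SI.exists_rho (hs : SI s 1) : ∃ A : Sy n F, rho n F A = s :=
  exists_rho_eq s hs.add (fun a v => hs.smul a v) (fun u v => hs.form u v)

theorem SI.exists_conj (hs : SI s φ) (A : Sy n F) : ∃ B : Sy n F, rho n F B = s * rho n F A * s⁻¹ := by
  have h := (hs.mul' (SI.of_rho A)).mul' hs.inv'
  rw [mul_one, mul_inv_cancel] at h
  exact h.exists_rho

theorem SI.conj_transv (h : SI s φ) (v : Ix n → F) (c : F) :
    s * rho n F (transv v c) * s⁻¹ = rho n F (transv (s v) (φ c)) := by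
  ext1 x
  rw [Equiv.Perm.mul_apply, Equiv.Perm.mul_apply, rho_transv, rho_transv, h.add, perm_apply_inv_self, h.smul]
  congr 2
  have h1 := h.form (s⁻¹ x) v
  rw [perm_apply_inv_self] at h1
  rw [map_mul, h1]

end basic

/-- the coordinatewise field automorphism -/
def fa (n : ℕ) (φ : F ≃+* F) : Equiv.Perm (Ix n → F) where
  toFun v k := φ (v k)
  invFun v k := φ.symm (v k)
  left_inv v := by ext k; simp
  right_inv v := by ext k; simp

@[simp] theorem fa_apply (φ : F ≃+* F) (v : Ix n → F) (k : Ix n) : fa n φ v k = φ (v k) := rfl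

theorem fa_be (φ : F ≃+* F) (i : Ix n) : fa n φ (be n F i) = be n F i := by
  ext k
  rw [fa_apply, be_apply]
  split_ifs <;> simp

theorem SI.of_fa (φ : F ≃+* F) : SI (fa n φ) φ :=
  ⟨fun u v => by ext k; simp, fun a v => by ext k; simp, fun u v => by
    rw [one_mul, sympForm_eq_sum, sympForm_eq_sum, map_sum]
    exact Finset.sum_congr rfl fun i _ => by simp⟩

theorem fa_one : fa n (1 : F ≃+* F) = 1 := rfl

theorem fa_mul (φ ψ : F ≃+* F) : fa n (φ * ψ) = fa n φ * fa n ψ := rfl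

theorem fa_inv (φ : F ≃+* F) : (fa n φ)⁻¹ = fa n φ⁻¹ := rfl

section chartwo

variable [CharP F 2]

theorem eq_one_of_sq {a : F} (h : a * a = 1) : a = 1 := by
  have h1 : (a - 1) * (a - 1) = 0 := by
    linear_combination h - (a - 1) * (two0 : (2 : F) = 0)
  exact sub_eq_zero.mp (mul_self_eq_zero.mp h1)

theorem eq_one_of_pow_two {a : F} {k : ℕ} (h : a ^ 2 ^ k = 1) : a = 1 := by
  induction k with
  | zero => simpa using h
  | succ k ih =>
    apply ih
    apply eq_one_of_sq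
    rw [← h, pow_succ]; ring

omit [CharP F 2] in
theorem exists_form_one {v : Ix n → F} (hv : v ≠ 0) : ∃ x, sympForm n F x v = 1 := by
  by_contra hne
  push Not at hne
  apply hv
  apply eq_zero_of_forall_sympForm_left
  intro w
  by_contra h
  apply hne ((sympForm n F w v)⁻¹ • w)
  rw [sympForm_smul_left, inv_mul_cancel₀ h]

theorem transv_inj {v w : Ix n → F} (h : transv v (1 : F) = transv w 1) : v = w := by
  have key : ∀ x, sympForm n F x v • v = sympForm n F x w • w := by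
    intro x
    have h1 := congrArg (fun A => rho n F A x) h
    simp only [rho_transv, one_mul] at h1
    exact add_left_cancel h1
  by_cases hv : v = 0
  · by_contra hne
    have hw : w ≠ 0 := fun e => hne (by rw [hv, e])
    obtain ⟨x, hx⟩ := exists_form_one hw
    have h1 := key x
    rw [hv, hx, smul_zero, one_smul] at h1
    exact hw h1.symm
  · obtain ⟨x, hx⟩ := exists_form_one hv
    have h1 := key x
    rw [hx, one_smul] at h1
    have h2 : sympForm n F x w * sympForm n F x w = 1 := by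
      have h3 := congrArg (sympForm n F x) h1
      rw [sympForm_smul_right, hx] at h3
      exact h3.symm
    rw [h1, eq_one_of_sq h2, one_smul]

omit [CharP F 2] in
theorem exists_sqrt [Finite F] [CharP F 2] (l : F) : ∃ c : F, c * c = l := by
  have hsq : Function.Surjective (fun c : F => c * c) := by
    apply (Finite.injective_iff_surjective).mp
    intro a b hab
    have hab' : a * a = b * b := hab
    have : (a - b) * (a - b) = 0 := by
      linear_combination hab' - (a * b - b * b) * (two0 : (2 : F) = 0)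
    exact sub_eq_zero.mp (mul_self_eq_zero.mp this)
  exact hsq l

/-- the homothety -/
def hom (n : ℕ) (c : Fˣ) : Equiv.Perm (Ix n → F) where
  toFun v := (c : F) • v
  invFun v := ((c⁻¹ : Fˣ) : F) • v
  left_inv v := by simp [smul_smul]
  right_inv v := by simp [smul_smul]

/-- every automorphism is conjugation by a semi-isometry -/
theorem exists_SI [Finite F] (hn : 3 ≤ n) (α : MulAut (Sy n F)) :
    ∃ (s : Equiv.Perm (Ix n → F)) (φ : F ≃+* F), SI s φ ∧ ∀ A, rho n F (α A) = s * rho n F A * s⁻¹ := by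
  obtain ⟨s, hs⟩ := exists_semi_Sy hn α
  obtain ⟨φ, l, hl, hφ⟩ := s.2
  obtain ⟨c, hc⟩ := exists_sqrt l
  have hc0 : c ≠ 0 := by rintro rfl; exact hl (by rw [← hc, mul_zero])
  set q : Equiv.Perm (Ix n → F) := hom n (Units.mk0 c hc0)⁻¹ with hq
  have hqv : ∀ v, q v = c⁻¹ • v := fun v => by
    show (((Units.mk0 c hc0)⁻¹ : Fˣ) : F) • v = _
    rw [Units.val_inv_eq_inv_val, Units.val_mk0]
  refine ⟨q * s.1, φ, ⟨fun u v => ?_, fun a v => ?_, fun u v => ?_⟩, fun A => ?_⟩
  · rw [Equiv.Perm.mul_apply, Equiv.Perm.mul_apply, Equiv.Perm.mul_apply, hqv, hqv, hqv, hφ.1, smul_add]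
  · rw [Equiv.Perm.mul_apply, Equiv.Perm.mul_apply, hqv, hqv, hφ.2.1, smul_comm]
  · rw [Equiv.Perm.mul_apply, Equiv.Perm.mul_apply, hqv, hqv, sympForm_smul_left, sympForm_smul_right, hφ.2.2, ← hc]
    field_simp
  · have h1 : rho n F (α A) = s.1 * rho n F A * s.1⁻¹ := by rw [hs, rho_conjHom]
    have h2 : q * rho n F (α A) * q⁻¹ = rho n F (α A) := by
      rw [mul_inv_eq_iff_eq_mul]
      ext1 v
      rw [Equiv.Perm.mul_apply, Equiv.Perm.mul_apply, hqv, hqv]
      exact ((isSemi_rho (α A)).2.1 _ _).symm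
    rw [mul_inv_rev, ← h2, h1]
    group

end chartwo

section act

variable {G : Type*} [Group G] {ι : Sy n F →* G} {g h : G} {s t : Equiv.Perm (Ix n → F)} {φ ψ : F ≃+* F}

/-- `g` acts on `K = ι(Sp)` as conjugation by `s` -/
def Acts (ι : Sy n F →* G) (g : G) (s : Equiv.Perm (Ix n → F)) : Prop :=
  ∀ A : Sy n F, ∃ B, g * ι A * g⁻¹ = ι B ∧ rho n F B = s * rho n F A * s⁻¹

theorem Acts.mul (hg : Acts ι g s) (hh : Acts ι h t) : Acts ι (g * h) (s * t) := by
  intro A
  obtain ⟨B, hB, hB'⟩ := hh A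
  obtain ⟨C, hC, hC'⟩ := hg B
  refine ⟨C, ?_, ?_⟩
  · rw [← hC, ← hB]; group
  · rw [hC', hB']; group

theorem Acts.one : Acts ι 1 1 := fun A => ⟨A, by group, by group⟩

theorem Acts.inv (hs : SI s φ) (hg : Acts ι g s) : Acts ι g⁻¹ s⁻¹ := by
  intro A
  obtain ⟨B, hB⟩ := hs.inv'.exists_conj A
  refine ⟨B, ?_, hB⟩
  obtain ⟨C, hC, hC'⟩ := hg B
  have h1 : C = A := by
    apply rho_injective
    rw [hC', hB]; group
  rw [← h1, ← hC]; group

theorem Acts.iota (A : Sy n F) : Acts ι (ι A) (rho n F A) := fun B => ⟨A * B * A⁻¹, by simp, by simp⟩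

/-- the conjugate of `ι A` -/
theorem Acts.eq {A B : Sy n F} (hg : Acts ι g s) (h : rho n F B = s * rho n F A * s⁻¹) :
    g * ι A * g⁻¹ = ι B := by
  obtain ⟨C, hC, hC'⟩ := hg A
  rw [hC, rho_injective (h.trans hC'.symm)]

/-- and conversely -/
theorem Acts.rho_eq (hι : Function.Injective ι) {A B : Sy n F} (hg : Acts ι g s) (h : g * ι A * g⁻¹ = ι B) :
    rho n F B = s * rho n F A * s⁻¹ := by
  obtain ⟨C, hC, hC'⟩ := hg A
  rw [hι (h.symm.trans hC), hC']

theorem Acts.unique [CharP F 2] (hι : Function.Injective ι) (hs : SI s φ) (ht : SI t ψ) (h1 : Acts ι g s)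
    (h2 : Acts ι g t) : s = t := by
  ext1 v
  obtain ⟨B, hB, hB'⟩ := h1 (transv v 1)
  have h3 := h2.rho_eq hι hB
  rw [hB', hs.conj_transv, ht.conj_transv, map_one, map_one] at h3
  exact transv_inj (rho_injective h3)

theorem exists_acts [Finite F] [CharP F 2] (hn : 3 ≤ n) (hι : Function.Injective ι)
    (hg : g ∈ Subgroup.normalizer (ι.range : Set G)) :
    ∃ (s : Equiv.Perm (Ix n → F)) (φ : F ≃+* F), SI s φ ∧ Acts ι g s := by
  let e : Sy n F ≃* ι.range := MonoidHom.ofInjective hι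
  let α : MulAut (Sy n F) := e.trans ((ι.range.normalizerMonoidHom ⟨g, hg⟩).trans e.symm)
  obtain ⟨s, φ, hs, h⟩ := exists_SI hn α
  refine ⟨s, φ, hs, fun A => ⟨α A, ?_, h A⟩⟩
  have h1 : e (α A) = ι.range.normalizerMonoidHom ⟨g, hg⟩ (e A) := by
    show e (e.symm (ι.range.normalizerMonoidHom ⟨g, hg⟩ (e A))) = _
    rw [MulEquiv.apply_symm_apply]
  have h2 := congrArg Subtype.val h1
  exact h2.symm

end act

/-- The data: `K = ι(Sp_2n(F))` normal in `C(t)`, `C(t) ∩ C(K) = ⟨v⟩` a `2`-group containing `t`. -/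
structure Dat {G : Type*} [Group G] (ι : Sy n F →* G) (t v : G) : Prop where
  inj : Function.Injective ι
  tt : t * t = 1
  t1 : t ≠ 1
  tQ : t ∈ Subgroup.zpowers v
  pQ : IsPGroup 2 ↥(Subgroup.zpowers v)
  qK : ∀ A, ι A * v = v * ι A
  nK : ∀ g : G, g * t = t * g → g ∈ Subgroup.normalizer (ι.range : Set G)
  cK : ∀ c : G, c * t = t * c → (∀ A, ι A * c = c * ι A) → c ∈ Subgroup.zpowers v

namespace Dat

variable {G : Type*} [Group G] {ι : Sy n F →* G} {t v : G} (D : Dat ι t v)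

include D

theorem QK {r : G} (hr : r ∈ Subgroup.zpowers v) (A : Sy n F) : ι A * r = r * ι A := by
  obtain ⟨k, rfl⟩ := Subgroup.mem_zpowers_iff.1 hr
  exact ((show Commute (ι A) v from D.qK A).zpow_right k)

theorem Kt (A : Sy n F) : ι A * t = t * ι A := D.QK D.tQ A

theorem mem_C (A : Sy n F) : ι A ∈ Subgroup.centralizer ({t} : Set G) :=
  Subgroup.mem_centralizer_singleton_iff.2 (D.Kt A)

theorem Qt {r : G} (hr : r ∈ Subgroup.zpowers v) : r * t = t * r := by
  obtain ⟨k, rfl⟩ := Subgroup.mem_zpowers_iff.1 hr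
  obtain ⟨l, rfl⟩ := Subgroup.mem_zpowers_iff.1 D.tQ
  exact ((Commute.refl v).zpow_zpow k l)

theorem KR [Finite F] [CharP F 2] (hn : 1 ≤ n) {A : Sy n F} (h : ι A ∈ Subgroup.zpowers v) : A = 1 := by
  have h1 : A ∈ Subgroup.center (Sy n F) := by
    rw [Subgroup.mem_center_iff]
    intro B
    apply D.inj
    rw [map_mul, map_mul]
    exact D.QK h B
  rwa [center_Sy hn, Subgroup.mem_bot] at h1

section

variable [Finite F] [CharP F 2] (hn : 3 ≤ n)

include hn

theorem exists_s (g : Subgroup.centralizer ({t} : Set G)) :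
    ∃ p : Equiv.Perm (Ix n → F) × (F ≃+* F), SI p.1 p.2 ∧ Acts ι (g : G) p.1 := by
  obtain ⟨s, φ, hs, h⟩ := exists_acts hn D.inj (D.nK g (Subgroup.mem_centralizer_singleton_iff.1 g.2))
  exact ⟨(s, φ), hs, h⟩

end

end Dat

section homs

variable {G : Type*} [Group G] {ι : Sy n F →* G} {t v : G} [Finite F] [CharP F 2]

/-- the semi-isometry induced by `g` -/
noncomputable def Dat.sH (D : Dat ι t v) (hn : 3 ≤ n) :
    Subgroup.centralizer ({t} : Set G) →* Equiv.Perm (Ix n → F) where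
  toFun g := (Classical.choose (D.exists_s hn g)).1
  map_one' := by
    have h := Classical.choose_spec (D.exists_s hn 1)
    exact Acts.unique D.inj h.1 SI.one h.2 Acts.one
  map_mul' a b := by
    have ha := Classical.choose_spec (D.exists_s hn a)
    have hb := Classical.choose_spec (D.exists_s hn b)
    have hab := Classical.choose_spec (D.exists_s hn (a * b))
    exact Acts.unique D.inj hab.1 (ha.1.mul' hb.1) hab.2 (ha.2.mul hb.2)

/-- the field automorphism induced by `g` -/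
noncomputable def Dat.lf (D : Dat ι t v) (hn : 3 ≤ n) :
    Subgroup.centralizer ({t} : Set G) →* (F ≃+* F) where
  toFun g := (Classical.choose (D.exists_s hn g)).2
  map_one' := by
    have h := Classical.choose_spec (D.exists_s hn 1)
    have h1 := Acts.unique D.inj h.1 SI.one h.2 Acts.one
    have h2 := h.1
    rw [h1] at h2
    exact SI.phi_eq (by omega) h2 SI.one
  map_mul' a b := by
    have ha := Classical.choose_spec (D.exists_s hn a)
    have hb := Classical.choose_spec (D.exists_s hn b)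
    have hab := Classical.choose_spec (D.exists_s hn (a * b))
    have h1 := Acts.unique D.inj hab.1 (ha.1.mul' hb.1) hab.2 (ha.2.mul hb.2)
    have h2 := hab.1
    rw [h1] at h2
    exact SI.phi_eq (by omega) h2 (ha.1.mul' hb.1)

namespace Dat

variable (D : Dat ι t v) (hn : 3 ≤ n)

theorem si (g : Subgroup.centralizer ({t} : Set G)) : SI (D.sH hn g) (D.lf hn g) :=
  (Classical.choose_spec (D.exists_s hn g)).1

theorem acts (g : Subgroup.centralizer ({t} : Set G)) : Acts ι (g : G) (D.sH hn g) :=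
  (Classical.choose_spec (D.exists_s hn g)).2

theorem sH_iota (A : Sy n F) : D.sH hn ⟨ι A, D.mem_C A⟩ = rho n F A :=
  Acts.unique D.inj (D.si hn _) (SI.of_rho A) (D.acts hn _) (Acts.iota A)

theorem lf_iota (A : Sy n F) : D.lf hn ⟨ι A, D.mem_C A⟩ = 1 := by
  have h := D.si hn ⟨ι A, D.mem_C A⟩
  rw [D.sH_iota] at h
  exact SI.phi_eq (by omega) h (SI.of_rho A)

theorem sH_R {r : Subgroup.centralizer ({t} : Set G)} (hr : (r : G) ∈ Subgroup.zpowers v) : D.sH hn r = 1 := by
  refine Acts.unique D.inj (D.si hn _) SI.one (D.acts hn _) fun A => ⟨A, ?_, by group⟩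
  rw [← D.QK hr A]; group

theorem lf_R {r : Subgroup.centralizer ({t} : Set G)} (hr : (r : G) ∈ Subgroup.zpowers v) : D.lf hn r = 1 := by
  have h := D.si hn r
  rw [D.sH_R hn hr] at h
  exact SI.phi_eq (by omega) h SI.one

/-- the kernel -/
theorem mem_R_of_sH {g : Subgroup.centralizer ({t} : Set G)} (hg : D.sH hn g = 1) :
    (g : G) ∈ Subgroup.zpowers v := by
  apply D.cK _ (Subgroup.mem_centralizer_singleton_iff.1 g.2)
  intro A
  have h := (D.acts hn g).eq (A := A) (B := A) (by rw [hg]; group)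
  rw [mul_inv_eq_iff_eq_mul] at h
  exact h.symm

/-- an element acting linearly is in `K R` -/
theorem exists_iota {g : Subgroup.centralizer ({t} : Set G)} (hg : D.lf hn g = 1) :
    ∃ A : Sy n F, D.sH hn g = rho n F A ∧ (ι A)⁻¹ * (g : G) ∈ Subgroup.zpowers v := by
  have h := D.si hn g
  rw [hg] at h
  obtain ⟨A, hA⟩ := h.exists_rho
  refine ⟨A, hA.symm, ?_⟩
  have h1 : D.sH hn (⟨ι A, D.mem_C A⟩⁻¹ * g) = 1 := by
    rw [map_mul, map_inv, D.sH_iota, hA, inv_mul_cancel]
  exact D.mem_R_of_sH hn h1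

end Dat

end homs

end Cfsg.Agent.OddHalf.SpN.Out

end

-- merged: Cfsg.Agent.OddHalf.SpN.OutFlag
section

/-!
# D7, `K = Sp_2n(q)`, `q` even: the isotropic flag, the positive unipotent group and its normaliser (helper979)

* `Tri s d`: `s e_i ∈ d_i e_i + ⟨e_j, j < i⟩`, `i = 1 .. n`; `Up n F = {A | Tri A 1}` the positive unipotent group;
* `tri_of_norm`: a semi-isometry normalising `Up` is triangular;
* `isPGroup_Up`, `Up_max`: `Up` is a Sylow 2-subgroup;
* `exists_Z_of_comm`, `comm_Z`: `Z(Up) = X_12 Y_1 = C(x_r(1), r > 0)`.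
-/

set_option autoImplicit false

namespace Cfsg.Agent.OddHalf.SpN.Out

open Cfsg Cfsg.Agent.ClassicalGeometry.SympBasic Cfsg.Agent.ClassicalGeometry.SympAutSemi
open Cfsg.Agent.OddHalf.SpN
open scoped Matrix commutatorElement

variable {n : ℕ} {F : Type*} [Field F]

/-- `s` is triangular on the isotropic flag, diagonal `d`. -/
structure Tri (s : Equiv.Perm (Ix n → F)) (d : Fin n → F) : Prop where
  dg : ∀ i, s (be n F (Sum.inl i)) (Sum.inl i) = d i
  up : ∀ i j, i < j → s (be n F (Sum.inl i)) (Sum.inl j) = 0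
  lo : ∀ i j, s (be n F (Sum.inl i)) (Sum.inr j) = 0

section tri

variable {s t : Equiv.Perm (Ix n → F)} {φ ψ : F ≃+* F} {d e : Fin n → F}

theorem Tri.mul (hs : SI s φ) (h : Tri s d) (h' : Tri t e) : Tri (s * t) (fun i => d i * φ (e i)) := by
  have key : ∀ i m, (s * t) (be n F (Sum.inl i)) m =
      ∑ j : Fin n, φ (t (be n F (Sum.inl i)) (Sum.inl j)) * s (be n F (Sum.inl j)) m := by
    intro i m
    rw [Equiv.Perm.mul_apply, hs.exp, Fintype.sum_sum_type]
    rw [add_eq_left]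
    exact Finset.sum_eq_zero fun j _ => by rw [h'.lo, map_zero, zero_mul]
  refine ⟨fun i => ?_, fun i j hij => ?_, fun i j => ?_⟩
  · rw [key, Finset.sum_eq_single i]
    · rw [h.dg, h'.dg, mul_comm]
    · intro j _ hj
      rcases lt_or_gt_of_ne hj with h1 | h1
      · rw [h.up j i h1, mul_zero]
      · rw [h'.up i j h1, map_zero, zero_mul]
    · simp
  · rw [key]
    refine Finset.sum_eq_zero fun k _ => ?_
    rcases le_or_gt k i with h1 | h1
    · rw [h.up k j (h1.trans_lt hij), mul_zero]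
    · rw [h'.up i k h1, map_zero, zero_mul]
  · rw [key]
    exact Finset.sum_eq_zero fun k _ => by rw [h.lo, mul_zero]

theorem Tri.one : Tri (1 : Equiv.Perm (Ix n → F)) 1 := by
  refine ⟨fun i => ?_, fun i j hij => ?_, fun i j => ?_⟩
  · rw [Equiv.Perm.one_apply, be_apply, if_pos rfl]; rfl
  · rw [Equiv.Perm.one_apply, be_apply, if_neg]
    intro h
    exact hij.ne' (Sum.inl_injective h)
  · rw [Equiv.Perm.one_apply, be_apply, if_neg (by simp)]

theorem Tri.unique (h : Tri s d) (h' : Tri s e) : d = e := by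
  funext i
  rw [← h.dg, h'.dg]

theorem Tri.pow (hs : SI s φ) (h : Tri s d) (k : ℕ) : ∃ e, Tri (s ^ k) e := by
  induction k with
  | zero => exact ⟨1, by rw [pow_zero]; exact Tri.one⟩
  | succ k ih =>
    obtain ⟨e, he⟩ := ih
    rw [pow_succ']
    exact ⟨_, Tri.mul hs h he⟩

theorem Tri.pow_lin (hs : SI s 1) (h : Tri s d) (k : ℕ) : Tri (s ^ k) (d ^ k) := by
  induction k with
  | zero => rw [pow_zero, pow_zero]; exact Tri.one
  | succ k ih =>
    rw [pow_succ' s]
    have h1 := Tri.mul hs h ih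
    convert h1 using 1
    funext i
    simp [pow_succ']

theorem pow_pred_eq_inv {H : Type*} [Group H] [Finite H] (x : H) : x ^ (orderOf x - 1) = x⁻¹ := by
  rw [eq_inv_iff_mul_eq_one, ← pow_succ, Nat.sub_add_cancel (orderOf_pos x), pow_orderOf_eq_one]

theorem Tri.inv [Finite F] (hs : SI s φ) (h : Tri s d) :
    Tri s⁻¹ (fun i => φ⁻¹ (d i)⁻¹) ∧ ∀ i, d i ≠ 0 := by
  obtain ⟨e, he⟩ := Tri.pow hs h (orderOf s - 1)
  rw [pow_pred_eq_inv] at he
  have h2 := Tri.mul hs h he
  rw [mul_inv_cancel] at h2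
  have h3 : ∀ i, d i * φ (e i) = 1 := fun i => congrFun (h2.unique Tri.one) i
  have h0 : ∀ i, d i ≠ 0 := fun i h0 => by
    have := h3 i
    rw [h0, zero_mul] at this
    exact zero_ne_one this
  refine ⟨?_, h0⟩
  convert he using 1
  funext i
  have h4 : φ (e i) = (d i)⁻¹ := (eq_inv_of_mul_eq_one_right (h3 i))
  rw [← h4]
  exact φ.symm_apply_apply (e i)

theorem tri_fa (φ : F ≃+* F) : Tri (fa n φ) 1 := by
  refine ⟨fun i => ?_, fun i j hij => ?_, fun i j => ?_⟩
  · rw [fa_be, be_apply, if_pos rfl]; rfl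
  · rw [fa_be, be_apply, if_neg]
    intro h
    exact hij.ne' (Sum.inl_injective h)
  · rw [fa_be, be_apply, if_neg (by simp)]

end tri

/-- the positive unipotent group -/
def Up (n : ℕ) (F : Type*) [Field F] [Finite F] : Subgroup (Sy n F) where
  carrier := {A | Tri (rho n F A) 1}
  mul_mem' := by
    intro A B hA hB
    have h := Tri.mul (SI.of_rho A) hA hB
    show Tri (rho n F (A * B)) 1
    rw [map_mul]
    convert h using 1
    funext i
    simp
  one_mem' := by
    show Tri (rho n F 1) 1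
    rw [map_one]; exact Tri.one
  inv_mem' := by
    intro A hA
    have h := (Tri.inv (SI.of_rho A) hA).1
    show Tri (rho n F A⁻¹) 1
    rw [map_inv]
    convert h using 1
    funext i
    simp

section up

variable [Finite F]

theorem mem_Up {A : Sy n F} : A ∈ Up n F ↔ Tri (rho n F A) 1 := Iff.rfl

theorem mem_Up_of_fix {A : Sy n F} (h : ∀ i, rho n F A (be n F (Sum.inl i)) = be n F (Sum.inl i)) : A ∈ Up n F := by
  refine ⟨fun i => ?_, fun i j hij => ?_, fun i j => ?_⟩
  · rw [h, be_apply, if_pos rfl]; rfl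
  · rw [h, be_apply, if_neg]
    intro h
    exact hij.ne' (Sum.inl_injective h)
  · rw [h, be_apply, if_neg (by simp)]

variable [CharP F 2]

theorem sy_mem_Up (i : Fin n) (a : F) : sy (Sum.inl i) a ∈ Up n F := by
  refine mem_Up_of_fix fun k => ?_
  rw [rho_sy, neg_inl, be_apply, if_neg (by simp), mul_zero, zero_smul, add_zero]

theorem sx_mem_Up (i j : Fin n) (a : F) : sx (Sum.inl i) (Sum.inl j) a ∈ Up n F := by
  by_cases hd : Dj (Sum.inl i : Ix n) (Sum.inl j)
  · refine mem_Up_of_fix fun k => ?_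
    rw [rho_sx hd, neg_inl, neg_inl, be_apply, be_apply, if_neg (by simp), if_neg (by simp), mul_zero, zero_smul,
      zero_smul, add_zero, add_zero]
  · rw [sx_of_not hd]; exact one_mem _

theorem dj_lr {i j : Fin n} (h : i ≠ j) : Dj (Sum.inl i : Ix n) (Sum.inr j) :=
  ⟨by simp, by simpa using h⟩

theorem dj_ll {i j : Fin n} (h : i ≠ j) : Dj (Sum.inl i : Ix n) (Sum.inl j) :=
  ⟨by simpa using h, by simp⟩

omit [Finite F] in
theorem rho_sx_lr {i j : Fin n} (h : i ≠ j) (a : F) (v : Ix n → F) :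
    rho n F (sx (Sum.inl i) (Sum.inr j) a) v =
      v + (a * v (Sum.inl j)) • be n F (Sum.inl i) + (a * v (Sum.inr i)) • be n F (Sum.inr j) := by
  rw [rho_sx (dj_lr h)]; rfl

theorem sx_mem_Up' {i j : Fin n} (h : i < j) (a : F) : sx (Sum.inl i) (Sum.inr j) a ∈ Up n F := by
  refine ⟨fun k => ?_, fun k l hkl => ?_, fun k l => ?_⟩
  · rw [rho_sx_lr h.ne]
    simp only [Pi.add_apply, Pi.smul_apply, smul_eq_mul, be_apply, Pi.one_apply]
    by_cases hk : k = i
    · subst hk
      have : (Sum.inl j : Ix n) ≠ Sum.inl k := fun e => h.ne' (Sum.inl_injective e)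
      simp [this]
    · simp [hk]
  · rw [rho_sx_lr h.ne]
    simp only [Pi.add_apply, Pi.smul_apply, smul_eq_mul, be_apply]
    have h1 : (Sum.inl l : Ix n) ≠ Sum.inl k := fun e => hkl.ne' (Sum.inl_injective e)
    by_cases hj : j = k
    · subst hj
      have h2 : (Sum.inl l : Ix n) ≠ Sum.inl i := fun e => (h.trans hkl).ne' (Sum.inl_injective e)
      simp [h1, h2]
    · have h2 : (Sum.inl j : Ix n) ≠ Sum.inl k := fun e => hj (Sum.inl_injective e)
      simp [h1, h2]
  · rw [rho_sx_lr h.ne]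
    simp only [Pi.add_apply, Pi.smul_apply, smul_eq_mul, be_apply]
    have h2 : (Sum.inr i : Ix n) ≠ Sum.inl k := by simp
    simp [h2]

end up

/-- the isotropic flag -/
def Fl (i : ℕ) (v : Ix n → F) : Prop := (∀ j, v (Sum.inr j) = 0) ∧ ∀ j : Fin n, i ≤ j.1 → v (Sum.inl j) = 0

theorem fl_be (i : Fin n) : Fl (i.1 + 1) (be n F (Sum.inl i)) := by
  refine ⟨fun j => ?_, fun j hj => ?_⟩
  · rw [be_apply, if_neg (by simp)]
  · rw [be_apply, if_neg]
    intro e
    rw [Sum.inl_injective e] at hj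
    omega

theorem fl_zero {v : Ix n → F} (h : Fl 0 v) : v = 0 := by
  funext k
  rcases k with k | k
  · exact h.2 k (Nat.zero_le _)
  · exact h.1 k

theorem Fl.mono {i j : ℕ} (hij : i ≤ j) {v : Ix n → F} (h : Fl i v) : Fl j v :=
  ⟨h.1, fun k hk => h.2 k (hij.trans hk)⟩

section flag

variable [Finite F]

/-- `Up` acts trivially on the factors of the flag -/
theorem up_sub {A : Sy n F} (hA : A ∈ Up n F) {i : ℕ} {v : Ix n → F} (hv : Fl (i + 1) v) :
    Fl i (rho n F A v - v) := by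
  have key : ∀ m, rho n F A v m = ∑ k : Fin n, v (Sum.inl k) * rho n F A (be n F (Sum.inl k)) m := by
    intro m
    rw [(SI.of_rho A).exp, Fintype.sum_sum_type, add_eq_left.2]
    · rfl
    · exact Finset.sum_eq_zero fun j _ => by rw [hv.1, map_zero, zero_mul]
  refine ⟨fun j => ?_, fun j hj => ?_⟩
  · rw [Pi.sub_apply, hv.1, sub_zero, key]
    exact Finset.sum_eq_zero fun k _ => by rw [hA.lo, mul_zero]
  · rw [Pi.sub_apply, sub_eq_zero, key, Finset.sum_eq_single j]
    · rw [hA.dg]; simp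
    · intro k _ hk
      rcases lt_or_gt_of_ne hk with h1 | h1
      · rw [hA.up k j h1, mul_zero]
      · rw [hv.2 k, zero_mul]
        have : j.1 < k.1 := h1
        omega
    · simp

variable [CharP F 2]

/-- and the flag is determined by this -/
theorem fl_of_sub {w : Ix n → F} {i : ℕ} (hi : i < n) (h : ∀ B ∈ Up n F, Fl i (rho n F B w - w)) :
    Fl (i + 1) w := by
  have hy : ∀ k : Fin n, i ≤ k.1 → w (Sum.inr k) = 0 := by
    intro k hk
    have h1 := (h _ (sy_mem_Up k 1)).2 k hk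
    rw [rho_sy] at h1
    simpa [be_apply] using h1
  have hlast : w (Sum.inr (⟨n - 1, by omega⟩ : Fin n)) = 0 := hy _ (by show i ≤ n - 1; omega)
  refine ⟨fun k => ?_, fun l hl => ?_⟩
  · by_cases hk : k.1 = n - 1
    · have : k = ⟨n - 1, by omega⟩ := Fin.ext hk
      rw [this]; exact hlast
    · have hlt : k < (⟨n - 1, by omega⟩ : Fin n) := by
        show k.1 < n - 1
        have := k.2
        omega
      have h1 := (h _ (sx_mem_Up' hlt 1)).1 ⟨n - 1, by omega⟩
      rw [rho_sx_lr hlt.ne] at h1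
      simpa [be_apply] using h1
  · have hlt : (⟨i, hi⟩ : Fin n) < l := hl
    have h1 := (h _ (sx_mem_Up' hlt 1)).2 ⟨i, hi⟩ le_rfl
    rw [rho_sx_lr hlt.ne] at h1
    simpa [be_apply] using h1

variable {s : Equiv.Perm (Ix n → F)} {φ : F ≃+* F}

omit [Finite F] [CharP F 2] in
theorem SI.sub (hs : SI s φ) (u v : Ix n → F) : s (u - v) = s u - s v := by
  have h := hs.add (u - v) v
  rw [sub_add_cancel] at h
  rw [h, add_sub_cancel_right]

theorem flag_of_norm (hs : SI s φ)
    (h : ∀ B ∈ Up n F, ∃ A ∈ Up n F, rho n F B = s * rho n F A * s⁻¹) :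
    ∀ i ≤ n, ∀ v : Ix n → F, Fl i v → Fl i (s v) := by
  intro i
  induction i with
  | zero =>
    intro _ v hv
    rw [fl_zero hv, hs.zero]
    exact ⟨fun _ => rfl, fun _ _ => rfl⟩
  | succ i ih =>
    intro hi v hv
    refine fl_of_sub (by omega) fun B hB => ?_
    obtain ⟨A, hA, e⟩ := h B hB
    have h1 : rho n F B (s v) = s (rho n F A v) := by
      rw [e, Equiv.Perm.mul_apply, Equiv.Perm.mul_apply, perm_inv_apply_self]
    rw [h1, ← hs.sub]
    exact ih (by omega) _ (up_sub hA hv)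

/-- a semi-isometry normalising `Up` is triangular -/
theorem tri_of_norm (hs : SI s φ)
    (h : ∀ B ∈ Up n F, ∃ A ∈ Up n F, rho n F B = s * rho n F A * s⁻¹) :
    Tri s fun i => s (be n F (Sum.inl i)) (Sum.inl i) := by
  have key : ∀ i : Fin n, Fl (i.1 + 1) (s (be n F (Sum.inl i))) :=
    fun i => flag_of_norm hs h _ i.2 _ (fl_be i)
  exact ⟨fun i => rfl, fun i j hij => (key i).2 j hij, fun i j => (key i).1 j⟩

omit [Finite F] in
theorem odd_smul {m : ℕ} (hm : Odd m) {w : Ix n → F} (h : (m : F) • w = 0) : w = 0 := by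
  obtain ⟨k, rfl⟩ := hm
  have : ((2 * k + 1 : ℕ) : F) = 1 := by
    push_cast
    rw [two0, zero_mul, zero_add]
  rwa [this, one_smul] at h

omit [Finite F] [CharP F 2] in
theorem rho_pow_of_fix {A : Sy n F} {v : Ix n → F} (h : rho n F A (rho n F A v - v) = rho n F A v - v) (k : ℕ) :
    rho n F (A ^ k) v = v + (k : F) • (rho n F A v - v) := by
  induction k with
  | zero => simp
  | succ k ih =>
    rw [pow_succ', map_mul, Equiv.Perm.mul_apply, ih, (SI.of_rho A).add, (SI.of_rho A).smul, h]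
    push_cast
    rw [add_smul, one_smul]
    have : (1 : F ≃+* F) (k : F) = k := rfl
    rw [this]
    abel

/-- `Up` has no elements of odd order -/
theorem eq_one_of_odd {A : Sy n F} (hA : A ∈ Up n F) {m : ℕ} (hm : Odd m) (h : A ^ m = 1) : A = 1 := by
  have key : ∀ v : Ix n → F, rho n F A (rho n F A v - v) = rho n F A v - v → rho n F A v = v := by
    intro v hv
    have h1 := rho_pow_of_fix hv m
    rw [h, map_one, Equiv.Perm.one_apply] at h1
    have h2 := odd_smul hm (add_eq_left.1 h1.symm)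
    exact sub_eq_zero.1 h2
  have h1 : ∀ i ≤ n, ∀ v : Ix n → F, Fl i v → rho n F A v = v := by
    intro i
    induction i with
    | zero =>
      intro _ v hv
      rw [fl_zero hv, (SI.of_rho A).zero]
    | succ i ih =>
      intro hi v hv
      exact key v (ih (by omega) _ (up_sub hA hv))
  apply rho_injective
  ext1 v
  rw [map_one, Equiv.Perm.one_apply]
  apply key
  apply h1 n le_rfl
  refine ⟨fun j => ?_, fun j hj => absurd j.2 (by omega)⟩
  have h2 : sympForm n F (rho n F A v) (be n F (Sum.inl j)) = sympForm n F v (be n F (Sum.inl j)) := by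
    conv_lhs => rw [← h1 n le_rfl (be n F (Sum.inl j)) ((fl_be j).mono j.2)]
    exact sympForm_rho A v _
  rw [form_be, form_be, neg_inl] at h2
  rw [Pi.sub_apply, h2, sub_self]

theorem isPGroup_Up : IsPGroup 2 (Up n F) := by
  rintro ⟨A, hA⟩
  obtain ⟨k, m, hm, h⟩ := Nat.exists_eq_two_pow_mul_odd (orderOf_pos A).ne'
  refine ⟨k, Subtype.ext ?_⟩
  show A ^ 2 ^ k = 1
  apply eq_one_of_odd (pow_mem hA _) hm
  rw [← pow_mul, ← h, pow_orderOf_eq_one]

/-- the elements of `Sp` normalising `Up` -/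
theorem mem_Up_of_norm {A : Sy n F} (h : ∀ B ∈ Up n F, A⁻¹ * B * A ∈ Up n F) {k : ℕ} (hk : A ^ 2 ^ k = 1) :
    A ∈ Up n F := by
  have h1 := tri_of_norm (SI.of_rho A) fun B hB => ⟨A⁻¹ * B * A, h B hB, by
    rw [← map_inv, ← map_mul, ← map_mul]; congr 1; group⟩
  have h2 := h1.pow_lin (SI.of_rho A) (2 ^ k)
  rw [← map_pow, hk, map_one] at h2
  rw [mem_Up]
  convert h1 using 1
  funext i
  have h3 := congrFun (h2.unique Tri.one) i
  exact (eq_one_of_pow_two h3).symm

/-- `Up` is a maximal 2-subgroup -/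
theorem Up_max {P : Subgroup (Sy n F)} (hP : IsPGroup 2 P) (h : Up n F ≤ P) : P ≤ Up n F := by
  have : Fact (Nat.Prime 2) := ⟨Nat.prime_two⟩
  have hnil : Group.IsNilpotent P := hP.isNilpotent
  by_contra hne
  have h1 : (Up n F).subgroupOf P < ⊤ := by
    rw [lt_top_iff_ne_top]
    intro e
    rw [Subgroup.subgroupOf_eq_top] at e
    exact hne e
  have h2 := Group.normalizerCondition_of_isNilpotent _ h1
  obtain ⟨x, hx, hx'⟩ := SetLike.exists_of_lt h2
  apply hx'
  rw [Subgroup.mem_subgroupOf]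
  obtain ⟨k, hk⟩ := hP x
  refine mem_Up_of_norm (fun B hB => ?_) (k := k) (congrArg Subtype.val hk)
  exact (Subgroup.mem_normalizer_iff''.1 hx ⟨B, h hB⟩).1 hB

omit [CharP F 2] in
/-- triangular semi-isometries normalise `Up` -/
theorem Tri.conj_mem {s : Equiv.Perm (Ix n → F)} {φ : F ≃+* F} {d : Fin n → F} (hs : SI s φ) (h : Tri s d)
    {A B : Sy n F} (hA : A ∈ Up n F) (hB : rho n F B = s * rho n F A * s⁻¹) : B ∈ Up n F := by
  obtain ⟨h1, h0⟩ := Tri.inv hs h
  have h2 := Tri.mul (hs.mul' (SI.of_rho A)) (Tri.mul hs h hA) h1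
  rw [← hB] at h2
  rw [mem_Up]
  convert h2 using 1
  funext i
  rw [mul_one]
  show 1 = d i * φ ((1 : Fin n → F) i) * φ (φ.symm (d i)⁻¹)
  rw [RingEquiv.apply_symm_apply, Pi.one_apply, map_one, mul_one, mul_inv_cancel₀ (h0 i)]

end flag

/-! ### the center of `Up` -/

/-- the first index -/
def c0 (hn : 3 ≤ n) : Fin n := ⟨0, by omega⟩

/-- the second index -/
def c1 (hn : 3 ≤ n) : Fin n := ⟨1, by omega⟩

/-- the third index -/
def c2 (hn : 3 ≤ n) : Fin n := ⟨2, by omega⟩

theorem c01 (hn : 3 ≤ n) : c0 hn ≠ c1 hn := by simp [c0, c1]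

/-- the element `x_12(a) y_1(b)` -/
noncomputable def zz (hn : 3 ≤ n) (a b : F) : Sy n F :=
  sx (Sum.inl (c0 hn)) (Sum.inl (c1 hn)) a * sy (Sum.inl (c0 hn)) b

section cent

variable [CharP F 2]

theorem rho_zz (hn : 3 ≤ n) (a b : F) (v : Ix n → F) :
    rho n F (zz hn a b) v = v + (a * v (Sum.inr (c1 hn)) + b * v (Sum.inr (c0 hn))) • be n F (Sum.inl (c0 hn)) +
      (a * v (Sum.inr (c0 hn))) • be n F (Sum.inl (c1 hn)) := by
  rw [zz, map_mul, Equiv.Perm.mul_apply, rho_sx (dj_ll (c01 hn)), rho_sy]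
  ext k
  simp only [Pi.add_apply, Pi.smul_apply, smul_eq_mul, be_apply, neg_inl]
  simp only [reduceCtorEq, if_false, mul_zero, add_zero]
  ring

theorem zz_mul (hn : 3 ≤ n) (a b a' b' : F) : zz hn a b * zz hn a' b' = zz hn (a + a') (b + b') := by
  apply rho_injective
  ext1 v
  rw [map_mul, Equiv.Perm.mul_apply, rho_zz, rho_zz, rho_zz]
  ext k
  simp only [Pi.add_apply, Pi.smul_apply, smul_eq_mul, be_apply]
  simp only [reduceCtorEq, if_false, mul_zero, add_zero]
  ring

theorem zz_zero (hn : 3 ≤ n) : zz hn (0 : F) 0 = 1 := by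
  rw [zz, sx_zero, sy_zero, one_mul]

theorem zz_inj (hn : 3 ≤ n) {a b a' b' : F} (h : zz hn a b = zz hn a' b') : a = a' ∧ b = b' := by
  have h1 := congrArg (fun A => rho n F A (be n F (Sum.inr (c0 hn))) (Sum.inl (c1 hn))) h
  have h2 := congrArg (fun A => rho n F A (be n F (Sum.inr (c0 hn))) (Sum.inl (c0 hn))) h
  have e := c01 hn
  simp only [rho_zz, Pi.add_apply, Pi.smul_apply, smul_eq_mul, be_apply] at h1 h2
  constructor
  · simpa [e, e.symm] using h1
  · simpa [e, e.symm] using h2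

theorem zz_mem_Up [Finite F] (hn : 3 ≤ n) (a b : F) : zz hn a b ∈ Up n F :=
  mul_mem (sx_mem_Up _ _ _) (sy_mem_Up _ _)

/-- an element commuting with `y_i(1)` fixes `e_i` -/
theorem fix_of_comm_sy {A : Sy n F} {i : Ix n} (h : Commute A (sy i 1)) : rho n F A (be n F i) = be n F i := by
  have h1 := (SI.of_rho A).conj_transv (be n F i) 1
  have h2 : rho n F A * rho n F (transv (be n F i) 1) * (rho n F A)⁻¹ = rho n F (transv (be n F i) 1) := by
    rw [← map_inv, ← map_mul, ← map_mul]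
    congr 1
    exact mul_inv_eq_iff_eq_mul.2 h.eq
  rw [h2, map_one] at h1
  exact (transv_inj (rho_injective h1)).symm

/-- the elements commuting with all the `x_r(1)`, `r > 0` -/
theorem exists_Z_of_comm (hn : 3 ≤ n) {A : Sy n F} (h1 : ∀ i : Fin n, Commute A (sy (Sum.inl i) 1))
    (h2 : ∀ i j : Fin n, i < j → Commute A (sx (Sum.inl i) (Sum.inr j) 1)) : ∃ a b, A = zz hn a b := by
  have hfix : ∀ i : Fin n, rho n F A (be n F (Sum.inl i)) = be n F (Sum.inl i) := fun i => fix_of_comm_sy (h1 i)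
  set w : Fin n → Ix n → F := fun j => rho n F A (be n F (Sum.inr j)) - be n F (Sum.inr j) with hw
  have hAw : ∀ j, rho n F A (be n F (Sum.inr j)) = be n F (Sum.inr j) + w j := fun j =>
    (add_sub_cancel (be n F (Sum.inr j)) (rho n F A (be n F (Sum.inr j)))).symm
  have f1 : ∀ j k : Fin n, w j (Sum.inr k) = 0 := by
    intro j k
    have h3 : sympForm n F (rho n F A (be n F (Sum.inr j))) (be n F (Sum.inl k)) =
        sympForm n F (be n F (Sum.inr j)) (be n F (Sum.inl k)) := by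
      conv_lhs => rw [← hfix k]
      exact sympForm_rho A _ _
    rw [form_be, form_be, neg_inl] at h3
    rw [hw]
    show rho n F A (be n F (Sum.inr j)) (Sum.inr k) - be n F (Sum.inr j) (Sum.inr k) = 0
    rw [h3, sub_self]
  have f2 : ∀ i j : Fin n, i < j → w j = (w i (Sum.inl j)) • be n F (Sum.inl i) := by
    intro i j hij
    have h3 := congrArg (fun B => rho n F B (be n F (Sum.inr i))) (h2 i j hij).eq
    simp only [map_mul, Equiv.Perm.mul_apply] at h3
    rw [rho_sx_lr hij.ne, rho_sx_lr hij.ne] at h3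
    have e1 : (be n F (Sum.inr i) : Ix n → F) + (1 * be n F (Sum.inr i) (Sum.inl j)) • be n F (Sum.inl i) +
        (1 * be n F (Sum.inr i) (Sum.inr i)) • be n F (Sum.inr j) = be n F (Sum.inr i) + be n F (Sum.inr j) := by
      rw [be_apply, be_apply, if_neg (by simp), if_pos rfl, mul_zero, zero_smul, mul_one, one_smul, add_zero]
    rw [e1, (SI.of_rho A).add, hAw, hAw] at h3
    have e2 : (be n F (Sum.inr i) + w i : Ix n → F) (Sum.inl j) = w i (Sum.inl j) := by
      rw [Pi.add_apply, be_apply, if_neg (by simp), zero_add]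
    have e3 : (be n F (Sum.inr i) + w i : Ix n → F) (Sum.inr i) = 1 := by
      rw [Pi.add_apply, be_apply, if_pos rfl, f1, add_zero]
    rw [e2, e3, one_mul, one_mul, one_smul] at h3
    have h4 : (be n F (Sum.inr i) + w i + be n F (Sum.inr j)) + w j =
        (be n F (Sum.inr i) + w i + be n F (Sum.inr j)) + w i (Sum.inl j) • be n F (Sum.inl i) := by
      calc _ = be n F (Sum.inr i) + w i + (be n F (Sum.inr j) + w j) := by abel
        _ = _ := h3
        _ = _ := by abel
    exact add_left_cancel h4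
  have h01 : c0 hn < c1 hn := by show 0 < 1; omega
  have f3 : ∀ j : Fin n, 2 ≤ j.1 → w j = 0 ∧ w (c0 hn) (Sum.inl j) = 0 := by
    intro j hj
    have g0 := f2 (c0 hn) j (by show 0 < j.1; omega)
    have g1 := f2 (c1 hn) j (by show 1 < j.1; omega)
    have g2 := congrFun (g0.symm.trans g1) (Sum.inl (c0 hn))
    have g3 : w (c0 hn) (Sum.inl j) = 0 := by
      simpa [be_apply, c01 hn] using g2
    refine ⟨?_, g3⟩
    rw [g0, g3, zero_smul]
  refine ⟨w (c0 hn) (Sum.inl (c1 hn)), w (c0 hn) (Sum.inl (c0 hn)), ?_⟩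
  apply rho_injective
  refine SI.ext (SI.of_rho A) (SI.of_rho _) fun k => ?_
  rw [rho_zz]
  rcases k with k | k
  · rw [hfix, be_apply, be_apply, if_neg (by simp), if_neg (by simp), mul_zero, mul_zero, add_zero, zero_smul,
      zero_smul, add_zero, add_zero]
  · rw [hAw, add_assoc]
    congr 1
    ext m
    simp only [Pi.add_apply, Pi.smul_apply, smul_eq_mul, be_apply, Sum.inr.injEq]
    have e := c01 hn
    by_cases hk0 : k = c0 hn
    · subst hk0
      rcases m with m | m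
      · by_cases hm0 : m = c0 hn
        · subst hm0; simp [e, e.symm]
        by_cases hm1 : m = c1 hn
        · subst hm1; simp [e.symm]
        · have hm2 : 2 ≤ m.1 := by
            have a0 : m.1 ≠ 0 := fun e => hm0 (Fin.ext e)
            have a1 : m.1 ≠ 1 := fun e => hm1 (Fin.ext e)
            omega
          simp [hm0, hm1, (f3 m hm2).2]
      · simp [f1]
    by_cases hk1 : k = c1 hn
    · subst hk1
      rw [f2 _ _ h01]
      simp [be_apply, e]
    · have hk2 : 2 ≤ k.1 := by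
        have a0 : k.1 ≠ 0 := fun e => hk0 (Fin.ext e)
        have a1 : k.1 ≠ 1 := fun e => hk1 (Fin.ext e)
        omega
      rw [(f3 k hk2).1]
      simp [Ne.symm hk0, Ne.symm hk1]

/-- `X_12 Y_1` is central in `Up` -/
theorem comm_Z [Finite F] (hn : 3 ≤ n) {A : Sy n F} (hA : A ∈ Up n F) (a b : F) : Commute A (zz hn a b) := by
  have g0 : rho n F A (be n F (Sum.inl (c0 hn))) = be n F (Sum.inl (c0 hn)) :=
    sub_eq_zero.1 (fl_zero (up_sub hA (fl_be (c0 hn))))
  obtain ⟨μ, g1⟩ : ∃ μ : F, rho n F A (be n F (Sum.inl (c1 hn))) =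
      be n F (Sum.inl (c1 hn)) + μ • be n F (Sum.inl (c0 hn)) := by
    have h := up_sub hA (fl_be (c1 hn))
    refine ⟨(rho n F A (be n F (Sum.inl (c1 hn))) - be n F (Sum.inl (c1 hn))) (Sum.inl (c0 hn)), ?_⟩
    rw [← sub_eq_iff_eq_add']
    ext m
    rcases m with m | m
    · by_cases hm : m = c0 hn
      · subst hm; simp [be_apply]
      · have hm1 : 1 ≤ m.1 := by
          have a0 : m.1 ≠ 0 := fun e => hm (Fin.ext e)
          omega
        rw [h.2 m hm1]
        simp [be_apply, hm]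
    · rw [h.1 m]
      simp [be_apply]
  apply rho_injective
  rw [map_mul, map_mul]
  ext1 v
  rw [Equiv.Perm.mul_apply, Equiv.Perm.mul_apply, rho_zz, rho_zz]
  have k0 : rho n F A v (Sum.inr (c0 hn)) = v (Sum.inr (c0 hn)) := by
    have h := sympForm_rho A v (be n F (Sum.inl (c0 hn)))
    rw [g0, form_be, form_be] at h
    exact h
  have k1 : rho n F A v (Sum.inr (c1 hn)) = v (Sum.inr (c1 hn)) + μ * v (Sum.inr (c0 hn)) := by
    have h := sympForm_rho A v (be n F (Sum.inl (c1 hn)))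
    rw [g1, sympForm_add_right, sympForm_smul_right, form_be, form_be, form_be, neg_inl, neg_inl, k0] at h
    rw [← h, add_assoc, CharTwo.add_self_eq_zero, add_zero]
  rw [k0, k1, (SI.of_rho A).add, (SI.of_rho A).add, (SI.of_rho A).smul, (SI.of_rho A).smul, g0, g1]
  ext m
  simp only [Pi.add_apply, Pi.smul_apply, smul_eq_mul]
  have e : ∀ x : F, (1 : F ≃+* F) x = x := fun _ => rfl
  rw [e, e]
  ring

end cent

end Cfsg.Agent.OddHalf.SpN.Out

end

-- merged: Cfsg.Agent.OddHalf.SpN.OutNorm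
section

/-!
# D7, `K = Sp_2n(q)`, `q` even: normal form of the triangular field involutions (helper979)

* `exists_good`: `s` triangular, `φ(s) = τ` an involution, `s² ∈ Up`: some `s A`, `A ∈ Up`, is an involution;
* `exists_normal`: a triangular involution `s` with `φ(s) = τ` is `b τ b⁻¹` with `b ∈ Sp` triangular.
-/

set_option autoImplicit false

namespace Cfsg.Agent.OddHalf.SpN.Out

open Cfsg Cfsg.Agent.ClassicalGeometry.SympBasic Cfsg.Agent.ClassicalGeometry.SympAutSemi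
open Cfsg.Agent.OddHalf.SpN
open scoped Matrix commutatorElement

variable {n : ℕ} {F : Type*} [Field F]

/-! ### the action on the root elements -/

section roots

variable [CharP F 2]

theorem fa_sy (φ : F ≃+* F) (i : Ix n) (a : F) :
    rho n F (sy i (φ a)) = fa n φ * rho n F (sy i a) * (fa n φ)⁻¹ := by
  rw [eq_mul_inv_iff_mul_eq]
  ext v k
  rw [Equiv.Perm.mul_apply, Equiv.Perm.mul_apply, rho_sy, fa_apply, rho_sy]
  simp only [Pi.add_apply, Pi.smul_apply, smul_eq_mul, fa_apply, be_apply, map_add, map_mul]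
  split_ifs <;> simp

theorem fa_sx (φ : F ≃+* F) (i j : Ix n) (a : F) :
    rho n F (sx i j (φ a)) = fa n φ * rho n F (sx i j a) * (fa n φ)⁻¹ := by
  by_cases hd : Dj i j
  · rw [eq_mul_inv_iff_mul_eq]
    ext v k
    rw [Equiv.Perm.mul_apply, Equiv.Perm.mul_apply, rho_sx hd, fa_apply, rho_sx hd]
    simp only [Pi.add_apply, Pi.smul_apply, smul_eq_mul, fa_apply, be_apply, map_add, map_mul]
    split_ifs <;> simp
  · rw [sx_of_not hd, sx_of_not hd, map_one]; group

theorem fa_zz (hn : 3 ≤ n) (φ : F ≃+* F) (a b : F) :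
    rho n F (zz hn (φ a) (φ b)) = fa n φ * rho n F (zz hn a b) * (fa n φ)⁻¹ := by
  rw [zz, zz, map_mul, map_mul, fa_sy, fa_sx]; group

end roots

/-! ### two kinds of symplectic matrices -/

/-- Levi elements -/
theorem exists_levi (M : Matrix (Fin n) (Fin n) F) (hM : M.det ≠ 0) :
    ∃ g : Sy n F, ∀ i, (∀ j, rho n F g (be n F (Sum.inl i)) (Sum.inl j) = M j i) ∧
      ∀ j, rho n F g (be n F (Sum.inl i)) (Sum.inr j) = 0 := by
  have hu : IsUnit M.det := isUnit_iff_ne_zero.2 hM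
  refine ⟨⟨Matrix.fromBlocks M 0 0 (M⁻¹)ᵀ, ?_⟩, fun i => ⟨fun j => ?_, fun j => ?_⟩⟩
  · rw [SymplecticGroup.mem_iff, Matrix.J, Matrix.fromBlocks_transpose, Matrix.fromBlocks_multiply,
      Matrix.fromBlocks_multiply]
    have h1 : M * M⁻¹ = 1 := Matrix.mul_nonsing_inv _ hu
    have h2 : (M⁻¹)ᵀ * Mᵀ = 1 := by rw [← Matrix.transpose_mul, h1, Matrix.transpose_one]
    simp [h1, h2]
  · rw [rho_apply, be, Matrix.mulVec_single_one]; rfl
  · rw [rho_apply, be, Matrix.mulVec_single_one]; rfl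

/-- elements of the unipotent radical -/
theorem exists_unip (N : Matrix (Fin n) (Fin n) F) (hN : Nᵀ = N) :
    ∃ g : Sy n F, (∀ i, rho n F g (be n F (Sum.inl i)) = be n F (Sum.inl i)) ∧
      ∀ i k, rho n F g (be n F (Sum.inr i)) k = be n F (Sum.inr i) k + Sum.elim (fun j => N j i) (fun _ => 0) k := by
  refine ⟨⟨Matrix.fromBlocks 1 N 0 1, ?_⟩, fun i => ?_, fun i k => ?_⟩
  · rw [SymplecticGroup.mem_iff, Matrix.J, Matrix.fromBlocks_transpose, Matrix.fromBlocks_multiply,
      Matrix.fromBlocks_multiply]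
    simp [hN]
  · rw [rho_apply, be, Matrix.mulVec_single_one]
    ext k
    rcases k with k | k
    · simp [Matrix.one_apply, Pi.single_apply]
    · simp
  · rw [rho_apply, be, Matrix.mulVec_single_one]
    rcases k with k | k
    · simp
    · simp [Matrix.one_apply, Pi.single_apply]

section norm

variable [CharP F 2] {τ : F ≃+* F}

theorem exists_lead (hτ1 : ∃ x, τ x ≠ x) (d : F) : ∃ c : F, c * d + τ c ≠ 0 := by
  by_contra hne
  push Not at hne
  obtain ⟨x, hx⟩ := hτ1
  have h1 := hne 1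
  rw [map_one, one_mul, add_eq_zero_iff_eq_neg, CharTwo.neg_eq] at h1
  have h2 := hne x
  rw [h1, mul_one, add_eq_zero_iff_eq_neg, CharTwo.neg_eq] at h2
  exact hx h2.symm

/-- the trace is surjective -/
theorem exists_tr (hτ : ∀ x, τ (τ x) = x) (hτ1 : ∃ x, τ x ≠ x) {x : F} (hx : τ x = x) : ∃ y : F, x = y + τ y := by
  obtain ⟨y, hy⟩ := hτ1
  have hy0 : y + τ y ≠ 0 := by
    intro h
    apply hy
    rw [add_eq_zero_iff_eq_neg, CharTwo.neg_eq] at h
    exact h.symm
  refine ⟨x * (y + τ y)⁻¹ * y, ?_⟩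
  have h1 : τ (y + τ y) = y + τ y := by rw [map_add, hτ, add_comm]
  rw [map_mul, map_mul, map_inv₀, h1, hx]
  field_simp

/-- Hilbert 90 -/
theorem exists_h90 (hτ : ∀ x, τ (τ x) = x) (hτ1 : ∃ x, τ x ≠ x) {d : F} (hd : d * τ d = 1) :
    ∃ k : Fˣ, d * τ k = k := by
  obtain ⟨c, hc⟩ := exists_lead hτ1 d
  refine ⟨Units.mk0 _ hc, ?_⟩
  rw [Units.val_mk0, map_add, map_mul, hτ]
  linear_combination τ c * hd

omit [CharP F 2] in
theorem tri_sh (k : Fin n → Fˣ) : Tri (rho n F (sh k)) fun i => (k i : F) := by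
  refine ⟨fun i => ?_, fun i j hij => ?_, fun i j => ?_⟩
  · rw [rho_sh, be_apply, if_pos rfl, mul_one]; rfl
  · rw [rho_sh, be_apply, if_neg, mul_zero]
    intro h
    exact hij.ne' (Sum.inl_injective h)
  · rw [rho_sh, be_apply, if_neg (by simp), mul_zero]

/-- (A) a good element in the coset -/
theorem exists_good [Finite F] (hτ : ∀ x, τ (τ x) = x) (hτ1 : ∃ x, τ x ≠ x) {s : Equiv.Perm (Ix n → F)}
    {d : Fin n → F} (hs : SI s τ) (h : Tri s d) {B : Sy n F} (hB : B ∈ Up n F) (hsB : s * s = rho n F B) :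
    ∃ A ∈ Up n F, (s * rho n F A) * (s * rho n F A) = 1 := by
  have h1 := Tri.mul hs h h
  rw [hsB] at h1
  have h2 : ∀ i, d i * τ (d i) = 1 := fun i => congrFun (h1.unique hB) i
  choose k hk using fun i => exists_h90 hτ hτ1 (h2 i)
  set g : Equiv.Perm (Ix n → F) := rho n F (sh k) * fa n τ * (rho n F (sh k))⁻¹ with hg
  have hττ : τ * τ = 1 := RingEquiv.ext hτ
  have hgs : SI g τ := by
    have h3 := ((SI.of_rho (sh k)).mul' (SI.of_fa τ)).mul' (SI.of_rho (sh k)).inv'
    rwa [one_mul, inv_one, mul_one] at h3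
  have hgg : g * g = 1 := by
    have h4 : fa n τ * fa n τ = 1 := by rw [← fa_mul, hττ, fa_one]
    rw [hg]
    calc _ = rho n F (sh k) * (fa n τ * fa n τ) * (rho n F (sh k))⁻¹ := by group
      _ = 1 := by rw [h4]; group
  have hgt : Tri g d := by
    have h3 := Tri.mul ((SI.of_rho (sh k)).mul' (SI.of_fa τ)) (Tri.mul (SI.of_rho (sh k)) (tri_sh k) (tri_fa τ))
      (Tri.inv (SI.of_rho (sh k)) (tri_sh k)).1
    convert h3 using 1
    funext i
    show d i = (k i : F) * (1 : F ≃+* F) ((1 : Fin n → F) i) * τ (((1 : F ≃+* F)⁻¹) ((k i : F)⁻¹))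
    rw [Pi.one_apply, map_one, mul_one, inv_one]
    show d i = (k i : F) * τ ((k i : F)⁻¹)
    have h5 : τ (k i) ≠ 0 := by
      rw [Ne, EmbeddingLike.map_eq_zero_iff]; exact (k i).ne_zero
    rw [map_inv₀, eq_mul_inv_iff_mul_eq₀ h5]
    exact hk i
  have h6 := hs.inv'.mul' hgs
  rw [inv_mul_cancel] at h6
  obtain ⟨A, hA⟩ := h6.exists_rho
  have h7 : s * rho n F A = g := by rw [hA]; group
  refine ⟨A, ?_, by rw [h7, hgg]⟩
  rw [mem_Up, hA]
  have h8 := Tri.mul hs.inv' (Tri.inv hs h).1 hgt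
  convert h8 using 1
  funext i
  rw [← map_mul, inv_mul_cancel₀ ((Tri.inv hs h).2 i), map_one]; rfl

theorem form_be_left (v : Ix n → F) (i : Ix n) : sympForm n F (be n F i) v = v (neg i) := by
  rw [sympForm_swap, form_be, CharTwo.neg_eq]

/-- the fixed flag -/
theorem exists_levi_fix (hτ : ∀ x, τ (τ x) = x) (hτ1 : ∃ x, τ x ≠ x) {s : Equiv.Perm (Ix n → F)}
    {d : Fin n → F} (hs : SI s τ) (h : Tri s d) (hss : s * s = 1) :
    ∃ (g : Sy n F) (k : Fin n → F), Tri (rho n F g) k ∧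
      ∀ i, s (rho n F g (be n F (Sum.inl i))) = rho n F g (be n F (Sum.inl i)) := by
  choose c hc using fun i => exists_lead hτ1 (d i)
  set e : Fin n → Ix n → F := fun i => c i • s (be n F (Sum.inl i)) + τ (c i) • be n F (Sum.inl i) with he
  have hse : ∀ i, s (e i) = e i := by
    intro i
    have h1 : s (s (be n F (Sum.inl i))) = be n F (Sum.inl i) := by
      rw [← Equiv.Perm.mul_apply, hss, Equiv.Perm.one_apply]
    rw [he]
    show s (c i • s (be n F (Sum.inl i)) + τ (c i) • be n F (Sum.inl i)) = _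
    rw [hs.add, hs.smul, hs.smul, hτ, h1, add_comm]
  have e1 : ∀ i, e i (Sum.inl i) = c i * d i + τ (c i) := fun i => by
    show c i * s (be n F (Sum.inl i)) (Sum.inl i) + τ (c i) * be n F (Sum.inl i) (Sum.inl i) = _
    rw [h.dg, be_apply, if_pos rfl, mul_one]
  have e2 : ∀ i j, i < j → e i (Sum.inl j) = 0 := fun i j hij => by
    show c i * s (be n F (Sum.inl i)) (Sum.inl j) + τ (c i) * be n F (Sum.inl i) (Sum.inl j) = _
    rw [h.up i j hij, be_apply, if_neg, mul_zero, mul_zero, add_zero]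
    intro h; exact hij.ne' (Sum.inl_injective h)
  have e3 : ∀ i j, e i (Sum.inr j) = 0 := fun i j => by
    show c i * s (be n F (Sum.inl i)) (Sum.inr j) + τ (c i) * be n F (Sum.inl i) (Sum.inr j) = _
    rw [h.lo i j, be_apply, if_neg (by simp), mul_zero, mul_zero, add_zero]
  set M : Matrix (Fin n) (Fin n) F := Matrix.of fun j i => e i (Sum.inl j) with hM
  have hdet : M.det ≠ 0 := by
    have h1 : M.BlockTriangular id := by
      intro i j hij
      exact e2 j i hij
    rw [Matrix.det_of_isUpperTriangular h1, Finset.prod_ne_zero_iff]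
    intro i _
    show e i (Sum.inl i) ≠ 0
    rw [e1]; exact hc i
  obtain ⟨g, hg⟩ := exists_levi M hdet
  have hge : ∀ i, rho n F g (be n F (Sum.inl i)) = e i := by
    intro i
    ext k
    rcases k with k | k
    · rw [(hg i).1]; rfl
    · rw [(hg i).2, e3]
  refine ⟨g, fun i => c i * d i + τ (c i), ⟨fun i => ?_, fun i j hij => ?_, fun i j => ?_⟩, fun i => ?_⟩
  · rw [hge, e1]
  · rw [hge, e2 i j hij]
  · rw [hge, e3]
  · rw [hge, hse]

/-- `H¹` of the unipotent radical -/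
theorem exists_unip_fix (hτ : ∀ x, τ (τ x) = x) (hτ1 : ∃ x, τ x ≠ x) {s : Equiv.Perm (Ix n → F)}
    (hs : SI s τ) (hss : s * s = 1) (hfix : ∀ i, s (be n F (Sum.inl i)) = be n F (Sum.inl i)) :
    ∃ B : Sy n F, (∀ i, rho n F B (be n F (Sum.inl i)) = be n F (Sum.inl i)) ∧ s * rho n F B = rho n F B * fa n τ := by
  obtain ⟨c, hc⟩ := exists_tr hτ hτ1 (map_one τ)
  set w : Fin n → Ix n → F := fun j => s (be n F (Sum.inr j)) - be n F (Sum.inr j) with hw
  have hsw : ∀ j, s (be n F (Sum.inr j)) = be n F (Sum.inr j) + w j := fun j =>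
    (add_sub_cancel (be n F (Sum.inr j)) (s (be n F (Sum.inr j)))).symm
  have f1 : ∀ j k : Fin n, w j (Sum.inr k) = 0 := by
    intro j k
    have h3 := hs.form (be n F (Sum.inr j)) (be n F (Sum.inl k))
    rw [hfix, form_be, form_be, neg_inl] at h3
    show s (be n F (Sum.inr j)) (Sum.inr k) - be n F (Sum.inr j) (Sum.inr k) = 0
    rw [h3, be_apply]
    split_ifs <;> simp
  have f2 : ∀ j, s (w j) = w j := by
    intro j
    have h1 : s (s (be n F (Sum.inr j))) = be n F (Sum.inr j) := by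
      rw [← Equiv.Perm.mul_apply, hss, Equiv.Perm.one_apply]
    show s (s (be n F (Sum.inr j)) - be n F (Sum.inr j)) = s (be n F (Sum.inr j)) - be n F (Sum.inr j)
    rw [hs.sub, h1]
    ext k
    rw [Pi.sub_apply, Pi.sub_apply, CharTwo.sub_eq_add, CharTwo.sub_eq_add, add_comm]
  have f3 : ∀ j k, w j (Sum.inl k) = w k (Sum.inl j) := by
    intro j k
    have h3 := hs.form (be n F (Sum.inr j)) (be n F (Sum.inr k))
    rw [hsw, hsw, sympForm_add_left, sympForm_add_right, sympForm_add_right, form_be_left, form_be_left, form_be,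
      neg_inr, neg_inr, be_apply, if_neg (by simp), map_zero, zero_add] at h3
    have h4 : sympForm n F (w j) (w k) = 0 := by
      rw [sympForm_eq_sum]
      exact Finset.sum_eq_zero fun i _ => by rw [f1, f1, zero_mul, mul_zero, sub_zero]
    rw [h4, add_zero, add_eq_zero_iff_eq_neg, CharTwo.neg_eq] at h3
    exact h3.symm
  obtain ⟨B, hB1, hB2⟩ := exists_unip (Matrix.of fun j i => c * w i (Sum.inl j)) (by
    ext j i
    show c * w j (Sum.inl i) = c * w i (Sum.inl j)
    rw [f3])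
  have hB3 : ∀ j, rho n F B (be n F (Sum.inr j)) = be n F (Sum.inr j) + c • w j := by
    intro j
    ext k
    rw [hB2]
    rcases k with k | k
    · rfl
    · show _ = be n F (Sum.inr j) (Sum.inr k) + c * w j (Sum.inr k)
      rw [f1, mul_zero]; rfl
  refine ⟨B, hB1, SI.ext (φ := τ) ?_ ?_ fun k => ?_⟩
  · have h := hs.mul' (SI.of_rho B)
    rwa [mul_one] at h
  · have h := (SI.of_rho B).mul' (SI.of_fa τ)
    rwa [one_mul] at h
  · rw [Equiv.Perm.mul_apply, Equiv.Perm.mul_apply, fa_be]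
    rcases k with k | k
    · rw [hB1, hfix]
    · rw [hB3, hs.add, hs.smul, hsw, f2, add_assoc]
      congr 1
      have h5 : w k + τ c • w k = (1 + τ c) • w k := by rw [add_smul, one_smul]
      rw [h5]
      congr 1
      linear_combination hc + τ c * (two0 : (2 : F) = 0)

/-- **The normal form** -/
theorem exists_normal (hτ : ∀ x, τ (τ x) = x) (hτ1 : ∃ x, τ x ≠ x) {s : Equiv.Perm (Ix n → F)}
    {d : Fin n → F} (hs : SI s τ) (h : Tri s d) (hss : s * s = 1) :
    ∃ (b : Sy n F) (k : Fin n → F), Tri (rho n F b) k ∧ s = rho n F b * fa n τ * (rho n F b)⁻¹ := by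
  obtain ⟨g, k, hg, hgf⟩ := exists_levi_fix hτ hτ1 hs h hss
  set s1 : Equiv.Perm (Ix n → F) := (rho n F g)⁻¹ * s * rho n F g with hs1
  have hS : SI s1 τ := by
    have h1 := ((SI.of_rho g).inv'.mul' hs).mul' (SI.of_rho g)
    rwa [inv_one, one_mul, mul_one] at h1
  have hSS : s1 * s1 = 1 := by
    rw [hs1]
    calc _ = (rho n F g)⁻¹ * (s * s) * rho n F g := by group
      _ = 1 := by rw [hss]; group
  have hSf : ∀ i, s1 (be n F (Sum.inl i)) = be n F (Sum.inl i) := by
    intro i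
    rw [hs1, Equiv.Perm.mul_apply, Equiv.Perm.mul_apply, hgf, perm_inv_apply_self]
  obtain ⟨B, hB1, hB2⟩ := exists_unip_fix hτ hτ1 hS hSS hSf
  refine ⟨g * B, k, ?_, ?_⟩
  · rw [map_mul]
    have hBt : Tri (rho n F B) 1 := by
      refine ⟨fun i => ?_, fun i j hij => ?_, fun i j => ?_⟩
      · rw [hB1, be_apply, if_pos rfl]; rfl
      · rw [hB1, be_apply, if_neg]
        intro h
        exact hij.ne' (Sum.inl_injective h)
      · rw [hB1, be_apply, if_neg (by simp)]
    have h1 := Tri.mul (SI.of_rho g) hg hBt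
    convert h1 using 1
    funext i
    rw [Pi.one_apply, map_one, mul_one]
  · have h1 : s1 = rho n F B * fa n τ * (rho n F B)⁻¹ := by rw [← hB2]; group
    have h2 : s = rho n F g * s1 * (rho n F g)⁻¹ := by rw [hs1]; group
    rw [h2, h1, map_mul]; group

end norm

end Cfsg.Agent.OddHalf.SpN.Out

end

-- merged: Cfsg.Agent.OddHalf.SpN.OutTri
section

/-!
# D7, `K = Sp_2n(q)`, `q` even: a Sylow 2-subgroup `T` of `C(t)` with `T ∩ K = U` (helper979)

`DatT ι t v T`. For `x ∈ T` the semi-isometry `D.sH x` is triangular; `x ∈ ι(U) ⟨v⟩` if it is linear.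
-/

set_option autoImplicit false

namespace Cfsg.Agent.OddHalf.SpN.Out

open Cfsg Cfsg.Agent.ClassicalGeometry.SympBasic Cfsg.Agent.ClassicalGeometry.SympAutSemi
open Cfsg.Agent.OddHalf.SpN
open scoped Matrix commutatorElement

variable {n : ℕ} {F : Type*} [Field F]

/-- `Z = X_12 Y_1` -/
noncomputable def Zz [CharP F 2] (hn : 3 ≤ n) : Subgroup (Sy n F) where
  carrier := {A | ∃ a b, A = zz hn a b}
  mul_mem' := by
    rintro _ _ ⟨a, b, rfl⟩ ⟨a', b', rfl⟩
    exact ⟨_, _, zz_mul hn a b a' b'⟩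
  one_mem' := ⟨0, 0, (zz_zero hn).symm⟩
  inv_mem' := by
    rintro _ ⟨a, b, rfl⟩
    refine ⟨a, b, inv_eq_of_mul_eq_one_left ?_⟩
    rw [zz_mul, CharTwo.add_self_eq_zero, CharTwo.add_self_eq_zero, zz_zero]

/-- `X_12` -/
noncomputable def X12 [CharP F 2] (hn : 3 ≤ n) : Subgroup (Sy n F) where
  carrier := {A | ∃ a, A = zz hn a 0}
  mul_mem' := by
    rintro _ _ ⟨a, rfl⟩ ⟨a', rfl⟩
    exact ⟨a + a', by rw [zz_mul, add_zero]⟩
  one_mem' := ⟨0, (zz_zero hn).symm⟩
  inv_mem' := by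
    rintro _ ⟨a, rfl⟩
    refine ⟨a, inv_eq_of_mul_eq_one_left ?_⟩
    rw [zz_mul, CharTwo.add_self_eq_zero, add_zero, zz_zero]

/-- `Y_1` -/
noncomputable def Y1 [CharP F 2] (hn : 3 ≤ n) : Subgroup (Sy n F) where
  carrier := {A | ∃ b, A = zz hn 0 b}
  mul_mem' := by
    rintro _ _ ⟨a, rfl⟩ ⟨a', rfl⟩
    exact ⟨a + a', by rw [zz_mul, add_zero]⟩
  one_mem' := ⟨0, (zz_zero hn).symm⟩
  inv_mem' := by
    rintro _ ⟨a, rfl⟩
    refine ⟨a, inv_eq_of_mul_eq_one_left ?_⟩
    rw [zz_mul, CharTwo.add_self_eq_zero, CharTwo.add_self_eq_zero, zz_zero]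

section act

variable [CharP F 2]

theorem mem_Zz (hn : 3 ≤ n) {A : Sy n F} : A ∈ Zz hn ↔ ∃ a b, A = zz hn a b := Iff.rfl

theorem mem_X12 (hn : 3 ≤ n) {A : Sy n F} : A ∈ X12 hn ↔ ∃ a, A = zz hn a 0 := Iff.rfl

theorem mem_Y1 (hn : 3 ≤ n) {A : Sy n F} : A ∈ Y1 hn ↔ ∃ b, A = zz hn 0 b := Iff.rfl

theorem Zz_le [Finite F] (hn : 3 ≤ n) : Zz hn ≤ Up n F := by
  rintro _ ⟨a, b, rfl⟩
  exact zz_mem_Up hn a b

theorem X12_le (hn : 3 ≤ n) : (X12 hn : Subgroup (Sy n F)) ≤ Zz hn := by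
  rintro _ ⟨a, rfl⟩
  exact ⟨a, 0, rfl⟩

theorem Y1_le (hn : 3 ≤ n) : (Y1 hn : Subgroup (Sy n F)) ≤ Zz hn := by
  rintro _ ⟨a, rfl⟩
  exact ⟨0, a, rfl⟩

/-- `Z(Up) = Zz` -/
theorem mem_Zz_iff [Finite F] (hn : 3 ≤ n) {A : Sy n F} : A ∈ Zz hn ↔ ∀ B ∈ Up n F, Commute B A := by
  constructor
  · rintro ⟨a, b, rfl⟩ B hB
    exact comm_Z hn hB a b
  · intro h
    exact exists_Z_of_comm hn (fun i => (h _ (sy_mem_Up i 1)).symm) fun i j hij => (h _ (sx_mem_Up' hij 1)).symm

/-- the action of a triangular semi-isometry on `Z` -/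
theorem Tri.conj_zz (hn : 3 ≤ n) {s : Equiv.Perm (Ix n → F)} {φ : F ≃+* F} {d : Fin n → F} (hs : SI s φ)
    (h : Tri s d) (a b : F) : rho n F (zz hn (d (c0 hn) * d (c1 hn) * φ a) (d (c0 hn) ^ 2 * φ b)) =
      s * rho n F (zz hn a b) * s⁻¹ := by
  have g0 : s (be n F (Sum.inl (c0 hn))) = d (c0 hn) • be n F (Sum.inl (c0 hn)) := by
    ext m
    rw [Pi.smul_apply, smul_eq_mul, be_apply]
    rcases m with m | m
    · by_cases hm : m = c0 hn
      · subst hm; rw [h.dg, if_pos rfl, mul_one]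
      · have hlt : c0 hn < m := by
          have a0 : m.1 ≠ 0 := fun e => hm (Fin.ext e)
          show 0 < m.1
          omega
        rw [h.up _ _ hlt, if_neg (fun e => hm (Sum.inl_injective e)), mul_zero]
    · rw [h.lo, if_neg (by simp), mul_zero]
  obtain ⟨μ, g1⟩ : ∃ μ : F, s (be n F (Sum.inl (c1 hn))) =
      d (c1 hn) • be n F (Sum.inl (c1 hn)) + μ • be n F (Sum.inl (c0 hn)) := by
    refine ⟨s (be n F (Sum.inl (c1 hn))) (Sum.inl (c0 hn)), ?_⟩
    ext m
    rw [Pi.add_apply, Pi.smul_apply, Pi.smul_apply, smul_eq_mul, smul_eq_mul, be_apply, be_apply]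
    rcases m with m | m
    · by_cases hm : m = c0 hn
      · subst hm
        rw [if_neg (fun e => c01 hn (Sum.inl_injective e)), if_pos rfl, mul_one, mul_zero, zero_add]
      by_cases hm1 : m = c1 hn
      · subst hm1
        rw [h.dg, if_pos rfl, if_neg (fun e => hm (Sum.inl_injective e)), mul_one, mul_zero, add_zero]
      · have hlt : c1 hn < m := by
          have a0 : m.1 ≠ 0 := fun e => hm (Fin.ext e)
          have a1 : m.1 ≠ 1 := fun e => hm1 (Fin.ext e)
          show 1 < m.1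
          omega
        rw [h.up _ _ hlt, if_neg (fun e => hm1 (Sum.inl_injective e)), if_neg (fun e => hm (Sum.inl_injective e)),
          mul_zero, mul_zero, add_zero]
    · rw [h.lo, if_neg (by simp), if_neg (by simp), mul_zero, mul_zero, add_zero]
  rw [eq_mul_inv_iff_mul_eq]
  ext1 v
  rw [Equiv.Perm.mul_apply, Equiv.Perm.mul_apply, rho_zz, rho_zz]
  have k0 : φ (v (Sum.inr (c0 hn))) = d (c0 hn) * s v (Sum.inr (c0 hn)) := by
    have h1 := hs.form v (be n F (Sum.inl (c0 hn)))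
    rw [g0, sympForm_smul_right, form_be, form_be] at h1
    exact h1.symm
  have k1 : φ (v (Sum.inr (c1 hn))) = d (c1 hn) * s v (Sum.inr (c1 hn)) + μ * s v (Sum.inr (c0 hn)) := by
    have h1 := hs.form v (be n F (Sum.inl (c1 hn)))
    rw [g1, sympForm_add_right, sympForm_smul_right, sympForm_smul_right, form_be, form_be, form_be] at h1
    exact h1.symm
  rw [hs.add, hs.add, hs.smul, hs.smul, g0, g1, map_add, map_mul, map_mul, map_mul, k0, k1]
  ext m
  simp only [Pi.add_apply, Pi.smul_apply, smul_eq_mul]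
  linear_combination (-(φ a * d (c0 hn) * s v (Sum.inr (c0 hn)) * μ * be n F (Sum.inl (c0 hn)) m)) *
    (two0 : (2 : F) = 0)

end act

/-- The data, with a Sylow `2`-subgroup `T` of `C(t)` such that `T ∩ K = ι(U)`. -/
structure DatT {G : Type*} [Group G] [Finite F] (ι : Sy n F →* G) (t v : G) (T : Subgroup G) : Prop
    extends Dat ι t v where
  pT : IsPGroup 2 ↥T
  vT : v ∈ T
  tc : ∀ x ∈ T, x * t = t * x
  max : ∀ P : Subgroup G, IsPGroup 2 P → T ≤ P → (∀ x ∈ P, x * t = t * x) → P ≤ T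
  U_eq : (Up n F).map ι = T ⊓ ι.range

theorem Dat.conjR {G : Type*} [Group G] {ι : Sy n F →* G} {t v : G} (D : Dat ι t v) {r : G}
    (hr : r ∈ Subgroup.zpowers v) (A : Sy n F) : r * ι A * r⁻¹ = ι A := by
  rw [← D.QK hr A]; group

namespace DatT

variable {G : Type*} [Group G] [Finite F] [CharP F 2] {ι : Sy n F →* G} {t v : G} {T : Subgroup G}
  (D : DatT ι t v T)

include D

omit [CharP F 2] in
theorem hT : T ≤ Subgroup.centralizer ({t} : Set G) := fun x hx =>
  Subgroup.mem_centralizer_singleton_iff.2 (D.tc x hx)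

omit [CharP F 2] in
theorem iota_mem {A : Sy n F} : ι A ∈ T ↔ A ∈ Up n F := by
  constructor
  · intro h
    have h1 : ι A ∈ T ⊓ ι.range := ⟨h, A, rfl⟩
    rw [← D.U_eq] at h1
    obtain ⟨B, hB, e⟩ := h1
    rwa [← D.inj e]
  · intro h
    have h1 : ι A ∈ (Up n F).map ι := ⟨A, h, rfl⟩
    rw [D.U_eq] at h1
    exact h1.1

omit [CharP F 2] in
theorem RT {r : G} (hr : r ∈ Subgroup.zpowers v) : r ∈ T := (Subgroup.zpowers_le.2 D.vT) hr

omit [CharP F 2] in
/-- `T` normalises `U` -/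
theorem conj_U {x : G} (hx : x ∈ T) {B : Sy n F} (hB : B ∈ Up n F) : ∃ A ∈ Up n F, x * ι B * x⁻¹ = ι A := by
  have h1 : x * ι B * x⁻¹ ∈ ι.range :=
    (Subgroup.mem_normalizer_iff.1 (D.nK x (D.tc x hx)) _).1 ⟨B, rfl⟩
  obtain ⟨A, hA⟩ := h1
  refine ⟨A, ?_, hA.symm⟩
  rw [← D.iota_mem, hA]
  exact mul_mem (mul_mem hx (D.iota_mem.2 hB)) (inv_mem hx)

/-- the elements of `T` are triangular -/
theorem tri (hn : 3 ≤ n) {x : G} (hx : x ∈ T) :
    ∃ d, Tri (D.sH hn ⟨x, D.hT hx⟩) d := by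
  refine ⟨_, tri_of_norm (D.si hn ⟨x, D.hT hx⟩) fun B hB => ?_⟩
  obtain ⟨A, hA, e⟩ := D.conj_U (inv_mem hx) hB
  refine ⟨A, hA, (D.acts hn ⟨x, D.hT hx⟩).rho_eq D.inj ?_⟩
  show x * ι A * x⁻¹ = ι B
  rw [← e]; group

/-- the linear elements -/
theorem mem_UR (hn : 3 ≤ n) {x : G} (hx : x ∈ T) (h : D.lf hn ⟨x, D.hT hx⟩ = 1) :
    ∃ A ∈ Up n F, ∃ r ∈ Subgroup.zpowers v, x = ι A * r ∧ D.sH hn ⟨x, D.hT hx⟩ = rho n F A := by
  obtain ⟨A, hA, hr⟩ := D.exists_iota hn h
  refine ⟨A, ?_, (ι A)⁻¹ * x, hr, by group, hA⟩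
  rw [← D.iota_mem]
  have h1 := mul_mem hx (inv_mem (D.RT hr))
  have e : x * ((ι A)⁻¹ * x)⁻¹ = ι A := by group
  rwa [e] at h1

end DatT

end Cfsg.Agent.OddHalf.SpN.Out

end
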