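import Cfsg.Agent.OddHalf.SpN.Start
import Mathlib
import Cfsg.Agent.OddHalf.SpN.WInst
import Cfsg.Agent.OddHalf.SpN.TUCent
import Cfsg.Agent.OddHalf.SpN.SylU

-- merged: Cfsg.Agent.OddHalf.SpN.StartB
section

/-!
# ODD D7, `K = Sp_2n(q)`, `q ≥ 4`: the start of the fusion inside `T` (clean and outer case)

`T₁ = ⟨t⟩ U`, `A = Y_1 = X_{2e_1}`, `B = X_12`.

* `TU.norm_B`, `TU.norm_A`: `A` and `B` are characteristic in `T₁`;
* `OT.norm_T1`: `T₁` is `N(T)`-invariant;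
* `SInp.fusA`, `SInp.fusB`, `SInp.start`: the fusion needed in `WTorus.Inp`;
* `SInp.patA`, `SInp.patB`: if `A` (or `B`) and the mixed elements are moved, then both `A` and `B` are.
-/

set_option autoImplicit false

namespace Cfsg.Agent.OddHalf.SpN.StartB

open Subgroup Cfsg.Agent.OddHalf.D7Out.Defs Cfsg.Agent.OddHalf.D7Out.Front Cfsg.Agent.OddHalf.SpN.Start

variable {G : Type*} [Group G]

/-- `[v, u]` -/
def com (v u : G) : G := v * u * v⁻¹ * u⁻¹

theorem com_conj (n v u : G) : com (n * v * n⁻¹) (n * u * n⁻¹) = n * com v u * n⁻¹ := by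
  unfold com; group

/-- commutator data on `T₁ = ⟨t⟩ U` -/
structure TU {F : Type*} [Field F] (T1 : Subgroup G) (xa xb x13 x22 : F → G) (r b : G → F) : Prop where
  two : ∀ s : F, s + s = 0
  perf : ∀ s : F, ∃ w, w ^ 2 = s
  /-- `|F| ≥ 4` -/
  four : ∃ s : F, s ≠ 0 ∧ s ≠ 1
  xa_mem : ∀ s, xa s ∈ T1
  xb_mem : ∀ s, xb s ∈ T1
  x13_mem : ∀ s, x13 s ∈ T1
  x22_mem : ∀ s, x22 s ∈ T1
  xa_add : ∀ s s', xa (s + s') = xa s * xa s'
  xb_add : ∀ s s', xb (s + s') = xb s * xb s'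
  ind : ∀ s s', xb s * xa s' = 1 → s = 0 ∧ s' = 0
  xac : ∀ s, ∀ u ∈ T1, u * xa s = xa s * u
  xbc : ∀ s, ∀ u ∈ T1, u * xb s = xb s * u
  /-- the second centre -/
  z2 : ∀ v ∈ T1, (∀ u ∈ T1, ∀ w ∈ T1, w * com v u = com v u * w) →
    ∃ a c, ∃ z, (∀ w ∈ T1, w * z = z * w) ∧ z ∈ T1 ∧ v = x13 a * x22 c * z
  r_mul : ∀ u ∈ T1, ∀ w ∈ T1, r (u * w) = r u + r w
  onto : ∀ ρ β, ∃ u ∈ T1, r u = ρ ∧ b u = β
  c13 : ∀ a, ∀ u ∈ T1, com (x13 a) u = xb (a * r u)
  c22 : ∀ c, ∀ u ∈ T1, com (x22 c) u = xb (c * b u) * xa (c * b u ^ 2)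

namespace TU

variable {F : Type*} [Field F] {T1 : Subgroup G} {xa xb x13 x22 : F → G} {r b : G → F}

theorem xa0 (D : TU T1 xa xb x13 x22 r b) : xa 0 = 1 := by
  have h := D.xa_add 0 0
  rw [add_zero] at h
  exact (mul_eq_left.1 h.symm)

theorem xb0 (D : TU T1 xa xb x13 x22 r b) : xb 0 = 1 := by
  have h := D.xb_add 0 0
  rw [add_zero] at h
  exact (mul_eq_left.1 h.symm)

theorem xai (D : TU T1 xa xb x13 x22 r b) (s : F) : (xa s)⁻¹ = xa s := by
  apply inv_eq_of_mul_eq_one_left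
  rw [← D.xa_add, D.two, D.xa0]

theorem xbi (D : TU T1 xa xb x13 x22 r b) (s : F) : (xb s)⁻¹ = xb s := by
  apply inv_eq_of_mul_eq_one_left
  rw [← D.xb_add, D.two, D.xb0]

/-- independence -/
theorem ind' (D : TU T1 xa xb x13 x22 r b) {s s' p p' : F} (h : xb s * xa s' = xb p * xa p') :
    s = p ∧ s' = p' := by
  have h1 : xb (s + p) * xa (s' + p') = 1 := by
    rw [D.xb_add, D.xa_add]
    have e : xb s * xb p * (xa s' * xa p') = xb s * xa s' * (xb p * xa p') := by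
      have := D.xac s' (xb p) (D.xb_mem p)
      calc xb s * xb p * (xa s' * xa p') = xb s * (xb p * xa s') * xa p' := by group
        _ = xb s * (xa s' * xb p) * xa p' := by rw [this]
        _ = _ := by group
    rw [e, h]
    have := D.xac p' (xb p) (D.xb_mem p)
    calc xb p * xa p' * (xb p * xa p') = xb p * (xa p' * xb p) * xa p' := by group
      _ = xb p * xb p * (xa p' * xa p') := by rw [← this]; group
      _ = 1 := by rw [← D.xb_add, ← D.xa_add, D.two, D.two, D.xb0, D.xa0, one_mul]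
  obtain ⟨h2, h3⟩ := D.ind _ _ h1
  have key : ∀ x y : F, x + y = 0 → x = y := by
    intro x y hxy
    have := D.two y
    calc x = x + (y + y) := by rw [this, add_zero]
      _ = (x + y) + y := by ring
      _ = y := by rw [hxy, zero_add]
  exact ⟨key _ _ h2, key _ _ h3⟩

/-- the commutators of an element of the second centre -/
theorem com_eq (D : TU T1 xa xb x13 x22 r b) (a c : F) {z : G} (hz : ∀ w ∈ T1, w * z = z * w) {u : G}
    (hu : u ∈ T1) : com (x13 a * x22 c * z) u = xb (a * r u + c * b u) * xa (c * b u ^ 2) := by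
  have h1 : com (x13 a * x22 c * z) u = com (x13 a * x22 c) u := by
    unfold com
    have := hz u hu
    calc x13 a * x22 c * z * u * (x13 a * x22 c * z)⁻¹ * u⁻¹ =
          x13 a * x22 c * (z * u) * z⁻¹ * (x13 a * x22 c)⁻¹ * u⁻¹ := by group
      _ = x13 a * x22 c * (u * z) * z⁻¹ * (x13 a * x22 c)⁻¹ * u⁻¹ := by rw [this]
      _ = _ := by group
  have h2 : com (x13 a * x22 c) u = x13 a * com (x22 c) u * (x13 a)⁻¹ * com (x13 a) u := by
    unfold com; group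
  rw [h1, h2, D.c22 c u hu, D.c13 a u hu]
  have e1 := D.xbc (c * b u) (x13 a) (D.x13_mem a)
  have e2 := D.xac (c * b u ^ 2) (x13 a) (D.x13_mem a)
  have e3 := D.xbc (a * r u) (xa (c * b u ^ 2)) (D.xa_mem _)
  calc x13 a * (xb (c * b u) * xa (c * b u ^ 2)) * (x13 a)⁻¹ * xb (a * r u) =
        (x13 a * xb (c * b u)) * xa (c * b u ^ 2) * (x13 a)⁻¹ * xb (a * r u) := by group
    _ = xb (c * b u) * (x13 a * xa (c * b u ^ 2)) * (x13 a)⁻¹ * xb (a * r u) := by rw [e1]; group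
    _ = xb (c * b u) * (xa (c * b u ^ 2) * xb (a * r u)) := by rw [e2]; group
    _ = xb (c * b u) * xb (a * r u) * xa (c * b u ^ 2) := by rw [e3]; group
    _ = xb (a * r u + c * b u) * xa (c * b u ^ 2) := by rw [← D.xb_add, add_comm]

/-- the second centre is `N(T₁)`-invariant -/
theorem z2_conj (D : TU T1 xa xb x13 x22 r b) {n : G} (hn : n ∈ normalizer (T1 : Set G)) {v : G} (hv : v ∈ T1)
    (hv2 : ∀ u ∈ T1, ∀ w ∈ T1, w * com v u = com v u * w) :
    ∃ a c, ∃ z, (∀ w ∈ T1, w * z = z * w) ∧ z ∈ T1 ∧ n * v * n⁻¹ = x13 a * x22 c * z := by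
  apply D.z2 _ ((mem_normalizer_iff.1 hn v).1 hv)
  have hn' : ∀ x ∈ T1, n⁻¹ * x * n ∈ T1 := by
    intro x hx
    have := (mem_normalizer_iff.1 (inv_mem hn) x).1 hx
    rwa [inv_inv] at this
  intro u hu w hw
  have h1 := hv2 _ (hn' u hu) _ (hn' w hw)
  have h2 : com (n * v * n⁻¹) u = n * com v (n⁻¹ * u * n) * n⁻¹ := by
    rw [← com_conj]; congr 1; group
  rw [h2]
  calc w * (n * com v (n⁻¹ * u * n) * n⁻¹) = n * (n⁻¹ * w * n * com v (n⁻¹ * u * n)) * n⁻¹ := by group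
    _ = n * (com v (n⁻¹ * u * n) * (n⁻¹ * w * n)) * n⁻¹ := by rw [h1]
    _ = _ := by group

theorem central13 (D : TU T1 xa xb x13 x22 r b) (a : F) : ∀ u ∈ T1, ∀ w ∈ T1, w * com (x13 a) u = com (x13 a) u * w := by
  intro u hu w hw
  rw [D.c13 a u hu]
  exact D.xbc _ w hw

theorem central22 (D : TU T1 xa xb x13 x22 r b) (c : F) : ∀ u ∈ T1, ∀ w ∈ T1, w * com (x22 c) u = com (x22 c) u * w := by
  intro u hu w hw
  rw [D.c22 c u hu, ← mul_assoc, D.xbc _ w hw, mul_assoc, D.xac _ w hw, mul_assoc]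

theorem central_prod (D : TU T1 xa xb x13 x22 r b) (a c : F) :
    ∀ u ∈ T1, ∀ w ∈ T1, w * com (x13 a * x22 c) u = com (x13 a * x22 c) u * w := by
  intro u hu w hw
  have h := D.com_eq a c (z := 1) (fun w _ => by rw [mul_one, one_mul]) hu
  rw [mul_one] at h
  rw [h, ← mul_assoc, D.xbc _ w hw, mul_assoc, D.xac _ w hw, mul_assoc]

/-- `n` maps commutators of the second centre into `A B` -/
theorem conj_com (D : TU T1 xa xb x13 x22 r b) {n : G} (hn : n ∈ normalizer (T1 : Set G)) {v : G} (hv : v ∈ T1)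
    (hv2 : ∀ u ∈ T1, ∀ w ∈ T1, w * com v u = com v u * w) :
    ∃ a c : F, (∀ u ∈ T1, n * com v u * n⁻¹ =
      xb (a * r (n * u * n⁻¹) + c * b (n * u * n⁻¹)) * xa (c * b (n * u * n⁻¹) ^ 2)) := by
  obtain ⟨a, c, z, hz, -, e⟩ := D.z2_conj hn hv hv2
  refine ⟨a, c, fun u hu => ?_⟩
  rw [← com_conj, e]
  exact D.com_eq a c hz ((mem_normalizer_iff.1 hn u).1 hu)

/-- `A B` is `N(T₁)`-invariant -/
theorem conj_AB (D : TU T1 xa xb x13 x22 r b) {n : G} (hn : n ∈ normalizer (T1 : Set G)) (s s' : F) :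
    ∃ p p', n * (xb s * xa s') * n⁻¹ = xb p * xa p' := by
  -- `x_b(s) x_a(s')` is a commutator of `x13 1 * x22 1`
  obtain ⟨w, hw⟩ := D.perf s'
  obtain ⟨u, hu, hr, hb⟩ := D.onto (s + w) w
  have h := D.com_eq 1 1 (z := 1) (fun w _ => by rw [mul_one, one_mul]) hu
  rw [mul_one, hr, hb, one_mul, one_mul, one_mul, hw, add_assoc, D.two, add_zero] at h
  obtain ⟨a, c, hac⟩ := D.conj_com hn (mul_mem (D.x13_mem 1) (D.x22_mem 1)) (D.central_prod 1 1)
  have h1 := hac u hu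
  rw [h] at h1
  exact ⟨_, _, h1⟩

theorem add_self_inj (D : TU T1 xa xb x13 x22 r b) {x y : F} (h : x + y = 0) : x = y := by
  have := D.two y
  calc x = x + (y + y) := by rw [this, add_zero]
    _ = (x + y) + y := by ring
    _ = y := by rw [h, zero_add]

/-- `B` is `N(T₁)`-invariant -/
theorem conj_B (D : TU T1 xa xb x13 x22 r b) {n : G} (hn : n ∈ normalizer (T1 : Set G)) (s : F) :
    ∃ p, n * xb s * n⁻¹ = xb p := by
  obtain ⟨a0, ha0, ha1⟩ := D.four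
  have hn' : ∀ x ∈ T1, n⁻¹ * x * n ∈ T1 := by
    intro x hx
    have := (mem_normalizer_iff.1 (inv_mem hn) x).1 hx
    rwa [inv_inv] at this
  have cc : ∀ x : G, n * (n⁻¹ * x * n) * n⁻¹ = x := fun x => by group
  obtain ⟨a1, c1, h1⟩ := D.conj_com hn (D.x13_mem 1) (D.central13 1)
  obtain ⟨a2, c2, h2⟩ := D.conj_com hn (D.x13_mem a0) (D.central13 a0)
  -- every commutator of `(a1, c1)` is `n xb(s) n⁻¹`
  have g1 : ∀ ρ β, ∃ s, xb (a1 * ρ + c1 * β) * xa (c1 * β ^ 2) = n * xb s * n⁻¹ := by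
    intro ρ β
    obtain ⟨u, hu, hr, hb⟩ := D.onto ρ β
    have e := h1 _ (hn' u hu)
    rw [cc, hr, hb, D.c13 1 _ (hn' u hu)] at e
    exact ⟨_, e.symm⟩
  have g2 : ∀ s, ∃ ρ β, n * xb s * n⁻¹ = xb (a2 * ρ + c2 * β) * xa (c2 * β ^ 2) := by
    intro s
    obtain ⟨u, hu, hr, -⟩ := D.onto (a0⁻¹ * s) 0
    have e := h2 u hu
    rw [D.c13 a0 u hu, hr, mul_inv_cancel_left₀ ha0] at e
    exact ⟨_, _, e⟩
  have g3 : ∀ s, ∃ ρ β, n * xb s * n⁻¹ = xb (a1 * ρ + c1 * β) * xa (c1 * β ^ 2) := by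
    intro s
    obtain ⟨u, hu, hr, -⟩ := D.onto s 0
    have e := h1 u hu
    rw [D.c13 1 u hu, hr, one_mul] at e
    exact ⟨_, _, e⟩
  have g4 : ∀ ρ β, ∃ s, xb (a2 * ρ + c2 * β) * xa (c2 * β ^ 2) = n * xb s * n⁻¹ := by
    intro ρ β
    obtain ⟨u, hu, hr, hb⟩ := D.onto ρ β
    have e := h2 _ (hn' u hu)
    rw [cc, hr, hb, D.c13 a0 _ (hn' u hu)] at e
    exact ⟨_, e.symm⟩
  -- not everything
  have notall : ∀ a c : F, a ≠ 0 → c ≠ 0 →
      ¬ ∀ ρ β, ∃ s, xb (a * ρ + c * β) * xa (c * β ^ 2) = n * xb s * n⁻¹ := by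
    intro a c ha hc hall
    obtain ⟨p, p', hp⟩ := D.conj_AB hn 0 1
    obtain ⟨β, hβ⟩ := D.perf (c⁻¹ * p')
    obtain ⟨s, hs⟩ := hall (a⁻¹ * (p + c * β)) β
    have e1 : a * (a⁻¹ * (p + c * β)) + c * β = p := by
      rw [mul_inv_cancel_left₀ ha, add_assoc, D.two, add_zero]
    rw [e1, hβ, mul_inv_cancel_left₀ hc, ← hp] at hs
    have hs' : xb 0 * xa 1 = xb s * xa 0 := by
      rw [D.xa0, mul_one]
      exact mul_left_cancel (mul_right_cancel hs)
    exact one_ne_zero (D.ind' hs').2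
  have hc1 : c1 = 0 := by
    by_contra hc1
    have ha1' : a1 = 0 := by
      by_contra ha1'
      exact notall a1 c1 ha1' hc1 g1
    -- the element `β = 1` of `D_{c1}`
    obtain ⟨s, hs⟩ := g1 0 1
    obtain ⟨ρ, β, hβ⟩ := g2 s
    rw [← hs, ha1'] at hβ
    have h3 := D.ind' hβ
    rw [zero_mul, zero_add, mul_one, one_pow, mul_one] at h3
    have hc2 : c2 ≠ 0 := by
      rintro rfl
      rw [zero_mul, zero_mul] at h3
      exact hc1 h3.2
    have ha2 : a2 = 0 := by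
      by_contra ha2
      exact notall a2 c2 ha2 hc2 g4
    rw [ha2, zero_mul, zero_add] at h3
    have hβ0 : β ≠ 0 := by
      rintro rfl
      rw [mul_zero] at h3
      exact hc1 h3.1
    have h4 : β = 1 := by
      have h5 : c2 * β ^ 2 = c2 * β := by rw [← h3.1, ← h3.2]
      have h6 : β ^ 2 = β := mul_left_cancel₀ hc2 h5
      rw [pow_two] at h6
      exact mul_left_cancel₀ hβ0 (by rw [h6, mul_one])
    have h5 : c1 = c2 := by rw [h3.1, h4, mul_one]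
    obtain ⟨u, hu, hr, -⟩ := D.onto 1 0
    have k1 := h1 u hu
    have k2 := h2 u hu
    rw [ha1', zero_mul, zero_add, h5] at k1
    rw [ha2, zero_mul, zero_add, ← k1, D.c13 a0 u hu, D.c13 1 u hu, hr, mul_one, mul_one] at k2
    have k3 : xb a0 = xb 1 := mul_left_cancel (mul_right_cancel k2)
    have k4 : xb a0 * xa 0 = xb 1 * xa 0 := by rw [k3]
    exact ha1 (D.ind' k4).1
  obtain ⟨ρ, β, h⟩ := g3 s
  rw [hc1, zero_mul, zero_mul, add_zero, D.xa0, mul_one] at h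
  exact ⟨_, h⟩

/-- `A` is `N(T₁)`-invariant -/
theorem conj_A (D : TU T1 xa xb x13 x22 r b) {n : G} (hn : n ∈ normalizer (T1 : Set G)) (s : F) :
    ∃ p, n * xa s * n⁻¹ = xa p := by
  by_cases hs0 : s = 0
  · exact ⟨0, by rw [hs0, D.xa0]; group⟩
  obtain ⟨p, p', h⟩ := D.conj_AB hn 0 s
  rw [D.xb0, one_mul] at h
  by_cases hp : p = 0
  · exact ⟨p', by rw [h, hp, D.xb0, one_mul]⟩
  exfalso
  have cc : ∀ x : G, n⁻¹ * (n * x * n⁻¹) * n = x := fun x => by group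
  have hni : n⁻¹ ∈ normalizer (T1 : Set G) := inv_mem hn
  have hn1 : ∀ x ∈ T1, n * x * n⁻¹ ∈ T1 := fun x hx => (mem_normalizer_iff.1 hn x).1 hx
  by_cases hp' : p' = 0
  · rw [hp', D.xa0, mul_one] at h
    obtain ⟨k, hk⟩ := D.conj_B hni p
    rw [← h, inv_inv, cc] at hk
    have : xb 0 * xa s = xb k * xa 0 := by rw [D.xb0, D.xa0, one_mul, mul_one, hk]
    exact hs0 (D.ind' this).2
  -- `z' = [x22 c, u]`
  set c : F := p ^ 2 * p'⁻¹ with hc
  set β : F := p' * p⁻¹ with hβ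
  have hc0 : c ≠ 0 := mul_ne_zero (pow_ne_zero 2 hp) (inv_ne_zero hp')
  obtain ⟨u, hu, hr, hb⟩ := D.onto 0 β
  have e1 : com (x22 c) u = n * xa s * n⁻¹ := by
    rw [D.c22 c u hu, hb, h]
    congr 2
    · rw [hc, hβ]; field_simp
    · rw [hc, hβ]; field_simp
  obtain ⟨a2, c2, h2⟩ := D.conj_com hni (D.x22_mem c) (D.central22 c)
  have k1 := h2 u hu
  rw [e1, inv_inv, cc] at k1
  have k2 : xb 0 * xa s = xb (a2 * r (n⁻¹ * u * n) + c2 * b (n⁻¹ * u * n)) * xa (c2 * b (n⁻¹ * u * n) ^ 2) := by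
    rw [D.xb0, one_mul]; exact k1
  obtain ⟨k3, k4⟩ := D.ind' k2
  have hc2 : c2 ≠ 0 := by
    intro h0
    rw [h0, zero_mul] at k4
    exact hs0 k4
  have ha2 : a2 ≠ 0 := by
    intro h0
    rw [h0, zero_mul, zero_add] at k3
    have hb0 : b (n⁻¹ * u * n) = 0 := (mul_eq_zero.1 k3.symm).resolve_left hc2
    rw [hb0] at k4
    apply hs0
    rw [k4]; ring
  -- `xb 1` is a commutator of `x22 c`
  obtain ⟨q, q', hq⟩ := D.conj_AB hni 1 0
  obtain ⟨γ, hγ⟩ := D.perf (c2⁻¹ * q')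
  obtain ⟨w, hw, hwr, hwb⟩ := D.onto (a2⁻¹ * (q + c2 * γ)) γ
  have h3 := h2 _ (hn1 w hw)
  rw [inv_inv, cc, hwr, hwb, mul_inv_cancel_left₀ ha2, add_assoc, D.two, add_zero, hγ,
    mul_inv_cancel_left₀ hc2, ← hq, inv_inv] at h3
  have h4 : com (x22 c) (n * w * n⁻¹) = xb 1 * xa 0 := mul_left_cancel (mul_right_cancel h3)
  rw [D.c22 c _ (hn1 w hw)] at h4
  obtain ⟨h5, h6⟩ := D.ind' h4
  have h7 : b (n * w * n⁻¹) = 0 := by
    have := (mul_eq_zero.1 h6).resolve_left hc0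
    exact pow_eq_zero_iff (two_ne_zero) |>.1 this
  rw [h7, mul_zero] at h5
  exact zero_ne_one h5

end TU

/-! ### `T₁` is `N(T)`-invariant -/

/-- `T₁ ≤ T`, elements of `T` acting trivially on the coordinate `r` or on `B` lie in `T₁` -/
structure OT {F : Type*} [Field F] (T T1 : Subgroup G) (xa xb x13 x22 : F → G) (r b : G → F) : Prop extends
    TU T1 xa xb x13 x22 r b where
  T1T : T1 ≤ T
  nT1 : ∀ g ∈ T, g ∈ normalizer (T1 : Set G)
  ract : ∀ g ∈ T, (∀ u ∈ T1, r (g * u * g⁻¹) = r u) → g ∈ T1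
  bact : ∀ g ∈ T, (∀ s, g * xb s = xb s * g) → g ∈ T1

namespace OT

variable {F : Type*} [Field F] {T T1 : Subgroup G} {xa xb x13 x22 : F → G} {r b : G → F}

theorem r_central (D : OT T T1 xa xb x13 x22 r b) {z : G} (hz : z ∈ T1) (hzc : ∀ w ∈ T1, w * z = z * w) :
    r z = 0 := by
  have h := D.c13 1 z hz
  have h1 : com (x13 1) z = 1 := by
    unfold com
    rw [hzc _ (D.x13_mem 1)]; group
  rw [h1, one_mul] at h
  have : xb 0 * xa 0 = xb (r z) * xa 0 := by rw [← h, D.toTU.xb0]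
  exact (D.toTU.ind' this).1.symm

/-- the second centre of `P > T₁` centralises `T₁` -/
theorem z2_comm (D : OT T T1 xa xb x13 x22 r b) {P : Subgroup G} (hP1 : T1 ≤ P) (hPT : P ≤ T) (hne : ¬ P ≤ T1)
    {g : G} (hg : g ∈ P) (hg2 : ∀ x ∈ P, ∀ w ∈ P, w * com g x = com g x * w) : ∀ u ∈ T1, g * u = u * g := by
  have hcomm : ∀ u ∈ T1, com g u ∈ P := fun u hu =>
    mul_mem (mul_mem (mul_mem hg (hP1 hu)) (inv_mem hg)) (inv_mem (hP1 hu))
  have hc1 : ∀ u ∈ T1, com g u ∈ T1 := fun u hu =>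
    D.bact _ (hPT (hcomm u hu)) fun s => (hg2 u (hP1 hu) _ (hP1 (D.xb_mem s))).symm
  have hr0 : ∀ u ∈ T1, r (com g u) = 0 := fun u hu =>
    D.r_central (hc1 u hu) fun w hw => hg2 u (hP1 hu) w (hP1 hw)
  have hg1 : g ∈ T1 := by
    apply D.ract g (hPT hg)
    intro u hu
    have e : g * u * g⁻¹ = com g u * u := by unfold com; group
    rw [e, D.r_mul _ (hc1 u hu) _ hu, hr0 u hu, zero_add]
  obtain ⟨a, c, z, hz, hz1, hgz⟩ := D.z2 g hg1 fun u hu w hw => hg2 u (hP1 hu) w (hP1 hw)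
  obtain ⟨ψ, hψP, hψ⟩ := Set.not_subset.1 hne
  have hcom : ∀ u ∈ T1, com g u = xb (a * r u + c * b u) * xa (c * b u ^ 2) := by
    intro u hu
    rw [hgz]
    exact D.com_eq a c hz hu
  have ha : a = 0 := by
    by_contra ha
    apply hψ
    apply D.bact ψ (hPT hψP)
    intro s
    obtain ⟨u, hu, hr, hb⟩ := D.onto (a⁻¹ * s) 0
    have h1 := hg2 u (hP1 hu) ψ hψP
    rw [hcom u hu, hr, hb, mul_zero, add_zero, mul_inv_cancel_left₀ ha] at h1
    have e : c * (0 : F) ^ 2 = 0 := by ring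
    rw [e, D.toTU.xa0, mul_one] at h1
    exact h1
  have hc : c = 0 := by
    by_contra hc
    apply hψ
    apply D.bact ψ (hPT hψP)
    intro s
    obtain ⟨u, hu, -, hb⟩ := D.onto 0 (c⁻¹ * s)
    have h1 := hg2 u (hP1 hu) ψ hψP
    rw [hcom u hu, ha, zero_mul, zero_add, hb, mul_inv_cancel_left₀ hc] at h1
    have hψN := D.nT1 ψ (hPT hψP)
    obtain ⟨p, hp⟩ := D.toTU.conj_B hψN s
    obtain ⟨p', hp'⟩ := D.toTU.conj_A hψN (c * (c⁻¹ * s) ^ 2)
    have h2 : xb p * xa p' = xb s * xa (c * (c⁻¹ * s) ^ 2) := by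
      rw [← hp, ← hp']
      calc ψ * xb s * ψ⁻¹ * (ψ * xa (c * (c⁻¹ * s) ^ 2) * ψ⁻¹) =
            ψ * (xb s * xa (c * (c⁻¹ * s) ^ 2)) * ψ⁻¹ := by group
        _ = _ := by rw [h1]; group
    have h3 := (D.toTU.ind' h2).1
    rw [h3] at hp
    calc ψ * xb s = ψ * xb s * ψ⁻¹ * ψ := by group
      _ = xb s * ψ := by rw [hp]
  intro u hu
  have h1 := hcom u hu
  rw [ha, hc, zero_mul, zero_mul, zero_mul, add_zero, D.toTU.xb0, D.toTU.xa0, mul_one] at h1
  unfold com at h1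
  calc g * u = g * u * g⁻¹ * u⁻¹ * (u * g) := by group
    _ = u * g := by rw [h1, one_mul]

/-- `C_P(Z_2(P))` -/
def nxt (P : Subgroup G) : Subgroup G where
  carrier := {x | x ∈ P ∧ ∀ g ∈ P, (∀ y ∈ P, ∀ w ∈ P, w * com g y = com g y * w) → g * x = x * g}
  one_mem' := ⟨one_mem _, fun g _ _ => by rw [mul_one, one_mul]⟩
  mul_mem' := by
    rintro x y ⟨hx, hx'⟩ ⟨hy, hy'⟩
    refine ⟨mul_mem hx hy, fun g hg h => ?_⟩
    rw [← mul_assoc, hx' g hg h, mul_assoc, hy' g hg h, mul_assoc]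
  inv_mem' := by
    rintro x ⟨hx, hx'⟩
    refine ⟨inv_mem hx, fun g hg h => ?_⟩
    have := hx' g hg h
    rw [eq_comm, inv_mul_eq_iff_eq_mul, ← mul_assoc, ← this, mul_assoc, mul_inv_cancel, mul_one]

theorem mem_nxt {P : Subgroup G} {x : G} : x ∈ nxt P ↔ x ∈ P ∧ ∀ g ∈ P,
    (∀ y ∈ P, ∀ w ∈ P, w * com g y = com g y * w) → g * x = x * g := Iff.rfl

theorem nxt_norm {P : Subgroup G} {n : G} (hn : n ∈ normalizer (P : Set G)) :
    n ∈ normalizer (nxt P : Set G) := by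
  have key : ∀ n ∈ normalizer (P : Set G), ∀ x ∈ nxt P, n * x * n⁻¹ ∈ nxt P := by
    intro n hn x hx
    have hn' : ∀ x ∈ P, n⁻¹ * x * n ∈ P := by
      intro x hx
      have := (mem_normalizer_iff.1 (inv_mem hn) x).1 hx
      rwa [inv_inv] at this
    have hn1 : ∀ x ∈ P, n * x * n⁻¹ ∈ P := fun x hx => (mem_normalizer_iff.1 hn x).1 hx
    obtain ⟨hx1, hx2⟩ := hx
    refine ⟨hn1 x hx1, fun g hg h => ?_⟩
    have h1 := hx2 (n⁻¹ * g * n) (hn' g hg) (fun y hy w hw => by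
      have h2 := h _ (hn1 y hy) _ (hn1 w hw)
      have e : com (n⁻¹ * g * n) y = n⁻¹ * com g (n * y * n⁻¹) * n := by unfold com; group
      rw [e]
      calc w * (n⁻¹ * com g (n * y * n⁻¹) * n) = n⁻¹ * (n * w * n⁻¹ * com g (n * y * n⁻¹)) * n := by group
        _ = n⁻¹ * (com g (n * y * n⁻¹) * (n * w * n⁻¹)) * n := by rw [h2]
        _ = _ := by group)
    calc g * (n * x * n⁻¹) = n * (n⁻¹ * g * n * x) * n⁻¹ := by group
      _ = n * (x * (n⁻¹ * g * n)) * n⁻¹ := by rw [h1]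
      _ = _ := by group
  rw [mem_normalizer_iff]
  intro x
  refine ⟨key n hn x, fun hx => ?_⟩
  have := key n⁻¹ (inv_mem hn) _ hx
  have e : n⁻¹ * (n * x * n⁻¹) * n⁻¹⁻¹ = x := by group
  rwa [e] at this

/-- `C_P(Z_2(P)) < P` for a nonabelian 2-group -/
theorem nxt_lt [Finite G] {P : Subgroup G} (hP : IsPGroup 2 P) (hna : ∃ x ∈ P, ∃ y ∈ P, x * y ≠ y * x) :
    ¬ P ≤ nxt P := by
  intro hle
  obtain ⟨x, hx, y, hy, hxy⟩ := hna
  have : Fact (Nat.Prime 2) := ⟨Nat.prime_two⟩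
  have hP' : IsPGroup 2 (P ⧸ center P) := hP.to_quotient _
  have hnt : Nontrivial (P ⧸ center P) := by
    rw [← not_subsingleton_iff_nontrivial, QuotientGroup.subsingleton_iff]
    intro h
    apply hxy
    have h1 : (⟨x, hx⟩ : P) ∈ center P := by rw [h]; exact mem_top _
    exact congrArg Subtype.val (mem_center_iff.1 h1 ⟨y, hy⟩).symm
  have := hP'.center_nontrivial
  obtain ⟨⟨q, hq⟩, hq1⟩ := exists_ne (1 : center (P ⧸ center P))
  obtain ⟨g, rfl⟩ := QuotientGroup.mk_surjective q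
  have hgc : ∀ a : P, g * a * g⁻¹ * a⁻¹ ∈ center P := by
    intro a
    have h1 := mem_center_iff.1 hq (a : P ⧸ center P)
    rw [← QuotientGroup.eq_one_iff, QuotientGroup.mk_mul, QuotientGroup.mk_mul, QuotientGroup.mk_mul,
      QuotientGroup.mk_inv, QuotientGroup.mk_inv, ← h1]
    group
  have hg1 : g ∉ center P := by
    intro h
    apply hq1
    apply Subtype.ext
    exact (QuotientGroup.eq_one_iff g).2 h
  apply hg1
  rw [mem_center_iff]
  intro a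
  apply Subtype.ext
  refine ((hle a.2).2 g g.2 fun y hy w hw => ?_).symm
  have h2 := mem_center_iff.1 (hgc ⟨y, hy⟩) ⟨w, hw⟩
  exact congrArg Subtype.val h2

/-- `T₁` is `N(P)`-invariant, `T₁ ≤ P ≤ T` -/
theorem norm_aux [Finite G] (D : OT T T1 xa xb x13 x22 r b) (hT : IsPGroup 2 T) : ∀ k : ℕ, ∀ P : Subgroup G,
    Nat.card P ≤ k → T1 ≤ P → P ≤ T → ∀ n ∈ normalizer (P : Set G), n ∈ normalizer (T1 : Set G) := by
  have hna : ∀ P : Subgroup G, T1 ≤ P → ∃ x ∈ P, ∃ y ∈ P, x * y ≠ y * x := by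
    intro P hP
    obtain ⟨u, hu, hr, -⟩ := D.onto 1 0
    refine ⟨x13 1, hP (D.x13_mem 1), u, hP hu, fun h => ?_⟩
    have h1 := D.c13 1 u hu
    have h2 : com (x13 1) u = 1 := by unfold com; rw [h]; group
    rw [h2, hr, mul_one] at h1
    have : xb 0 * xa 0 = xb 1 * xa 0 := by rw [← h1, D.toTU.xb0]
    exact zero_ne_one (D.toTU.ind' this).1
  intro k
  induction k with
  | zero =>
    intro P hk
    exact absurd (Nat.card_pos (α := P)) (by omega)
  | succ k ih =>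
    intro P hk hP1 hPT n hn
    by_cases hne : P ≤ T1
    · have : P = T1 := le_antisymm hne hP1
      rwa [this] at hn
    have h1 : T1 ≤ nxt P := fun u hu =>
      ⟨hP1 hu, fun g hg h => D.z2_comm hP1 hPT hne hg h u hu⟩
    have h2 : nxt P ≤ P := fun x hx => hx.1
    have h3 : Nat.card (nxt P) < Nat.card P := by
      refine lt_of_le_of_ne (Nat.card_le_card_of_injective _ (inclusion_injective h2)) fun h => ?_
      exact nxt_lt (hT.to_le hPT) (hna P hP1) (Subgroup.eq_of_le_of_card_ge h2 h.ge).ge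
    exact ih (nxt P) (by omega) h1 (h2.trans hPT) n (nxt_norm hn)

/-- `T₁` is `N(T)`-invariant -/
theorem norm_T1 [Finite G] (D : OT T T1 xa xb x13 x22 r b) (hT : IsPGroup 2 T) {n : G}
    (hn : n ∈ normalizer (T : Set G)) : n ∈ normalizer (T1 : Set G) :=
  D.norm_aux hT _ T le_rfl D.T1T le_rfl n hn

end OT

/-- the input of the start -/
structure SInp {F : Type*} [Field F] (t v : G) (K U Z T T1 A B H : Subgroup G) (xa xb x13 x22 : F → G)
    (r b : G → F) : Prop where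
  fr : Fr t v K U Z T
  ot : OT T T1 xa xb x13 x22 r b
  hA : ∀ g, g ∈ A ↔ ∃ s, xa s = g
  hB : ∀ g, g ∈ B ↔ ∃ s, xb s = g
  hZ : ∀ z ∈ Z, ∃ s s', z = xb s * xa s'
  Ht : ∀ h ∈ H, h * t = t * h
  HT1 : ∀ h ∈ H, h ∈ normalizer (T1 : Set G)
  tr : ∀ s s' p p' : F, s ≠ 0 → s' ≠ 0 → p ≠ 0 → p' ≠ 0 →
    ∃ h ∈ H, h * xb s * h⁻¹ = xb p ∧ h * xa s' * h⁻¹ = xa p'

namespace SInp

variable {F : Type*} [Field F] {t v : G} {K U Z T T1 A B H : Subgroup G} {xa xb x13 x22 : F → G} {r b : G → F}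

theorem nA (I : SInp t v K U Z T T1 A B H xa xb x13 x22 r b) {n : G} (hn : n ∈ normalizer (T1 : Set G)) :
    n ∈ normalizer (A : Set G) := by
  have key : ∀ n ∈ normalizer (T1 : Set G), ∀ x ∈ A, n * x * n⁻¹ ∈ A := by
    intro n hn x hx
    obtain ⟨s, rfl⟩ := (I.hA x).1 hx
    obtain ⟨p, hp⟩ := I.ot.toTU.conj_A hn s
    exact (I.hA _).2 ⟨p, hp.symm⟩
  rw [mem_normalizer_iff]
  intro x
  refine ⟨key n hn x, fun hx => ?_⟩
  have := key n⁻¹ (inv_mem hn) _ hx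
  have e : n⁻¹ * (n * x * n⁻¹) * n⁻¹⁻¹ = x := by group
  rwa [e] at this

theorem nB (I : SInp t v K U Z T T1 A B H xa xb x13 x22 r b) {n : G} (hn : n ∈ normalizer (T1 : Set G)) :
    n ∈ normalizer (B : Set G) := by
  have key : ∀ n ∈ normalizer (T1 : Set G), ∀ x ∈ B, n * x * n⁻¹ ∈ B := by
    intro n hn x hx
    obtain ⟨s, rfl⟩ := (I.hB x).1 hx
    obtain ⟨p, hp⟩ := I.ot.toTU.conj_B hn s
    exact (I.hB _).2 ⟨p, hp.symm⟩
  rw [mem_normalizer_iff]
  intro x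
  refine ⟨key n hn x, fun hx => ?_⟩
  have := key n⁻¹ (inv_mem hn) _ hx
  have e : n⁻¹ * (n * x * n⁻¹) * n⁻¹⁻¹ = x := by group
  rwa [e] at this

theorem xa_ne (I : SInp t v K U Z T T1 A B H xa xb x13 x22 r b) {s : F} (h : s ≠ 0) : xa s ≠ 1 := by
  intro e
  have : xb 0 * xa s = xb 0 * xa 0 := by rw [e, I.ot.toTU.xa0]
  exact h (I.ot.toTU.ind' this).2

theorem xb_ne (I : SInp t v K U Z T T1 A B H xa xb x13 x22 r b) {s : F} (h : s ≠ 0) : xb s ≠ 1 := by
  intro e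
  have : xb s * xa 0 = xb 0 * xa 0 := by rw [e, I.ot.toTU.xb0]
  exact h (I.ot.toTU.ind' this).1

theorem AT (I : SInp t v K U Z T T1 A B H xa xb x13 x22 r b) : A ≤ T := fun x hx => by
  obtain ⟨s, rfl⟩ := (I.hA x).1 hx
  exact I.ot.T1T (I.ot.xa_mem s)

theorem BT (I : SInp t v K U Z T T1 A B H xa xb x13 x22 r b) : B ≤ T := fun x hx => by
  obtain ⟨s, rfl⟩ := (I.hB x).1 hx
  exact I.ot.T1T (I.ot.xb_mem s)

theorem nfa [Finite G] (I : SInp t v K U Z T T1 A B H xa xb x13 x22 r b) :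
    ∃ s : F, s ≠ 0 ∧ ∀ x ∈ T, x * xa s = xa s * x := by
  have h1 : A ≠ ⊥ := by
    intro h
    have : xa 1 ∈ A := (I.hA _).2 ⟨1, rfl⟩
    rw [h, mem_bot] at this
    exact I.xa_ne one_ne_zero this
  obtain ⟨a, ha, ha1, hc⟩ := Start.Inp.exists_central (X := A) I.fr.pT I.AT h1 fun x hx a ha =>
    (mem_normalizer_iff.1 (I.nA (I.ot.nT1 x hx)) a).1 ha
  obtain ⟨s, rfl⟩ := (I.hA a).1 ha
  exact ⟨s, fun h => ha1 (by rw [h, I.ot.toTU.xa0]), hc⟩

theorem nfb [Finite G] (I : SInp t v K U Z T T1 A B H xa xb x13 x22 r b) :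
    ∃ s : F, s ≠ 0 ∧ ∀ x ∈ T, x * xb s = xb s * x := by
  have h1 : B ≠ ⊥ := by
    intro h
    have : xb 1 ∈ B := (I.hB _).2 ⟨1, rfl⟩
    rw [h, mem_bot] at this
    exact I.xb_ne one_ne_zero this
  obtain ⟨a, ha, ha1, hc⟩ := Start.Inp.exists_central (X := B) I.fr.pT I.BT h1 fun x hx a ha =>
    (mem_normalizer_iff.1 (I.nB (I.ot.nT1 x hx)) a).1 ha
  obtain ⟨s, rfl⟩ := (I.hB a).1 ha
  exact ⟨s, fun h => ha1 (by rw [h, I.ot.toTU.xb0]), hc⟩

theorem comm_tz (I : SInp t v K U Z T T1 A B H xa xb x13 x22 r b) {z : G} (hzc : ∀ x ∈ T, x * z = z * x) :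
    ∀ x ∈ T, x * (t * z) = t * z * x := by
  intro x hx
  rw [← mul_assoc, I.fr.tc x hx, mul_assoc, hzc x hx, mul_assoc]

/-- conjugation of `t z` by `h ∈ H` -/
theorem conj_tz (I : SInp t v K U Z T T1 A B H xa xb x13 x22 r b) {h z z' : G} (hh : h ∈ H)
    (e : h * z * h⁻¹ = z') : h * (t * z) * h⁻¹ = t * z' := by
  calc h * (t * z) * h⁻¹ = (h * t) * z * h⁻¹ := by group
    _ = t * (h * z * h⁻¹) := by rw [I.Ht h hh]; group
    _ = t * z' := by rw [e]

/-- the fusion for the long root elements -/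
theorem fusA [Finite G] (I : SInp t v K U Z T T1 A B H xa xb x13 x22 r b) {s : F} (hs : s ≠ 0)
    (hta : IsConj t (t * xa s)) : Fus t T1 A := by
  obtain ⟨z, hz, hzc⟩ := I.nfa
  obtain ⟨h, hh, -, e⟩ := I.tr 1 s 1 z one_ne_zero hs one_ne_zero hz
  obtain ⟨g, hg⟩ := isConj_iff.1 hta
  obtain ⟨n, hn, hnt⟩ := exists_normalizer I.fr (g := h * g) (u := t * xa z) (by
    calc h * g * t * (h * g)⁻¹ = h * (g * t * g⁻¹) * h⁻¹ := by group
      _ = t * xa z := by rw [hg]; exact I.conj_tz hh e) (I.comm_tz hzc)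
  have hn1 := I.ot.norm_T1 I.fr.pT hn
  refine Start.Inp.fus_of (H := H) (z := xa z) I.Ht (fun h hh => I.nA (I.HT1 h hh)) I.HT1 ?_ hn1 (I.nA hn1) hnt
  intro x hx hx1
  obtain ⟨p, rfl⟩ := (I.hA x).1 hx
  have hp : p ≠ 0 := by
    rintro rfl
    exact hx1 I.ot.toTU.xa0
  obtain ⟨h, hh, -, e⟩ := I.tr 1 z 1 p one_ne_zero hz one_ne_zero hp
  exact ⟨h, hh, e⟩

/-- the fusion for the short root elements -/
theorem fusB [Finite G] (I : SInp t v K U Z T T1 A B H xa xb x13 x22 r b) {s : F} (hs : s ≠ 0)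
    (htb : IsConj t (t * xb s)) : Fus t T1 B := by
  obtain ⟨z, hz, hzc⟩ := I.nfb
  obtain ⟨h, hh, e, -⟩ := I.tr s 1 z 1 hs one_ne_zero hz one_ne_zero
  obtain ⟨g, hg⟩ := isConj_iff.1 htb
  obtain ⟨n, hn, hnt⟩ := exists_normalizer I.fr (g := h * g) (u := t * xb z) (by
    calc h * g * t * (h * g)⁻¹ = h * (g * t * g⁻¹) * h⁻¹ := by group
      _ = t * xb z := by rw [hg]; exact I.conj_tz hh e) (I.comm_tz hzc)
  have hn1 := I.ot.norm_T1 I.fr.pT hn
  refine Start.Inp.fus_of (H := H) (z := xb z) I.Ht (fun h hh => I.nB (I.HT1 h hh)) I.HT1 ?_ hn1 (I.nB hn1) hnt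
  intro x hx hx1
  obtain ⟨p, rfl⟩ := (I.hB x).1 hx
  have hp : p ≠ 0 := by
    rintro rfl
    exact hx1 I.ot.toTU.xb0
  obtain ⟨h, hh, e, -⟩ := I.tr z 1 p 1 hz one_ne_zero hp one_ne_zero
  exact ⟨h, hh, e⟩

/-- the mixed elements form one class -/
theorem mixed (I : SInp t v K U Z T T1 A B H xa xb x13 x22 r b) {s s' p p' : F} (hs : s ≠ 0) (hs' : s' ≠ 0)
    (hp : p ≠ 0) (hp' : p' ≠ 0) (h : IsConj t (t * (xb s * xa s'))) : IsConj t (t * (xb p * xa p')) := by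
  obtain ⟨h', hh, e1, e2⟩ := I.tr s s' p p' hs hs' hp hp'
  refine h.trans (isConj_iff.2 ⟨h', I.conj_tz hh ?_⟩)
  calc h' * (xb s * xa s') * h'⁻¹ = (h' * xb s * h'⁻¹) * (h' * xa s' * h'⁻¹) := by group
    _ = _ := by rw [e1, e2]

/-- **The start**: if `t` is not isolated in `Z(T)` then the long or the short root elements are moved. -/
theorem start [Finite G] (I : SInp t v K U Z T T1 A B H xa xb x13 x22 r b) (hni : ¬ Iso t T) :
    Fus t T1 A ∨ Fus t T1 B := by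
  obtain ⟨⟨n, hn, z, hz, hz1, hzc, hnt⟩, -⟩ := exists_swap I.fr hni
  by_cases hA : ∃ s : F, s ≠ 0 ∧ IsConj t (t * xa s)
  · obtain ⟨s, hs, hc⟩ := hA
    exact Or.inl (I.fusA hs hc)
  by_cases hB : ∃ s : F, s ≠ 0 ∧ IsConj t (t * xb s)
  · obtain ⟨s, hs, hc⟩ := hB
    exact Or.inr (I.fusB hs hc)
  exfalso
  push Not at hA hB
  have htz : IsConj t (t * z) := isConj_iff.2 ⟨n, hnt⟩
  obtain ⟨s, s', rfl⟩ := I.hZ z hz
  have hs : s ≠ 0 := by
    rintro rfl
    rw [I.ot.toTU.xb0, one_mul] at htz hz1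
    exact hA s' (fun h => hz1 (by rw [h, I.ot.toTU.xa0])) htz
  have hs' : s' ≠ 0 := by
    rintro rfl
    rw [I.ot.toTU.xa0, mul_one] at htz hz1
    exact hB s hs htz
  have hn1 := I.ot.norm_T1 I.fr.pT hn
  have key : ∀ c : F, c ≠ 0 → n * xb c * n⁻¹ = xb s := by
    intro c hc
    obtain ⟨p, hp⟩ := I.ot.toTU.conj_B hn1 c
    by_contra hne
    have hps : s + p ≠ 0 := fun h => hne (by rw [hp, I.ot.toTU.add_self_inj h])
    apply hB c hc
    refine (I.mixed hs hs' hps hs' htz).trans (isConj_iff.2 ⟨n⁻¹, ?_⟩)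
    have e : xb (s + p) * xa s' = xb s * xa s' * xb p := by
      rw [I.ot.xb_add, mul_assoc, I.ot.xac s' _ (I.ot.xb_mem p), mul_assoc]
    rw [e, ← hp]
    calc n⁻¹ * (t * (xb s * xa s' * (n * xb c * n⁻¹))) * n⁻¹⁻¹ = n⁻¹ * (t * (xb s * xa s')) * n * xb c := by group
      _ = n⁻¹ * (n * t * n⁻¹) * n * xb c := by rw [hnt]
      _ = t * xb c := by group
  obtain ⟨c, hc0, hc1⟩ := I.ot.four
  have h5 := (key c hc0).trans (key 1 one_ne_zero).symm
  have h6 : xb c = xb 1 := mul_left_cancel (mul_right_cancel h5)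
  have h7 : xb c * xa 0 = xb 1 * xa 0 := by rw [h6]
  exact hc1 (I.ot.toTU.ind' h7).1

/-- if the long and the mixed elements are moved, so are the short ones -/
theorem short_of_mixed (I : SInp t v K U Z T T1 A B H xa xb x13 x22 r b) (hF : Fus t T1 A) {s s' : F}
    (hs : s ≠ 0) (h : IsConj t (t * (xb s * xa s'))) : ∃ p : F, p ≠ 0 ∧ IsConj t (t * xb p) := by
  obtain ⟨g, hg1, -, hgt⟩ := hF (xa s') ((I.hA _).2 ⟨s', rfl⟩)
  obtain ⟨p, hp⟩ := I.ot.toTU.conj_B (inv_mem hg1) s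
  rw [inv_inv] at hp
  refine ⟨p, ?_, h.trans (isConj_iff.2 ⟨g⁻¹, ?_⟩)⟩
  · rintro rfl
    apply I.xb_ne hs
    rw [I.ot.toTU.xb0] at hp
    calc xb s = g * (g⁻¹ * xb s * g) * g⁻¹ := by group
      _ = 1 := by rw [hp]; group
  · have e : xb s * xa s' = xa s' * xb s := I.ot.xac s' _ (I.ot.xb_mem s)
    rw [e, inv_inv]
    calc g⁻¹ * (t * (xa s' * xb s)) * g = g⁻¹ * (t * xa s') * g * (g⁻¹ * xb s * g) := by group
      _ = g⁻¹ * (g * t * g⁻¹) * g * (g⁻¹ * xb s * g) := by rw [hgt]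
      _ = t * (g⁻¹ * xb s * g) := by group
      _ = t * xb p := by rw [hp]

/-- if the short and the mixed elements are moved, so are the long ones -/
theorem long_of_mixed (I : SInp t v K U Z T T1 A B H xa xb x13 x22 r b) (hF : Fus t T1 B) {s s' : F}
    (hs' : s' ≠ 0) (h : IsConj t (t * (xb s * xa s'))) : ∃ p : F, p ≠ 0 ∧ IsConj t (t * xa p) := by
  obtain ⟨g, hg1, -, hgt⟩ := hF (xb s) ((I.hB _).2 ⟨s, rfl⟩)
  obtain ⟨p, hp⟩ := I.ot.toTU.conj_A (inv_mem hg1) s'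
  rw [inv_inv] at hp
  refine ⟨p, ?_, h.trans (isConj_iff.2 ⟨g⁻¹, ?_⟩)⟩
  · rintro rfl
    apply I.xa_ne hs'
    rw [I.ot.toTU.xa0] at hp
    calc xa s' = g * (g⁻¹ * xa s' * g) * g⁻¹ := by group
      _ = 1 := by rw [hp]; group
  · rw [inv_inv]
    calc g⁻¹ * (t * (xb s * xa s')) * g = g⁻¹ * (t * xb s) * g * (g⁻¹ * xa s' * g) := by group
      _ = g⁻¹ * (g * t * g⁻¹) * g * (g⁻¹ * xa s' * g) := by rw [hgt]
      _ = t * (g⁻¹ * xa s' * g) := by group
      _ = t * xa p := by rw [hp]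

/-- if both lengths are moved, so are the mixed elements -/
theorem mixed_of (I : SInp t v K U Z T T1 A B H xa xb x13 x22 r b) (hFA : Fus t T1 A) (hFB : Fus t T1 B)
    (s s' : F) : IsConj t (t * (xb s * xa s')) := by
  obtain ⟨g, hg1, -, hgt⟩ := hFA (xa s') ((I.hA _).2 ⟨s', rfl⟩)
  obtain ⟨p, hp⟩ := I.ot.toTU.conj_B (inv_mem hg1) s
  rw [inv_inv] at hp
  obtain ⟨g', -, -, hgt'⟩ := hFB (xb p) ((I.hB _).2 ⟨p, rfl⟩)
  refine (isConj_iff.2 ⟨g', hgt'⟩ : IsConj t (t * xb p)).trans (isConj_iff.2 ⟨g, ?_⟩)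
  calc g * (t * xb p) * g⁻¹ = g * t * g⁻¹ * (g * xb p * g⁻¹) := by group
    _ = t * xa s' * (g * (g⁻¹ * xb s * g) * g⁻¹) := by rw [hgt, hp]
    _ = t * (xa s' * xb s) := by group
    _ = t * (xb s * xa s') := by rw [I.ot.xac s' _ (I.ot.xb_mem s)]

end SInp

end Cfsg.Agent.OddHalf.SpN.StartB

end

-- merged: Cfsg.Agent.OddHalf.SpN.StartOf
section

/-!
# ODD D7, `K = Sp_2n(q)`, `q` even, `q ≥ 4`, `n ≥ 3`: the instance of `StartB.TU` (helper583)

`a, b, c : Fin n` with values `0, 1, 2`; `T₁ = R.T1` (`WT1.lean`).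

* `conj_sx`, `conj_sy` : the action of `U` on `x_13`, `y_2`;
* `R.co g` : the component in `Sp` of `g ∈ ⟨t⟩ K`; `R.rr b c g`, `R.rr a b g` : the entries;
* `R.tu` : `StartB.TU R.T1 (y_1) (x_12) (x_13) (y_2) (R.rr b c) (R.rr a b)`;
* `R.center_T1`, `R.center_T1'` : the centre of `T₁`, of `C_{T₁}(U)`.
-/

set_option autoImplicit false

namespace Cfsg.Agent.OddHalf.SpN.StartOf

open Cfsg Cfsg.Agent.ClassicalGeometry.SympBasic Cfsg.Agent.ClassicalGeometry.SympAutSemi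
open scoped Matrix commutatorElement
open Subgroup TU StartB

variable {n : ℕ} {F : Type*} [Field F]

section mat

variable [CharP F 2]

theorem col_zero {A : Sy n F} (hA : A ∈ Uu n F) {i : Ix n} (hi : pos i = 0) :
    rho n F A (be n F i) = be n F i := by
  ext l
  rw [be_apply]
  exact hA l i (by omega)

theorem col_one {A : Sy n F} (hA : A ∈ Uu n F) {i j : Ix n} (hi : pos i = 0) (hj : pos j = 1) :
    rho n F A (be n F j) = be n F j + ent A i j • be n F i := by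
  have hij : i ≠ j := by rintro rfl; omega
  ext l
  rw [Pi.add_apply, Pi.smul_apply, be_apply, be_apply, smul_eq_mul]
  change ent A l j = _
  by_cases h1 : l = i
  · subst h1
    rw [if_neg hij, if_pos rfl]; ring
  · rw [if_neg h1, hA l j (by
      have : pos l ≠ 0 := fun e => h1 (pos_inj (by omega))
      omega)]
    ring

theorem col_two {A : Sy n F} (hA : A ∈ Uu n F) {i j k : Ix n} (hi : pos i = 0) (hj : pos j = 1)
    (hk : pos k = 2) : rho n F A (be n F k) = be n F k + ent A j k • be n F j + ent A i k • be n F i := by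
  have hik : i ≠ k := by rintro rfl; omega
  have hjk : j ≠ k := by rintro rfl; omega
  have hij : i ≠ j := by rintro rfl; omega
  ext l
  rw [Pi.add_apply, Pi.add_apply, Pi.smul_apply, Pi.smul_apply, be_apply, be_apply, be_apply, smul_eq_mul,
    smul_eq_mul]
  change ent A l k = _
  by_cases h1 : l = i
  · subst h1
    rw [if_neg hik, if_pos rfl, if_neg hij]; ring
  by_cases h2 : l = j
  · subst h2
    rw [if_neg hjk, if_pos rfl, if_neg h1]; ring
  rw [if_neg h1, if_neg h2, hA l k (by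
    have : pos l ≠ 0 := fun e => h1 (pos_inj (by omega))
    have : pos l ≠ 1 := fun e => h2 (pos_inj (by omega))
    omega)]
  ring

/-- `x_13` conjugated by `U` -/
theorem conj_sx {A : Sy n F} (hA : A ∈ Uu n F) {i j k : Ix n} (hi : pos i = 0) (hj : pos j = 1)
    (hk : pos k = 2) (hij : Dj i j) (hik : Dj i k) (hjk : Dj j k) (s : F) :
    A * sx i k s * A⁻¹ = sx i k s * sx i j (s * ent A j k) := by
  have h0 := col_zero hA hi
  have h1 := col_one hA hi hj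
  have h2 := col_two hA hi hj hk
  rw [mul_inv_eq_iff_eq_mul]
  apply rho_injective
  refine Equiv.ext fun v => ?_
  set w := rho n F A v with hw
  have r0 : w (neg i) = v (neg i) := by
    rw [← form_be w i, ← form_be v i, ← sympForm_rho A v (be n F i), h0]
  have r2 : w (neg k) + ent A j k * w (neg j) + ent A i k * w (neg i) = v (neg k) := by
    rw [← form_be v k, ← sympForm_rho A v (be n F k), h2, ← hw, form_eq, ← form_be w k, ← form_be w j,
      ← form_be w i, form_eq, form_eq, form_eq, Finset.mul_sum, Finset.mul_sum, ← Finset.sum_add_distrib,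
      ← Finset.sum_add_distrib]
    refine Finset.sum_congr rfl fun m _ => ?_
    simp only [Pi.add_apply, Pi.smul_apply, smul_eq_mul]
    ring
  rw [map_mul, map_mul, map_mul, Equiv.Perm.mul_apply, Equiv.Perm.mul_apply, Equiv.Perm.mul_apply, ← hw,
    rho_sx hik, rho_sx hij, rho_sx hik, rho_add, rho_add, rho_smul, rho_smul, h0, h2, ← hw]
  have e1 : (w + (s * ent A j k * w (neg j)) • be n F i + (s * ent A j k * w (neg i)) • be n F j) (neg k) =
      w (neg k) := by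
    rw [Pi.add_apply, Pi.add_apply, Pi.smul_apply, Pi.smul_apply, be_apply, be_apply, if_neg, if_neg]
    · simp
    · intro e; exact hjk.2 (by rw [← e])
    · intro e; exact hik.2 (by rw [← e])
  have e2 : (w + (s * ent A j k * w (neg j)) • be n F i + (s * ent A j k * w (neg i)) • be n F j) (neg i) =
      w (neg i) := by
    rw [Pi.add_apply, Pi.add_apply, Pi.smul_apply, Pi.smul_apply, be_apply, be_apply, if_neg, if_neg]
    · simp
    · intro e; exact hij.2 (by rw [← e, neg_neg])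
    · exact neg_ne i
  rw [e1, e2, r0, ← r2, r0]
  ext l
  simp only [Pi.add_apply, Pi.smul_apply, smul_eq_mul]
  linear_combination (s * ent A i k * v (neg i) * be n F i l) * (two0 : (2 : F) = 0)

/-- `y_2` conjugated by `U` -/
theorem conj_sy {A : Sy n F} (hA : A ∈ Uu n F) {i j : Ix n} (hi : pos i = 0) (hj : pos j = 1)
    (hij : Dj i j) (s : F) :
    A * sy j s * A⁻¹ = sy j s * (sx i j (s * ent A i j) * sy i (s * ent A i j ^ 2)) := by
  have h0 := col_zero hA hi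
  have h1 := col_one hA hi hj
  rw [mul_inv_eq_iff_eq_mul]
  apply rho_injective
  refine Equiv.ext fun v => ?_
  set w := rho n F A v with hw
  have r0 : w (neg i) = v (neg i) := by
    rw [← form_be w i, ← form_be v i, ← sympForm_rho A v (be n F i), h0]
  have r1 : w (neg j) + ent A i j * w (neg i) = v (neg j) := by
    rw [← form_be v j, ← sympForm_rho A v (be n F j), h1, ← hw, form_eq, ← form_be w j,
      ← form_be w i, form_eq, form_eq, Finset.mul_sum, ← Finset.sum_add_distrib]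
    refine Finset.sum_congr rfl fun m _ => ?_
    simp only [Pi.add_apply, Pi.smul_apply, smul_eq_mul]
    ring
  rw [map_mul, map_mul, map_mul, map_mul, Equiv.Perm.mul_apply, Equiv.Perm.mul_apply, Equiv.Perm.mul_apply,
    Equiv.Perm.mul_apply, ← hw, rho_sy i, rho_sx hij, rho_sy, rho_sy, rho_add, rho_smul, h1, ← hw]
  have g1 : (w + (s * ent A i j ^ 2 * w (neg i)) • be n F i) (neg j) = w (neg j) := by
    rw [Pi.add_apply, Pi.smul_apply, be_apply, if_neg]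
    · simp
    · intro e; exact hij.2 (by rw [← e])
  have g2 : (w + (s * ent A i j ^ 2 * w (neg i)) • be n F i) (neg i) = w (neg i) := by
    rw [Pi.add_apply, Pi.smul_apply, be_apply, if_neg (neg_ne i)]
    simp
  rw [g1, g2]
  have g3 : (w + (s * ent A i j ^ 2 * w (neg i)) • be n F i + (s * ent A i j * w (neg j)) • be n F i +
      (s * ent A i j * w (neg i)) • be n F j) (neg j) = w (neg j) := by
    rw [Pi.add_apply, Pi.add_apply, Pi.add_apply, Pi.smul_apply, Pi.smul_apply, Pi.smul_apply, be_apply, be_apply,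
      if_neg, if_neg (neg_ne j)]
    · simp
    · intro e; exact hij.2 (by rw [← e])
  rw [g3, r0, ← r1, r0]
  ext l
  simp only [Pi.add_apply, Pi.smul_apply, smul_eq_mul]
  ring

/-- the entries next to the diagonal are additive -/
theorem ent_mul_succ {A B : Sy n F} (hA : A ∈ Uu n F) (hB : B ∈ Uu n F) {i j : Ix n}
    (h : pos j = pos i + 1) : ent (A * B) i j = ent A i j + ent B i j := by
  have hij : i ≠ j := by rintro rfl; omega
  rw [ent_mul, ← Finset.sum_subset (Finset.subset_univ ({i, j} : Finset (Ix n))), Finset.sum_pair hij,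
    Uu_diag hA, Uu_diag hB]
  · ring
  · intro k _ hk
    rw [Finset.mem_insert, Finset.mem_singleton, not_or] at hk
    rcases lt_or_ge (pos k) (pos i) with h1 | h1
    · rw [Uu_zero hA h1, zero_mul]
    · have h2 : pos k ≠ pos i := fun e => hk.1 (pos_inj e)
      have h3 : pos k ≠ pos j := fun e => hk.2 (pos_inj e)
      rw [Uu_zero hB (by omega), mul_zero]

end mat

end Cfsg.Agent.OddHalf.SpN.StartOf

namespace Cfsg.Agent.OddHalf.SpN.Frame

open Cfsg Cfsg.Agent.ClassicalGeometry.SympBasic Cfsg.Agent.ClassicalGeometry.SympAutSemi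
open scoped Matrix commutatorElement
open Subgroup TU StartB StartOf

variable {n : ℕ} {F : Type*} [Field F] {G : Type*} [Group G] (R : Frame n F G)

open Classical in
/-- the component in `Sp` of an element of `⟨t⟩ K` -/
noncomputable def co (g : G) : Sy n F :=
  if h : ∃ A, g = R.ι A ∨ g = R.t * R.ι A then h.choose else 1

theorem co_ι (A : Sy n F) : R.co (R.ι A) = A := by
  have h : ∃ B, R.ι A = R.ι B ∨ R.ι A = R.t * R.ι B := ⟨A, Or.inl rfl⟩
  rw [co, dif_pos h]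
  rcases h.choose_spec with e | e
  · exact (R.inj e).symm
  · exfalso
    apply R.tK (A * h.choose⁻¹)
    rw [map_mul, map_inv]
    exact mul_inv_eq_iff_eq_mul.2 e

theorem co_tι (A : Sy n F) : R.co (R.t * R.ι A) = A := by
  have h : ∃ B, R.t * R.ι A = R.ι B ∨ R.t * R.ι A = R.t * R.ι B := ⟨A, Or.inr rfl⟩
  rw [co, dif_pos h]
  rcases h.choose_spec with e | e
  · exfalso
    apply R.tK (h.choose * A⁻¹)
    rw [map_mul, map_inv]
    exact mul_inv_eq_iff_eq_mul.2 e.symm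
  · exact (R.inj (mul_left_cancel e)).symm

/-- an entry, on `⟨t⟩ K` -/
noncomputable def rr (i j : Ix n) (g : G) : F := ent (R.co g) i j

theorem rr_ι (i j : Ix n) (A : Sy n F) : R.rr i j (R.ι A) = ent A i j := by rw [rr, co_ι]

theorem rr_tι (i j : Ix n) (A : Sy n F) : R.rr i j (R.t * R.ι A) = ent A i j := by rw [rr, co_tι]

theorem co_of {g : G} {A : Sy n F} (h : g = R.ι A ∨ g = R.t * R.ι A) : R.co g = A := by
  rcases h with rfl | rfl
  · exact R.co_ι A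
  · exact R.co_tι A

/-- `t` drops out of a conjugation of elements of `K` -/
theorem conj_of {g : G} {A : Sy n F} (h : g = R.ι A ∨ g = R.t * R.ι A) (B : Sy n F) :
    g * R.ι B * g⁻¹ = R.ι (A * B * A⁻¹) := by
  rw [map_mul, map_mul, map_inv]
  rcases h with rfl | rfl
  · rfl
  · have e := (R.comm (A * B * A⁻¹)).eq
    rw [map_mul, map_mul, map_inv] at e
    calc R.t * R.ι A * R.ι B * (R.t * R.ι A)⁻¹ = R.t * (R.ι A * R.ι B * (R.ι A)⁻¹) * R.t⁻¹ := by group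
      _ = _ := by rw [← e]; group

theorem co_mul {g g' : G} {A B : Sy n F} (h : g = R.ι A ∨ g = R.t * R.ι A) (h' : g' = R.ι B ∨ g' = R.t * R.ι B) :
    g * g' = R.ι (A * B) ∨ g * g' = R.t * R.ι (A * B) := by
  have e := (R.comm A).eq
  rw [map_mul]
  rcases h with rfl | rfl <;> rcases h' with rfl | rfl
  · left; rfl
  · right; rw [← mul_assoc, e, mul_assoc]
  · right; rw [mul_assoc]
  · left
    calc R.t * R.ι A * (R.t * R.ι B) = R.t * (R.ι A * R.t) * R.ι B := by group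
      _ = (R.t * R.t) * R.ι A * R.ι B := by rw [e]; group
      _ = _ := by rw [R.tt, one_mul]

variable [CharP F 2]

/-- the centre of `T₁` commutes with `U`, hence is `⟨t⟩ X_12 Y_1` -/
theorem center_T1 {a b : Fin n} (ha : a.val = 0) (hb : b.val = 1) {z : G} (hz : z ∈ R.T1)
    (hc : ∀ A ∈ Uu n F, z * R.ι A = R.ι A * z) :
    ∃ s s' : F, z = R.x (Sum.inl a) (Sum.inl b) s * R.y (Sum.inl a) s' ∨
      z = R.t * (R.x (Sum.inl a) (Sum.inl b) s * R.y (Sum.inl a) s') := by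
  obtain ⟨A, hA, h⟩ := hz
  have hcA : ∀ B ∈ Uu n F, Commute A B := by
    intro B hB
    have h1 := hc B hB
    have h2 := R.conj_of h B
    rw [h1, mul_inv_cancel_right] at h2
    have h3 := R.inj h2
    exact (mul_inv_eq_iff_eq_mul.1 h3.symm)
  obtain ⟨x', y', e⟩ := center_eq ha hb hA hcA
  have hcomm : Commute (sy (Sum.inl a) x') (sx (Sum.inl a) (Sum.inl b) y') :=
    sy_sx_comm (by rw [neg_inl]; exact fun e => by cases e) (by rw [neg_inl]; exact fun e => by cases e) _ _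
  rw [hcomm.eq] at e
  refine ⟨y', x', ?_⟩
  rw [Frame.x, Frame.y, ← map_mul, ← e]
  exact h

/-- the commutator with `x_13` -/
theorem com_x {a b c : Fin n} (ha : a.val = 0) (hb : b.val = 1) (hc : c.val = 2) (s : F) {u : G}
    (hu : u ∈ R.T1) : com (R.x (Sum.inl a) (Sum.inl c) s) u =
      R.x (Sum.inl a) (Sum.inl b) (s * R.rr (Sum.inl b) (Sum.inl c) u) := by
  obtain ⟨A, hA, h⟩ := hu
  have nab : a ≠ b := by rintro rfl; omega
  have nac : a ≠ c := by rintro rfl; omega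
  have nbc : b ≠ c := by rintro rfl; omega
  have h1 : u * R.x (Sum.inl a) (Sum.inl c) s * u⁻¹ = _ := R.conj_of h (sx (Sum.inl a) (Sum.inl c) s)
  rw [conj_sx hA (by rw [pos_inl]; exact ha) (by rw [pos_inl]; exact hb) (by rw [pos_inl]; exact hc)
    (dj_inl nab) (dj_inl nac) (dj_inl nbc)] at h1
  have h2 : R.rr (Sum.inl b) (Sum.inl c) u = ent A (Sum.inl b) (Sum.inl c) := by rw [rr, R.co_of h]
  have h3 := R.x_sq (Sum.inl a) (Sum.inl c) s
  have h4 : (R.x (Sum.inl a) (Sum.inl c) s)⁻¹ = R.x (Sum.inl a) (Sum.inl c) s := inv_eq_of_mul_eq_one_left h3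
  unfold com
  rw [h4, h2]
  calc R.x (Sum.inl a) (Sum.inl c) s * u * R.x (Sum.inl a) (Sum.inl c) s * u⁻¹ =
        R.x (Sum.inl a) (Sum.inl c) s * (u * R.x (Sum.inl a) (Sum.inl c) s * u⁻¹) := by group
    _ = (R.x (Sum.inl a) (Sum.inl c) s * R.x (Sum.inl a) (Sum.inl c) s) *
        R.x (Sum.inl a) (Sum.inl b) (s * ent A (Sum.inl b) (Sum.inl c)) := by
        rw [h1, map_mul]
        change _ * (R.x _ _ _ * R.x _ _ _) = _
        group
    _ = _ := by rw [h3, one_mul]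

/-- the commutator with `y_2` -/
theorem com_y {a b : Fin n} (ha : a.val = 0) (hb : b.val = 1) (s : F) {u : G}
    (hu : u ∈ R.T1) : com (R.y (Sum.inl b) s) u =
      R.x (Sum.inl a) (Sum.inl b) (s * R.rr (Sum.inl a) (Sum.inl b) u) *
        R.y (Sum.inl a) (s * R.rr (Sum.inl a) (Sum.inl b) u ^ 2) := by
  obtain ⟨A, hA, h⟩ := hu
  have nab : a ≠ b := by rintro rfl; omega
  have h1 : u * R.y (Sum.inl b) s * u⁻¹ = _ := R.conj_of h (sy (Sum.inl b) s)
  rw [conj_sy hA (by rw [pos_inl]; exact ha) (by rw [pos_inl]; exact hb) (dj_inl nab)] at h1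
  have h2 : R.rr (Sum.inl a) (Sum.inl b) u = ent A (Sum.inl a) (Sum.inl b) := by rw [rr, R.co_of h]
  have h3 := R.y_sq (Sum.inl b) s
  have h4 : (R.y (Sum.inl b) s)⁻¹ = R.y (Sum.inl b) s := inv_eq_of_mul_eq_one_left h3
  unfold com
  rw [h4, h2]
  calc R.y (Sum.inl b) s * u * R.y (Sum.inl b) s * u⁻¹ =
        R.y (Sum.inl b) s * (u * R.y (Sum.inl b) s * u⁻¹) := by group
    _ = (R.y (Sum.inl b) s * R.y (Sum.inl b) s) *
        (R.x (Sum.inl a) (Sum.inl b) (s * ent A (Sum.inl a) (Sum.inl b)) *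
          R.y (Sum.inl a) (s * ent A (Sum.inl a) (Sum.inl b) ^ 2)) := by
        rw [h1, map_mul, map_mul]
        change _ * (R.y _ _ * (R.x _ _ _ * R.y _ _)) = _
        group
    _ = _ := by rw [h3, one_mul]

/-- the second centre of `T₁` -/
theorem second_T1 {a b c : Fin n} (ha : a.val = 0) (hb : b.val = 1) (hc : c.val = 2) {v : G} (hv : v ∈ R.T1)
    (h : ∀ u ∈ R.T1, ∀ w ∈ R.T1, w * com v u = com v u * w) :
    ∃ s s' : F, ∃ z, (∀ w ∈ R.T1, w * z = z * w) ∧ z ∈ R.T1 ∧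
      v = R.x (Sum.inl a) (Sum.inl c) s * R.y (Sum.inl b) s' * z := by
  have nab : a ≠ b := by rintro rfl; omega
  have nac : a ≠ c := by rintro rfl; omega
  obtain ⟨A, hA, hvA⟩ := hv
  have hcom : ∀ B, com v (R.ι B) = R.ι (A * B * A⁻¹ * B⁻¹) := by
    intro B
    unfold com
    rw [R.conj_of hvA, ← map_inv, ← map_mul]
  have h1 : ∀ B ∈ Uu n F, ∃ x y : F, A * B * A⁻¹ * B⁻¹ = sy (Sum.inl a) x * sx (Sum.inl a) (Sum.inl b) y := by
    intro B hB
    apply center_eq ha hb (mul_mem (mul_mem (mul_mem hA hB) (inv_mem hA)) (inv_mem hB))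
    intro C hC
    have h2 := h _ (R.ι_mem_T1 hB) _ (R.ι_mem_T1 hC)
    rw [hcom, ← map_mul, ← map_mul] at h2
    exact (R.inj h2).symm
  obtain ⟨x', y', v', w', e⟩ := second_center_eq ha hb hc hA h1
  have hz0 : sy (Sum.inl a) x' * sx (Sum.inl a) (Sum.inl b) y' ∈ Uu n F :=
    mul_mem (sy_inl_mem _ _) (sx_inl_inl_mem _ _ _)
  -- the central part
  have cen : ∀ w ∈ R.T1, w * R.ι (sy (Sum.inl a) x' * sx (Sum.inl a) (Sum.inl b) y') =
      R.ι (sy (Sum.inl a) x' * sx (Sum.inl a) (Sum.inl b) y') * w := by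
    intro w hw
    have e1 := R.T1_y (i := Sum.inl a) (by rw [pos_inl]; exact ha) w hw x'
    have e2 := R.T1_x (i := Sum.inl a) (j := Sum.inl b) (by rw [pos_inl]; exact ha) (by rw [pos_inl]; exact hb)
      (dj_inl nab) w hw y'
    rw [map_mul]
    change w * (R.y (Sum.inl a) x' * R.x (Sum.inl a) (Sum.inl b) y') =
      R.y (Sum.inl a) x' * R.x (Sum.inl a) (Sum.inl b) y' * w
    rw [← mul_assoc, e1, mul_assoc, e2, mul_assoc]
  have hv0 : R.x (Sum.inl a) (Sum.inl c) v' * R.y (Sum.inl b) w' ∈ R.T1 :=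
    mul_mem (R.ι_mem_T1 (sx_inl_inl_mem _ _ _)) (R.ι_mem_T1 (sy_inl_mem _ _))
  have eA : R.ι A = R.x (Sum.inl a) (Sum.inl c) v' * R.y (Sum.inl b) w' *
      R.ι (sy (Sum.inl a) x' * sx (Sum.inl a) (Sum.inl b) y') := by
    rw [cen _ hv0, e, mul_assoc, map_mul, map_mul (R.ι) (sx (Sum.inl a) (Sum.inl c) v')]
    rfl
  rcases hvA with rfl | rfl
  · exact ⟨v', w', _, cen, R.ι_mem_T1 hz0, eA⟩
  · refine ⟨v', w', R.t * R.ι (sy (Sum.inl a) x' * sx (Sum.inl a) (Sum.inl b) y'), ?_,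
      mul_mem R.t_mem_T1 (R.ι_mem_T1 hz0), ?_⟩
    · intro w hw
      rw [← mul_assoc, R.T1_t hw, mul_assoc, cen w hw, mul_assoc]
    · rw [eA, ← mul_assoc, ← R.T1_t hv0, mul_assoc]

/-- **the commutator data of `T₁`** -/
theorem tu [Finite F] (hq : ∃ s : F, s ≠ 0 ∧ s ≠ 1) {a b c : Fin n} (ha : a.val = 0) (hb : b.val = 1)
    (hc : c.val = 2) :
    StartB.TU R.T1 (R.y (Sum.inl a)) (R.x (Sum.inl a) (Sum.inl b)) (R.x (Sum.inl a) (Sum.inl c))
      (R.y (Sum.inl b)) (R.rr (Sum.inl b) (Sum.inl c)) (R.rr (Sum.inl a) (Sum.inl b)) := by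
  have nab : a ≠ b := by rintro rfl; omega
  have nac : a ≠ c := by rintro rfl; omega
  have nbc : b ≠ c := by rintro rfl; omega
  refine
    { two := CharTwo.add_self_eq_zero
      perf := fun s => ?_
      four := hq
      xa_mem := fun s => R.ι_mem_T1 (sy_inl_mem _ _)
      xb_mem := fun s => R.ι_mem_T1 (sx_inl_inl_mem _ _ _)
      x13_mem := fun s => R.ι_mem_T1 (sx_inl_inl_mem _ _ _)
      x22_mem := fun s => R.ι_mem_T1 (sy_inl_mem _ _)
      xa_add := R.y_add _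
      xb_add := R.x_add _ _
      ind := fun s s' h => ?_
      xac := fun s u hu => R.T1_y (i := Sum.inl a) (by rw [pos_inl]; exact ha) u hu s
      xbc := fun s u hu => R.T1_x (i := Sum.inl a) (j := Sum.inl b) (by rw [pos_inl]; exact ha)
        (by rw [pos_inl]; exact hb) (dj_inl nab) u hu s
      z2 := fun v hv h => R.second_T1 ha hb hc hv h
      r_mul := fun u hu w hw => ?_
      onto := fun ρ β => ?_
      c13 := fun s u hu => R.com_x ha hb hc s hu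
      c22 := fun s u hu => R.com_y ha hb s hu }
  · obtain ⟨w, hw⟩ := isSquare_of_charTwo' s
    exact ⟨w, by rw [hw, pow_two]⟩
  · rw [Frame.x, Frame.y, ← map_mul] at h
    have h1 : sx (Sum.inl a) (Sum.inl b) s * sy (Sum.inl a) s' = 1 := R.inj (by rw [h, map_one])
    have e1 := ent_sx_mul (dj_inl nab) s (sy (Sum.inl a) s') (Sum.inl a) (Sum.inr b)
    have e2 := ent_sx_mul (dj_inl nab) s (sy (Sum.inl a) s') (Sum.inl a) (Sum.inr a)
    rw [h1, ent_one] at e1 e2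
    simp only [ent_sy, neg_inl] at e1 e2
    simp [nab, nab.symm] at e1 e2
    exact ⟨e1.symm, e2.symm⟩
  · obtain ⟨A, hA, h⟩ := hu
    obtain ⟨B, hB, h'⟩ := hw
    rw [rr, rr, rr, R.co_of h, R.co_of h', R.co_of (R.co_mul h h')]
    exact ent_mul_succ hA hB (by rw [pos_inl, pos_inl, hb, hc])
  · have hab : a < b := by rw [Fin.lt_def]; omega
    have hbc : b < c := by rw [Fin.lt_def]; omega
    have m1 := sx_inl_inr_mem (F := F) hbc ρ
    have m2 := sx_inl_inr_mem (F := F) hab β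
    refine ⟨R.ι (sx (Sum.inl b) (Sum.inr c) ρ * sx (Sum.inl a) (Sum.inr b) β), R.ι_mem_T1 (mul_mem m1 m2), ?_, ?_⟩
    · rw [rr_ι, ent_mul_succ m1 m2 (by rw [pos_inl, pos_inl, hb, hc]), ent_sx (dj_inl_inr nbc),
        ent_sx (dj_inl_inr nab)]
      simp [nbc, nab.symm]
    · rw [rr_ι, ent_mul_succ m1 m2 (by rw [pos_inl, pos_inl, ha, hb]), ent_sx (dj_inl_inr nbc),
        ent_sx (dj_inl_inr nab)]
      simp [nbc, nab]

end Cfsg.Agent.OddHalf.SpN.Frame

end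

-- merged: Cfsg.Agent.OddHalf.SpN.StartClean
section

/-!
# ODD D7, `K = Sp_2n(q)`, `q` even, `q ≥ 4`, `n ≥ 3`: section 1, clean case (helper583)

`a, b, c : Fin n` with values `0, 1, 2`.

* `R.tor_trans` : the torus is transitive on pairs of elements of `X_12`, `Y_1`;
* `R.A1 a`, `R.B1 a b`, `R.Z1 a b` : the subgroups `Y_1`, `X_12`, `X_12 Y_1`;
* `CFrame.max_T1` : `R.T1` is a Sylow 2-subgroup of `C(t)`; `CFrame.nconj` : `t` is not conjugate into `Z1`;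
* `CFrame.fr : Fr R.t R.t R.K R.Up (R.Z1 a b) R.T1`, `CFrame.sinp`;
* `CFrame.start` : if `t` is not isolated in `T₁` then the long or the short root elements are moved;
* `CFrame.movesY`, `CFrame.movesX` : then they are moved in `N(T₁)`, commuting with the torus part (`WExist.Mv`);
* `CFrame.short_of`, `long_of`, `mixed_of` : mixed elements are moved iff both lengths are (given one of them).
-/

set_option autoImplicit false

namespace Cfsg.Agent.OddHalf.SpN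

open Cfsg Cfsg.Agent.ClassicalGeometry.SympBasic Cfsg.Agent.ClassicalGeometry.SympAutSemi
open scoped Matrix commutatorElement
open Subgroup TU StartB WExist

variable {n : ℕ} {F : Type*} [Field F]

namespace Frame

variable {G : Type*} [Group G] (R : Frame n F G)

theorem zpowers_t {g : G} (h : g ∈ zpowers R.t) : g = 1 ∨ g = R.t := by
  obtain ⟨k, rfl⟩ := mem_zpowers_iff.1 h
  have h2 : R.t ^ (2 : ℤ) = 1 := by rw [zpow_two, R.tt]
  rcases Int.even_or_odd k with ⟨m, rfl⟩ | ⟨m, rfl⟩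
  · left
    rw [← two_mul, zpow_mul, h2, one_zpow]
  · right
    rw [zpow_add, zpow_mul, h2, one_zpow, one_mul, zpow_one]

theorem zpowers_pgroup : IsPGroup 2 (zpowers R.t) := by
  rintro ⟨g, hg⟩
  refine ⟨1, Subtype.ext ?_⟩
  rcases R.zpowers_t hg with rfl | rfl
  · simp
  · simp [pow_two, R.tt]

theorem norm_K {g : G} (h : g * R.t = R.t * g) : g ∈ normalizer (R.K : Set G) := by
  have key : ∀ g : G, g * R.t = R.t * g → ∀ x ∈ R.K, g * x * g⁻¹ ∈ R.K := by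
    rintro g hg _ ⟨k, rfl⟩
    obtain ⟨k', hk'⟩ := R.nK g hg k
    exact ⟨k', hk'.symm⟩
  rw [mem_normalizer_iff]
  intro x
  refine ⟨key g h x, fun hx => ?_⟩
  have h' : g⁻¹ * R.t = R.t * g⁻¹ := by
    rw [inv_mul_eq_iff_eq_mul, ← mul_assoc, h, mul_inv_cancel_right]
  have := key g⁻¹ h' _ hx
  have e : g⁻¹ * (g * x * g⁻¹) * g⁻¹⁻¹ = x := by group
  rwa [e] at this

/-- `⟨t⟩ K` -/
def TK : Subgroup G where
  carrier := {g | ∃ A, g = R.ι A ∨ g = R.t * R.ι A}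
  one_mem' := ⟨1, Or.inl (map_one _).symm⟩
  mul_mem' := by
    rintro a b ⟨A, hA⟩ ⟨B, hB⟩
    exact ⟨A * B, R.co_mul hA hB⟩
  inv_mem' := by
    rintro a ⟨A, hA | hA⟩
    · exact ⟨A⁻¹, Or.inl (by rw [hA, map_inv])⟩
    · refine ⟨A⁻¹, Or.inr ?_⟩
      rw [hA, mul_inv_rev, R.t_inv, map_inv, ((R.comm A).inv_left).eq]

theorem sup_le_TK : zpowers R.t ⊔ R.K ≤ R.TK := by
  rw [sup_le_iff, zpowers_le]
  exact ⟨⟨1, Or.inr (by rw [map_one, mul_one])⟩, by rintro _ ⟨A, rfl⟩; exact ⟨A, Or.inl rfl⟩⟩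

variable [CharP F 2]

/-- the torus is transitive on pairs -/
theorem tor_trans [Finite F] {i j : Ix n} (hd : Dj i j) {s s' p p' : F} (hs : s ≠ 0) (hs' : s' ≠ 0) (hp : p ≠ 0)
    (hp' : p' ≠ 0) : ∃ h ∈ R.h.range, h * R.x i j s * h⁻¹ = R.x i j p ∧ h * R.y i s' * h⁻¹ = R.y i p' := by
  obtain ⟨l1, h1⟩ := chiy_surj (n := n) (F := F) i (Units.mk0 (p' / s') (div_ne_zero hp' hs'))
  -- `ev l1 i ^ 2 = p' / s'`, then correct at `j`
  have h1' : ((ev l1 i : Fˣ) : F) * ev l1 i = p' / s' := by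
    have := congrArg Units.val h1
    rwa [chiy_apply, Units.val_mul, Units.val_mk0] at this
  set β : Fˣ := Units.mk0 (p / (s * (ev l1 i * ev l1 j))) (div_ne_zero hp
    (mul_ne_zero hs (mul_ne_zero (Units.ne_zero _) (Units.ne_zero _)))) with hβ
  set lam := l1 * one j β with hlam
  have ei : ev lam i = ev l1 i := by
    rw [hlam]
    have : ev (l1 * one j β) i = ev l1 i * ev (one j β) i := by
      rcases i with i | i <;> simp [ev, mul_comm]
    rw [this, ev_one_ne hd, mul_one]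
  have ej : ev lam j = ev l1 j * β := by
    rw [hlam]
    have : ev (l1 * one j β) j = ev l1 j * ev (one j β) j := by
      rcases j with j | j <;> simp [ev, mul_comm]
    rw [this, ev_one_self]
  refine ⟨R.h lam, ⟨lam, rfl⟩, ?_, ?_⟩
  · rw [R.h_x, ei, ej]
    congr 1
    rw [Units.val_mul, hβ, Units.val_mk0]
    have n1 : ((ev l1 i : Fˣ) : F) ≠ 0 := Units.ne_zero _
    have n2 : ((ev l1 j : Fˣ) : F) ≠ 0 := Units.ne_zero _
    field_simp
  · rw [R.h_y, ei, pow_two, h1', div_mul_cancel₀ _ hs']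

/-- the subgroup `Y_1` -/
noncomputable def A1 (a : Fin n) : Subgroup G := xs (R.y (Sum.inl a)) (R.y_add _) (R.y_sq _)

/-- the subgroup `X_12` -/
noncomputable def B1 (a b : Fin n) : Subgroup G := xs (R.x (Sum.inl a) (Sum.inl b)) (R.x_add _ _) (R.x_sq _ _)

theorem mem_A1 {a : Fin n} {g : G} : g ∈ R.A1 a ↔ ∃ s, g = R.y (Sum.inl a) s := Iff.rfl

theorem mem_B1 {a b : Fin n} {g : G} : g ∈ R.B1 a b ↔ ∃ s, g = R.x (Sum.inl a) (Sum.inl b) s := Iff.rfl

theorem xy_comm (a b : Fin n) (s s' : F) : Commute (R.y (Sum.inl a) s) (R.x (Sum.inl a) (Sum.inl b) s') :=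
  R.y_x_comm (by rw [neg_inl]; exact fun e => by cases e) (by rw [neg_inl]; exact fun e => by cases e) _ _

/-- the subgroup `X_12 Y_1 = Z(U)` -/
noncomputable def Z1 (a b : Fin n) : Subgroup G where
  carrier := {g | ∃ s s', g = R.x (Sum.inl a) (Sum.inl b) s * R.y (Sum.inl a) s'}
  one_mem' := ⟨0, 0, by rw [R.x_zero, R.y_zero, one_mul]⟩
  mul_mem' := by
    rintro _ _ ⟨s, s', rfl⟩ ⟨p, p', rfl⟩
    refine ⟨s + p, s' + p', ?_⟩
    have e := (R.xy_comm a b s' p).eq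
    rw [R.x_add, R.y_add]
    calc R.x (Sum.inl a) (Sum.inl b) s * R.y (Sum.inl a) s' * (R.x (Sum.inl a) (Sum.inl b) p * R.y (Sum.inl a) p') =
          R.x (Sum.inl a) (Sum.inl b) s * (R.y (Sum.inl a) s' * R.x (Sum.inl a) (Sum.inl b) p) *
            R.y (Sum.inl a) p' := by group
      _ = _ := by rw [e]; group
  inv_mem' := by
    rintro _ ⟨s, s', rfl⟩
    refine ⟨s, s', ?_⟩
    have e := (R.xy_comm a b s' s).eq
    have e1 : (R.x (Sum.inl a) (Sum.inl b) s)⁻¹ = R.x (Sum.inl a) (Sum.inl b) s :=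
      inv_eq_of_mul_eq_one_left (R.x_sq _ _ _)
    have e2 : (R.y (Sum.inl a) s')⁻¹ = R.y (Sum.inl a) s' := inv_eq_of_mul_eq_one_left (R.y_sq _ _)
    rw [mul_inv_rev, e1, e2, e]

theorem mem_Z1 {a b : Fin n} {g : G} :
    g ∈ R.Z1 a b ↔ ∃ s s', g = R.x (Sum.inl a) (Sum.inl b) s * R.y (Sum.inl a) s' := Iff.rfl

theorem Z1_sq {a b : Fin n} {g : G} (h : g ∈ R.Z1 a b) : g * g = 1 := by
  obtain ⟨s, s', rfl⟩ := h
  have e := (R.xy_comm a b s' s).eq
  calc R.x (Sum.inl a) (Sum.inl b) s * R.y (Sum.inl a) s' * (R.x (Sum.inl a) (Sum.inl b) s * R.y (Sum.inl a) s') =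
        R.x (Sum.inl a) (Sum.inl b) s * (R.y (Sum.inl a) s' * R.x (Sum.inl a) (Sum.inl b) s) *
          R.y (Sum.inl a) s' := by group
    _ = (R.x (Sum.inl a) (Sum.inl b) s * R.x (Sum.inl a) (Sum.inl b) s) *
        (R.y (Sum.inl a) s' * R.y (Sum.inl a) s') := by rw [e]; group
    _ = 1 := by rw [R.x_sq, R.y_sq, one_mul]

/-- `X_12 Y_1` is central in `T₁` -/
theorem Z1_comm {a b : Fin n} (ha : a.val = 0) (hb : b.val = 1) {z : G} (hz : z ∈ R.Z1 a b) :
    ∀ u ∈ R.T1, u * z = z * u := by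
  have hne : a ≠ b := by rintro rfl; omega
  intro u hu
  obtain ⟨s, s', rfl⟩ := hz
  have e1 := R.T1_y (i := Sum.inl a) (by rw [pos_inl]; exact ha) u hu s'
  have e2 := R.T1_x (i := Sum.inl a) (j := Sum.inl b) (by rw [pos_inl]; exact ha) (by rw [pos_inl]; exact hb)
    (dj_inl hne) u hu s
  rw [← mul_assoc, e2, mul_assoc, e1, mul_assoc]

/-- `X_12 Y_1 ≤ U'` -/
theorem Z1_le {a b c : Fin n} (ha : a.val = 0) (hb : b.val = 1) (hc : c.val = 2) :
    R.Z1 a b ≤ (⁅Uu n F, Uu n F⁆).map R.ι := by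
  have hab : a < b := by rw [Fin.lt_def]; omega
  have hbc : b < c := by rw [Fin.lt_def]; omega
  rintro _ ⟨s, s', rfl⟩
  exact mul_mem (mem_map_of_mem _ (sx_mem_comm hab.ne (hab.trans hbc).ne hbc s))
    (mem_map_of_mem _ (sy_mem_comm hab hbc s'))

variable [Finite F]

/-- `R.Up = U` -/
theorem Up_le_T1 : R.Up ≤ R.T1 := by
  rw [R.Up_eq]
  rintro _ ⟨A, hA, rfl⟩
  exact R.ι_mem_T1 hA

theorem Up_eq_inf : R.Up = R.T1 ⊓ R.K := by
  apply le_antisymm (le_inf R.Up_le_T1 R.Up_le)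
  rintro g ⟨hg, A, rfl⟩
  rw [R.Up_eq]
  exact ⟨A, R.ι_mem_T1_iff.1 hg, rfl⟩

theorem T1_eq_sup : R.T1 = R.Up ⊔ zpowers R.t := by
  apply le_antisymm
  · rintro g ⟨A, hA, rfl | rfl⟩
    · exact mem_sup_left (by rw [R.Up_eq]; exact ⟨A, hA, rfl⟩)
    · exact mul_mem (mem_sup_right (mem_zpowers _)) (mem_sup_left (by rw [R.Up_eq]; exact ⟨A, hA, rfl⟩))
  · exact sup_le R.Up_le_T1 (zpowers_le.2 R.t_mem_T1)

end Frame

namespace CFrame

variable {G : Type*} [Group G] [Finite G] (R : CFrame n F G)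

omit [Finite G] in
theorem tK_normal : ((zpowers R.t ⊔ R.K).subgroupOf (centralizer ({R.t} : Set G))).Normal := by
  constructor
  rintro ⟨x, hx⟩ hxm ⟨g, hg⟩
  rw [mem_subgroupOf] at hxm ⊢
  change x ∈ zpowers R.t ⊔ R.K at hxm
  change g * x * g⁻¹ ∈ zpowers R.t ⊔ R.K
  have hgt : g * R.t = R.t * g := mem_centralizer_singleton_iff.1 hg
  have hle : zpowers R.t ⊔ R.K ≤ (zpowers R.t ⊔ R.K).comap (MulAut.conj g).toMonoidHom := by
    rw [sup_le_iff, zpowers_le]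
    constructor
    · change g * R.t * g⁻¹ ∈ zpowers R.t ⊔ R.K
      rw [hgt, mul_inv_cancel_right]
      exact mem_sup_left (mem_zpowers _)
    · intro k hk
      exact mem_sup_right ((mem_normalizer_iff.1 (R.norm_K hgt) k).1 hk)
  exact hle hxm

/-- the 2-elements of `C(t)` are in `⟨t⟩ K` -/
theorem mem_of_two {x : G} (hx : x * R.t = R.t * x) {k : ℕ} (hk : x ^ 2 ^ k = 1) :
    x ∈ zpowers R.t ⊔ R.K := by
  have hN := R.tK_normal
  set C := centralizer ({R.t} : Set G) with hC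
  set N := (zpowers R.t ⊔ R.K).subgroupOf C with hNdef
  have hodd : Odd N.index := R.odd
  have h1 : ((⟨x, mem_centralizer_singleton_iff.2 hx⟩ : C) : C ⧸ N) ^ 2 ^ k = 1 := by
    rw [← QuotientGroup.mk_pow]
    have : (⟨x, mem_centralizer_singleton_iff.2 hx⟩ : C) ^ 2 ^ k = 1 := Subtype.ext hk
    rw [this]; rfl
  have h2 : ((⟨x, mem_centralizer_singleton_iff.2 hx⟩ : C) : C ⧸ N) ^ N.index = 1 := by
    rw [index_eq_card]; exact pow_card_eq_one'
  have h3 : orderOf ((⟨x, mem_centralizer_singleton_iff.2 hx⟩ : C) : C ⧸ N) = 1 := by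
    apply Nat.eq_one_of_dvd_coprimes (a := 2 ^ k) (b := N.index) _ (orderOf_dvd_of_pow_eq_one h1)
      (orderOf_dvd_of_pow_eq_one h2)
    exact Nat.Coprime.pow_left k (Nat.coprime_two_left.mpr hodd)
  rw [orderOf_eq_one_iff, QuotientGroup.eq_one_iff, hNdef, mem_subgroupOf] at h3
  exact h3

variable [CharP F 2] [Finite F]

/-- `T₁` is a Sylow 2-subgroup of `C(t)` -/
theorem max_T1 (P : Subgroup G) (hP : IsPGroup 2 P) (h1 : R.T1 ≤ P) (h2 : ∀ x ∈ P, x * R.t = R.t * x) :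
    P ≤ R.T1 := by
  have hPC : P ≤ centralizer ({R.t} : Set G) := fun x hx => mem_centralizer_singleton_iff.2 (h2 x hx)
  have ho := R.odd_cent
  rw [← R.T1_eq_sup, ← relIndex_mul_relIndex _ _ _ h1 hPC, Nat.odd_mul] at ho
  have : Fact (Nat.Prime 2) := ⟨Nat.prime_two⟩
  obtain ⟨k, hk⟩ := IsPGroup.index hP (R.T1.subgroupOf P)
  have ho1 := ho.1
  rw [relIndex, hk] at ho1
  have hk0 : k = 0 := by
    by_contra h0
    exact (Nat.not_odd_iff_even.2 ((even_two).pow_of_ne_zero h0)) ho1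
  rw [hk0, pow_zero, index_eq_one, subgroupOf_eq_top] at hk
  exact hk

omit [Finite F] in
/-- `t` is not conjugate into `X_12 Y_1` -/
theorem nconj {a b c : Fin n} (ha : a.val = 0) (hb : b.val = 1) (hc : c.val = 2) {z : G} (hz : z ∈ R.Z1 a b)
    (g : G) : g * R.t * g⁻¹ ≠ z := by
  intro hg
  set U := (Uu n F).map R.ι with hU
  set V := U.map (MulAut.conj g⁻¹).toMonoidHom with hV
  have h1 : z ∈ ⁅U, U⁆ := by
    have := R.Z1_le ha hb hc hz
    rwa [map_commutator] at this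
  have h2 : R.t ∈ ⁅V, V⁆ := by
    rw [hV, ← map_commutator]
    refine ⟨z, h1, ?_⟩
    change g⁻¹ * z * g⁻¹⁻¹ = R.t
    rw [← hg]; group
  have h3 : V ≤ zpowers R.t ⊔ R.K := by
    rintro _ ⟨u, hu, rfl⟩
    change g⁻¹ * u * g⁻¹⁻¹ ∈ _
    have hu' : u ∈ R.T1 := by
      obtain ⟨A, hA, rfl⟩ := hu
      exact R.ι_mem_T1 hA
    have hc1 := R.Z1_comm ha hb hz u hu'
    obtain ⟨k, hk⟩ := R.T1_pgroup ⟨u, hu'⟩
    have hk' : u ^ 2 ^ k = 1 := congrArg Subtype.val hk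
    apply R.mem_of_two (k := k)
    · rw [← hg] at hc1
      calc g⁻¹ * u * g⁻¹⁻¹ * R.t = g⁻¹ * (u * (g * R.t * g⁻¹)) * g := by group
        _ = R.t * (g⁻¹ * u * g⁻¹⁻¹) := by rw [hc1]; group
    · rw [conj_pow, hk']; group
  -- `⟨t⟩ K` modulo `K`
  have h4 : ⁅V, V⁆ ≤ R.K := by
    rw [commutator_le]
    intro x hx y hy
    obtain ⟨A, hA⟩ := R.sup_le_TK (h3 hx)
    obtain ⟨B, hB⟩ := R.sup_le_TK (h3 hy)
    have e1 : x * y * x⁻¹ * y⁻¹ = R.ι (A * B * A⁻¹ * B⁻¹) := by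
      rw [map_mul, ← R.conj_of hA, map_inv]
      rcases hB with rfl | rfl
      · rfl
      · have hxt : x * R.t = R.t * x := by
          rcases hA with rfl | rfl
          · exact (R.comm A).eq
          · rw [mul_assoc, (R.comm A).eq]
        calc x * (R.t * R.ι B) * x⁻¹ * (R.t * R.ι B)⁻¹ = (x * R.t) * R.ι B * x⁻¹ * (R.ι B)⁻¹ * R.t⁻¹ := by group
          _ = R.t * (x * R.ι B * x⁻¹ * (R.ι B)⁻¹) * R.t⁻¹ := by rw [hxt]; group
          _ = x * R.ι B * x⁻¹ * (R.ι B)⁻¹ := by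
            have e2 : x * R.ι B * x⁻¹ * (R.ι B)⁻¹ = R.ι (A * B * A⁻¹ * B⁻¹) := by
              rw [map_mul, ← R.conj_of hA, map_inv]
            rw [e2, ← (R.comm _).eq]; group
    rw [commutatorElement_def, e1]
    exact ⟨_, rfl⟩
  obtain ⟨k, hk⟩ := h4 h2
  exact R.tK k hk

/-- **the frame of the front** -/
theorem fr {a b c : Fin n} (ha : a.val = 0) (hb : b.val = 1) (hc : c.val = 2) :
    D7Out.Defs.Fr R.t R.t R.K R.Up (R.Z1 a b) R.T1 where
  tt := R.tt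
  t1 := R.t1
  pR := R.zpowers_pgroup
  tR := mem_zpowers _
  nK := fun g hg => R.norm_K hg
  vK := by
    rintro _ ⟨k, rfl⟩
    exact (R.comm k).eq
  cK := fun c hct hcK => by
    rcases R.cK c hct (fun k => (hcK _ ⟨k, rfl⟩).symm) with rfl | rfl
    · exact one_mem _
    · exact mem_zpowers _
  KR := by
    rintro _ ⟨k, rfl⟩ hk
    exact (R.zpowers_t hk).resolve_right (R.tK k)
  pT := R.T1_pgroup
  vT := R.t_mem_T1
  tc := fun x hx => R.T1_t hx
  max := R.max_T1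
  U_eq := R.Up_eq_inf
  ZU := by
    rw [R.Up_eq]
    exact (R.Z1_le ha hb hc).trans (map_mono (Subgroup.commutator_le_self _))
  Zc := fun z hz u hu => R.Z1_comm ha hb hz u (R.Up_le_T1 hu)
  Zsq := fun z hz => R.Z1_sq hz
  Z1 := by
    intro h
    have h1 : R.y (Sum.inl a) 1 ∈ R.Z1 a b := ⟨0, 1, by rw [R.x_zero, one_mul]⟩
    rw [h, mem_bot] at h1
    exact one_ne_zero (R.y_eq_one h1)
  cU := fun x hx hxU => by
    obtain ⟨s, s', h⟩ := R.center_T1 ha hb hx (fun A hA => hxU _ (by rw [R.Up_eq]; exact ⟨A, hA, rfl⟩))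
    rcases h with h | h
    · exact ⟨1, one_mem _, _, ⟨s, s', rfl⟩, by rw [one_mul]; exact h⟩
    · exact ⟨R.t, mem_zpowers _, _, ⟨s, s', rfl⟩, h⟩
  nconj := fun z hz g => R.nconj ha hb hc hz g

/-- the input of section 1 -/
theorem sinp (hq : ∃ s : F, s ≠ 0 ∧ s ≠ 1) {a b c : Fin n} (ha : a.val = 0) (hb : b.val = 1) (hc : c.val = 2) :
    SInp R.t R.t R.K R.Up (R.Z1 a b) R.T1 R.T1 (R.A1 a) (R.B1 a b) R.h.range (R.y (Sum.inl a))
      (R.x (Sum.inl a) (Sum.inl b)) (R.x (Sum.inl a) (Sum.inl c)) (R.y (Sum.inl b))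
      (R.rr (Sum.inl b) (Sum.inl c)) (R.rr (Sum.inl a) (Sum.inl b)) where
  fr := R.fr ha hb hc
  ot := { R.tu hq ha hb hc with
    T1T := le_rfl
    nT1 := fun g hg => le_normalizer hg
    ract := fun g hg _ => hg
    bact := fun g hg _ => hg }
  hA := fun g => by rw [R.mem_A1]; exact ⟨fun ⟨s, e⟩ => ⟨s, e.symm⟩, fun ⟨s, e⟩ => ⟨s, e.symm⟩⟩
  hB := fun g => by rw [R.mem_B1]; exact ⟨fun ⟨s, e⟩ => ⟨s, e.symm⟩, fun ⟨s, e⟩ => ⟨s, e.symm⟩⟩
  hZ := fun z hz => hz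
  Ht := by
    rintro _ ⟨lam, rfl⟩
    exact (R.h_t lam).eq
  HT1 := by
    rintro _ ⟨lam, rfl⟩
    exact R.h_T1 lam
  tr := fun s s' p p' hs hs' hp hp' => R.tor_trans (dj_inl (by rintro rfl; omega)) hs hs' hp hp'

end CFrame

/-- the fusion in coordinates -/
theorem fus_coord {G : Type*} [Group G] {t : G} {T1 A : Subgroup G} {x : F → G} (hA : ∀ g, g ∈ A ↔ ∃ s, g = x s)
    (h : Start.Fus t T1 A) : ∀ u, ∃ g ∈ normalizer (T1 : Set G), (∀ y, (∃ v, y = x v) ↔ ∃ v, g * y * g⁻¹ = x v) ∧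
      g * t * g⁻¹ = t * x u := by
  intro u
  obtain ⟨g, h1, h2, h3⟩ := h (x u) ((hA _).2 ⟨u, rfl⟩)
  refine ⟨g, h1, fun y => ?_, h3⟩
  rw [← hA, ← hA]
  exact mem_normalizer_iff.1 h2 y

namespace CFrame

variable {G : Type*} [Group G] [Finite G] (R : CFrame n F G) [CharP F 2] [Finite F]

/-- the long root elements are moved inside `N(T₁)` if one of them is moved -/
theorem movesY (hq : ∃ s : F, s ≠ 0 ∧ s ≠ 1) {a b c : Fin n} (ha : a.val = 0) (hb : b.val = 1) (hc : c.val = 2)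
    {s : F} (hs : s ≠ 0) (h : IsConj R.t (R.t * R.y (Sum.inl a) s)) :
    ∀ u, ∃ g ∈ normalizer (R.T1 : Set G), Mv R.t (R.y (Sum.inl a)) R.h (chiy (Sum.inl a)) g u :=
  R.mvY (by omega) hq (by rw [pos_inl]; exact ha)
    (fus_coord (fun _ => Iff.rfl) ((R.sinp hq ha hb hc).fusA hs h))

/-- the short root elements are moved inside `N(T₁)` if one of them is moved -/
theorem movesX (hq : ∃ s : F, s ≠ 0 ∧ s ≠ 1) {a b c : Fin n} (ha : a.val = 0) (hb : b.val = 1) (hc : c.val = 2)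
    {s : F} (hs : s ≠ 0) (h : IsConj R.t (R.t * R.x (Sum.inl a) (Sum.inl b) s)) :
    ∀ u, ∃ g ∈ normalizer (R.T1 : Set G), Mv R.t (R.x (Sum.inl a) (Sum.inl b)) R.h
      (chix (Sum.inl a) (Sum.inl b)) g u :=
  R.mvX (by omega) hq (by rw [pos_inl]; exact ha) (by rw [pos_inl]; exact hb)
    (fus_coord (fun _ => Iff.rfl) ((R.sinp hq ha hb hc).fusB hs h))

/-- **Section 1, clean case.** -/
theorem start (hq : ∃ s : F, s ≠ 0 ∧ s ≠ 1) {a b c : Fin n} (ha : a.val = 0) (hb : b.val = 1) (hc : c.val = 2)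
    (hni : ¬ D7Out.Defs.Iso R.t R.T1) :
    (∃ s : F, s ≠ 0 ∧ IsConj R.t (R.t * R.y (Sum.inl a) s)) ∨
      ∃ s : F, s ≠ 0 ∧ IsConj R.t (R.t * R.x (Sum.inl a) (Sum.inl b) s) := by
  rcases (R.sinp hq ha hb hc).start hni with h | h
  · left
    obtain ⟨g, -, -, h1⟩ := h (R.y (Sum.inl a) 1) ⟨1, rfl⟩
    exact ⟨1, one_ne_zero, isConj_iff.2 ⟨g, h1⟩⟩
  · right
    obtain ⟨g, -, -, h1⟩ := h (R.x (Sum.inl a) (Sum.inl b) 1) ⟨1, rfl⟩
    exact ⟨1, one_ne_zero, isConj_iff.2 ⟨g, h1⟩⟩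

/-- long and mixed moved: short moved -/
theorem short_of (hq : ∃ s : F, s ≠ 0 ∧ s ≠ 1) {a b c : Fin n} (ha : a.val = 0) (hb : b.val = 1) (hc : c.val = 2)
    {s : F} (hs : s ≠ 0) (h : IsConj R.t (R.t * R.y (Sum.inl a) s)) {p p' : F} (hp : p ≠ 0)
    (h' : IsConj R.t (R.t * (R.x (Sum.inl a) (Sum.inl b) p * R.y (Sum.inl a) p'))) :
    ∃ s : F, s ≠ 0 ∧ IsConj R.t (R.t * R.x (Sum.inl a) (Sum.inl b) s) :=
  (R.sinp hq ha hb hc).short_of_mixed ((R.sinp hq ha hb hc).fusA hs h) hp h'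

/-- short and mixed moved: long moved -/
theorem long_of (hq : ∃ s : F, s ≠ 0 ∧ s ≠ 1) {a b c : Fin n} (ha : a.val = 0) (hb : b.val = 1) (hc : c.val = 2)
    {s : F} (hs : s ≠ 0) (h : IsConj R.t (R.t * R.x (Sum.inl a) (Sum.inl b) s)) {p p' : F} (hp' : p' ≠ 0)
    (h' : IsConj R.t (R.t * (R.x (Sum.inl a) (Sum.inl b) p * R.y (Sum.inl a) p'))) :
    ∃ s : F, s ≠ 0 ∧ IsConj R.t (R.t * R.y (Sum.inl a) s) :=
  (R.sinp hq ha hb hc).long_of_mixed ((R.sinp hq ha hb hc).fusB hs h) hp' h'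

/-- long and short moved: mixed moved -/
theorem mixed_of (hq : ∃ s : F, s ≠ 0 ∧ s ≠ 1) {a b c : Fin n} (ha : a.val = 0) (hb : b.val = 1) (hc : c.val = 2)
    {s s' : F} (hs : s ≠ 0) (h : IsConj R.t (R.t * R.y (Sum.inl a) s)) (hs' : s' ≠ 0)
    (h' : IsConj R.t (R.t * R.x (Sum.inl a) (Sum.inl b) s')) (p p' : F) :
    IsConj R.t (R.t * (R.x (Sum.inl a) (Sum.inl b) p * R.y (Sum.inl a) p')) :=
  (R.sinp hq ha hb hc).mixed_of ((R.sinp hq ha hb hc).fusA hs h) ((R.sinp hq ha hb hc).fusB hs' h') p p'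

end CFrame

end Cfsg.Agent.OddHalf.SpN

end
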