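import Mathlib
import Cfsg.Agent.OddHalf.SpN.CC
import Cfsg.Agent.OddHalf.SpN.OutEq
import Cfsg.Agent.OddHalf.SpN.BothInst
import Cfsg.Agent.OddHalf.SpN.KInst
import Cfsg.Agent.OddHalf.SpN.RelsOf
import Cfsg.Agent.OddHalf.SpN.Cent2
import Cfsg.Agent.OddHalf.SpN.COneEnd
import Cfsg.Agent.OddHalf.SpN.StartClean
import Cfsg.Agent.OddHalf.SpN.W3L
import Cfsg.Agent.OddHalf.SpN.DSInst
import Cfsg.Agent.GTwoFour.TransferTL
import Cfsg.Agent.OddHalf.F4.EndO
import Cfsg.Agent.OddHalf.SpN.OutDefs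
import Cfsg.Agent.OddHalf.SpN.OutTri
import Cfsg.Agent.OddHalf.F4.EndOut
import Cfsg.Agent.OddHalf.SpN.OutT3
import Cfsg.Agent.OddHalf.Out.ZeroDiv
import Cfsg.Agent.LieRecognition.FieldSemilinear
import Cfsg.Agent.OddHalf.SpN.Inst
import Cfsg.Agent.OddHalf.D7.Cases

-- merged: Cfsg.Agent.OddHalf.SpN.CCEnd
section

/-!
# END of the pattern (C,C) for `Sp_2n(q)`, `q ≥ 4` even (helper678)

All the root groups are doubled; the doubles of the positive roots generate a `t`-invariant 2-group `S` with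
`C_S(t) = U`, and the transfer of `S ⟨t⟩` (`F4/EndO.lean`) gives a homomorphism with `t ↦ -1`.
-/

set_option autoImplicit false
set_option maxHeartbeats 400000

namespace Cfsg.Agent.OddHalf.SpN

open Cfsg.Agent.OddHalf.F4.EndO
open scoped commutatorElement

variable {n : ℕ} {F : Type*} [Field F] {G : Type*} [Group G] [CharP F 2] {R : Frame n F G}

namespace CC

variable (C : CC R)

/-- the doubled root groups -/
def VC (p : PP n) : Subgroup G := open Classical in if p.1 = p.2 then C.L.V p.1 else C.D.W p.1 p.2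

theorem VC_ii (i : Ix n) : C.VC (i, i) = C.L.V i := if_pos rfl

theorem VC_ij {i j : Ix n} (h : i ≠ j) : C.VC (i, j) = C.D.W i j := if_neg h

theorem VC_symm (i j : Ix n) : C.VC (i, j) = C.VC (j, i) := by
  by_cases h : i = j
  · subst h; rfl
  · rw [C.VC_ij h, C.VC_ij (Ne.symm h), C.D.symm]

/-- membership in the join by degrees -/
theorem mem_sup {i j : Ix n} {d : ℕ} (h : (d : ℤ) ≤ Fd i + Fd j) (hd : 0 < d) {g : G} (hg : g ∈ C.VC (i, j)) :
    g ∈ ⨆ r : PP n, ⨆ _ : d ≤ dN dgC r, C.VC r :=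
  le_iSupP (r := (i, j)) (S := fun r => d ≤ dN dgC r) ((dN_le hd).2 h) hg

theorem commWW {i j k l : Ix n} (hij : Dj i j) (hkl : Dj k l) (hp : 0 < Fd i + Fd j) (hq : 0 < Fd k + Fd l)
    (hne : Fd i + Fd j ≠ Fd k + Fd l) {d : ℕ} (hd : 0 < d) (hd' : (d : ℤ) = (Fd i + Fd j) + (Fd k + Fd l)) {v w : G}
    (hv : v ∈ C.D.W i j) (hw : w ∈ C.D.W k l) : ⁅v, w⁆ ∈ ⨆ r : PP n, ⨆ _ : d ≤ dN dgC r, C.VC r := by
  -- one opposite pair of indices: `k = -j`
  have aux : ∀ i j l : Ix n, Dj i j → Dj (neg j) l → 0 < Fd i + Fd j → 0 < Fd (neg j) + Fd l →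
      (d : ℤ) = (Fd i + Fd j) + (Fd (neg j) + Fd l) → ∀ v ∈ C.D.W i j, ∀ w ∈ C.D.W (neg j) l,
      ⁅v, w⁆ ∈ ⨆ r : PP n, ⨆ _ : d ≤ dN dgC r, C.VC r := by
    intro i j l hij hjl hp hq hd' v hv w hw
    have hjl' : Dj j l := dj_neg_left.1 hjl
    rw [Fd_neg] at hq hd'
    have hil : i ≠ neg l := by
      intro e
      rw [e, Fd_neg] at hp
      omega
    by_cases e1 : i = l
    · subst e1
      rw [C.D.symm] at hw
      obtain ⟨b, hb⟩ := C.cpar i j hij v hv w hw
      rw [hb]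
      exact C.mem_sup (i := i) (j := i) (by omega) hd (by rw [C.VC_ii]; exact C.L.y_mem i b)
    · have h1 := C.c120 i (neg j) l (dj_neg_right.2 hij) ⟨e1, hil⟩ hjl w hw v (by rw [neg_neg]; exact hv)
      have h2 := inv_mem h1
      rw [commutatorElement_inv] at h2
      exact C.mem_sup (i := i) (j := l) (by omega) hd (by rw [C.VC_ij e1]; exact h2)
  by_cases h1 : k = neg j
  · subst h1; exact aux i j l hij hkl hp hq hd' v hv w hw
  by_cases h2 : k = neg i
  · subst h2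
    rw [C.D.symm] at hv
    exact aux j i l hij.symm hkl (by omega) hq (by omega) v hv w hw
  by_cases h3 : l = neg j
  · subst h3
    rw [C.D.symm] at hw
    exact aux i j k hij hkl.symm hp (by omega) (by omega) v hv w hw
  by_cases h4 : l = neg i
  · subst h4
    rw [C.D.symm] at hv hw
    exact aux j i k hij.symm hkl.symm (by omega) (by omega) (by omega) v hv w hw
  have hc : Commute v w := by
    by_cases e1 : k = i
    · subst e1
      exact C.c60 k j l hij hkl ⟨fun e => hne (by rw [e]), fun e => h3 (by rw [e, neg_neg])⟩ v hv w hw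
    by_cases e2 : k = j
    · subst e2
      rw [C.D.symm] at hv
      exact C.c60 k i l hij.symm hkl ⟨fun e => hne (by rw [e, add_comm]), fun e => h4 (by rw [e, neg_neg])⟩ v hv w hw
    by_cases e3 : l = i
    · subst e3
      rw [C.D.symm] at hw
      exact C.c60 l j k hij hkl.symm ⟨fun e => hne (by rw [e, add_comm]), fun e => h1 (by rw [e, neg_neg])⟩ v hv w hw
    by_cases e4 : l = j
    · subst e4
      rw [C.D.symm] at hv hw
      exact C.c60 l i k hij.symm hkl.symm ⟨fun e => hne (by rw [e]), fun e => h2 (by rw [e, neg_neg])⟩ v hv w hw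
    have dj : ∀ a b : Ix n, b ≠ a → b ≠ neg a → Dj a b := fun a b h h' => ⟨h.symm, fun e => h' (by rw [e, neg_neg])⟩
    exact C.c90 i j k l hij (dj _ _ e1 h2) (dj _ _ e3 h4) (dj _ _ e2 h1) (dj _ _ e4 h3) hkl v hv w hw
  rw [commutatorElement_eq_one_iff_commute.mpr hc]
  exact one_mem _

variable [Finite F] (hn : 3 ≤ n) (hF : ∃ μ : Fˣ, (μ : F) ≠ 1)
include hn hF

theorem commWV {i j k : Ix n} (hij : Dj i j) (hp : 0 < Fd i + Fd j) (hk : 0 < Fd k) {d : ℕ} (hd : 0 < d)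
    (hd' : (d : ℤ) = (Fd i + Fd j) + (Fd k + Fd k)) {v w : G} (hv : v ∈ C.D.W i j) (hw : w ∈ C.L.V k) :
    ⁅v, w⁆ ∈ ⨆ r : PP n, ⨆ _ : d ≤ dN dgC r, C.VC r := by
  have aux : ∀ i j : Ix n, Dj i j → 0 < Fd i + Fd j → (d : ℤ) = (Fd i + Fd j) + (Fd (neg j) + Fd (neg j)) →
      ∀ v ∈ C.D.W i j, ∀ w ∈ C.L.V (neg j), ⁅v, w⁆ ∈ ⨆ r : PP n, ⨆ _ : d ≤ dN dgC r, C.VC r := by
    intro i j hij hp hd' v hv w hw
    rw [Fd_neg] at hd'
    have hij' : Dj i (neg j) := dj_neg_right.2 hij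
    obtain ⟨a, ha, b, hb, h⟩ := C.mem135 hij' hn hF (g := v) (by rw [neg_neg]; exact hv) hw
    rw [h]
    refine mul_mem ?_ ?_
    · exact C.mem_sup (i := i) (j := neg j) (by rw [Fd_neg]; omega) hd (by rw [C.VC_ij hij'.1]; exact ha)
    · exact C.mem_sup (i := i) (j := i) (by omega) hd (by rw [C.VC_ii]; exact hb)
  by_cases h1 : k = neg j
  · subst h1; exact aux i j hij hp hd' v hv w hw
  by_cases h2 : k = neg i
  · subst h2
    rw [C.D.symm] at hv
    exact aux j i hij.symm (by omega) (by omega) v hv w hw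
  rw [commutatorElement_eq_one_iff_commute.mpr (C.cWV i j k hij h2 h1 v hv w hw)]
  exact one_mem _

theorem grdC : Grd R.t (GradeOf.Vd (dN dgC) C.VC) (GradeOf.Vd (dN dgC) R.XP)
    (GradeOf.lgd (dN dgC) fun _ : PP n => False) 0 (2 * 5 ^ n) := by
  have uniq : ∀ p q : PP n, 0 < dN dgC p → dN dgC p = dN dgC q → p = q ∨ p = (q.2, q.1) := by
    intro p q hp hpq
    have h1 := dN_pos.1 hp
    have h2 := dN_pos.1 (hpq ▸ hp)
    refine uniqC h1 ?_
    rw [← dN_cast h1, ← dN_cast h2, hpq]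
  refine GradeOf.grd ?_ ?_ ?_ R.tt ?_ ?_ ?_ ?_ ?_ ?_ ?_ ?_ ?_ ?_ ?_ ?_
  · intro p q hp hpq
    rcases uniq p q hp hpq with rfl | rfl
    · rfl
    · exact C.VC_symm _ _
  · intro p q hp hpq
    rcases uniq p q hp hpq with rfl | rfl
    · rfl
    · exact R.XP_symm _ _
  · intro p q hp hpq hl
    exact hl
  · rintro ⟨i, j⟩ hp v hv
    have hp' := dN_pos.1 hp
    by_cases hij : i = j
    · subst hij
      rw [C.VC_ii] at hv ⊢
      obtain ⟨a, ha⟩ := C.L.ht i v hv
      rw [ha]; exact mul_mem hv (C.L.y_mem i a)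
    · rw [C.VC_ij hij] at hv ⊢
      obtain ⟨a, ha⟩ := C.D.ht i j (dj_of_dgC hij hp') v hv
      rw [ha]; exact mul_mem hv (C.D.x_mem i j a)
  · rintro ⟨i, j⟩ hp v hv
    have hp' := dN_pos.1 hp
    by_cases hij : i = j
    · subst hij
      rw [C.VC_ii] at hv
      exact C.Vsq i v hv
    · rw [C.VC_ij hij] at hv
      exact C.Wsq i j (dj_of_dgC hij hp') v hv
  · rintro ⟨i, j⟩ hp
    by_cases hij : i = j
    · subst hij
      rw [C.VC_ii, R.XP_ii]
      rintro _ ⟨a, rfl⟩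
      exact C.L.y_mem i a
    · rw [C.VC_ij hij, R.XP_ij hij]
      rintro _ ⟨a, rfl⟩
      exact C.D.x_mem i j a
  · intro p hp x hx
    exact R.XP_fix hx
  · rintro ⟨i, j⟩ hp v hv hf
    have hp' := dN_pos.1 hp
    by_cases hij : i = j
    · subst hij
      rw [C.VC_ii] at hv
      rw [R.XP_ii]
      obtain ⟨a, ha⟩ := C.L.ker i v hv hf
      exact ⟨a, ha⟩
    · rw [C.VC_ij hij] at hv
      rw [R.XP_ij hij]
      obtain ⟨a, ha⟩ := C.D.ker i j (dj_of_dgC hij hp') v hv hf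
      exact ⟨a, ha⟩
  · rintro ⟨i, j⟩ hp - x hx
    have hp' := dN_pos.1 hp
    by_cases hij : i = j
    · subst hij
      rw [R.XP_ii] at hx
      rw [C.VC_ii]
      obtain ⟨a, rfl⟩ := hx
      obtain ⟨w, hw, hw'⟩ := C.L.onto i a
      exact ⟨w, hw, by rw [hw']; group⟩
    · rw [R.XP_ij hij] at hx
      rw [C.VC_ij hij]
      obtain ⟨a, rfl⟩ := hx
      obtain ⟨w, hw, hw'⟩ := C.D.onto i j (dj_of_dgC hij hp') a
      exact ⟨w, hw, by rw [hw']; group⟩
  · rintro p hp hl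
    exact hl.elim
  · rintro ⟨i, j⟩ ⟨k, l⟩ hp hq hne v hv w hw
    have hp' := dN_pos.1 hp
    have hq' := dN_pos.1 hq
    have c1 := dN_cast hp'
    have c2 := dN_cast hq'
    have d1 : dgC i j = Fd i + Fd j := rfl
    have d2 : dgC k l = Fd k + Fd l := rfl
    simp only at hp' hq' c1 c2
    rw [d1] at hp' c1
    rw [d2] at hq' c2
    have hd : 0 < dN dgC (i, j) + dN dgC (k, l) := by omega
    have hd' : ((dN dgC (i, j) + dN dgC (k, l) : ℕ) : ℤ) = (Fd i + Fd j) + (Fd k + Fd l) := by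
      push_cast; rw [c1, c2]
    have hne' : Fd i + Fd j ≠ Fd k + Fd l := fun e => hne (by
      have : ((dN dgC (i, j) : ℕ) : ℤ) = (dN dgC (k, l) : ℕ) := by rw [c1, c2, e]
      exact_mod_cast this)
    rw [show v * w * v⁻¹ * w⁻¹ = ⁅v, w⁆ from rfl]
    by_cases hij : i = j
    · subst hij
      rw [C.VC_ii] at hv
      by_cases hkl : k = l
      · subst hkl
        rw [C.VC_ii] at hw
        have hik : i ≠ k := fun e => hne (by rw [e])
        have hdj : Dj i k := ⟨hik, fun e => by rw [e, Fd_neg] at hp'; omega⟩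
        rw [commutatorElement_eq_one_iff_commute.mpr (C.cVV i k hdj v hv w hw)]
        exact one_mem _
      · have hdj := dj_of_dgC hkl (hq'.trans_eq d2.symm)
        rw [C.VC_ij hkl] at hw
        have h2 := inv_mem (C.commWV hn hF hdj hq' (by omega) hd (by rw [hd']; ring) hw hv)
        rwa [commutatorElement_inv] at h2
    · have hdj := dj_of_dgC hij (hp'.trans_eq d1.symm)
      rw [C.VC_ij hij] at hv
      by_cases hkl : k = l
      · subst hkl
        rw [C.VC_ii] at hw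
        exact C.commWV hn hF hdj hp' (by omega) hd hd' hv hw
      · have hdj' := dj_of_dgC hkl (hq'.trans_eq d2.symm)
        rw [C.VC_ij hkl] at hw
        exact C.commWW hdj hdj' hp' hq' hne' hd hd' hv hw
  · rintro p q - - - hl
    exact hl.elim
  · rintro ⟨i, j⟩
    have h1 : Fd i ≤ 5 ^ n := by
      rcases Fd_cases i with h | h
      · rw [h]; exact pow_le_pow_right₀ (by norm_num) (by unfold ex; omega)
      · rw [h]
        have h1 := pow_pos (show (0 : ℤ) < 5 by norm_num) (ex i)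
        have h2 := pow_pos (show (0 : ℤ) < 5 by norm_num) n
        linarith
    have h2 : Fd j ≤ 5 ^ n := by
      rcases Fd_cases j with h | h
      · rw [h]; exact pow_le_pow_right₀ (by norm_num) (by unfold ex; omega)
      · rw [h]
        have h1 := pow_pos (show (0 : ℤ) < 5 by norm_num) (ex j)
        have h2 := pow_pos (show (0 : ℤ) < 5 by norm_num) n
        linarith
    have h4 : dgC i j ≤ 2 * 5 ^ n := by unfold dgC; linarith
    have h3 := pow_pos (show (0 : ℤ) < 5 by norm_num) n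
    unfold dN
    simp only
    have : ((2 * 5 ^ n : ℕ) : ℤ) = 2 * 5 ^ n := by push_cast; rfl
    omega
  · intro p hp
    exact R.indepP dgC_ok dgC_symm (fun i j => dj_of_dgC) hp
  · rintro p hp hl
    exact hl.elim

include C in
/-- **END (C,C)**. -/
theorem exists_hom [Finite G]
    (hodd : Odd ((R.UpP ⊔ Subgroup.zpowers R.t).relIndex (Subgroup.centralizer {R.t}))) :
    ∃ m : G →* ℤˣ, m R.t = -1 := by
  refine (C.grdC hn hF).exists_hom' ?_ ?_ ?_
  · intro ht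
    exact R.t_notMem_K (R.N_XP_le_K dgC ht)
  · rw [R.N_XP_C]; exact hodd
  · intro l hl hl1
    exfalso
    apply hl1
    have : Lg (GradeOf.Vd (dN dgC) R.XP) (GradeOf.lgd (dN dgC) fun _ : PP n => False) 1 ≤ ⊥ :=
      Lg_le fun i _ hi => by obtain ⟨_, _, _, h⟩ := hi; exact h.elim
    exact Subgroup.mem_bot.1 (this hl)

end CC

end Cfsg.Agent.OddHalf.SpN

end

-- merged: Cfsg.Agent.OddHalf.SpN.BothFrame
section

/-!
# ODD D7, `K = Sp_2n(q)`, pattern ALL: the frame `P2` of a pair (helper780)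
-/

set_option autoImplicit false

namespace Cfsg.Agent.OddHalf.SpN

open scoped commutatorElement

variable {n : ℕ} {F : Type*} [Field F] [CharP F 2] {G : Type*} [Group G]

/-- the inputs of section 8 beyond `DS` and `DL` -/
structure Inp {R : Frame n F G} {δ γ : F} (D : DS R δ) (V : DL R γ) : Prop where
  hn : 3 ≤ n
  hF : ∃ a : F, a ≠ 0 ∧ a ≠ 1
  /-- (6.1) -/
  el : ∀ i j, Dj i j → ∀ g ∈ D.W i j, g * g = 1
  /-- section 4 -/
  h4 : ∀ i j, Dj i j → ∀ g ∈ V.V i, ∀ g' ∈ V.V j, ∃ a, g * g' = g' * g * R.x i j a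

theorem neg_ne_of_dj {i j : Ix n} (h : Dj i j) : j ≠ neg i := fun e => h.2 (by rw [e, neg_neg])

variable {R : Frame n F G} {δ γ : F} {D : DS R δ} {V : DL R γ}

/-- independence of `Y_i, Y_j, X_ij, X_{i,-j}` -/
theorem ind4 (R : Frame n F G) {i j : Ix n} (h : Dj i j) {a b c e : F}
    (h1 : R.y i a * R.y j b * R.x i j c * R.x i (neg j) e = 1) : a = 0 ∧ b = 0 ∧ c = 0 ∧ e = 0 := by
  have hr := R.rels
  have e1 : R.x i (neg j) e = R.y i a * R.y j b * R.x i j c := by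
    have := eq_inv_of_mul_eq_one_right h1
    rw [this, inv_eq_iff_mul_eq_one]
    exact hr.z_sq h a b c
  have c1 : Commute (R.x i (neg j) e) (R.y j 1) := by
    rw [e1]
    exact ((R.y_comm (neg_ne_of_dj h) _ _).mul_left (R.y_comm (ne_neg j) _ _)).mul_left
      (hr.x_yj h _ _)
  have e2 := hr.sl j i 1 e h.symm
  rw [R.x_symm (neg j) i, c1.eq, mul_assoc, R.x_sq, mul_one, mul_assoc] at e2
  have e3 := left_eq_mul.mp e2
  rw [one_mul, one_mul, R.x_symm j i] at e3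
  have e4 := hr.ind i j (e ^ 2) 0 e h (by
    rw [R.y_zero, mul_one, ← (hr.x_yi h e (e ^ 2)).eq]; exact e3)
  have he : e = 0 := e4.2.2
  rw [he, R.x_zero, mul_one] at h1
  obtain ⟨h2, h3, h4⟩ := hr.ind i j a b c h h1
  exact ⟨h2, h3, h4, he⟩

omit [CharP F 2] in
theorem t_ind4 (R : Frame n F G) {i j : Ix n} (a b c e : F) :
    R.t ≠ R.y i a * R.y j b * R.x i j c * R.x i (neg j) e := fun h =>
  R.t_notMem_K (h ▸ mul_mem (mul_mem (mul_mem (R.y_mem_K _ _) (R.y_mem_K _ _)) (R.x_mem_K _ _ _)) (R.x_mem_K _ _ _))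

section

omit [CharP F 2] in
/-- a torus element trivial on the indices `i`, `j` only -/
theorem exists_lam_off {μ : Fˣ} (hμ : μ ≠ 1) (i j : Ix n) : ∃ lam : Fin n → Fˣ,
    ev lam i = 1 ∧ ev lam j = 1 ∧ ∀ k, Dj i k → Dj j k → ev lam k ≠ 1 := by
  classical
  refine ⟨fun k => if Dj i (Sum.inl k) ∧ Dj j (Sum.inl k) then μ else 1, ?_, ?_, ?_⟩
  · rcases i with i | i
    · have : ¬ Dj (Sum.inl i) (Sum.inl i : Ix n) := fun h => h.1 rfl
      simp [ev, this]
    · have : ¬ Dj (Sum.inr i) (Sum.inl i : Ix n) := fun h => h.2 rfl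
      simp [ev, this]
  · rcases j with j | j
    · have : ¬ Dj (Sum.inl j) (Sum.inl j : Ix n) := fun h => h.1 rfl
      simp [ev, this]
    · have : ¬ Dj (Sum.inr j) (Sum.inl j : Ix n) := fun h => h.2 rfl
      simp [ev, this]
  · rintro (k | k) h1 h2
    · simpa [ev, h1, h2] using hμ
    · have h1' : Dj i (Sum.inl k) := by rw [← dj_neg_right]; exact h1
      have h2' : Dj j (Sum.inl k) := by rw [← dj_neg_right]; exact h2
      simpa [ev, h1', h2'] using hμ

variable [Finite F]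

omit [Finite F] in
theorem DL.w2_mul' (V : DL R γ) {i j : Ix n} (h : Dj i j) {u v c : F} (e : V.wl i u * V.wl i v = V.wl i (u + v) * R.y i c) :
    V.w2 h u * V.w2 h v = V.w2 h (u + v) * R.y j c := by
  have n2 : ∀ g, R.N h * (R.N h * g) = g := fun g => by rw [← mul_assoc, NN R h, one_mul]
  have e2 := N_y R h i c
  rw [tr_i h] at e2
  rw [← e2]
  calc V.w2 h u * V.w2 h v = R.N h * (V.wl i u * V.wl i v) * R.N h := by
        simp only [DL.w2, mul_assoc, n2]
    _ = _ := by rw [e]; simp only [DL.w2, mul_assoc, n2]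

/-- the frame of the pair `(i, j)` -/
noncomputable def frame (I : Inp D V) {i j : Ix n} (h : Dj i j) : Both.P2 F G {k : Ix n // Dj i k ∧ Dj j k} where
  t := R.t
  x1 := R.y i
  x2 := R.y j
  s := R.x i j
  d := R.x i (neg j)
  d' := R.x (neg i) j
  w1 := V.wl i
  w2 := V.w2 h
  ws := D.ws i j
  wd := D.ws i (neg j)
  h := fun l m => R.h (hp i j l m)
  P := fun k => R.x i k.1
  P' := fun k => R.x j k.1
  Y := fun k => R.y k.1
  Z := ∅
  Hr := {g | ∃ lam, ev lam i = 1 ∧ ev lam j = 1 ∧ g = R.h lam}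
  rt := rtF F
  γ := γ
  δ := δ
  ε := Classical.choose (V.exists_eps I.h4 h)
  κ := fun u v => Classical.choose (V.wl_mul i u v)
  two := CharTwo.two_eq_zero
  rt_sq := rt_sq F
  big := I.hF
  tt := R.tt
  x1_add := R.y_add i
  x2_add := R.y_add j
  s_add := R.x_add i j
  d_add := R.x_add i (neg j)
  d'_add := R.x_add (neg i) j
  t_x1 := fun u => (R.y_t i u).symm
  t_x2 := fun u => (R.y_t j u).symm
  t_s := fun u => (R.x_t i j u).symm
  t_d := fun u => (R.x_t i (neg j) u).symm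
  t_d' := fun u => (R.x_t (neg i) j u).symm
  x1_x2 := fun u v => R.y_comm (neg_ne_of_dj h) u v
  x1_s := fun u v => R.y_x_comm (ne_neg i) (neg_ne_of_dj h) u v
  x2_s := fun u v => R.y_x_comm h.2 (ne_neg j) u v
  d_x1 := fun u v => (R.y_x_comm (ne_neg i) (fun e => h.1 (neg_inj.mp e).symm) v u).symm
  d_s := fun u v => by
    have := R.x_comm' (i := neg j) (j := i) u v
    rwa [neg_neg, R.x_symm (neg j) i, R.x_symm j i] at this
  d'_x2 := fun u v => (R.y_x_comm (fun e => h.1 (neg_inj.mp e)) (ne_neg j) v u).symm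
  d'_s := fun u v => by
    have := R.x_comm' (i := neg i) (j := j) u v
    rwa [neg_neg] at this
  d_x2 := fun u v => by
    have := R.rels.sl j i v u h.symm
    rw [R.x_symm (neg j) i, R.x_symm j i] at this
    rw [this, mul_comm v u, pow_two, mul_comm v (u * u)]
  d'_x1 := fun u v => by
    have := R.rels.sl i j v u h
    rw [this, mul_comm v u, pow_two, mul_comm v (u * u)]
  ind := fun a b c e h1 => ind4 R h h1
  t_ind := fun a b c e => t_ind4 R a b c e
  w1_zero := V.wl_zero i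
  w1_t := V.wl_t i
  ws_t := D.ws_t h
  wd_t := D.ws_t (dj_neg_right.mpr h)
  w1_mul := fun u v => Classical.choose_spec (V.wl_mul i u v)
  w2_def := fun u => by rw [N_eq R h, DL.w2]
  nn := by rw [N_eq R h, NN]
  d'_n := fun u => by
    rw [N_eq R h, N_x]
    have hn : tr j i (neg i) = neg (tr j i i) := tr_mem h.symm i
    rw [hn, tr_i h, tr_j h, R.x_symm]
  w2_t := V.w2_t h
  w2_mul := fun u v => V.w2_mul' h (Classical.choose_spec (V.wl_mul i u v))
  ws_add := D.ws_add I.el h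
  wd_add := D.ws_add I.el (dj_neg_right.mpr h)
  w1_x1 := fun u v => V.cy i _ (V.wl_mem i u) v
  w1_s := fun u v => V.cx i _ (V.wl_mem i u) i j v (ne_neg i) (neg_ne_of_dj h)
  w1_d := fun u v => V.cx i _ (V.wl_mem i u) i (neg j) v (ne_neg i) (fun e => h.1 (neg_inj.mp e).symm)
  w1_x2 := fun u v => V.par_rt h (V.wl_mem i u) (V.wl_t i u) v
  w2_x2 := fun u v => V.cy j _ (V.w2_mem h u) v
  w2_s := fun u v => V.cx j _ (V.w2_mem h u) i j v h.2 (ne_neg j)
  w2_d' := fun u v => V.cx j _ (V.w2_mem h u) (neg i) j v (fun e => h.1 (neg_inj.mp e)) (ne_neg j)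
  w2_x1 := fun u v => by
    have := V.par_rt h.symm (V.w2_mem h u) (V.w2_t h u) v
    rwa [R.x_symm j i] at this
  ws_x1 := fun u v => D.cy i j h _ (D.ws_mem h u) i v (ne_neg i) h.2
  ws_x2 := fun u v => D.cy i j h _ (D.ws_mem h u) j v (neg_ne_of_dj h) (ne_neg j)
  ws_s := fun u v => D.comm i j h _ (D.ws_mem h u) _ (D.x_mem i j v)
  ws_d := fun u v => D.ws_par h u v
  ws_d' := fun u v => by
    have := D.ws_par h.symm u v
    rwa [D.ws_symm j i, R.x_symm j (neg i)] at this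
  wd_x1 := fun u v => D.cy i (neg j) (dj_neg_right.mpr h) _ (D.ws_mem (dj_neg_right.mpr h) u) i v (ne_neg i)
    (by rw [neg_neg]; exact h.1)
  wd_d := fun u v => D.comm i (neg j) (dj_neg_right.mpr h) _ (D.ws_mem (dj_neg_right.mpr h) u) _ (D.x_mem i (neg j) v)
  wd_s := fun u v => by
    have := D.ws_par (dj_neg_right.mpr h) u v
    rwa [neg_neg] at this
  w1_w2 := fun u v => Classical.choose_spec (V.exists_eps I.h4 h) u v
  h_x1 := fun l m u => by rw [R.h_y, ev_hp_i h, pow_two]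
  h_x2 := fun l m u => by rw [R.h_y, ev_hp_j h, pow_two]
  h_s := fun l m u => by rw [R.h_x, ev_hp_i h, ev_hp_j h]
  h_d := fun l m u => by rw [R.h_x, ev_neg, ev_hp_i h, ev_hp_j h]
  h_d' := fun l m u => by rw [R.h_x, ev_neg, ev_hp_i h, ev_hp_j h]
  h_w1 := fun l m u => by rw [V.h_wl, ev_hp_i h]
  h_w2 := fun l m u => V.h_w2 h l m u
  h_ws := fun l m u => by rw [D.h_ws h, ev_hp_i h, ev_hp_j h]
  h_wd := fun l m u => by rw [D.h_ws (dj_neg_right.mpr h), ev_neg, ev_hp_i h, ev_hp_j h]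
  h_t := fun l m => R.h_t _
  P_x1 := fun k a u => (R.y_x_comm (ne_neg i) (neg_ne_of_dj k.2.1) u a).symm
  P_x2 := fun k a u => (R.y_x_comm h.2 (neg_ne_of_dj k.2.2) u a).symm
  P_s := fun k a u => R.x_comm (ne_neg i) k.2.1.2 (neg_ne_of_dj h) k.2.2.2 a u
  P_d := fun k a u => R.x_comm (ne_neg i) k.2.1.2 (fun e => h.1 (neg_inj.mp e).symm) (fun e => k.2.2.1 (neg_inj.mp e)) a u
  P_d' := fun k a u => by
    have := R.rels.ss k.1 i j a u k.2.1.symm h k.2.2.symm
    rwa [R.x_symm k.1 i, R.x_symm k.1 j] at this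
  P'_x1 := fun k a u => (R.y_x_comm (neg_ne_of_dj h) (neg_ne_of_dj k.2.1) u a).symm
  P'_x2 := fun k a u => (R.y_x_comm (ne_neg j) (neg_ne_of_dj k.2.2) u a).symm
  P'_s := fun k a u => R.x_comm h.2 k.2.1.2 (ne_neg j) k.2.2.2 a u
  P'_d' := fun k a u => R.x_comm (fun e => h.1 (neg_inj.mp e)) (fun e => k.2.1.1 (neg_inj.mp e)) (ne_neg j) k.2.2.2 a u
  P_w1 := fun k a u => (show Commute _ _ from V.cx i _ (V.wl_mem i u) i k.1 a (ne_neg i) (neg_ne_of_dj k.2.1)).symm
  P_w2 := fun k a u => (show Commute _ _ from V.cx j _ (V.w2_mem h u) i k.1 a h.2 (neg_ne_of_dj k.2.2)).symm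
  P_ws := fun k a u => (show Commute _ _ from D.cx i j h _ (D.ws_mem h u) i k.1 a (ne_neg i) h.2
    (neg_ne_of_dj k.2.1) (neg_ne_of_dj k.2.2)).symm
  P_wd := fun k a u => (show Commute _ _ from D.cx i (neg j) (dj_neg_right.mpr h) _ (D.ws_mem (dj_neg_right.mpr h) u) i k.1 a
    (ne_neg i) (by rw [neg_neg]; exact h.1) (neg_ne_of_dj k.2.1) (by rw [neg_neg]; exact k.2.2.1.symm)).symm
  P'_w1 := fun k a u => (show Commute _ _ from V.cx i _ (V.wl_mem i u) j k.1 a (neg_ne_of_dj h) (neg_ne_of_dj k.2.1)).symm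
  P'_w2 := fun k a u => (show Commute _ _ from V.cx j _ (V.w2_mem h u) j k.1 a (ne_neg j) (neg_ne_of_dj k.2.2)).symm
  P'_ws := fun k a u => (show Commute _ _ from D.cx i j h _ (D.ws_mem h u) j k.1 a (neg_ne_of_dj h) (ne_neg j)
    (neg_ne_of_dj k.2.1) (neg_ne_of_dj k.2.2)).symm
  Y_x1 := fun k a u => R.y_comm (neg_ne_of_dj k.2.1.symm) a u
  Y_x2 := fun k a u => R.y_comm (neg_ne_of_dj k.2.2.symm) a u
  Y_s := fun k a u => R.y_x_comm (neg_ne_of_dj k.2.1.symm) (neg_ne_of_dj k.2.2.symm) a u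
  Y_d' := fun k a u => R.y_x_comm (fun e => k.2.1.1 (neg_inj.mp e)) (neg_ne_of_dj k.2.2.symm) a u
  Y_ws := fun k a u => (show Commute _ _ from D.cy i j h _ (D.ws_mem h u) k.1 a (neg_ne_of_dj k.2.1)
    (neg_ne_of_dj k.2.2)).symm
  Y_w1 := fun k a u => V.par_rt k.2.1 (V.wl_mem i u) (V.wl_t i u) a
  Y_w2 := fun k a u => V.par_rt k.2.2 (V.w2_mem h u) (V.w2_t h u) a
  Z_x := fun z hz => hz.elim
  Z_w := fun z hz => hz.elim
  Hr_x := fun z ⟨lam, h1, h2, h3⟩ u => by
    have e := R.h_y lam j u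
    rw [h2, Units.val_one, one_pow, one_mul] at e
    rw [h3]
    exact mul_inv_eq_iff_eq_mul.mp e
  Hr_w := fun z ⟨lam, h1, h2, h3⟩ u => by
    rw [h3]
    refine ⟨V.torus_one i _ (V.wl_mem i u) lam h1, D.torus_one i j h _ (D.ws_mem h u) lam (by rw [h1, h2, one_mul]),
      D.torus_one i (neg j) (dj_neg_right.mpr h) _ (D.ws_mem (dj_neg_right.mpr h) u) lam
        (by rw [ev_neg, h1, h2, one_mul, inv_one])⟩
  centA := fun g gt g1 g2 gs gP gP' gY _ => by
    obtain ⟨a, b, d, hc, -⟩ := R.FU2 I.hn h gt (fun k k1 k2 b => by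
      rcases cases5 i j k with rfl | rfl | rfl | rfl | hk
      · exact g1 b
      · exact g2 b
      · exact absurd rfl k1
      · exact absurd rfl k2
      · exact gY ⟨k, hk⟩ b)
    exact ⟨a, b, d, hc⟩
  centQ := fun g gt g1 gs gd gP gH => by
    obtain ⟨a, ha0, ha1⟩ := I.hF
    obtain ⟨lam, l1, l2, l3⟩ := exists_lam_off (μ := Units.mk0 a ha0)
      (fun e => ha1 (by have := congrArg Units.val e; simpa using this)) i j
    exact R.FQ I.hn h gt g1 (fun k hk b => by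
      rcases cases5 i j k with rfl | rfl | rfl | rfl | hk'
      · exact absurd rfl hk.1
      · exact gs b
      · exact absurd rfl (neg_ne_of_dj hk)
      · exact gd b
      · exact gP ⟨k, hk'⟩ b) (gH _ ⟨lam, l1, l2, rfl⟩) (by rw [l1, Units.val_one])
        (fun k hk hk' e => l3 k hk hk' (Units.ext (by rw [e, Units.val_one])))

end

end Cfsg.Agent.OddHalf.SpN

end

-- merged: Cfsg.Agent.OddHalf.SpN.Both8
section

/-!
# ODD D7, `K = Sp_2n(q)`, pattern ALL: section 8 in terms of `DS`, `DL` (helper780)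

`I : Inp D V` = `3 ≤ n`, `F ≠ F_2`, `W_ij` elementary, `[V_i, V_j] ≤ X_ij`. Results:
* `Inp.gamma_delta` : `γ = 0 ∧ (δ = 0 ∨ δ = 1)`
* `Inp.comm45`, `Inp.comm45'`, `Inp.comm90` : `W_ij` commutes with `V_k`, `k ∉ {-i, -j}`
* `Inp.sq` : `g ^ 2 = y_i(δ u)` for `g ∈ V_i` of height `u`
* `Inp.ll` : `[V_i, V_j]` : `x_ij(δ √(uv))`
* `Inp.conj_x` (8.2), `Inp.conj_y` (8.3).
-/

set_option autoImplicit false

namespace Cfsg.Agent.OddHalf.SpN

open scoped commutatorElement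

section kill

variable {F : Type*} [Field F] {G : Type*} [Group G] {T : Type*} [CommGroup T] {hT : T →* G} {χ : T →* Fˣ}
  {t : G} {X : F → G} {W : Subgroup G}

/-- equivariance + additivity kill the `t`- and the `X'`-part -/
theorem Ln.kill (L : Ln hT χ t X W) (two : (2 : F) = 0) (ht : ∀ g ∈ W, ∃ u, t * g * t = g * X u)
    (onto : ∀ u, ∃ g ∈ W, t * g * t = g * X u) {g' : G} {X' : F → G} {H : T} (hH : (χ H : F) ≠ 1)
    (Hg' : Commute (hT H) g') (HX' : ∀ b, Commute (hT H) (X' b)) (X'W : ∀ g ∈ W, ∀ b, Commute g (X' b))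
    (Xg' : ∀ a, Commute (X a) g') (X'X' : ∀ b, X' b * X' b = 1) (tX : ∀ a, Commute t (X a)) (tX' : ∀ a, Commute t (X' a))
    (main : ∀ g ∈ W, ∃ a b, g * g' = g' * g * (X a * X' b) ∨ g * g' = g' * g * (t * (X a * X' b))) :
    ∀ g ∈ W, ∃ a, g * g' = g' * g * X a := by
  intro g hg
  obtain ⟨u, hu⟩ := ht g hg
  set ν : F := (χ H : F) with hν
  have h1 : 1 + ν ≠ 0 := fun h => hH (by linear_combination h - two)
  set u1 := (1 + ν)⁻¹ * u with hu1
  have hu1' : u1 + ν * u1 = u := by rw [hu1]; field_simp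
  obtain ⟨g1, hg1, ht1⟩ := onto u1
  set g1H := hT H * g1 * (hT H)⁻¹ with hg1H
  have hg1H' : g1H ∈ W := L.torus _ hg1 _
  have ht1H : t * g1H * t = g1H * X (ν * u1) := by
    have c := L.t_h H
    calc t * g1H * t = (t * hT H) * g1 * ((hT H)⁻¹ * t) := by rw [hg1H]; group
      _ = (hT H * t) * g1 * (t * (hT H)⁻¹) := by rw [c.eq, c.inv_left.eq]
      _ = hT H * (t * g1 * t) * (hT H)⁻¹ := by group
      _ = g1H * (hT H * X u1 * (hT H)⁻¹) := by rw [ht1, hg1H]; group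
      _ = _ := by rw [L.h_X]
  have ht2 := L.t_mul hg1 hg1H' ht1 ht1H
  rw [hu1'] at ht2
  obtain ⟨a', ha'⟩ := L.eq_mul g (g1 * g1H) hg (mul_mem hg1 hg1H') hu ht2
  have cX : ∀ g ∈ W, ∀ a, Commute g (X a) := fun g hg a => L.comm g hg _ (L.X_mem a)
  have XX : ∀ a b, Commute (X a) (X' b) := fun a b => X'W _ (L.X_mem a) b
  -- it is enough to treat `g1 * g1H`
  suffices hs : ∃ a, (g1 * g1H) * g' = g' * (g1 * g1H) * X a by
    obtain ⟨a, ha⟩ := hs
    refine ⟨a, ?_⟩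
    rw [ha']
    calc g1 * g1H * X a' * g' = (g1 * g1H * g') * X a' := by rw [mul_assoc _ (X a'), (Xg' a').eq]; group
      _ = g' * (g1 * g1H) * (X a' * X a) := by rw [ha, ((cX _ (L.X_mem a') a)).eq]; group
      _ = _ := by group
  have cH : ∀ x, (hT H * g' = g' * hT H) → hT H * (g' * x) * (hT H)⁻¹ = g' * (hT H * x * (hT H)⁻¹) := fun x e => by
    calc hT H * (g' * x) * (hT H)⁻¹ = (hT H * g') * x * (hT H)⁻¹ := by group
      _ = _ := by rw [e]; group
  have hx : ∀ a, hT H * X a * (hT H)⁻¹ = X (ν * a) := fun a => L.h_X H a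
  obtain ⟨a, b, h | h⟩ := main g1 hg1
  · have hc : g1H * g' = g' * g1H * (X (ν * a) * X' b) := by
      have e1 : hT H * (g1 * g') * (hT H)⁻¹ = g1H * g' := by
        calc hT H * (g1 * g') * (hT H)⁻¹ = hT H * g1 * (g' * (hT H)⁻¹) := by group
          _ = _ := by rw [← (Hg'.inv_left).eq, hg1H]; group
      have e2 : hT H * (X a * X' b) * (hT H)⁻¹ = X (ν * a) * X' b := by
        calc hT H * (X a * X' b) * (hT H)⁻¹ = (hT H * X a * (hT H)⁻¹) * (hT H * X' b) * (hT H)⁻¹ := by group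
          _ = _ := by rw [hx a, (HX' b).eq, mul_assoc, mul_assoc, mul_inv_cancel, mul_one]
      rw [← e1, h, mul_assoc g', cH _ Hg'.eq]
      calc g' * (hT H * (g1 * (X a * X' b)) * (hT H)⁻¹) =
          g' * (hT H * g1 * (hT H)⁻¹) * (hT H * (X a * X' b) * (hT H)⁻¹) := by group
        _ = _ := by rw [e2]
    refine ⟨a + ν * a, ?_⟩
    have c1 : Commute (X a * X' b) g1H := (cX _ hg1H' a).symm.mul_left (X'W _ hg1H' b).symm
    calc g1 * g1H * g' = g1 * g' * g1H * (X (ν * a) * X' b) := by rw [mul_assoc g1, hc]; group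
      _ = g' * g1 * ((X a * X' b) * g1H) * (X (ν * a) * X' b) := by rw [h]; group
      _ = g' * (g1 * g1H) * (X a * (X' b * X (ν * a)) * X' b) := by rw [c1.eq]; group
      _ = g' * (g1 * g1H) * (X a * X (ν * a) * (X' b * X' b)) := by rw [← (XX _ b).eq]; group
      _ = _ := by rw [X'X', mul_one, ← L.X_add]
  · have hc : g1H * g' = g' * g1H * (t * (X (ν * a) * X' b)) := by
      have e1 : hT H * (g1 * g') * (hT H)⁻¹ = g1H * g' := by
        calc hT H * (g1 * g') * (hT H)⁻¹ = hT H * g1 * (g' * (hT H)⁻¹) := by group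
          _ = _ := by rw [← (Hg'.inv_left).eq, hg1H]; group
      have e2 : hT H * (t * (X a * X' b)) * (hT H)⁻¹ = t * (X (ν * a) * X' b) := by
        calc hT H * (t * (X a * X' b)) * (hT H)⁻¹ =
            (hT H * t) * (hT H)⁻¹ * ((hT H * X a * (hT H)⁻¹) * (hT H * X' b) * (hT H)⁻¹) := by group
          _ = _ := by
            rw [hx a, (HX' b).eq, (L.t_h H).eq, mul_inv_cancel_right, mul_assoc (X (ν * a)), mul_inv_cancel_right]
      rw [← e1, h, mul_assoc g', cH _ Hg'.eq]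
      calc g' * (hT H * (g1 * (t * (X a * X' b))) * (hT H)⁻¹) =
          g' * (hT H * g1 * (hT H)⁻¹) * (hT H * (t * (X a * X' b)) * (hT H)⁻¹) := by group
        _ = _ := by rw [e2]
    refine ⟨ν * u1 + a + ν * a, ?_⟩
    have c1 : Commute (X a * X' b) g1H := (cX _ hg1H' a).symm.mul_left (X'W _ hg1H' b).symm
    have c2 : Commute t (X a * X' b) := (tX a).mul_right (tX' b)
    have e3 : t * (X a * X' b) * g1H = g1H * X (ν * u1) * (X a * X' b) * t := by
      calc t * (X a * X' b) * g1H = t * ((X a * X' b) * g1H) := mul_assoc _ _ _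
        _ = (t * g1H * t) * (t * (X a * X' b)) := by
            rw [c1.eq]
            calc t * (g1H * (X a * X' b)) = t * g1H * 1 * (X a * X' b) := by group
              _ = _ := by rw [← L.tt]; group
        _ = _ := by rw [ht1H, c2.eq]; group
    calc g1 * g1H * g' = g1 * g' * g1H * (t * (X (ν * a) * X' b)) := by rw [mul_assoc g1, hc]; group
      _ = g' * g1 * (t * (X a * X' b) * g1H) * (t * (X (ν * a) * X' b)) := by rw [h]; group
      _ = g' * (g1 * g1H) * (X (ν * u1) * (X a * X' b) * (t * t) * (X (ν * a) * X' b)) := by rw [e3]; group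
      _ = g' * (g1 * g1H) * (X (ν * u1) * X a * (X' b * X (ν * a)) * X' b) := by rw [L.tt]; group
      _ = g' * (g1 * g1H) * (X (ν * u1) * X a * X (ν * a) * (X' b * X' b)) := by rw [← (XX _ b).eq]; group
      _ = _ := by rw [X'X', mul_one, ← L.X_add, ← L.X_add]

end kill

section main

variable {n : ℕ} {F : Type*} [Field F] [CharP F 2] [Finite F] {G : Type*} [Group G] {R : Frame n F G} {δ γ : F}
  {D : DS R δ} {V : DL R γ}

omit [Finite F] in
theorem DS.eq_ws (D : DS R δ) {i j : Ix n} (h : Dj i j) {g : G} (hg : g ∈ D.W i j) {u : F}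
    (hu : R.t * g * R.t = g * R.x i j u) : ∃ a, g = D.ws i j u * R.x i j a :=
  D.eq_mul h hg (D.ws_mem h u) hu (D.ws_t h u)

theorem DL.eq_wl (V : DL R γ) (i : Ix n) {g : G} (hg : g ∈ V.V i) {u : F}
    (hu : R.t * g * R.t = g * R.y i u) : ∃ a, g = V.wl i u * R.y i a :=
  V.eq_mul i hg (V.wl_mem i u) hu (V.wl_t i u)

theorem DL.eq_w2 (V : DL R γ) {i j : Ix n} (h : Dj i j) {g : G} (hg : g ∈ V.V j) {u : F}
    (hu : R.t * g * R.t = g * R.y j u) : ∃ a, g = V.w2 h u * R.y j a :=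
  V.eq_mul j hg (V.w2_mem h u) hu (V.w2_t h u)

namespace Inp

variable (I : Inp D V)
include I

/-- **(8.1)** 45 degrees -/
theorem comm45 {i j : Ix n} (h : Dj i j) {g g' : G} (hg : g ∈ D.W i j) (hg' : g' ∈ V.V j) : Commute g g' := by
  obtain ⟨u, hu⟩ := D.ht i j h g hg
  obtain ⟨v, hv⟩ := V.ht j g' hg'
  obtain ⟨a, ha⟩ := D.eq_ws h hg hu
  obtain ⟨b, hb⟩ := V.eq_w2 h hg' hv
  have c1 : Commute (D.ws i j u) (V.w2 h v) := (frame I h).ws_w2 u v
  have c2 : Commute (D.ws i j u) (R.y j b) := D.cy i j h _ (D.ws_mem h u) j b (neg_ne_of_dj h) (ne_neg j)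
  have c3 : Commute (V.w2 h v) (R.x i j a) := V.cx j _ (V.w2_mem h v) i j a h.2 (ne_neg j)
  have c4 : Commute (R.x i j a) (R.y j b) := (R.y_x_comm h.2 (ne_neg j) b a).symm
  rw [ha, hb]
  exact (c1.mul_right c2).mul_left (c3.symm.mul_right c4)

theorem comm45' {i j : Ix n} (h : Dj i j) {g g' : G} (hg : g ∈ D.W i j) (hg' : g' ∈ V.V i) : Commute g g' :=
  I.comm45 h.symm (by rwa [D.symm j i]) hg'

/-- **the parameters** -/
theorem gamma_delta : γ = 0 ∧ (δ = 0 ∨ δ = 1) := by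
  have hn := I.hn
  set i : Ix n := Sum.inl ⟨0, by omega⟩ with hi
  set j : Ix n := Sum.inl ⟨1, by omega⟩ with hj
  have h : Dj i j := ⟨by simp [hi, hj], by simp [hi, hj]⟩
  exact (frame I h).gamma_delta fun u v =>
    I.comm45' (dj_neg_right.mpr h) (D.ws_mem (dj_neg_right.mpr h) u) (V.wl_mem i v)

theorem gamma : γ = 0 := I.gamma_delta.1

omit I in
theorem exists_dj' (hn : 3 ≤ n) (i : Ix n) : ∃ j, Dj i j := by
  obtain ⟨k, hk, -⟩ := exists_dj hn i i
  exact ⟨k, hk⟩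

/-- **squares** -/
theorem sq {i : Ix n} {g : G} (hg : g ∈ V.V i) {u : F} (hu : R.t * g * R.t = g * R.y i u) :
    g * g = R.y i (δ * u) := by
  obtain ⟨j, h⟩ := exists_dj' I.hn i
  obtain ⟨a, ha⟩ := V.eq_wl i hg hu
  have h1 : V.wl i u * V.wl i u = V.wl i (u + u) * R.y i ((frame I h).κ u u) := (frame I h).w1_mul u u
  have h2 : (frame I h).κ u u = δ * (1 + γ) * rtF F (u * u) := (frame I h).main_conj.1 u u
  have h3 : δ * (1 + γ) * rtF F (u * u) = δ * u := by rw [I.gamma, rt_mul_self, add_zero, mul_one]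
  rw [CharTwo.add_self_eq_zero, V.wl_zero, one_mul, h2, h3] at h1
  have c : Commute (V.wl i u) (R.y i a) := V.cy i _ (V.wl_mem i u) a
  rw [ha]
  calc V.wl i u * R.y i a * (V.wl i u * R.y i a) = V.wl i u * (R.y i a * V.wl i u) * R.y i a := by group
    _ = (V.wl i u * V.wl i u) * (R.y i a * R.y i a) := by rw [← c.eq]; group
    _ = _ := by rw [h1, R.y_sq, mul_one]

/-- `V_i` commutes with `Y_k`, `k ≠ -i` -/
theorem cy' {i k : Ix n} (hk : k ≠ neg i) {g : G} (hg : g ∈ V.V i) (a : F) : Commute g (R.y k a) := by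
  by_cases e : k = i
  · rw [e]; exact V.cy i g hg a
  have h : Dj i k := ⟨fun e' => e e'.symm, fun e' => hk (by rw [e', neg_neg])⟩
  obtain ⟨u, hu⟩ := V.ht i g hg
  have := V.par_rt h hg hu a
  rwa [I.gamma, zero_mul, R.x_zero, mul_one] at this

/-- **long-long** -/
theorem ll {i j : Ix n} (h : Dj i j) {g g' : G} (hg : g ∈ V.V i) (hg' : g' ∈ V.V j) {u v : F}
    (hu : R.t * g * R.t = g * R.y i u) (hv : R.t * g' * R.t = g' * R.y j v) :
    g * g' = g' * g * R.x i j (δ * rtF F (u * v)) := by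
  obtain ⟨a, ha⟩ := V.eq_wl i hg hu
  obtain ⟨b, hb⟩ := V.eq_w2 h hg' hv
  have h1 : V.wl i u * V.w2 h v = V.w2 h v * V.wl i u * R.x i j ((frame I h).ε * rtF F (u * v)) := (frame I h).w1_w2 u v
  have h2 : (frame I h).ε = δ * (1 + γ) := (frame I h).main_eps.2.1
  have h3 : (frame I h).ε = δ := by rw [h2, I.gamma, add_zero, mul_one]
  rw [h3] at h1
  have hij : j ≠ neg i := neg_ne_of_dj h
  have c1 : Commute (V.wl i u) (R.y j b) := I.cy' hij (V.wl_mem i u) b
  have c2 : Commute (V.w2 h v) (R.y i a) := I.cy' h.2 (V.w2_mem h v) a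
  have c3 : Commute (R.y i a) (R.y j b) := R.y_comm hij a b
  have c4 : ∀ c, Commute (R.y i a * R.y j b) (R.x i j c) := fun c =>
    (R.y_x_comm (ne_neg i) hij a c).mul_left (R.y_x_comm h.2 (ne_neg j) b c)
  rw [ha, hb]
  calc V.wl i u * R.y i a * (V.w2 h v * R.y j b) = V.wl i u * (R.y i a * V.w2 h v) * R.y j b := by group
    _ = (V.wl i u * V.w2 h v) * (R.y i a * R.y j b) := by rw [← c2.eq]; group
    _ = V.w2 h v * V.wl i u * ((R.y i a * R.y j b) * R.x i j (δ * rtF F (u * v))) := by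
        rw [h1, (c4 _).eq]; simp only [mul_assoc]
    _ = V.w2 h v * (V.wl i u * R.y j b) * R.y i a * R.x i j (δ * rtF F (u * v)) := by
        rw [c3.eq]; simp only [mul_assoc]
    _ = _ := by rw [c1.eq]; simp only [mul_assoc]

/-- **(8.1)** 90 degrees -/
theorem comm90 {i j k : Ix n} (hij : Dj i j) (hik : Dj i k) (hjk : Dj j k) {g g' : G} (hg : g ∈ D.W i j)
    (hg' : g' ∈ V.V k) : Commute g g' := by
  have two : (2 : F) = 0 := CharTwo.two_eq_zero
  obtain ⟨μ, hμ0, hμ1⟩ := I.hF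
  set m : Fˣ := Units.mk0 μ hμ0 with hm
  have hm1 : (m : F) ≠ 1 := by rw [hm]; exact hμ1
  have sqne : ∀ x : F, x ≠ 1 → x ^ 2 ≠ 1 := fun x hx e => hx (by
    have : (x - 1) ^ 2 = 0 := by linear_combination e - (x - 1) * two
    have := pow_eq_zero_iff (two_ne_zero) |>.1 this
    linear_combination this)
  have hm2 : ((m⁻¹ : Fˣ) : F) ≠ 1 := fun e => hm1 (by
    have : m⁻¹ = 1 := Units.ext e
    rw [inv_eq_one] at this; rw [this]; rfl)
  -- the three nonopposite conditions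
  have n1 := neg_ne_of_dj hik.symm
  have n2 := neg_ne_of_dj hjk.symm
  -- main decomposition
  have main : ∀ g ∈ D.W i j, ∀ g' ∈ V.V k, ∃ a b, g * g' = g' * g * (R.x i j a * R.y k b) ∨
      g * g' = g' * g * (R.t * (R.x i j a * R.y k b)) := by
    intro g hg g' hg'
    obtain ⟨u, hu⟩ := D.ht i j hij g hg
    obtain ⟨v, hv⟩ := V.ht k g' hg'
    set c := (g' * g)⁻¹ * (g * g') with hc
    have hgg : g * g' = g' * g * c := by rw [hc, mul_inv_cancel_left]
    have c1 : Commute g (R.y k v) := D.cy i j hij g hg k v (neg_ne_of_dj hik) (neg_ne_of_dj hjk)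
    have c2 : Commute g' (R.x i j u) := V.cx k g' hg' i j u n1 n2
    have c3 : Commute (R.x i j u) (R.y k v) := (R.y_x_comm n1 n2 v u).symm
    have ct : Commute c R.t := by
      have e1 : R.t * (g * g') * R.t = (g * g') * (R.x i j u * R.y k v) := by
        rw [Both.conj2 R.tt, hu, hv]
        calc g * R.x i j u * (g' * R.y k v) = g * (R.x i j u * g') * R.y k v := by group
          _ = _ := by rw [← c2.eq]; group
      have e2 : R.t * (g' * g) * R.t = (g' * g) * (R.x i j u * R.y k v) := by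
        rw [Both.conj2 R.tt, hu, hv]
        calc g' * R.y k v * (g * R.x i j u) = g' * (R.y k v * g) * R.x i j u := by group
          _ = g' * g * (R.y k v * R.x i j u) := by rw [← c1.eq]; group
          _ = _ := by rw [← c3.eq]
      refine Both.comm_t_of R.tt e2 e1 ?_
      exact Both.comm_gen hgg (D.comm i j hij g hg _ (D.x_mem i j u)) (Commute.one_right _) (Commute.one_right _)
          (by rw [mul_one]; exact c2.eq) |>.mul_right
        (Both.comm_gen hgg c1 (Commute.one_right _) (Commute.one_right _) (by rw [mul_one]; exact V.cy k g' hg' v))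
    have cy : ∀ l, l ≠ neg i → l ≠ neg j → l ≠ neg k → ∀ b, Commute c (R.y l b) := fun l l1 l2 l3 b =>
      Both.comm_gen hgg (D.cy i j hij g hg l b l1 l2) (Commute.one_right _) (Commute.one_right _)
        (by rw [mul_one]; exact (I.cy' l3 hg' b).eq)
    obtain ⟨a, b, d, e, f, f', hcf, hlam⟩ := R.FU3 I.hn hij hik hjk ct cy
    -- a torus element
    set lam := hp i j m m⁻¹ with hlamd
    have l1 : ev lam i = m := ev_hp_i hij _ _
    have l2 : ev lam j = m⁻¹ := ev_hp_j hij _ _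
    have l3 : ev lam k = 1 := ev_hp_k hik hjk _ _
    have cg : Commute (R.h lam) g := D.torus_one i j hij g hg lam (by rw [l1, l2, mul_inv_cancel])
    have cg' : Commute (R.h lam) g' := V.torus_one k g' hg' lam l3
    have cc : Commute c (R.h lam) := by
      rw [hc]; exact (((cg'.mul_right cg).inv_right).mul_right (cg.mul_right cg')).symm
    obtain ⟨k1, k2, -, -, k5, k6⟩ := hlam lam cc
    rw [l1] at k1 k5
    rw [l2] at k2 k6
    rw [l3, Units.val_one, mul_one] at k5 k6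
    have z : ∀ x y : F, x ≠ 1 → x * y = y → y = 0 := fun x y hx e => by
      have : (x - 1) * y = 0 := by linear_combination e
      rcases mul_eq_zero.mp this with h | h
      · exact absurd (by linear_combination h) hx
      · exact h
    have a0 : a = 0 := z _ _ (sqne _ hm1) k1
    have b0 : b = 0 := z _ _ (sqne _ hm2) k2
    have f0 : f = 0 := z _ _ hm1 k5
    have f0' : f' = 0 := z _ _ hm2 k6
    rw [a0, b0, f0, f0', R.y_zero, R.y_zero, R.x_zero, R.x_zero, one_mul, one_mul, mul_one, mul_one] at hcf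
    refine ⟨e, d, ?_⟩
    have c5 : Commute (R.y k d) (R.x i j e) := R.y_x_comm n1 n2 d e
    rw [c5.eq] at hcf
    rcases hcf with hcf | hcf
    · left; rw [hgg, hcf]
    · right; rw [hgg, hcf]
  -- kill `Y_k`
  have k1 : ∀ g ∈ D.W i j, ∀ g' ∈ V.V k, ∃ a, g * g' = g' * g * R.x i j a := by
    intro g hg g' hg'
    set lam := hp i j m 1 with hlamd
    have l1 : ev lam i = m := ev_hp_i hij _ _
    have l2 : ev lam j = 1 := ev_hp_j hij _ _
    have l3 : ev lam k = 1 := ev_hp_k hik hjk _ _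
    refine (D.ln hij).kill two (D.ht i j hij) (D.onto i j hij) (g' := g') (X' := R.y k) (H := lam) ?_ ?_ ?_ ?_ ?_ ?_ ?_ ?_
      (fun g hg => main g hg g' hg') g hg
    · rw [chs_apply, l1, l2, mul_one]; exact hm1
    · exact V.torus_one k g' hg' lam l3
    · intro b
      have e := R.h_y lam k b
      rw [l3, Units.val_one, one_pow, one_mul] at e
      exact mul_inv_eq_iff_eq_mul.mp e
    · exact fun g hg b => D.cy i j hij g hg k b (neg_ne_of_dj hik) (neg_ne_of_dj hjk)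
    · exact fun a => (show Commute _ _ from V.cx k g' hg' i j a n1 n2).symm
    · exact fun b => R.y_sq k b
    · exact fun a => (R.x_t i j a).symm
    · exact fun b => (R.y_t k b).symm
  -- kill `X_ij`
  have k2 : ∀ g ∈ D.W i j, ∀ g' ∈ V.V k, ∃ b, g' * g = g * g' * R.y k b := by
    intro g hg g' hg'
    set lam := hi k m with hlamd
    have l1 : ev lam i = 1 := ev_hi_of hik.symm m
    have l2 : ev lam j = 1 := ev_hi_of hjk.symm m
    have l3 : ev lam k = m := ev_hi_self k m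
    refine (V.ln k).kill two (V.ht k) (V.onto k) (g' := g) (X' := R.x i j) (H := lam) ?_ ?_ ?_ ?_ ?_ ?_ ?_ ?_
      (fun g' hg' => ?_) g' hg'
    · rw [chs_apply, l3, Units.val_mul, ← pow_two]; exact sqne _ hm1
    · exact D.torus_one i j hij g hg lam (by rw [l1, l2, one_mul])
    · intro b
      have e := R.h_x lam i j b
      rw [l1, l2, Units.val_one, one_mul, one_mul] at e
      exact mul_inv_eq_iff_eq_mul.mp e
    · exact fun g' hg' b => V.cx k g' hg' i j b n1 n2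
    · exact fun a => (show Commute _ _ from D.cy i j hij g hg k a (neg_ne_of_dj hik) (neg_ne_of_dj hjk)).symm
    · exact fun b => R.x_sq i j b
    · exact fun a => (R.y_t k a).symm
    · exact fun b => (R.x_t i j b).symm
    · obtain ⟨a, ha⟩ := k1 g hg g' hg'
      refine ⟨0, a, Or.inl ?_⟩
      rw [R.y_zero, one_mul, ha, mul_assoc (g' * g), R.x_sq, mul_one]
  obtain ⟨a, ha⟩ := k1 g hg g' hg'
  obtain ⟨b, hb⟩ := k2 g hg g' hg'
  have e1 : R.y k b * R.x i j a = 1 := by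
    have e2 : g * g' = g * g' * (R.y k b * R.x i j a) := by
      calc g * g' = g' * g * R.x i j a := ha
        _ = _ := by rw [hb, mul_assoc]
    exact left_eq_mul.mp e2
  have c5 : Commute (R.x i j a) (R.x i j a * R.y k b) :=
    (Commute.refl _).mul_right (R.y_x_comm n1 n2 b a).symm
  have e3 : R.y k b = R.x i j a := by
    have := eq_inv_of_mul_eq_one_left e1
    rwa [R.x_inv] at this
  -- a torus element moving `Y_k` and not `X_ij`
  set lam := hi k m with hlamd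
  have l1 : ev lam i = 1 := ev_hi_of hik.symm m
  have l2 : ev lam j = 1 := ev_hi_of hjk.symm m
  have l3 : ev lam k = m := ev_hi_self k m
  have e4 := R.h_x lam i j a
  rw [← e3, R.h_y, l1, l2, l3, Units.val_one, one_mul, one_mul, ← e3] at e4
  have e5 := R.y_inj e4
  have b0 : b = 0 := by
    have : ((m : F) ^ 2 - 1) * b = 0 := by linear_combination e5
    rcases mul_eq_zero.mp this with h | h
    · exact absurd (by linear_combination h) (sqne _ hm1)
    · exact h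
  rw [b0, R.y_zero, mul_one] at hb
  exact hb.symm

/-- **(8.2)** for the sections -/
theorem conj_wl {i j : Ix n} (h : Dj i j) (u b : F) : ∃ c d,
    R.x (neg i) j b * V.wl i u * R.x (neg i) j b =
      V.wl i u * V.wl j (u * b ^ 2) * D.ws i j (u * b) * R.x i j c * R.y j d := by
  obtain ⟨-, -, c3, hc⟩ := (frame I h).main_eps
  have h1 : R.x (neg i) j b * V.wl i u * R.x (neg i) j b =
      V.wl i u * (V.w2 h (u * (b * b)) * D.ws i j ((1 + γ) * (u * b)) *
        (R.y i 0 * R.y j 0 * R.x i j (c3 * (u * b)))) := hc u b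
  have h2 : (1 + γ) * (u * b) = u * b := by rw [I.gamma, add_zero, one_mul]
  rw [h2, R.y_zero, R.y_zero, one_mul, one_mul, ← pow_two] at h1
  obtain ⟨e, he⟩ := V.eq_wl j (V.w2_mem h (u * b ^ 2)) (V.w2_t h _)
  refine ⟨c3 * (u * b), e, ?_⟩
  have c1 : Commute (D.ws i j (u * b)) (R.y j e) := D.cy i j h _ (D.ws_mem h _) j e (neg_ne_of_dj h) (ne_neg j)
  have c2 : Commute (R.x i j (c3 * (u * b))) (R.y j e) := (R.y_x_comm h.2 (ne_neg j) e _).symm
  rw [h1, he]
  calc V.wl i u * (V.wl j (u * b ^ 2) * R.y j e * D.ws i j (u * b) * R.x i j (c3 * (u * b)))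
      = V.wl i u * V.wl j (u * b ^ 2) * (R.y j e * D.ws i j (u * b)) * R.x i j (c3 * (u * b)) := by
        simp only [mul_assoc]
    _ = V.wl i u * V.wl j (u * b ^ 2) * D.ws i j (u * b) * (R.y j e * R.x i j (c3 * (u * b))) := by
        rw [← c1.eq]; simp only [mul_assoc]
    _ = _ := by rw [← c2.eq]; simp only [mul_assoc]

/-- **(8.2)** -/
theorem conj_x {i j : Ix n} (h : Dj i j) {g : G} (hg : g ∈ V.V i) {u : F} (hu : R.t * g * R.t = g * R.y i u) (b : F) :
    ∃ g' ∈ V.V j, ∃ g'' ∈ D.W i j, R.t * g' * R.t = g' * R.y j (u * b ^ 2) ∧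
      R.t * g'' * R.t = g'' * R.x i j (u * b) ∧ R.x (neg i) j b * g * R.x (neg i) j b = g * g' * g'' := by
  obtain ⟨a, ha⟩ := V.eq_wl i hg hu
  obtain ⟨c, d, hcd⟩ := I.conj_wl h u b
  have hl := V.ln j
  have hs := D.ln h
  refine ⟨V.wl j (u * b ^ 2) * R.y j (d + a * b ^ 2), mul_mem (V.wl_mem j _) (V.y_mem j _),
    D.ws i j (u * b) * R.x i j (c + a * b), mul_mem (D.ws_mem h _) (D.x_mem i j _), ?_, ?_, ?_⟩
  · have := hl.t_mul (V.wl_mem j (u * b ^ 2)) (V.y_mem j (d + a * b ^ 2)) (V.wl_t j _)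
      (v := 0) (by rw [R.y_zero, mul_one, Both.conj_of_comm R.tt (R.y_t j _).symm])
    rwa [add_zero] at this
  · have := hs.t_mul (D.ws_mem h (u * b)) (D.x_mem i j (c + a * b)) (D.ws_t h _)
      (v := 0) (by rw [R.x_zero, mul_one, Both.conj_of_comm R.tt (R.x_t i j _).symm])
    rwa [add_zero] at this
  · have e1 := R.rels.sl i j a b h
    have hij := neg_ne_of_dj h
    have c1 : ∀ r, Commute (R.y i a) (R.y j r) := fun r => R.y_comm hij a r
    have c2 : ∀ r, Commute (R.y i a) (R.x i j r) := fun r => R.y_x_comm (ne_neg i) hij a r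
    have c3 : Commute (V.wl j (u * b ^ 2)) (R.y i a) := I.cy' h.2 (V.wl_mem j _) a
    have c4 : Commute (D.ws i j (u * b)) (R.y i a) := D.cy i j h _ (D.ws_mem h _) i a (ne_neg i) h.2
    have c5 : ∀ r s, Commute (R.x i j r) (R.y j s) := fun r s => (R.y_x_comm h.2 (ne_neg j) s r).symm
    have c6 : ∀ r, Commute (D.ws i j (u * b)) (R.y j r) := fun r =>
      D.cy i j h _ (D.ws_mem h _) j r hij (ne_neg j)
    rw [ha, Both.conj2 (R.x_sq (neg i) j b), hcd, e1, R.y_add, R.x_add]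
    calc V.wl i u * V.wl j (u * b ^ 2) * D.ws i j (u * b) * R.x i j c * R.y j d *
          (R.y i a * R.x i j (a * b) * R.y j (a * b ^ 2))
        = V.wl i u * V.wl j (u * b ^ 2) * D.ws i j (u * b) * R.x i j c * (R.y j d *
          R.y i a) * R.x i j (a * b) * R.y j (a * b ^ 2) := by simp only [mul_assoc]
      _ = V.wl i u * V.wl j (u * b ^ 2) * D.ws i j (u * b) * (R.x i j c * R.y i a) * (R.y j d *
          R.x i j (a * b)) * R.y j (a * b ^ 2) := by rw [← (c1 d).eq]; simp only [mul_assoc]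
      _ = V.wl i u * V.wl j (u * b ^ 2) * (D.ws i j (u * b) * R.y i a) * R.x i j c * (R.x i j (a * b) * R.y j d) *
          R.y j (a * b ^ 2) := by rw [← (c2 c).eq, ← (c5 (a * b) d).eq]; simp only [mul_assoc]
      _ = V.wl i u * (V.wl j (u * b ^ 2) * R.y i a) * D.ws i j (u * b) * ((R.x i j c * R.x i j (a * b)) *
          (R.y j d * R.y j (a * b ^ 2))) := by rw [c4.eq]; simp only [mul_assoc]
      _ = V.wl i u * R.y i a * V.wl j (u * b ^ 2) * (D.ws i j (u * b) * (R.y j d * R.y j (a * b ^ 2))) *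
          (R.x i j c * R.x i j (a * b)) := by
          rw [c3.eq, ← R.x_add, ← R.y_add, (c5 _ _).eq]; simp only [mul_assoc]
      _ = _ := by rw [← R.y_add, (c6 _).eq]; simp only [mul_assoc]

/-- **(8.3)** for the sections -/
theorem conj_ws {i j : Ix n} (h : Dj i j) (u v : F) : ∃ c d,
    R.y j v * D.ws i (neg j) u * R.y j v =
      D.ws i (neg j) u * D.ws i j (u * v) * V.wl i ((1 + δ) * (u ^ 2 * v)) * R.x i j c * R.y i d := by
  obtain ⟨-, -, c1, c2, hc⟩ := (frame I h).main_short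
  have h1 : R.y j v * D.ws i (neg j) u * R.y j v =
      D.ws i (neg j) u * (D.ws i j (u * v) * V.wl i ((1 + δ) * (u * u * v)) *
        (R.y i (c1 * (u * u * v)) * R.x i j (c2 * (u * v)) * R.x i (neg j) 0)) := hc u v
  rw [R.x_zero, mul_one, ← pow_two, ((R.y_x_comm (ne_neg i) (neg_ne_of_dj h) _ _)).eq] at h1
  exact ⟨c2 * (u * v), c1 * (u ^ 2 * v), h1.trans (by simp only [mul_assoc])⟩

/-- **(8.3)** -/
theorem conj_y {i j : Ix n} (h : Dj i j) {g : G} (hg : g ∈ D.W i (neg j)) {u : F}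
    (hu : R.t * g * R.t = g * R.x i (neg j) u) (v : F) :
    ∃ g' ∈ D.W i j, ∃ g'' ∈ V.V i, R.t * g' * R.t = g' * R.x i j (u * v) ∧
      R.t * g'' * R.t = g'' * R.y i ((1 + δ) * (u ^ 2 * v)) ∧ R.y j v * g * R.y j v = g * g' * g'' := by
  have h' : Dj i (neg j) := dj_neg_right.mpr h
  obtain ⟨a, ha⟩ := D.eq_ws h' hg hu
  obtain ⟨c, d, hcd⟩ := I.conj_ws h u v
  have hl := V.ln i
  have hs := D.ln h
  set d' := d + a * a * v + δ * (u * v * a) with hd'
  refine ⟨D.ws i j (u * v) * R.x i j (c + a * v), mul_mem (D.ws_mem h _) (D.x_mem i j _),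
    V.wl i ((1 + δ) * (u ^ 2 * v)) * R.y i d', mul_mem (V.wl_mem i _) (V.y_mem i _), ?_, ?_, ?_⟩
  · have := hs.t_mul (D.ws_mem h (u * v)) (D.x_mem i j (c + a * v)) (D.ws_t h _)
      (v := 0) (by rw [R.x_zero, mul_one, Both.conj_of_comm R.tt (R.x_t i j _).symm])
    rwa [add_zero] at this
  · have := hl.t_mul (V.wl_mem i ((1 + δ) * (u ^ 2 * v))) (V.y_mem i d') (V.wl_t i _)
      (v := 0) (by rw [R.y_zero, mul_one, Both.conj_of_comm R.tt (R.y_t i _).symm])
    rwa [add_zero] at this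
  · have hij := neg_ne_of_dj h
    have e1 : R.y j v * R.x i (neg j) a * R.y j v = R.y i (a * a * v) * R.x i j (a * v) * R.x i (neg j) a :=
      (frame I h).d_conj_x2 a v
    have e2 : D.ws i j (u * v) * R.x i (neg j) a = R.x i (neg j) a * D.ws i j (u * v) * R.y i (δ * (u * v * a)) :=
      D.ws_par h (u * v) a
    -- `y_i` is central in everything here
    have c1 : ∀ r s, Commute (R.y i r) (R.x i j s) := fun r s => R.y_x_comm (ne_neg i) hij r s
    have c2 : ∀ r s, Commute (R.y i r) (R.x i (neg j) s) := fun r s =>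
      R.y_x_comm (ne_neg i) (fun e => h.1 (neg_inj.mp e).symm) r s
    have hWm := V.wl_mem i ((1 + δ) * (u ^ 2 * v))
    generalize V.wl i ((1 + δ) * (u ^ 2 * v)) = W at hcd hWm ⊢
    have c3 : ∀ s, Commute W (R.y i s) := fun s => V.cy i _ hWm s
    have c4 : ∀ s, Commute W (R.x i (neg j) s) := fun s =>
      V.cx i _ hWm i (neg j) s (ne_neg i) (fun e => h.1 (neg_inj.mp e).symm)
    have c5 : ∀ s, Commute W (R.x i j s) := fun s => V.cx i _ hWm i j s (ne_neg i) hij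
    have c6 : ∀ r s, Commute (R.x i (neg j) r) (R.x i j s) := (frame I h).d_s
    rw [ha, Both.conj2 (R.y_sq j v), hcd, e1]
    have e3 : R.y i d * (R.y i (a * a * v) * R.x i j (a * v) * R.x i (neg j) a) =
        R.x i (neg j) a * (R.x i j (a * v) * R.y i (d + a * a * v)) := by
      calc R.y i d * (R.y i (a * a * v) * R.x i j (a * v) * R.x i (neg j) a)
          = (R.y i d * R.y i (a * a * v)) * (R.x i j (a * v) * R.x i (neg j) a) := by simp only [mul_assoc]
        _ = R.x i (neg j) a * R.x i j (a * v) * R.y i (d + a * a * v) := by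
            rw [← R.y_add, ← (c6 _ _).eq, ((c2 _ _).mul_right (c1 _ _)).eq]
        _ = _ := by simp only [mul_assoc]
    calc D.ws i (neg j) u * D.ws i j (u * v) * W * R.x i j c * R.y i d *
          (R.y i (a * a * v) * R.x i j (a * v) * R.x i (neg j) a)
        = D.ws i (neg j) u * D.ws i j (u * v) * W * R.x i j c * (R.y i d *
          (R.y i (a * a * v) * R.x i j (a * v) * R.x i (neg j) a)) := by simp only [mul_assoc]
      _ = D.ws i (neg j) u * D.ws i j (u * v) * W * (R.x i j c * R.x i (neg j) a) *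
          (R.x i j (a * v) * R.y i (d + a * a * v)) := by rw [e3]; simp only [mul_assoc]
      _ = D.ws i (neg j) u * D.ws i j (u * v) * (W * R.x i (neg j) a) * (R.x i j c *
          R.x i j (a * v) * R.y i (d + a * a * v)) := by rw [← (c6 _ _).eq]; simp only [mul_assoc]
      _ = D.ws i (neg j) u * (D.ws i j (u * v) * R.x i (neg j) a) * W * (R.x i j (c + a * v) *
          R.y i (d + a * a * v)) := by rw [(c4 _).eq, ← R.x_add]; simp only [mul_assoc]
      _ = D.ws i (neg j) u * R.x i (neg j) a * D.ws i j (u * v) * (R.y i (δ * (u * v * a)) * W) *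
          (R.x i j (c + a * v) * R.y i (d + a * a * v)) := by rw [e2]; simp only [mul_assoc]
      _ = D.ws i (neg j) u * R.x i (neg j) a * D.ws i j (u * v) * W * ((R.y i (δ * (u * v * a)) *
          R.x i j (c + a * v)) * R.y i (d + a * a * v)) := by rw [← (c3 _).eq]; simp only [mul_assoc]
      _ = D.ws i (neg j) u * R.x i (neg j) a * D.ws i j (u * v) * (W * R.x i j (c + a * v)) *
          (R.y i (δ * (u * v * a)) * R.y i (d + a * a * v)) := by rw [(c1 _ _).eq]; simp only [mul_assoc]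
      _ = _ := by
          rw [(c5 _).eq, ← R.y_add, hd', add_comm (δ * (u * v * a))]; simp only [mul_assoc]

end Inp

end main

end Cfsg.Agent.OddHalf.SpN

end

-- merged: Cfsg.Agent.OddHalf.SpN.LongL
section

/-!
# ODD D7, `K = Sp_2n(q)`, `q ≥ 4` even: the doubles of the long root groups (helper570)

Section 4 of `blueprints/ODD-D7-Sp-helper297.md`: `DL.ll` : `[V_i, V_j] ≤ X_ij`.
-/

set_option autoImplicit false

namespace Cfsg.Agent.OddHalf.SpN

open scoped commutatorElement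

variable {n : ℕ} {F : Type*} [Field F] {G : Type*} [Group G]

theorem ll_conj_comm {g x y : G} (h : ⁅g, x⁆ = y) (gy : Commute g y) (xy : Commute x y) :
    g⁻¹ * x * g = x * y⁻¹ ∧ x * g * x⁻¹ = g * y⁻¹ := by
  have h1 : g * x = y * x * g := by rw [← h, commutatorElement_def]; group
  constructor
  · calc g⁻¹ * x * g = g⁻¹ * (y⁻¹ * (y * x * g)) := by group
      _ = g⁻¹ * y⁻¹ * g * x := by rw [← h1]; group
      _ = y⁻¹ * g⁻¹ * g * x := by rw [gy.inv_inv.eq]
      _ = y⁻¹ * x := by group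
      _ = _ := xy.inv_right.symm.eq
  · calc x * g * x⁻¹ = y⁻¹ * (y * x * g) * x⁻¹ := by group
      _ = y⁻¹ * g := by rw [← h1]; group
      _ = _ := gy.inv_right.symm.eq

namespace DL

variable [CharP F 2] {R : Frame n F G} {γ : F} (V : DL R γ)
include V

theorem cX {i : Ix n} {g : G} (hg : g ∈ V.V i) {k l : Ix n} (h1 : k ≠ neg i) (h2 : l ≠ neg i) (a : F) :
    Commute g (R.x k l a) := V.cx i g hg k l a h1 h2

/-- elements of the same height differ by an element of `Y_i` -/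
theorem eq_mul_y {i : Ix n} {g g' : G} (hg : g ∈ V.V i) (hg' : g' ∈ V.V i) {u : F}
    (h : R.t * g * R.t = g * R.y i u) (h' : R.t * g' * R.t = g' * R.y i u) :
    ∃ a, g' = g * R.y i a := by
  have h1 : g⁻¹ * g' ∈ V.V i := mul_mem (inv_mem hg) hg'
  obtain ⟨a, ha⟩ := V.ker i _ h1 (by
    rw [R.t_mul, R.t_inv', h, h']
    calc (g * R.y i u)⁻¹ * (g' * R.y i u) = (R.y i u)⁻¹ * ((g⁻¹ * g') * R.y i u) := by group
      _ = (R.y i u)⁻¹ * (R.y i u * (g⁻¹ * g')) := by rw [V.comm i _ h1 _ (V.y_mem i u)]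
      _ = g⁻¹ * g' := by group)
  exact ⟨a, by rw [← ha]; group⟩

/-- every element of `V_i` is `g' g'^H y` if `H` induces `μ ≠ 1` on the heights -/
theorem exists_decomp {i : Ix n} {lam : Fin n → Fˣ} {μ : Fˣ} (hμ : (μ : F) ^ 2 ≠ 1)
    (hl : ev lam i = μ) {g : G} (hg : g ∈ V.V i) :
    ∃ g' ∈ V.V i, ∃ a, g = g' * (R.h lam * g' * (R.h lam)⁻¹) * R.y i a := by
  obtain ⟨u, hu⟩ := V.ht i g hg
  have hμ1 : (1 : F) + μ ^ 2 ≠ 0 := by
    intro h
    apply hμ
    have : (μ : F) ^ 2 = -1 := by linear_combination h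
    rw [this, CharTwo.neg_eq]
  obtain ⟨g', hg', hu'⟩ := V.onto i ((1 + (μ : F) ^ 2)⁻¹ * u)
  refine ⟨g', hg', ?_⟩
  have hH := V.torus i g' hg' lam
  refine V.eq_mul_y (mul_mem hg' hH) hg ?_ hu
  have h1 : R.t * (R.h lam * g' * (R.h lam)⁻¹) * R.t =
      (R.h lam * g' * (R.h lam)⁻¹) * R.y i (μ ^ 2 * ((1 + (μ : F) ^ 2)⁻¹ * u)) := by
    rw [R.t_mul, R.t_mul, R.t_of_comm (R.h_t lam), R.t_inv', R.t_of_comm (R.h_t lam), hu']
    have h2 := R.h_y lam i ((1 + (μ : F) ^ 2)⁻¹ * u)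
    rw [hl] at h2
    rw [← h2]; group
  rw [R.t_mul, h1, hu']
  have h3 : Commute (R.y i ((1 + (μ : F) ^ 2)⁻¹ * u)) (R.h lam * g' * (R.h lam)⁻¹) :=
    V.comm i _ (V.y_mem i _) _ hH
  calc g' * R.y i ((1 + (μ : F) ^ 2)⁻¹ * u) *
        (R.h lam * g' * (R.h lam)⁻¹ * R.y i (μ ^ 2 * ((1 + (μ : F) ^ 2)⁻¹ * u)))
      = g' * (R.y i ((1 + (μ : F) ^ 2)⁻¹ * u) * (R.h lam * g' * (R.h lam)⁻¹)) *
          R.y i (μ ^ 2 * ((1 + (μ : F) ^ 2)⁻¹ * u)) := by group
    _ = g' * (R.h lam * g' * (R.h lam)⁻¹) * (R.y i ((1 + (μ : F) ^ 2)⁻¹ * u) *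
          R.y i (μ ^ 2 * ((1 + (μ : F) ^ 2)⁻¹ * u))) := by rw [h3.eq]; group
    _ = _ := by
      rw [← R.y_add]
      congr 2
      field_simp

/-- `g' t g'⁻¹ ∈ t Y_i` -/
theorem conj_t {i : Ix n} {g' : G} (hg' : g' ∈ V.V i) :
    ∃ u, g' * R.t * g'⁻¹ * R.t = R.y i u := by
  obtain ⟨u, hu⟩ := V.ht i g' hg'
  refine ⟨u, ?_⟩
  have h1 : g' * R.t = R.t * (g' * R.y i u) := by
    rw [← hu, ← mul_assoc, ← mul_assoc, R.tt, one_mul]
  have h2 : Commute (R.y i u) g' := V.comm i _ (V.y_mem i u) _ hg'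
  calc g' * R.t * g'⁻¹ * R.t = R.t * (g' * R.y i u) * g'⁻¹ * R.t := by rw [h1]
    _ = R.t * (R.y i u * g') * g'⁻¹ * R.t := by rw [h2.eq]
    _ = R.t * R.y i u * R.t := by group
    _ = R.y i u := R.t_of_comm (R.y_t _ _)

variable [Finite F]

/-- conjugates of `y_k` under `V_i` -/
theorem ypar {i k : Ix n} (hik : Dj i k) {g : G} (hg : g ∈ V.V i) (b : F) :
    ∃ f, g⁻¹ * R.y k b * g = R.y k b * R.x i k f ∧ g * R.y k b * g⁻¹ = R.y k b * R.x i k f ∧
      R.y k b * g * (R.y k b)⁻¹ = g * R.x i k f := by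
  have : Fintype F := Fintype.ofFinite F
  obtain ⟨b0, rfl⟩ : ∃ b0, b0 ^ 2 = b := by
    obtain ⟨b0, hb0⟩ := (PerfectRing.bijective_frobenius (p := 2) (R := F)).surjective b
    exact ⟨b0, hb0⟩
  obtain ⟨u, hu⟩ := V.ht i g hg
  obtain ⟨u0, rfl⟩ : ∃ u0, u0 ^ 2 = u := by
    obtain ⟨u0, hu0⟩ := (PerfectRing.bijective_frobenius (p := 2) (R := F)).surjective u
    exact ⟨u0, hu0⟩
  have h := V.par i k hik g hg u0 hu b0
  have c1 : Commute g (R.x i k (γ * u0 * b0)) := V.cX hg (ne_neg i) hik.symm.2 _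
  have c2 : Commute (R.y k (b0 ^ 2)) (R.x i k (γ * u0 * b0)) := R.y_x_comm hik.2 (ne_neg k) _ _
  obtain ⟨h1, h2⟩ := ll_conj_comm h c1 c2
  rw [R.x_inv] at h1 h2
  refine ⟨γ * u0 * b0, h1, ?_, h2⟩
  calc g * R.y k (b0 ^ 2) * g⁻¹ = ⁅g, R.y k (b0 ^ 2)⁆ * R.y k (b0 ^ 2) := by rw [commutatorElement_def]; group
    _ = _ := by rw [h, c2.eq]

/-- one half of `ll` -/
theorem ll_half (hn : 3 ≤ n) (hF : ∃ μ : Fˣ, (μ : F) ≠ 1) {i j : Ix n} (hij : Dj i j)
    {g g' : G} (hg : g ∈ V.V i) (hg' : g' ∈ V.V j) : ∃ a b, ⁅g, g'⁆ = R.y j a * R.x i j b := by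
  have n1 : i ≠ neg j := hij.2
  have n1' : j ≠ neg i := hij.symm.2
  -- the decomposition
  have main : ∀ g' ∈ V.V j, ∃ e f r s, (e = 1 ∨ e = R.t) ∧ ⁅g, g'⁆ = e * R.y i f * (R.y j r * R.x i j s) := by
    intro g' hg'
    obtain ⟨u, hu⟩ := V.ht i g hg
    obtain ⟨v, hv⟩ := V.ht j g' hg'
    have ct : Commute ⁅g, g'⁆ R.t := by
      apply R.comm_of_t
      obtain ⟨f1, -, -, q1⟩ := V.ypar hij hg v
      obtain ⟨f2, -, -, q2⟩ := V.ypar hij.symm hg' u
      -- the two constants agree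
      have e12 : f1 = f2 := by
        have : Fintype F := Fintype.ofFinite F
        obtain ⟨u0, rfl⟩ : ∃ u0, u0 ^ 2 = u := by
          obtain ⟨u0, hu0⟩ := (PerfectRing.bijective_frobenius (p := 2) (R := F)).surjective u
          exact ⟨u0, hu0⟩
        obtain ⟨v0, rfl⟩ : ∃ v0, v0 ^ 2 = v := by
          obtain ⟨v0, hv0⟩ := (PerfectRing.bijective_frobenius (p := 2) (R := F)).surjective v
          exact ⟨v0, hv0⟩
        have h1 := V.par i j hij g hg u0 hu v0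
        have h2 := V.par j i hij.symm g' hg' v0 hv u0
        have c1 : Commute g (R.x i j (γ * u0 * v0)) := V.cX hg (ne_neg i) n1' _
        have c2 : Commute (R.y j (v0 ^ 2)) (R.x i j (γ * u0 * v0)) := R.y_x_comm n1 (ne_neg j) _ _
        have c3 : Commute g' (R.x j i (γ * v0 * u0)) := V.cX hg' (ne_neg j) n1 _
        have c4 : Commute (R.y i (u0 ^ 2)) (R.x j i (γ * v0 * u0)) := R.y_x_comm n1' (ne_neg i) _ _
        have e1 := (ll_conj_comm h1 c1 c2).2
        have e2 := (ll_conj_comm h2 c3 c4).2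
        rw [q1, R.x_inv] at e1
        rw [q2, R.x_inv] at e2
        have e3 := R.x_inj hij (mul_left_cancel e1)
        have e4 := R.x_inj hij.symm (mul_left_cancel e2)
        rw [e3, e4]; ring
      rw [R.x_symm j i, ← e12] at q2
      set x := R.x i j f1 with hx
      set y := R.y i u with hy
      set y' := R.y j v with hy'
      have yy' : Commute y y' := R.y_comm n1' _ _
      have xy : Commute x y := (R.y_x_comm (ne_neg i) n1' _ _).symm
      have xg : Commute x g := (V.cX hg (ne_neg i) n1' _).symm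
      have xg' : Commute x g' := (V.cX hg' n1 (ne_neg j) _).symm
      rw [commutatorElement_def, R.t_mul, R.t_mul, R.t_mul, R.t_inv', R.t_inv', hu, hv]
      show ⁅g * y, g' * y'⁆ = g * g' * g⁻¹ * g'⁻¹
      have c1 : y' * (g * y) * y'⁻¹ = (g * y) * x := by
        calc y' * (g * y) * y'⁻¹ = (y' * g * y'⁻¹) * (y' * y) * y'⁻¹ := by group
          _ = (g * x) * (y * y') * y'⁻¹ := by rw [q1, yy'.eq]
          _ = g * (x * y) := by group
          _ = _ := by rw [xy.eq]; group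
      rw [comm_mul_x' c1 (xg.mul_right xy) xg']
      have c2 : ⁅g * y, g'⁆ = ⁅g, g'⁆ * x := by
        have h1 : ⁅g', g * y⁆ = ⁅g', g⁆ * x⁻¹ := comm_mul_x' q2 xg' xg
        rw [← commutatorElement_inv, h1, mul_inv_rev, inv_inv, commutatorElement_inv]
        have : Commute x ⁅g, g'⁆ := by
          rw [commutatorElement_def]
          exact ((xg.mul_right xg').mul_right xg.inv_right).mul_right xg'.inv_right
        exact this.eq
      rw [c2, mul_assoc, mul_inv_cancel, mul_one]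
      rfl
    have cy : ∀ k, k ≠ neg i → k ≠ neg j → ∀ b, Commute ⁅g, g'⁆ (R.y k b) := by
      intro k k1 k2 b
      by_cases h1 : k = i
      · subst h1
        have c1 : Commute g (R.y k b) := V.cy k g hg b
        obtain ⟨f, hf, -, -⟩ := V.ypar hij.symm hg' b
        exact comm_of_conj c1 (by rw [hf]; exact c1.mul_right (V.cX hg n1' (ne_neg k) f))
      by_cases h2 : k = j
      · subst h2
        have c1 : Commute g' (R.y k b) := V.cy k g' hg' b
        obtain ⟨f, hf, -, -⟩ := V.ypar hij hg b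
        exact comm_of_conj' c1 (by rw [hf]; exact c1.mul_right (V.cX hg' n1 (ne_neg k) f))
      have hik : Dj i k := ⟨fun e => h1 e.symm, fun e => k1 (by rw [e, neg_neg])⟩
      have hjk : Dj j k := ⟨fun e => h2 e.symm, fun e => k2 (by rw [e, neg_neg])⟩
      obtain ⟨f, hf, hf', -⟩ := V.ypar hik hg b
      obtain ⟨f2, hf2, hf2', -⟩ := V.ypar hjk hg' b
      have a1 : Commute g (R.x j k f2) := V.cX hg n1' k1 _
      have a2 : Commute g' (R.x i k f) := V.cX hg' n1 k2 _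
      have a3 : Commute g (R.x i k f) := V.cX hg (ne_neg i) k1 _
      have a4 : Commute g' (R.x j k f2) := V.cX hg' (ne_neg j) k2 _
      have b1 : Commute (R.x i k f) (R.x j k f2) := R.x_comm n1' hjk.2 k1 (ne_neg k) _ _
      show ⁅g, g'⁆ * R.y k b = R.y k b * ⁅g, g'⁆
      have key : ⁅g, g'⁆⁻¹ * R.y k b * ⁅g, g'⁆ = R.y k b := by
        have s1 : g⁻¹ * R.y k b * g = R.y k b * R.x i k f := hf
        have s2 : g'⁻¹ * (g⁻¹ * R.y k b * g) * g' = R.y k b * R.x j k f2 * R.x i k f := by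
          rw [s1]
          calc g'⁻¹ * (R.y k b * R.x i k f) * g' = (g'⁻¹ * R.y k b * g') * (g'⁻¹ * (R.x i k f * g')) := by group
            _ = (g'⁻¹ * R.y k b * g') * (g'⁻¹ * (g' * R.x i k f)) := by rw [a2.eq]
            _ = _ := by rw [hf2]; group
        have s3 : g * (g'⁻¹ * (g⁻¹ * R.y k b * g) * g') * g⁻¹ = R.y k b * R.x j k f2 := by
          rw [s2]
          calc g * (R.y k b * R.x j k f2 * R.x i k f) * g⁻¹
              = (g * R.y k b * g⁻¹) * (g * R.x j k f2) * R.x i k f * g⁻¹ := by group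
            _ = (R.y k b * R.x i k f) * (R.x j k f2 * g) * R.x i k f * g⁻¹ := by rw [hf', a1.eq]
            _ = R.y k b * (R.x i k f * R.x j k f2) * (g * R.x i k f) * g⁻¹ := by group
            _ = R.y k b * (R.x j k f2 * R.x i k f) * (R.x i k f * g) * g⁻¹ := by rw [b1.eq, a3.eq]
            _ = R.y k b * R.x j k f2 * (R.x i k f * R.x i k f) := by group
            _ = _ := by rw [R.x_sq, mul_one]
        calc ⁅g, g'⁆⁻¹ * R.y k b * ⁅g, g'⁆
            = g' * (g * (g'⁻¹ * (g⁻¹ * R.y k b * g) * g') * g⁻¹) * g'⁻¹ := by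
              rw [commutatorElement_def]; group
          _ = g' * (R.y k b * R.x j k f2) * g'⁻¹ := by rw [s3]
          _ = (g' * R.y k b * g'⁻¹) * (g' * R.x j k f2) * g'⁻¹ := by group
          _ = (R.y k b * R.x j k f2) * (R.x j k f2 * g') * g'⁻¹ := by rw [hf2', a4.eq]
          _ = R.y k b * (R.x j k f2 * R.x j k f2) := by group
          _ = _ := by rw [R.x_sq, mul_one]
      calc ⁅g, g'⁆ * R.y k b = ⁅g, g'⁆ * (⁅g, g'⁆⁻¹ * R.y k b * ⁅g, g'⁆) := by rw [key]
        _ = _ := by group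
    obtain ⟨a, b, d, h, -⟩ := R.FU2 hn hij ct cy
    rcases h with h | h
    · exact ⟨1, a, b, d, Or.inl rfl, by rw [h, one_mul, mul_assoc]⟩
    · exact ⟨R.t, a, b, d, Or.inr rfl, by rw [h]; group⟩
  -- equivariance
  obtain ⟨μ, hμ⟩ := exists_nu hF
  have hμ2 : (μ : F) ^ 2 ≠ 1 := fun h => hμ (by rw [Units.val_mul, ← sq, h])
  obtain ⟨lam, l1, l2⟩ := exists_lam j μ
  have li : ev lam i = 1 := l2 i hij.symm
  obtain ⟨g1, hg1, a, rfl⟩ := V.exists_decomp hμ2 l1 hg'
  obtain ⟨e, f, r, s, he, h⟩ := main g1 hg1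
  -- the subgroup `Q`
  have xy : ∀ a b, Commute (R.y j a) (R.x i j b) := fun a b => R.y_x_comm n1 (ne_neg j) _ _
  let Q : Subgroup G :=
    { carrier := {z | ∃ a b, z = R.y j a * R.x i j b}
      one_mem' := ⟨0, 0, by rw [R.x_zero, R.y_zero, mul_one]⟩
      mul_mem' := by
        rintro _ _ ⟨a, b, rfl⟩ ⟨a', b', rfl⟩
        refine ⟨a + a', b + b', ?_⟩
        rw [R.x_add, R.y_add]
        calc R.y j a * R.x i j b * (R.y j a' * R.x i j b')
            = R.y j a * (R.x i j b * R.y j a') * R.x i j b' := by group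
          _ = R.y j a * (R.y j a' * R.x i j b) * R.x i j b' := by rw [(xy a' b).eq]
          _ = _ := by group
      inv_mem' := by
        rintro _ ⟨a, b, rfl⟩
        exact ⟨a, b, by rw [mul_inv_rev, R.x_inv, R.y_inv, (xy a b).eq]⟩ }
  have memQ : ∀ {z}, z ∈ Q ↔ ∃ a b, z = R.y j a * R.x i j b := Iff.rfl
  have het : ∀ x : G, Commute x R.t → Commute x e := by
    intro x hx
    rcases he with rfl | rfl
    · exact Commute.one_right _
    · exact hx
  have hee : e * e = 1 := by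
    rcases he with rfl | rfl
    · rw [mul_one]
    · exact R.tt
  have hcom : ∀ z x : G, x ∈ Q → Commute z x → z * z = 1 → z * x * z ∈ Q := by
    intro z x hx hzx hz
    rw [hzx.eq, mul_assoc, hz, mul_one]; exact hx
  have key : ⁅g, g1 * (R.h lam * g1 * (R.h lam)⁻¹)⁆ ∈ Q := by
    refine kill (e := e) (p := R.y i f) (q := R.y j r * R.x i j s) Q (memQ.2 ⟨r, s, rfl⟩)
      h (V.torus_one i g hg lam li) (het _ (R.h_t lam)) ?_ hee (R.y_sq _ _) (het _ (R.y_t _ _)).symm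
      ?_ ?_ ?_ ?_ ?_ ?_
    · have h := R.h_y lam i f
      rw [li, Units.val_one, one_pow, one_mul, mul_inv_eq_iff_eq_mul] at h
      exact h
    · rintro x ⟨a, b, rfl⟩
      refine ⟨ev lam j ^ 2 * a, ev lam i * ev lam j * b, ?_⟩
      calc R.h lam * (R.y j a * R.x i j b) * (R.h lam)⁻¹
            = (R.h lam * R.y j a * (R.h lam)⁻¹) * (R.h lam * R.x i j b * (R.h lam)⁻¹) := by group
        _ = _ := by rw [R.h_x, R.h_y]
    · intro x hx
      refine hcom _ _ hx (Commute.symm (het _ ?_)) hee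
      obtain ⟨a, b, rfl⟩ := hx
      exact (R.y_t _ _).mul_left (R.x_t _ _ _)
    · intro x hx
      refine hcom _ _ hx ?_ (R.y_sq _ _)
      obtain ⟨a, b, rfl⟩ := hx
      exact (R.y_comm n1' _ _).mul_right (R.y_x_comm (ne_neg i) n1' _ _)
    · rintro x ⟨a, b, rfl⟩
      have c1 : Commute g1 (R.y j a) := V.cy j g1 hg1 a
      have c2 : Commute g1 (R.x i j b) := V.cX hg1 n1 (ne_neg j) b
      rw [(c1.mul_right c2).eq, mul_inv_cancel_right]
      exact ⟨a, b, rfl⟩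
    · rcases he with rfl | rfl
      · simp only [mul_one, mul_inv_cancel]; exact one_mem _
      · obtain ⟨u, hu⟩ := V.conj_t hg1
        rw [hu]
        exact ⟨u, 0, by rw [R.x_zero, mul_one]⟩
    · obtain ⟨b, -, hb, -⟩ := V.ypar hij.symm hg1 f
      rw [hb]
      have c3 : Commute (R.y i f) (R.x j i b) := R.y_x_comm n1' (ne_neg i) _ _
      refine ⟨0, b, ?_⟩
      rw [R.y_zero, one_mul, c3.eq, mul_assoc, R.y_sq, mul_one, R.x_symm]
  obtain ⟨b, -, -, hb⟩ := V.ypar hij hg a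
  have hH1 : R.h lam * g1 * (R.h lam)⁻¹ ∈ V.V j := V.torus j g1 hg1 lam
  rw [comm_mul_x' hb (V.cX hg (ne_neg i) n1' b).symm (V.cX (mul_mem hg1 hH1) n1 (ne_neg j) b).symm]
  obtain ⟨a', b', h'⟩ := key
  refine ⟨a', b' + b, ?_⟩
  rw [h', R.x_inv, R.x_add]
  group

/-- **Section 4**: `[V_i, V_j] ≤ X_ij` -/
theorem ll (hn : 3 ≤ n) (hF : ∃ μ : Fˣ, (μ : F) ≠ 1) {i j : Ix n} (hij : Dj i j)
    {g g' : G} (hg : g ∈ V.V i) (hg' : g' ∈ V.V j) : ∃ a, ⁅g, g'⁆ = R.x i j a := by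
  obtain ⟨a, b, h1⟩ := V.ll_half hn hF hij hg hg'
  obtain ⟨a', b', h2⟩ := V.ll_half hn hF hij.symm hg' hg
  have n1 : i ≠ neg j := hij.2
  have n1' : j ≠ neg i := hij.symm.2
  have h3 : ⁅g, g'⁆ = R.x i j b' * R.y i a' := by
    rw [← commutatorElement_inv, h2, mul_inv_rev, R.x_inv, R.y_inv, R.x_symm j i]
  have h4 : R.y i a' * R.y j a * R.x i j (b + b') = 1 := by
    have c1 : Commute (R.y i a') (R.x i j b') := R.y_x_comm (ne_neg i) n1' _ _
    have c2 : Commute (R.y j a) (R.x i j b) := R.y_x_comm n1 (ne_neg j) _ _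
    calc R.y i a' * R.y j a * R.x i j (b + b')
        = R.y i a' * (R.y j a * R.x i j b) * R.x i j b' := by rw [R.x_add]; group
      _ = R.y i a' * ⁅g, g'⁆ * R.x i j b' := by rw [h1]
      _ = R.y i a' * (R.x i j b' * R.y i a') * R.x i j b' := by rw [h3]
      _ = (R.y i a' * R.x i j b') * (R.y i a' * R.x i j b') := by group
      _ = (R.y i a' * R.x i j b') * (R.x i j b' * R.y i a') := by rw [c1.eq]
      _ = R.y i a' * (R.x i j b' * R.x i j b') * R.y i a' := by group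
      _ = 1 := by rw [R.x_sq, mul_one, R.y_sq]
  obtain ⟨e1, e2, e3⟩ := R.rels.ind i j a' a (b + b') hij h4
  rw [e2, R.y_zero, one_mul] at h1
  exact ⟨b, h1⟩

end DL

end Cfsg.Agent.OddHalf.SpN

end

-- merged: Cfsg.Agent.OddHalf.SpN.Cent3
section

/-!
# `C_{C(t)}(Y_i) ∩ C(Q_i / Y_i) = ⟨t⟩ Q_i` in `Sp_2n(F)`, `char F = 2`
-/

set_option autoImplicit false
set_option linter.unusedSimpArgs false

namespace Cfsg.Agent.OddHalf.SpN

open Cfsg Cfsg.Agent.ClassicalGeometry.SympBasic Cfsg.Agent.ClassicalGeometry.SympAutSemi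
open scoped Matrix commutatorElement

variable {n : ℕ} {F : Type*} [Field F] [CharP F 2]

/-- acting trivially on `Q_i / Y_i` implies acting trivially on `Q_i` -/
theorem comm_of_mod {A : Sy n F} {i : Ix n} (hy : Commute A (sy i 1)) {k : Ix n} (hk : Dj i k)
    (hx : ∃ e, A * sx i k 1 = sy i e * (sx i k 1 * A)) : Commute A (sx i k 1) := by
  have ci := cy_of_comm hy
  obtain ⟨e, he⟩ := hx
  have hik : neg i ≠ neg k := fun e => hk.1 (neg_inj.mp e)
  have hil : ∀ l, ent (A * sx i k 1) l (neg i) = ent A l (neg i) + ent A l k := by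
    intro l
    rw [ent_mul_sx hk, if_neg hik, if_pos rfl]; ring
  have hir : ∀ l, ent (sy i e * (sx i k 1 * A)) l (neg i) = ent A l (neg i) + (if l = k then 1 else 0) +
      (if l = i then ent A (neg k) (neg i) + e else 0) := by
    intro l
    have h1 : (rho n F A (be n F (neg i))) (neg i) = 1 := ci.diag'
    have h2 : neg i ≠ k := fun e => hk.2 (by rw [← e, neg_neg])
    rw [ent, map_mul, map_mul, Equiv.Perm.mul_apply, Equiv.Perm.mul_apply, rho_sy, rho_sx hk]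
    simp only [Pi.add_apply, Pi.smul_apply, smul_eq_mul, be_apply, h1, one_mul, if_neg (neg_ne i), if_neg h2,
      mul_zero, add_zero, mul_one]
    change ent A l (neg i) + ent A (neg k) (neg i) * (if l = i then 1 else 0) + (if l = k then 1 else 0) +
      e * (if l = i then 1 else 0) = _
    split_ifs <;> ring
  have hcol : ∀ l, ent A l k = (if l = k then 1 else 0) + (if l = i then ent A (neg k) (neg i) + e else 0) := by
    intro l
    have := hil l
    rw [he, hir l] at this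
    linear_combination -this
  have hv : rho n F A (be n F k) = be n F k + (ent A (neg k) (neg i) + e) • be n F i := by
    ext l
    have := hcol l
    rw [ent] at this
    rw [this, Pi.add_apply, Pi.smul_apply, smul_eq_mul, be_apply, be_apply]
    split_ifs <;> ring
  have hf : sympForm n F (rho n F A (be n F (neg i))) (rho n F A (be n F k)) = 0 := by
    rw [sympForm_rho A, form_be, be_apply, if_neg]
    exact fun e => hik (by rw [← e])
  rw [hv, sympForm_add_right, sympForm_smul_right, form_be, form_be] at hf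
  have h1 : (rho n F A (be n F (neg i))) (neg i) = 1 := ci.diag'
  have h3 : (rho n F A (be n F (neg i))) (neg k) = ent A (neg k) (neg i) := rfl
  rw [h1, h3] at hf
  have he0 : e = 0 := by linear_combination hf - ent A (neg k) (neg i) * (two0 : (2 : F) = 0)
  rw [he0, sy_zero, one_mul] at he
  exact he

namespace Frame

variable {G : Type*} [Group G] (R : Frame n F G)

/-- **F3** for `Q_i / Y_i`: an element of `C(t)` centralising `Y_i` and `Q_i / Y_i` is in `⟨t⟩ Q_i`. -/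
theorem CQ' [Finite F] (hn : 3 ≤ n) {i : Ix n} {c : G} (ht : Commute c R.t) (hy : ∀ b, Commute c (R.y i b))
    (hx : ∀ k, Dj i k → ∀ b, ∃ e, c * R.x i k b = R.y i e * (R.x i k b * c)) {S : Subgroup G}
    (h1 : ∀ a, R.y i a ∈ S) (h2 : ∀ k a, Dj i k → R.x i k a ∈ S) : c ∈ S ∨ R.t * c ∈ S := by
  obtain ⟨A, hA⟩ := R.ct_comm_y hn ht hy
  have hyA : Commute A (sy i 1) := R.comm_of hA (hy 1)
  have hc : ∀ k, Dj i k → Commute A (sx i k 1) := fun k hk => by
    obtain ⟨e, he⟩ := hx k hk 1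
    refine comm_of_mod hyA hk ⟨e, R.inj ?_⟩
    rw [map_mul, map_mul, map_mul]
    rcases hA with rfl | rfl
    · exact he
    · have ct : ∀ B, R.ι B * R.t = R.t * R.ι B := fun B => (R.comm B).eq
      apply mul_left_cancel (a := R.t)
      calc R.t * (R.ι A * R.ι (sx i k 1)) = R.t * R.ι A * R.x i k 1 := by rw [mul_assoc]; rfl
        _ = R.y i e * (R.x i k 1 * (R.t * R.ι A)) := he
        _ = R.ι (sy i e) * (R.ι (sx i k 1) * R.t) * R.ι A := by
          simp only [mul_assoc]; rfl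
        _ = (R.ι (sy i e) * R.t) * R.ι (sx i k 1) * R.ι A := by rw [ct]; group
        _ = _ := by rw [ct]; group
  have h3 : A ∈ S.comap R.ι := mem_Q_Sy (i := i) h1 h2 {k | Dj i k ∧ ent A i k ≠ 0}.ncard A hyA hc le_rfl
  rcases hA with e | e
  · left; rw [e]; exact h3
  · right; rw [e, ← mul_assoc, R.tt, one_mul]; exact h3

end Frame

end Cfsg.Agent.OddHalf.SpN

end

-- merged: Cfsg.Agent.OddHalf.SpN.BothOut
section

/-!
# ODD D7, `K = Sp_2n(q)`, pattern ALL: the output of section 8 (helper780)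

`toCC` (`δ = 0`), `toCOne` (`δ = 1`), `both_out`: the two cases of pattern ALL.
-/

set_option autoImplicit false

namespace Cfsg.Agent.OddHalf.SpN

open scoped commutatorElement

variable {n : ℕ} {F : Type*} [Field F] [CharP F 2] [Finite F] {G : Type*} [Group G] {R : Frame n F G}

omit [CharP F 2] [Finite F] in
theorem exists_unit_neB (hF : ∃ a : F, a ≠ 0 ∧ a ≠ 1) : ∃ μ : Fˣ, (μ : F) ≠ 1 := by
  obtain ⟨a, h0, h1⟩ := hF
  exact ⟨Units.mk0 a h0, h1⟩

/-- the inputs of section 8 -/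
theorem Inp.of {δ γ : F} (D : DS R δ) (V : DL R γ) (hn : 3 ≤ n) (hF : ∃ a : F, a ≠ 0 ∧ a ≠ 1) : Inp D V where
  hn := hn
  hF := hF
  el := fun i j h g hg => by
    obtain ⟨k, h1, h2⟩ := exists_dj hn i j
    exact D.sq (exists_unit_neB hF) (R.ks hn (exists_unit_neB hF)) h1 h h2.symm hg
  h4 := fun i j h g hg g' hg' => by
    obtain ⟨a, ha⟩ := V.ll hn (exists_unit_neB hF) h hg hg'
    refine ⟨a, ?_⟩
    have c1 : Commute g (R.x i j a) := V.cx i g hg i j a (ne_neg i) (neg_ne_of_dj h)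
    have c2 : Commute g' (R.x i j a) := V.cx j g' hg' i j a h.2 (ne_neg j)
    rw [commutatorElement_def] at ha
    calc g * g' = (g * g' * g⁻¹ * g'⁻¹) * (g' * g) := by group
      _ = _ := by rw [ha, (c2.mul_left c1).eq]

variable {δ γ : F}

/-- **the case `δ = 0`** -/
noncomputable def toCC (D : DS R (0 : F)) (V : DL R (0 : F)) (hn : 3 ≤ n) (hF : ∃ a : F, a ≠ 0 ∧ a ≠ 1) : CC R :=
  have I : Inp D V := Inp.of D V hn hF
  have hF' := exists_unit_neB hF
  have hK := R.kt hn hF'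
  { D := D
    L := V
    Wsq := I.el
    Vsq := fun i g hg => by
      obtain ⟨u, hu⟩ := V.ht i g hg
      rw [I.sq hg hu, zero_mul, R.y_zero]
    c60 := fun i j k hij hik hjk g hg g' hg' => D.comm60 hF' hK hij hik hjk hg hg'
    c90 := fun i j k l hij hik hil hjk hjl hkl g hg g' hg' => D.comm90 hF' hK hij hik hil hjk hjl hkl hg hg'
    cpar := fun i j h g hg g' hg' => by
      obtain ⟨k, h1, h2⟩ := exists_dj hn i j
      exact D.par_mem hF' hK h h1 h2 hg hg'
    c120 := fun i j k hij hik hjk g hg g' hg' => D.mem120 hF' hK hij hik hjk hg hg'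
    cWV := fun i j k h h1 h2 g hg v hv => by
      rcases cases5 i j k with rfl | rfl | rfl | rfl | h3
      · exact I.comm45' h hg hv
      · exact I.comm45 h hg hv
      · exact absurd rfl h1
      · exact absurd rfl h2
      · exact I.comm90 h h3.1 h3.2 hg hv
    cVV := fun i j h g hg g' hg' => by
      obtain ⟨u, hu⟩ := V.ht i g hg
      obtain ⟨v, hv⟩ := V.ht j g' hg'
      have := I.ll h hg hg' hu hv
      rwa [zero_mul, R.x_zero, mul_one] at this
    cVx := fun i j h v hv b => by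
      obtain ⟨u, hu⟩ := V.ht j v hv
      obtain ⟨v', hv', a, ha, -, -, e⟩ := I.conj_x h.symm hv hu b
      rw [D.symm j i] at ha
      rw [R.x_symm (neg j) i] at e
      refine ⟨a, ha, v', hv', ?_⟩
      rw [R.x_inv, e, (I.comm45' h ha hv').eq, mul_assoc]
    cWy := fun i j h g hg b => by
      obtain ⟨u, hu⟩ := D.ht i (neg j) (dj_neg_right.mpr h) g hg
      obtain ⟨a, ha, v', hv', -, -, e⟩ := I.conj_y h hg hu b
      exact ⟨a, ha, v', hv', by rw [R.y_inv, e, mul_assoc]⟩ }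

theorem comm_ws_ws (D : DS R δ) (hn : 3 ≤ n) (hF : ∃ a : F, a ≠ 0 ∧ a ≠ 1) {i j k l : Ix n} (hij : Dj i j)
    (hkl : Dj k l) (h1 : k ≠ neg i) (h2 : k ≠ neg j) (h3 : l ≠ neg i) (h4 : l ≠ neg j) {g g' : G} (hg : g ∈ D.W i j)
    (hg' : g' ∈ D.W k l) : Commute g g' := by
  have hF' := exists_unit_neB hF
  have hK := R.kt hn hF'
  have hgs : g ∈ D.W j i := by rwa [D.symm j i]
  have hgs' : g' ∈ D.W l k := by rwa [D.symm l k]
  rcases cases5 i j k with rfl | rfl | rfl | rfl | ⟨ik, jk⟩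
  · rcases cases5 k j l with rfl | rfl | rfl | rfl | ⟨il, jl⟩
    · exact absurd rfl hkl.1
    · exact D.comm _ _ hij g hg g' hg'
    · exact absurd rfl h3
    · exact absurd rfl h4
    · exact D.comm60 hF' hK hij il jl hg hg'
  · rcases cases5 i k l with rfl | rfl | rfl | rfl | ⟨il, jl⟩
    · exact D.comm _ _ hij g hg g' hgs'
    · exact absurd rfl hkl.1
    · exact absurd rfl h3
    · exact absurd rfl h4
    · exact D.comm60 hF' hK hij.symm jl il hgs hg'
  · exact absurd rfl h1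
  · exact absurd rfl h2
  · rcases cases5 i j l with rfl | rfl | rfl | rfl | ⟨il, jl⟩
    · exact D.comm60 hF' hK hij ik jk hg hgs'
    · exact D.comm60 hF' hK hij.symm jk ik hgs hgs'
    · exact absurd rfl h3
    · exact absurd rfl h4
    · exact D.comm90 hF' hK hij ik il jk jl hkl hg hg'

theorem conj_x120 (D : DS R δ) (hn : 3 ≤ n) (hF : ∃ a : F, a ≠ 0 ∧ a ≠ 1) {i j k : Ix n} (hij : Dj i j)
    (hjk : Dj j k) (hik : Dj i k) (u v : F) : ∃ c,
    R.x (neg j) k v * D.ws i j u * R.x (neg j) k v = D.ws i j u * D.ws i k (u * v) * R.x i k c := by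
  have hF' := exists_unit_neB hF
  have hK := R.ks hn hF'
  set x := R.x (neg j) k v with hx
  have hxx : x * x = 1 := R.x_sq _ _ _
  have hm := D.conj_mem hF' hK (i := k) (j := j) (k := i) hjk.symm hik.symm hij.symm (g := D.ws i j u)
    (by rw [D.symm j i]; exact D.ws_mem hij u) v
  rw [R.x_symm k (neg j), ← hx, D.symm k i] at hm
  set m := (D.ws i j u)⁻¹ * (x * D.ws i j u * x) with hmd
  have e0 : x * D.ws i j u * x = D.ws i j u * m := by rw [hmd, mul_inv_cancel_left]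
  have e1 : x * R.x i j u * x = R.x i j u * R.x i k (u * v) := R.rels.ss i j k u v hij hjk hik
  have cX : Commute m (R.x i j u) := D.cx i k hik m hm i j u (ne_neg i) hik.2 (neg_ne_of_dj hij)
    hjk.2
  have ct : Commute R.t x := (R.x_t _ _ _).symm
  have ht : R.t * m * R.t = m * R.x i k (u * v) := by
    have e2 : R.t * (D.ws i j u * m) * R.t = D.ws i j u * m * (R.x i j u * R.x i k (u * v)) := by
      rw [← e0, Both.conj3 R.tt, D.ws_t hij, Both.conj_of_comm R.tt ct, ← e1]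
      calc x * (D.ws i j u * R.x i j u) * x = x * D.ws i j u * 1 * R.x i j u * x := by simp only [mul_assoc, one_mul]
        _ = _ := by rw [← hxx]; simp only [mul_assoc]
    rw [Both.conj2 R.tt, D.ws_t hij] at e2
    have e3 : D.ws i j u * (R.x i j u * (R.t * m * R.t)) = D.ws i j u * (R.x i j u * (m * R.x i k (u * v))) := by
      calc D.ws i j u * (R.x i j u * (R.t * m * R.t)) = D.ws i j u * R.x i j u * (R.t * m * R.t) := by
            simp only [mul_assoc]
        _ = D.ws i j u * (m * R.x i j u) * R.x i k (u * v) := by rw [e2]; simp only [mul_assoc]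
        _ = _ := by rw [cX.eq]; simp only [mul_assoc]
    exact mul_left_cancel (mul_left_cancel e3)
  obtain ⟨c, hc⟩ := D.eq_ws hik hm ht
  exact ⟨c, by rw [e0, hc, mul_assoc]⟩

theorem conj_ws120 (D : DS R δ) (hn : 3 ≤ n) (hF : ∃ a : F, a ≠ 0 ∧ a ≠ 1) {i j k : Ix n} (hij : Dj i j)
    (hjk : Dj j k) (hik : Dj i k) (u v : F) : ∃ c d,
    D.ws (neg j) k v * D.ws i j u * (D.ws (neg j) k v)⁻¹ = D.ws i j u * D.ws i k c * R.x i k d := by
  have hF' := exists_unit_neB hF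
  have hK := R.kt hn hF'
  have m1 := D.ws_mem (dj_neg_left.mpr hjk) v
  have m2 := D.ws_mem hij u
  have hm := D.mem120 hF' hK (i := i) (j := neg j) (k := k) (dj_neg_right.mpr hij) hik (dj_neg_left.mpr hjk)
    m1 (by rw [neg_neg]; exact m2)
  have hc := D.comm60 hF' hK hij hik hjk m2 hm
  obtain ⟨c, hc1⟩ := D.ht i k hik _ hm
  obtain ⟨d, hd⟩ := D.eq_ws hik hm hc1
  refine ⟨c, d, ?_⟩
  rw [mul_assoc (D.ws i j u), ← hd, hc.eq, commutatorElement_def]; group

/-- **the case `δ = 1`** -/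
noncomputable def toCOne (D : DS R (1 : F)) (V : DL R (0 : F)) (hn : 3 ≤ n) (hF : ∃ a : F, a ≠ 0 ∧ a ≠ 1) : COne R :=
  have I : Inp D V := Inp.of D V hn hF
  have hF' := exists_unit_neB hF
  have hK := R.kt hn hF'
  { wx := D.ws
    wy := V.wl
    wx_symm := D.ws_symm
    wx_t := fun h u => D.ws_t h u
    wy_t := V.wl_t
    h_wx := fun lam _ _ h u => D.h_ws h lam u
    h_wy := fun lam i u => by rw [V.h_wl, pow_two]
    wx_add := fun h u v => D.ws_add I.el h u v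
    wy_zero := V.wl_zero
    wy_add := V.wl_mul
    wy_sq := fun i u => by rw [I.sq (V.wl_mem i u) (V.wl_t i u), one_mul]
    a1 := fun {i j k l} h _ h1 h2 h3 h4 u v => D.cx i j h _ (D.ws_mem h u) k l v h1 h2 h3 h4
    a2 := fun {i j} h u v => by
      have e := D.ws_par h u v
      rw [one_mul] at e
      have c1 : Commute (R.y i (u * v)) (R.x i (neg j) v) :=
        R.y_x_comm (ne_neg i) (fun e => h.1 (neg_inj.mp e).symm) _ _
      have c2 : Commute (D.ws i j u) (R.y i (u * v)) := D.cy i j h _ (D.ws_mem h u) i _ (ne_neg i) h.2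
      rw [e, (c1.mul_right c2.symm).eq]
    a3 := fun {i j k} hij hjk hik u v => by
      obtain ⟨c, hc⟩ := conj_x120 D hn hF hij hjk hik u v
      exact ⟨c, by rw [R.x_inv, hc]⟩
    a4 := fun {i j k} h h1 h2 u v => D.cy i j h _ (D.ws_mem h u) k v h1 h2
    a5 := fun {i j} h u v => by
      obtain ⟨c, d, e⟩ := I.conj_ws (dj_neg_right.mpr h) u v
      rw [neg_neg, CharTwo.add_self_eq_zero, zero_mul, V.wl_zero, mul_one] at e
      exact ⟨c, d, by rw [R.y_inv, e]⟩
    b1 := fun {i j} h u v => I.cy' h (V.wl_mem i u) v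
    b2 := fun {i j k} _ h1 h2 u v => V.cx i _ (V.wl_mem i u) j k v h1 h2
    b3 := fun {i j} h u v => by
      obtain ⟨c, d, e⟩ := I.conj_wl h u v
      exact ⟨c, d, by rw [R.x_inv, e]⟩
    c1 := fun {i j k l} hij hkl h1 h2 h3 h4 u v =>
      comm_ws_ws D hn hF hij hkl h1 h2 h3 h4 (D.ws_mem hij u) (D.ws_mem hkl v)
    c2 := fun {i j} h u v => by
      obtain ⟨k, h1, h2⟩ := exists_dj hn i j
      obtain ⟨c, e⟩ := D.par_mem hF' hK h h1 h2 (D.ws_mem h u) (D.ws_mem (dj_neg_right.mpr h) v)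
      rw [commutatorElement_def] at e
      exact ⟨c, by rw [← e]; group⟩
    c3 := fun {i j k} hij hjk hik u v => conj_ws120 D hn hF hij hjk hik u v
    c4 := fun {i j} h u v => by
      obtain ⟨a, ha⟩ := V.ll hn hF' h (V.wl_mem i u) (V.wl_mem j v)
      rw [commutatorElement_def] at ha
      exact ⟨a, by rw [← ha]; group⟩
    c5 := fun {i j k} hjk h1 h2 u v => by
      rcases cases5 j k i with rfl | rfl | rfl | rfl | h3
      · exact (I.comm45' hjk (D.ws_mem hjk v) (V.wl_mem _ u)).symm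
      · exact (I.comm45 hjk (D.ws_mem hjk v) (V.wl_mem _ u)).symm
      · exact absurd (neg_neg j).symm h1
      · exact absurd (neg_neg k).symm h2
      · exact (I.comm90 hjk h3.1 h3.2 (D.ws_mem hjk v) (V.wl_mem _ u)).symm
    f3 := fun i g gt g1 g2 => R.CQ' hn gt g1 g2 (S := R.Q i) (R.y_mem_Q i)
      (fun k a _ => R.x_mem_Q i k a) }

/-- **pattern ALL**: the two cases -/
theorem both_out (D : DS R δ) (V : DL R γ) (hn : 3 ≤ n) (hF : ∃ a : F, a ≠ 0 ∧ a ≠ 1) :
    Nonempty (CC R) ∨ Nonempty (COne R) := by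
  have I : Inp D V := Inp.of D V hn hF
  obtain ⟨rfl, h0 | h1⟩ := I.gamma_delta
  · subst h0; exact Or.inl ⟨toCC D V hn hF⟩
  · subst h1; exact Or.inr ⟨toCOne D V hn hF⟩

end Cfsg.Agent.OddHalf.SpN

end

-- merged: Cfsg.Agent.OddHalf.SpN.CCInst
section

/-!
# Pattern ALL: the homomorphism of the case (C,C), or the data of the case (C,O) (helper678)
-/

set_option autoImplicit false

namespace Cfsg.Agent.OddHalf.SpN

open scoped commutatorElement

variable {n : ℕ} {F : Type*} [Field F] [CharP F 2] [Finite F] {G : Type*} [Group G] {R : Frame n F G}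

/-- **Pattern ALL**: either the data of pattern (C,O), or a homomorphism to `{±1}` with `t ↦ -1`. -/
theorem exists_cone_or_hom [Finite G] {δ γ : F} (D : DS R δ) (V : DL R γ) (hn : 3 ≤ n)
    (hF : ∃ a : F, a ≠ 0 ∧ a ≠ 1)
    (hodd : Odd ((R.UpP ⊔ Subgroup.zpowers R.t).relIndex (Subgroup.centralizer {R.t}))) :
    Nonempty (COne R) ∨ ∃ m : G →* ℤˣ, m R.t = -1 := by
  rcases both_out D V hn hF with ⟨⟨C⟩⟩ | h
  · exact Or.inr (C.exists_hom hn (exists_unit_neB hF) hodd)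
  · exact Or.inl h

end Cfsg.Agent.OddHalf.SpN

end

-- merged: Cfsg.Agent.OddHalf.SpN.Main
section

/-!
# ODD D7, `K = Sp_2n(q)`, `n ≥ 3`, `q ≥ 4` even, clean case: the master (helper678)

`CFrame.exists_hom`: if `t` is not isolated in `T₁ = ⟨t⟩ U`, then `t ↦ -1` for some homomorphism `G →* {±1}`.
Patterns: only long, only short, all moved; the last one splits into (C,C) and (C,O).
-/

set_option autoImplicit false

namespace Cfsg.Agent.OddHalf.SpN

open Cfsg.Agent.ClassicalGeometry.SympBasic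
open Subgroup WExist

variable {n : ℕ} {F : Type*} [Field F] [CharP F 2] [Finite F] {G : Type*} [Group G]

/-- pattern ALL, clean -/
theorem CFrame.exists_hom_all [Finite G] (R : CFrame n F G) (hn : 3 ≤ n) (hq : ∃ a : F, a ≠ 0 ∧ a ≠ 1) {δ γ : F}
    (D : DS R.toFrame δ) (V : DL R.toFrame γ) : ∃ m : G →* ℤˣ, m R.t = -1 := by
  rcases exists_cone_or_hom D V hn hq (by rw [UpP_eq]; exact R.odd_cent) with ⟨⟨C⟩⟩ | h
  · obtain ⟨μ, hμ⟩ := exists_unit_neB hq
    exact C.exists_hom' hn (μ := μ) (fun e => hμ (by rw [e]; rfl))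
  · exact h

namespace Frame

variable (R : Frame n F G)

omit [Finite F] in
theorem conj_y_all {i : Ix n} {a : F} (h : IsConj R.t (R.t * R.y i a)) (j : Ix n) :
    IsConj R.t (R.t * R.y j a) := by
  obtain ⟨s, rfl⟩ := exists_W1 i j
  obtain ⟨g, hg⟩ := isConj_iff.1 h
  refine isConj_iff.2 ⟨R.w s * g, ?_⟩
  have h1 := (R.w_t s).eq
  have h2 := R.w_y s i a
  calc R.w s * g * R.t * (R.w s * g)⁻¹ = R.w s * (g * R.t * g⁻¹) * (R.w s)⁻¹ := by group
    _ = (R.w s * R.t) * R.y i a * (R.w s)⁻¹ := by rw [hg]; group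
    _ = R.t * (R.w s * R.y i a * (R.w s)⁻¹) := by rw [h1]; group
    _ = _ := by rw [h2]

omit [Finite F] in
theorem conj_x_all {i j : Ix n} (hij : Dj i j) {a : F} (h : IsConj R.t (R.t * R.x i j a)) {k l : Ix n}
    (hkl : Dj k l) : IsConj R.t (R.t * R.x k l a) := by
  obtain ⟨s, rfl, rfl⟩ := exists_W2 hij hkl
  obtain ⟨g, hg⟩ := isConj_iff.1 h
  refine isConj_iff.2 ⟨R.w s * g, ?_⟩
  have h1 := (R.w_t s).eq
  have h2 := R.w_x s i j a
  calc R.w s * g * R.t * (R.w s * g)⁻¹ = R.w s * (g * R.t * g⁻¹) * (R.w s)⁻¹ := by group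
    _ = (R.w s * R.t) * R.x i j a * (R.w s)⁻¹ := by rw [hg]; group
    _ = R.t * (R.w s * R.x i j a * (R.w s)⁻¹) := by rw [h1]; group
    _ = _ := by rw [h2]

end Frame

/-- the fusion in the form of section 3 from `Mv` -/
theorem fus_of_mv {t : G} {T1 : Subgroup G} {A : Type*} [CommGroup A] {x : F → G} {h : A →* G} {χ : A →* Fˣ}
    (hm : ∀ u, ∃ g ∈ normalizer (T1 : Set G), Mv t x h χ g u) : ∀ u, ∃ g ∈ normalizer (T1 : Set G),
      (∀ y, (∃ v, y = x v) ↔ ∃ v, g * y * g⁻¹ = x v) ∧ g * t * g⁻¹ = t * x u := by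
  intro u
  obtain ⟨g, hg, -, h2, h3⟩ := hm u
  refine ⟨g, hg, fun y => ⟨?_, ?_⟩, h3⟩
  · rintro ⟨v, rfl⟩
    exact ⟨v, by rw [(h2 v).eq]; group⟩
  · rintro ⟨v, hv⟩
    refine ⟨v, ?_⟩
    calc y = g⁻¹ * (g * y * g⁻¹) * g := by group
      _ = g⁻¹ * (x v * g) := by rw [hv]; group
      _ = x v := by rw [← (h2 v).eq]; group

/-- **The clean case.** -/
theorem CFrame.exists_hom [Finite G] (R : CFrame n F G) (hn : 3 ≤ n) (hq : ∃ a : F, a ≠ 0 ∧ a ≠ 1)
    (hni : ¬ D7Out.Defs.Iso R.t R.T1) : ∃ m : G →* ℤˣ, m R.t = -1 := by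
  obtain ⟨a, ha⟩ : ∃ a : Fin n, a = ⟨0, by omega⟩ := ⟨⟨0, by omega⟩, rfl⟩
  obtain ⟨b, hb⟩ : ∃ a : Fin n, a.val = 1 := ⟨⟨1, by omega⟩, rfl⟩
  obtain ⟨c, hc⟩ : ∃ a : Fin n, a.val = 2 := ⟨⟨2, by omega⟩, rfl⟩
  have ha0 : a.val = 0 := by rw [ha]
  have hab : a ≠ b := by rintro rfl; omega
  have hd : Dj (Sum.inl a : Ix n) (Sum.inl b) := ⟨fun e => hab (Sum.inl_injective e), fun e => by cases e⟩
  have L : ∀ (i : Ix n) (s : F), s ≠ 0 → IsConj R.t (R.t * R.y i s) → ∃ γ : F, Nonempty (DL R.toFrame γ) :=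
    fun i s hs h => by
      have h1 := R.movesY hq ha0 hb hc hs (R.conj_y_all h _)
      rw [ha] at h1
      exact R.exists_DL hn hq (fus_of_mv h1)
  have S : ∀ (i j : Ix n) (s : F), Dj i j → s ≠ 0 → IsConj R.t (R.t * R.x i j s) →
      ∃ δ : F, Nonempty (DS R.toFrame δ) :=
    fun i j s hij hs h => by
      obtain ⟨δ, D, -⟩ := R.exists_DS hn hq ha0 hb (R.movesX hq ha0 hb hc hs (R.conj_x_all hij h hd))
      exact ⟨δ, ⟨D⟩⟩
  by_cases hl : ∃ (i : Ix n) (s : F), s ≠ 0 ∧ IsConj R.t (R.t * R.y i s)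
  · obtain ⟨i, s, hs, h⟩ := hl
    obtain ⟨γ, ⟨V⟩⟩ := L i s hs h
    by_cases hsh : ∃ (i j : Ix n) (s : F), Dj i j ∧ s ≠ 0 ∧ IsConj R.t (R.t * R.x i j s)
    · obtain ⟨i, j, s, hij, hs, h⟩ := hsh
      obtain ⟨δ, ⟨D⟩⟩ := S i j s hij hs h
      exact R.exists_hom_all hn hq D V
    · push Not at hsh
      refine R.exists_hom_l hn ?_ V fun i j s hij hs h => hsh i j s hij hs h
      obtain ⟨x, h0, h1⟩ := hq
      have := Fintype.ofFinite F
      classical
      rw [Nat.card_eq_fintype_card, ← Finset.card_univ]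
      have h3 : ({0, 1, x} : Finset F).card = 3 := by
        rw [Finset.card_eq_three]
        exact ⟨0, 1, x, zero_ne_one, h0.symm, h1.symm, rfl⟩
      rw [← h3]
      exact Finset.card_le_card (Finset.subset_univ _)
  · push Not at hl
    rcases R.start hq ha0 hb hc hni with ⟨s, hs, h⟩ | ⟨s, hs, h⟩
    · exact absurd h (hl _ s hs)
    · obtain ⟨δ, ⟨D⟩⟩ := S _ _ s hd hs h
      exact R.exists_hom_s hn (exists_unit_neB hq) D fun i s hs h => hl i s hs h

end Cfsg.Agent.OddHalf.SpN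

end

-- merged: Cfsg.Agent.OddHalf.SpN.FreeSer
section

/-!
# Free series and field automorphisms

`FreeSer s Q`: `Q` has a series of `s`-invariant subgroups with factors on which `s` acts freely
(`H¹ = Ĥ⁰ = 0`).  Then all the involutions of `Q s` are `Q`-conjugate to `s` and `|C_Q(s)|² = |Q|`.

`false_of_partial`: if `S = Q C_S(t)`, `S / Q` is abelian, `Q` is free for all the involutions of `S` outside
`Q` and `t Q`, all the extremal conjugates of `t` in `t Q` are `S`-conjugate to `t`, and `|C_Q(t)|² ≠ |Q|`, then `G`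
is not perfect.
-/

set_option autoImplicit false

namespace Cfsg.Agent.OddHalf.SpN

open Subgroup

variable {G : Type*} [Group G]

/-- `Q` has a series with factors on which `s` acts freely. -/
inductive FreeSer (s : G) : Subgroup G → Prop
  | bot : FreeSer s ⊥
  | step {A B : Subgroup G} (hB : FreeSer s B) (hBA : B ≤ A)
      (hn : ∀ a ∈ A, ∀ b ∈ B, a * b * a⁻¹ ∈ B)
      (hsA : ∀ a ∈ A, s * a * s⁻¹ ∈ A) (hsB : ∀ b ∈ B, s * b * s⁻¹ ∈ B)
      (h1 : ∀ a ∈ A, a * (s * a * s⁻¹) ∈ B → ∃ r ∈ A, (r * (s * r⁻¹ * s⁻¹))⁻¹ * a ∈ B)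
      (hcard : Nat.card {x : G // x ∈ A ∧ x⁻¹ * (s * x * s⁻¹) ∈ B} ^ 2 =
        Nat.card A * Nat.card B) : FreeSer s A

theorem FreeSer.inv {s : G} {Q : Subgroup G} (h : FreeSer s Q) : ∀ a ∈ Q, s * a * s⁻¹ ∈ Q := by
  cases h with
  | bot => intro a ha; rw [mem_bot] at ha ⊢; rw [ha]; group
  | step hB hBA hn hsA hsB h1 hcard => exact hsA

/-- cocycles are coboundaries -/
theorem FreeSer.exists_eq {s : G} (hs : s * s = 1) {Q : Subgroup G} (h : FreeSer s Q) :
    ∀ a ∈ Q, a * (s * a * s⁻¹) = 1 → ∃ r ∈ Q, a = r * (s * r⁻¹ * s⁻¹) := by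
  induction h with
  | bot =>
    intro a ha _
    refine ⟨1, one_mem _, ?_⟩
    rw [mem_bot] at ha
    rw [ha]; group
  | @step A B hB hBA hn hsA hsB h1 hcard ih =>
    intro a ha hc
    obtain ⟨r, hr, hrB⟩ := h1 a ha (by rw [hc]; exact one_mem _)
    -- `a = r s(r)⁻¹ b`
    obtain ⟨b, hb, hab⟩ : ∃ b ∈ B, a = r * (s * r⁻¹ * s⁻¹) * b := ⟨_, hrB, by group⟩
    have hsinv : s⁻¹ = s := inv_eq_of_mul_eq_one_left hs
    -- `b' = s(r)⁻¹ b s(r)`
    set b' := (s * r * s⁻¹)⁻¹ * b * (s * r * s⁻¹) with hb'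
    have hb'B : b' ∈ B := by
      have := hn (s * r * s⁻¹)⁻¹ (inv_mem (hsA r hr)) b hb
      rwa [inv_inv] at this
    have hab' : a = r * b' * (s * r⁻¹ * s⁻¹) := by rw [hab, hb']; group
    have hc' : b' * (s * b' * s⁻¹) = 1 := by
      have e : a * (s * a * s⁻¹) = r * (b' * (s * b' * s⁻¹)) * r⁻¹ := by
        rw [hab']
        have e1 : s * (r * b' * (s * r⁻¹ * s⁻¹)) * s⁻¹ = s * r * b' * (s * r⁻¹ * (s⁻¹ * s⁻¹)) := by group
        rw [e1]
        have e2 : s⁻¹ * s⁻¹ = 1 := by rw [← mul_inv_rev, hs, inv_one]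
        have e3 : s * r * b' * (s * r⁻¹ * 1) = s * r * b' * s⁻¹ * r⁻¹ := by rw [hsinv]; group
        rw [e2, e3]
        group
      rw [e] at hc
      have : b' * (s * b' * s⁻¹) = r⁻¹ * (r * (b' * (s * b' * s⁻¹)) * r⁻¹) * r := by group
      rw [this, hc]; group
    obtain ⟨c, hcB, hce⟩ := ih b' hb'B hc'
    refine ⟨r * c, mul_mem hr (hBA hcB), ?_⟩
    rw [hab', hce]
    group

/-- all the involutions of `Q s` are `Q`-conjugate to `s` -/
theorem FreeSer.exists_conj {s : G} (hs : s * s = 1) {Q : Subgroup G} (h : FreeSer s Q) {u : G}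
    (hu : u * u = 1) (huQ : u * s⁻¹ ∈ Q) : ∃ r ∈ Q, u = r * s * r⁻¹ := by
  have hsinv : s⁻¹ = s := inv_eq_of_mul_eq_one_left hs
  obtain ⟨r, hr, he⟩ := h.exists_eq hs (u * s⁻¹) huQ (by
    have : u * s⁻¹ * (s * (u * s⁻¹) * s⁻¹) = u * u * (s⁻¹ * s⁻¹) := by group
    rw [this, hu, ← mul_inv_rev, hs]; group)
  refine ⟨r, hr, ?_⟩
  have : u = u * s⁻¹ * s := by group
  rw [this, he]
  rw [hsinv]
  have e : r * (s * r⁻¹ * s) * s = r * s * r⁻¹ * (s * s) := by group
  rw [e, hs, mul_one]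

/-- the centralizer covers -/
theorem FreeSer.exists_comm {s : G} (hs : s * s = 1) {Q : Subgroup G} (h : FreeSer s Q) {g : G}
    (hg : g⁻¹ * (s * g * s⁻¹) ∈ Q) : ∃ r ∈ Q, (g * r) * s = s * (g * r) := by
  obtain ⟨r, hr, he⟩ := h.exists_eq hs (g⁻¹ * (s * g * s⁻¹)) hg (by
    have e2 : s⁻¹ * s⁻¹ = 1 := by rw [← mul_inv_rev, hs, inv_one]
    have : g⁻¹ * (s * g * s⁻¹) * (s * (g⁻¹ * (s * g * s⁻¹)) * s⁻¹) =
      g⁻¹ * s * s * g * (s⁻¹ * s⁻¹) := by group
    rw [this, e2, mul_assoc g⁻¹ s s, hs]; group)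
  refine ⟨r, hr, ?_⟩
  -- g⁻¹ s g s⁻¹ = r s r⁻¹ s⁻¹
  have h1 : g⁻¹ * s * g = r * s * r⁻¹ := by
    have := congrArg (fun x => x * s) he
    change g⁻¹ * (s * g * s⁻¹) * s = r * (s * r⁻¹ * s⁻¹) * s at this
    have e1 : g⁻¹ * (s * g * s⁻¹) * s = g⁻¹ * s * g := by group
    have e2 : r * (s * r⁻¹ * s⁻¹) * s = r * s * r⁻¹ := by group
    rw [e1, e2] at this
    exact this
  have h2 : s * g = g * r * s * r⁻¹ := by
    have : s * g = g * (g⁻¹ * s * g) := by group
    rw [this, h1]; group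
  calc g * r * s = g * r * s * r⁻¹ * r := by group
    _ = s * g * r := by rw [h2]
    _ = s * (g * r) := by group

/-- the product formula -/
theorem card_mul_card [Finite G] {B C D : Subgroup G} (hBC : B ≤ C) (hDC : D ≤ C)
    (hn : C ≤ normalizer (B : Set G)) (h : C = B ⊔ D) :
    Nat.card C * Nat.card (B ⊓ D : Subgroup G) = Nat.card B * Nat.card D := by
  have hBn : (B.subgroupOf C).Normal := normal_subgroupOf_of_le_normalizer hn
  have e0 : D.subgroupOf C ⊔ B.subgroupOf C = ⊤ := by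
    apply map_injective C.subtype_injective
    rw [Subgroup.map_sup, subgroupOf_map_subtype, subgroupOf_map_subtype, inf_eq_left.2 hBC,
      inf_eq_left.2 hDC, ← MonoidHom.range_eq_map, C.range_subtype, sup_comm, ← h]
  have e1 : (B.subgroupOf C).relIndex (D.subgroupOf C) = (B.subgroupOf C).index := by
    rw [← relIndex_sup_right, e0, relIndex_top_right]
  have e2 : B.relIndex D = B.relIndex C := by
    rw [← relIndex_subgroupOf hDC]
    exact e1
  have e3 : Nat.card B * B.relIndex C = Nat.card C := by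
    rw [← relIndex_bot_left, relIndex_mul_relIndex _ _ _ bot_le hBC, relIndex_bot_left]
  have e4 : Nat.card (B ⊓ D : Subgroup G) * B.relIndex D = Nat.card D := by
    rw [← inf_relIndex_right B D, ← relIndex_bot_left (B ⊓ D), relIndex_mul_relIndex _ _ _ bot_le inf_le_right,
      relIndex_bot_left]
  rw [← e3, ← e4, e2]; ring

/-- `|C_Q(s)|² = |Q|` -/
theorem FreeSer.card_sq [Finite G] {s : G} (hs : s * s = 1) {Q : Subgroup G} (h : FreeSer s Q) :
    Nat.card (Q ⊓ centralizer ({s} : Set G) : Subgroup G) ^ 2 = Nat.card Q := by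
  induction h with
  | bot => simp
  | @step A B hB hBA hn hsA hsB h1 hcard ih =>
    -- the group `C = {x ∈ A | [x,s] ∈ B}` is `B C_A(s)`
    have hsinv : s⁻¹ = s := inv_eq_of_mul_eq_one_left hs
    let C : Subgroup G :=
      { carrier := {x | x ∈ A ∧ x⁻¹ * (s * x * s⁻¹) ∈ B}
        one_mem' := ⟨one_mem _, by simp⟩
        mul_mem' := by
          rintro x y ⟨hx, hx'⟩ ⟨hy, hy'⟩
          refine ⟨mul_mem hx hy, ?_⟩
          have e : (x * y)⁻¹ * (s * (x * y) * s⁻¹) =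
              (y⁻¹ * (x⁻¹ * (s * x * s⁻¹)) * y⁻¹⁻¹) * (y⁻¹ * (s * y * s⁻¹)) := by group
          rw [e]
          exact mul_mem (hn y⁻¹ (inv_mem hy) _ hx') hy'
        inv_mem' := by
          rintro x ⟨hx, hx'⟩
          refine ⟨inv_mem hx, ?_⟩
          have e : x⁻¹⁻¹ * (s * x⁻¹ * s⁻¹) = x * (x⁻¹ * (s * x * s⁻¹))⁻¹ * x⁻¹ := by group
          rw [e]
          exact hn x hx _ (inv_mem hx') }
    have hC : Nat.card C ^ 2 = Nat.card A * Nat.card B := hcard
    set D := A ⊓ centralizer ({s} : Set G) with hD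
    have hDC : D ≤ C := by
      rintro x ⟨hx, hx'⟩
      refine ⟨hx, ?_⟩
      have hx'' : x * s = s * x := mem_centralizer_singleton_iff.1 hx'
      have : x⁻¹ * (s * x * s⁻¹) = 1 := by rw [← hx'']; group
      rw [this]; exact one_mem _
    have hBC : B ≤ C := by
      intro x hx
      exact ⟨hBA hx, mul_mem (inv_mem hx) (hsB x hx)⟩
    have hBn : B ≤ C ∧ C ≤ normalizer (B : Set G) := by
      refine ⟨hBC, ?_⟩
      intro x hx
      rw [mem_normalizer_iff]
      intro y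
      constructor
      · exact fun hy => hn x hx.1 y hy
      · intro hy
        have := hn x⁻¹ (inv_mem hx.1) _ hy
        have e : x⁻¹ * (x * y * x⁻¹) * x⁻¹⁻¹ = y := by group
        rwa [e] at this
    have hcov : C = B ⊔ D := by
      apply le_antisymm
      · intro x hx
        obtain ⟨r, hr, he⟩ := hB.exists_comm hs (g := x) hx.2
        have h2 : x * r ∈ D := ⟨mul_mem hx.1 (hBA hr), mem_centralizer_singleton_iff.2 he⟩
        have : x = (x * r) * r⁻¹ := by group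
        rw [this]
        exact mul_mem (mem_sup_right h2) (mem_sup_left (inv_mem hr))
      · exact sup_le hBC hDC
    have hBD : B ⊓ D = B ⊓ centralizer ({s} : Set G) := by
      rw [hD, ← inf_assoc, inf_eq_left.2 hBA]
    -- |C| * |B ∩ D| = |B| * |D|
    have hmul : Nat.card C * Nat.card (B ⊓ D : Subgroup G) = Nat.card B * Nat.card D :=
      card_mul_card hBC hDC hBn.2 hcov
    rw [hBD] at hmul
    have hB0 : 0 < Nat.card B := Nat.card_pos
    have h3 : (Nat.card C * Nat.card (B ⊓ centralizer ({s} : Set G) : Subgroup G)) ^ 2 =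
        (Nat.card B * Nat.card D) ^ 2 := by rw [hmul]
    rw [mul_pow, mul_pow, hC, ih] at h3
    have h4 : Nat.card B ^ 2 * Nat.card A = Nat.card B ^ 2 * Nat.card D ^ 2 := by
      rw [← h3]; ring
    exact (Nat.eq_of_mul_eq_mul_left (pow_pos hB0 2) h4).symm

/-- `|C_S(s)| = |C_Q(s)| |S / Q|` if `s` centralises `S / Q` -/
theorem FreeSer.card_cover [Finite G] {s : G} (hs : s * s = 1) {Q S : Subgroup G} (h : FreeSer s Q) (hQS : Q ≤ S)
    (hn : S ≤ normalizer (Q : Set G)) (hc : ∀ g ∈ S, g⁻¹ * (s * g * s⁻¹) ∈ Q) :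
    Nat.card (S ⊓ centralizer ({s} : Set G) : Subgroup G) * Nat.card Q =
      Nat.card S * Nat.card (Q ⊓ centralizer ({s} : Set G) : Subgroup G) := by
  have h1 : S = Q ⊔ (S ⊓ centralizer ({s} : Set G)) := by
    apply le_antisymm
    · intro x hx
      obtain ⟨r, hr, he⟩ := h.exists_comm hs (g := x) (hc x hx)
      have h2 : x * r ∈ S ⊓ centralizer ({s} : Set G) :=
        ⟨mul_mem hx (hQS hr), mem_centralizer_singleton_iff.2 he⟩
      have : x = (x * r) * r⁻¹ := by group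
      rw [this]
      exact mul_mem (mem_sup_right h2) (mem_sup_left (inv_mem hr))
    · exact sup_le hQS inf_le_left
  have h2 := card_mul_card hQS (inf_le_left : S ⊓ centralizer ({s} : Set G) ≤ S) hn h1
  have h3 : Q ⊓ (S ⊓ centralizer ({s} : Set G)) = Q ⊓ centralizer ({s} : Set G) := by
    rw [← inf_assoc, inf_eq_left.2 hQS]
  rw [h3] at h2
  rw [h2, mul_comm]

/-- an elementary abelian factor `V` with `C_V(s) = [V, s]` -/
theorem level_of_module [Finite G] {V : Type*} [AddCommGroup V] [Finite V] (h2V : ∀ x : V, x + x = 0) {σ : V →+ V}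
    (hσ : ∀ x, σ (σ x) = x) (htr : ∀ x, σ x = x → ∃ y, x = y + σ y) {s : G} {A B : Subgroup G}
    (hBA : B ≤ A) (hsA : ∀ a ∈ A, s * a * s⁻¹ ∈ A)
    (π : A →* Multiplicative V) (hπ : Function.Surjective π) (hker : ∀ a : A, π a = 1 ↔ (a : G) ∈ B)
    (hπs : ∀ a : A, (π ⟨s * a * s⁻¹, hsA a a.2⟩).toAdd = σ (π a).toAdd) :
    (∀ b ∈ B, s * b * s⁻¹ ∈ B) ∧
    (∀ a ∈ A, a * (s * a * s⁻¹) ∈ B → ∃ r ∈ A, (r * (s * r⁻¹ * s⁻¹))⁻¹ * a ∈ B) ∧
    Nat.card {x : G // x ∈ A ∧ x⁻¹ * (s * x * s⁻¹) ∈ B} ^ 2 = Nat.card A * Nat.card B := by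
  classical
  have hneg : ∀ x : V, -x = x := fun x => neg_eq_of_add_eq_zero_left (h2V x)
  have htr' : ∀ x : V, x + σ x = 0 → ∃ y : V, x = y + σ y := by
    intro x hx
    apply htr
    rw [add_eq_zero_iff_eq_neg, hneg] at hx
    exact hx.symm
  have hsB : ∀ b ∈ B, s * b * s⁻¹ ∈ B := by
    intro b hb
    have h1 := hπs ⟨b, hBA hb⟩
    rw [(hker ⟨b, hBA hb⟩).2 hb] at h1
    have h2 : (π ⟨s * b * s⁻¹, hsA b (hBA hb)⟩) = 1 := by
      apply Multiplicative.toAdd.injective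
      rw [h1]
      exact map_zero σ
    exact (hker _).1 h2
  refine ⟨hsB, ?_, ?_⟩
  · intro a ha h
    have h1 : (π ⟨a * (s * a * s⁻¹), mul_mem ha (hsA a ha)⟩) = 1 := (hker _).2 h
    have h2 : (⟨a * (s * a * s⁻¹), mul_mem ha (hsA a ha)⟩ : A) = ⟨a, ha⟩ * ⟨s * a * s⁻¹, hsA a ha⟩ := rfl
    rw [h2, map_mul] at h1
    have h3 : (π ⟨a, ha⟩).toAdd + σ (π ⟨a, ha⟩).toAdd = 0 := by
      rw [← hπs ⟨a, ha⟩, ← toAdd_mul, h1]
      rfl
    obtain ⟨y, hy⟩ := htr' _ h3
    obtain ⟨r, hr⟩ := hπ (Multiplicative.ofAdd y)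
    refine ⟨r, r.2, ?_⟩
    have hm : ((r : G) * (s * (r : G)⁻¹ * s⁻¹))⁻¹ * a ∈ A := by
      refine mul_mem (inv_mem (mul_mem r.2 ?_)) ha
      exact hsA _ (inv_mem r.2)
    rw [← hker ⟨_, hm⟩]
    have e : (⟨((r : G) * (s * (r : G)⁻¹ * s⁻¹))⁻¹ * a, hm⟩ : A) =
        (r * ⟨s * (r : G) * s⁻¹, hsA r r.2⟩⁻¹)⁻¹ * ⟨a, ha⟩ := by
      apply Subtype.ext
      change ((r : G) * (s * (r : G)⁻¹ * s⁻¹))⁻¹ * a = ((r : G) * (s * (r : G) * s⁻¹)⁻¹)⁻¹ * a
      group
    rw [e, map_mul, map_inv, map_mul, map_inv]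
    apply Multiplicative.toAdd.injective
    rw [toAdd_mul, toAdd_inv, toAdd_mul, toAdd_inv, hπs r, hy, hr]
    change -(y + -σ y) + (y + σ y) = 0
    rw [hneg, hneg]
    exact h2V _
  · -- cardinality
    let θ : V →+ V := AddMonoidHom.id V + σ
    have hθ : ∀ x, θ x = x + σ x := fun x => rfl
    have hker' : θ.ker = θ.range := by
      ext x
      rw [AddMonoidHom.mem_ker, AddMonoidHom.mem_range, hθ]
      constructor
      · intro hx
        obtain ⟨y, hy⟩ := htr' x hx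
        exact ⟨y, hy.symm⟩
      · rintro ⟨y, rfl⟩
        rw [hθ, map_add, hσ, add_comm (σ y) y]
        exact h2V _
    have e3 : Nat.card θ.ker ^ 2 = Nat.card V := by
      have h1 := AddSubgroup.card_eq_card_quotient_mul_card_addSubgroup θ.ker
      have h2 : Nat.card (V ⧸ θ.ker) = Nat.card θ.range :=
        Nat.card_congr (QuotientAddGroup.quotientKerEquivRange θ).toEquiv
      rw [h1, h2, ← hker', pow_two]
    have hkerB : Nat.card π.ker = Nat.card B := by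
      have h1 : π.ker = B.subgroupOf A := by
        ext a
        rw [MonoidHom.mem_ker, hker a, mem_subgroupOf]
      rw [h1]
      exact Nat.card_congr (subgroupOfEquivOfLe hBA).toEquiv
    have e2 : Nat.card A = Nat.card V * Nat.card B := by
      have h1 := π.ker.card_eq_card_quotient_mul_card_subgroup
      have h2 : Nat.card (A ⧸ π.ker) = Nat.card V := by
        rw [Nat.card_congr (QuotientGroup.quotientKerEquivOfSurjective π hπ).toEquiv]
        exact Nat.card_congr Multiplicative.toAdd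
      rw [h1, h2, hkerB]
    have e1 : Nat.card {x : G // x ∈ A ∧ x⁻¹ * (s * x * s⁻¹) ∈ B} = Nat.card θ.ker * Nat.card B := by
      let M : Subgroup (Multiplicative V) := AddSubgroup.toSubgroup θ.ker
      have hM : ∀ x, x ∈ M ↔ x.toAdd ∈ θ.ker := fun x => Iff.rfl
      have h1 : Nat.card {x : G // x ∈ A ∧ x⁻¹ * (s * x * s⁻¹) ∈ B} = Nat.card (M.comap π) := by
        apply Nat.card_congr
        refine
          { toFun := fun x => ⟨⟨x.1, x.2.1⟩, ?_⟩
            invFun := fun x => ⟨x.1.1, x.1.2, ?_⟩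
            left_inv := fun x => rfl
            right_inv := fun x => rfl }
        · rw [mem_comap, hM, AddMonoidHom.mem_ker, hθ, ← hπs ⟨x.1, x.2.1⟩]
          have h2 : (⟨x.1⁻¹ * (s * x.1 * s⁻¹), mul_mem (inv_mem x.2.1) (hsA _ x.2.1)⟩ : A) =
            (⟨x.1, x.2.1⟩ : A)⁻¹ * ⟨s * x.1 * s⁻¹, hsA _ x.2.1⟩ := rfl
          have h3 := (hker (⟨x.1⁻¹ * (s * x.1 * s⁻¹), mul_mem (inv_mem x.2.1) (hsA _ x.2.1)⟩ : A)).2 x.2.2
          rw [h2, map_mul, map_inv] at h3
          have h4 : -(π ⟨x.1, x.2.1⟩).toAdd + (π ⟨s * x.1 * s⁻¹, hsA _ x.2.1⟩).toAdd = 0 :=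
            congrArg Multiplicative.toAdd h3
          rwa [hneg] at h4
        · have h5 := x.2
          rw [mem_comap, hM, AddMonoidHom.mem_ker, hθ, ← hπs x.1] at h5
          rw [← hneg (π x.1).toAdd] at h5
          have h2 : (⟨x.1.1⁻¹ * (s * x.1.1 * s⁻¹), mul_mem (inv_mem x.1.2) (hsA _ x.1.2)⟩ : A) =
            (x.1 : A)⁻¹ * ⟨s * x.1.1 * s⁻¹, hsA _ x.1.2⟩ := rfl
          refine (hker (⟨x.1.1⁻¹ * (s * x.1.1 * s⁻¹), mul_mem (inv_mem x.1.2) (hsA _ x.1.2)⟩ : A)).1 ?_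
          rw [h2, map_mul, map_inv]
          exact Multiplicative.toAdd.injective h5
      rw [h1]
      have h6 := (M.comap π).card_mul_index
      rw [index_comap_of_surjective M hπ, e2] at h6
      have h7 := M.card_mul_index
      have h8 : Nat.card (Multiplicative V) = Nat.card V := Nat.card_congr Multiplicative.toAdd
      have h9 : Nat.card M = Nat.card θ.ker := rfl
      have h10 : 0 < M.index := Nat.pos_of_ne_zero M.index_ne_zero_of_finite
      rw [h8, h9] at h7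
      rw [← h7] at h6
      have h11 : Nat.card (M.comap π) * M.index = (Nat.card θ.ker * Nat.card B) * M.index := by
        rw [h6]; ring
      exact Nat.eq_of_mul_eq_mul_right h10 h11
    rw [e1, e2, mul_pow, e3]; ring

/-- an elementary abelian factor `V` with `C_V(s) = [V, s]` -/
theorem FreeSer.module [Finite G] {V : Type*} [AddCommGroup V] [Finite V] (h2V : ∀ x : V, x + x = 0) {σ : V →+ V}
    (hσ : ∀ x, σ (σ x) = x) (htr : ∀ x, σ x = x → ∃ y, x = y + σ y) {s : G} {A B : Subgroup G} (hB : FreeSer s B)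
    (hBA : B ≤ A) (hn : ∀ a ∈ A, ∀ b ∈ B, a * b * a⁻¹ ∈ B) (hsA : ∀ a ∈ A, s * a * s⁻¹ ∈ A)
    (π : A →* Multiplicative V) (hπ : Function.Surjective π) (hker : ∀ a : A, π a = 1 ↔ (a : G) ∈ B)
    (hπs : ∀ a : A, (π ⟨s * a * s⁻¹, hsA a a.2⟩).toAdd = σ (π a).toAdd) : FreeSer s A := by
  obtain ⟨hsB, h1, h2⟩ := level_of_module h2V hσ htr hBA hsA π hπ hker hπs
  exact FreeSer.step hB hBA hn hsA hsB h1 h2

/-- the trace of a field involution in characteristic two -/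
theorem exists_trace {F : Type*} [Field F] [CharP F 2] {σ : F ≃+* F} (hσ : ∀ x, σ (σ x) = x)
    (hσ1 : ∃ x, σ x ≠ x) (x : F) (hx : σ x = x) : ∃ y : F, x = y + σ y := by
  obtain ⟨y, hy⟩ := hσ1
  have hy0 : y + σ y ≠ 0 := by
    intro h
    apply hy
    rw [add_eq_zero_iff_eq_neg, CharTwo.neg_eq] at h
    exact h.symm
  refine ⟨x * (y + σ y)⁻¹ * y, ?_⟩
  have h1 : σ (y + σ y) = y + σ y := by rw [map_add, hσ, add_comm]
  rw [map_mul, map_mul, map_inv₀, h1, hx]
  field_simp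

/-- a factor which is the additive group of a field with the action of a field involution -/
theorem FreeSer.line [Finite G] {F : Type*} [Field F] [CharP F 2] [Finite F] {σ : F ≃+* F} (hσ : ∀ x, σ (σ x) = x)
    (hσ1 : ∃ x, σ x ≠ x) {s : G} {A B : Subgroup G} (hB : FreeSer s B) (hBA : B ≤ A)
    (hn : ∀ a ∈ A, ∀ b ∈ B, a * b * a⁻¹ ∈ B) (hsA : ∀ a ∈ A, s * a * s⁻¹ ∈ A)
    (π : A →* Multiplicative F) (hπ : Function.Surjective π) (hker : ∀ a : A, π a = 1 ↔ (a : G) ∈ B)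
    (hπs : ∀ a : A, (π ⟨s * a * s⁻¹, hsA a a.2⟩).toAdd = σ (π a).toAdd) : FreeSer s A :=
  hB.module (σ := (σ : F →+ F)) CharTwo.add_self_eq_zero hσ (exists_trace hσ hσ1) hBA hn hsA π hπ hker hπs

/-- a factor which is a vector space with a semilinear involution -/
theorem FreeSer.semi [Finite G] {F V : Type*} [Field F] [CharP F 2] [AddCommGroup V] [Module F V] [Finite V]
    {σ : F ≃+* F} (hσ : ∀ x, σ (σ x) = x) (hσ1 : ∃ x, σ x ≠ x) {τ : V →+ V} (hτ : ∀ x, τ (τ x) = x)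
    (hτσ : ∀ (c : F) (x : V), τ (c • x) = σ c • τ x) {s : G} {A B : Subgroup G} (hB : FreeSer s B)
    (hBA : B ≤ A) (hn : ∀ a ∈ A, ∀ b ∈ B, a * b * a⁻¹ ∈ B) (hsA : ∀ a ∈ A, s * a * s⁻¹ ∈ A)
    (π : A →* Multiplicative V) (hπ : Function.Surjective π) (hker : ∀ a : A, π a = 1 ↔ (a : G) ∈ B)
    (hπs : ∀ a : A, (π ⟨s * a * s⁻¹, hsA a a.2⟩).toAdd = τ (π a).toAdd) : FreeSer s A := by
  obtain ⟨c, hc⟩ := exists_trace hσ hσ1 1 (map_one σ)
  have h2V : ∀ x : V, x + x = 0 := by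
    intro x
    rw [← two_smul F x, show (2 : F) = 0 from CharTwo.two_eq_zero, zero_smul]
  refine hB.module (σ := τ) h2V hτ ?_ hBA hn hsA π hπ hker hπs
  intro x hx
  refine ⟨c • x, ?_⟩
  rw [hτσ, hx, ← add_smul, ← hc, one_smul]

/-- `A` has a series of `s`-invariant subgroups with factors centralised by `Q` on which `s` acts freely -/
inductive FreeC (s : G) (Q : Subgroup G) : Subgroup G → Prop
  | bot : FreeC s Q ⊥
  | step {A B : Subgroup G} (hB : FreeC s Q B) (hBA : B ≤ A) (hAQ : A ≤ Q)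
      (hc : ∀ g ∈ Q, ∀ a ∈ A, a⁻¹ * (g * a * g⁻¹) ∈ B)
      (hsA : ∀ a ∈ A, s * a * s⁻¹ ∈ A) (hsB : ∀ b ∈ B, s * b * s⁻¹ ∈ B)
      (h1 : ∀ a ∈ A, a * (s * a * s⁻¹) ∈ B → ∃ r ∈ A, (r * (s * r⁻¹ * s⁻¹))⁻¹ * a ∈ B)
      (hcard : Nat.card {x : G // x ∈ A ∧ x⁻¹ * (s * x * s⁻¹) ∈ B} ^ 2 =
        Nat.card A * Nat.card B) : FreeC s Q A

theorem FreeC.free {s : G} {Q A : Subgroup G} (h : FreeC s Q A) {w : G} (hw : w ∈ Q) : FreeSer (s * w) A := by
  induction h with
  | bot => exact FreeSer.bot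
  | @step A B hB hBA hAQ hc hsA hsB h1 hcard ih =>
    have hcB : ∀ a ∈ A, a⁻¹ * (w * a * w⁻¹) ∈ B := fun a ha => hc w hw a ha
    have hn : ∀ a ∈ A, ∀ b ∈ B, a * b * a⁻¹ ∈ B := by
      intro a ha b hb
      have e : a * b * a⁻¹ = b * (b⁻¹ * (a * b * a⁻¹)) := by group
      rw [e]
      exact mul_mem hb (hc a (hAQ ha) b (hBA hb))
    -- the action of `s w` is the action of `s` modulo `B`
    have key : ∀ a ∈ A, ∃ b ∈ B, s * w * a * (s * w)⁻¹ = s * a * s⁻¹ * b := by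
      intro a ha
      refine ⟨s * (a⁻¹ * (w * a * w⁻¹)) * s⁻¹, hsB _ (hcB a ha), ?_⟩
      group
    have hwA : ∀ a ∈ A, s * w * a * (s * w)⁻¹ ∈ A := by
      intro a ha
      obtain ⟨b, hb, e⟩ := key a ha
      rw [e]
      exact mul_mem (hsA a ha) (hBA hb)
    have hwB : ∀ a ∈ B, s * w * a * (s * w)⁻¹ ∈ B := by
      intro a ha
      obtain ⟨b, hb, e⟩ := key a (hBA ha)
      rw [e]
      exact mul_mem (hsB a ha) hb
    refine FreeSer.step ih hBA hn hwA hwB ?_ ?_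
    · intro a ha h
      obtain ⟨b, hb, e⟩ := key a ha
      have h2 : a * (s * a * s⁻¹) ∈ B := by
        rw [e] at h
        have e2 : a * (s * a * s⁻¹) = a * (s * a * s⁻¹ * b) * b⁻¹ := by group
        rw [e2]
        exact mul_mem h (inv_mem hb)
      obtain ⟨r, hr, hr2⟩ := h1 a ha h2
      refine ⟨r, hr, ?_⟩
      obtain ⟨c, hcB', ec⟩ := key r⁻¹ (inv_mem hr)
      rw [ec]
      have e3 : (r * (s * r⁻¹ * s⁻¹ * c))⁻¹ * a = c⁻¹ * ((r * (s * r⁻¹ * s⁻¹))⁻¹ * a) := by group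
      rw [e3]
      exact mul_mem (inv_mem hcB') hr2
    · have e : ∀ x : G, (x ∈ A ∧ x⁻¹ * (s * w * x * (s * w)⁻¹) ∈ B) ↔ (x ∈ A ∧ x⁻¹ * (s * x * s⁻¹) ∈ B) := by
        intro x
        refine and_congr_right fun hx => ?_
        obtain ⟨b, hb, e⟩ := key x hx
        rw [e]
        constructor
        · intro h
          have e2 : x⁻¹ * (s * x * s⁻¹) = x⁻¹ * (s * x * s⁻¹ * b) * b⁻¹ := by group
          rw [e2]
          exact mul_mem h (inv_mem hb)
        · intro h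
          have e2 : x⁻¹ * (s * x * s⁻¹ * b) = x⁻¹ * (s * x * s⁻¹) * b := by group
          rw [e2]
          exact mul_mem h hb
      rw [← hcard]
      congr 1
      exact Nat.card_congr (Equiv.subtypeEquivRight e)

/-- a factor centralised by `Q` which is an elementary abelian group `V` with `C_V(s) = [V, s]` -/
theorem FreeC.module [Finite G] {V : Type*} [AddCommGroup V] [Finite V] (h2V : ∀ x : V, x + x = 0) {σ : V →+ V}
    (hσ : ∀ x, σ (σ x) = x) (htr : ∀ x, σ x = x → ∃ y, x = y + σ y) {s : G} {Q A B : Subgroup G} (hB : FreeC s Q B)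
    (hBA : B ≤ A) (hAQ : A ≤ Q) (hc : ∀ g ∈ Q, ∀ a ∈ A, a⁻¹ * (g * a * g⁻¹) ∈ B) (hsA : ∀ a ∈ A, s * a * s⁻¹ ∈ A)
    (π : A →* Multiplicative V) (hπ : Function.Surjective π) (hker : ∀ a : A, π a = 1 ↔ (a : G) ∈ B)
    (hπs : ∀ a : A, (π ⟨s * a * s⁻¹, hsA a a.2⟩).toAdd = σ (π a).toAdd) : FreeC s Q A := by
  obtain ⟨hsB, h1, h2⟩ := level_of_module h2V hσ htr hBA hsA π hπ hker hπs
  exact FreeC.step hB hBA hAQ hc hsA hsB h1 h2

/-- a factor centralised by `Q` which is the additive group of a field with the action of a field involution -/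
theorem FreeC.line [Finite G] {F : Type*} [Field F] [CharP F 2] [Finite F] {σ : F ≃+* F} (hσ : ∀ x, σ (σ x) = x)
    (hσ1 : ∃ x, σ x ≠ x) {s : G} {Q A B : Subgroup G} (hB : FreeC s Q B) (hBA : B ≤ A) (hAQ : A ≤ Q)
    (hc : ∀ g ∈ Q, ∀ a ∈ A, a⁻¹ * (g * a * g⁻¹) ∈ B) (hsA : ∀ a ∈ A, s * a * s⁻¹ ∈ A)
    (π : A →* Multiplicative F) (hπ : Function.Surjective π) (hker : ∀ a : A, π a = 1 ↔ (a : G) ∈ B)
    (hπs : ∀ a : A, (π ⟨s * a * s⁻¹, hsA a a.2⟩).toAdd = σ (π a).toAdd) : FreeC s Q A :=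
  hB.module (σ := (σ : F →+ F)) CharTwo.add_self_eq_zero hσ (exists_trace hσ hσ1) hBA hAQ hc hsA π hπ hker hπs

/-- a factor centralised by `Q` which is a vector space with a semilinear involution -/
theorem FreeC.semi [Finite G] {F V : Type*} [Field F] [CharP F 2] [AddCommGroup V] [Module F V] [Finite V]
    {σ : F ≃+* F} (hσ : ∀ x, σ (σ x) = x) (hσ1 : ∃ x, σ x ≠ x) {τ : V →+ V} (hτ : ∀ x, τ (τ x) = x)
    (hτσ : ∀ (c : F) (x : V), τ (c • x) = σ c • τ x) {s : G} {Q A B : Subgroup G} (hB : FreeC s Q B)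
    (hBA : B ≤ A) (hAQ : A ≤ Q) (hc : ∀ g ∈ Q, ∀ a ∈ A, a⁻¹ * (g * a * g⁻¹) ∈ B) (hsA : ∀ a ∈ A, s * a * s⁻¹ ∈ A)
    (π : A →* Multiplicative V) (hπ : Function.Surjective π) (hker : ∀ a : A, π a = 1 ↔ (a : G) ∈ B)
    (hπs : ∀ a : A, (π ⟨s * a * s⁻¹, hsA a a.2⟩).toAdd = τ (π a).toAdd) : FreeC s Q A := by
  obtain ⟨c, hc'⟩ := exists_trace hσ hσ1 1 (map_one σ)
  have h2V : ∀ x : V, x + x = 0 := by
    intro x
    rw [← two_smul F x, show (2 : F) = 0 from CharTwo.two_eq_zero, zero_smul]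
  refine hB.module (σ := τ) h2V hτ ?_ hBA hAQ hc hsA π hπ hker hπs
  intro x hx
  refine ⟨c • x, ?_⟩
  rw [hτσ, hx, ← add_smul, ← hc', one_smul]

/-- extremal conjugates have centralizers of the same order in the `2`-group `S` -/
theorem card_eq_of_odd [Finite G] {S : Subgroup G} (hS : IsPGroup 2 S) {t g : G}
    (h1 : Odd (S.relIndex (centralizer ({t} : Set G))))
    (h2 : Odd (S.relIndex (centralizer ({g⁻¹ * t * g} : Set G)))) :
    Nat.card (S ⊓ centralizer ({t} : Set G) : Subgroup G) =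
      Nat.card (S ⊓ centralizer ({g⁻¹ * t * g} : Set G) : Subgroup G) := by
  have key : ∀ C : Subgroup G, Nat.card (S ⊓ C : Subgroup G) * S.relIndex C = Nat.card C := by
    intro C
    rw [← inf_relIndex_right S C, ← relIndex_bot_left (S ⊓ C), relIndex_mul_relIndex _ _ _ bot_le inf_le_right,
      relIndex_bot_left]
  have hcard : Nat.card (centralizer ({g⁻¹ * t * g} : Set G)) = Nat.card (centralizer ({t} : Set G)) := by
    have e : (centralizer ({g⁻¹ * t * g} : Set G)).map (MulAut.conj g).toMonoidHom = centralizer ({t} : Set G) := by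
      ext x
      rw [mem_map_equiv, mem_centralizer_singleton_iff, mem_centralizer_singleton_iff, MulAut.conj_symm_apply]
      constructor
      · intro h
        calc x * t = g * (g⁻¹ * x * g * (g⁻¹ * t * g)) * g⁻¹ := by group
          _ = g * ((g⁻¹ * t * g) * (g⁻¹ * x * g)) * g⁻¹ := by rw [h]
          _ = t * x := by group
      · intro h
        calc g⁻¹ * x * g * (g⁻¹ * t * g) = g⁻¹ * (x * t) * g := by group
          _ = g⁻¹ * (t * x) * g := by rw [h]
          _ = (g⁻¹ * t * g) * (g⁻¹ * x * g) := by group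
    rw [← e]
    exact Nat.card_congr (Subgroup.equivMapOfInjective _ _ (MulAut.conj g).injective).toEquiv
  have k1 := key (centralizer ({t} : Set G))
  have k2 := key (centralizer ({g⁻¹ * t * g} : Set G))
  rw [hcard, ← k1] at k2
  obtain ⟨a, ha⟩ := IsPGroup.iff_card.1 (hS.to_le (inf_le_left : S ⊓ centralizer ({t} : Set G) ≤ S))
  obtain ⟨b, hb⟩ := IsPGroup.iff_card.1 (hS.to_le (inf_le_left : S ⊓ centralizer ({g⁻¹ * t * g} : Set G) ≤ S))
  rw [ha, hb] at k2 ⊢
  have c1 : Nat.Coprime (2 ^ b) (S.relIndex (centralizer ({t} : Set G))) :=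
    Nat.Coprime.pow_left b (Nat.coprime_two_left.2 h1)
  have c2 : Nat.Coprime (2 ^ a) (S.relIndex (centralizer ({g⁻¹ * t * g} : Set G))) :=
    Nat.Coprime.pow_left a (Nat.coprime_two_left.2 h2)
  apply Nat.dvd_antisymm
  · exact c2.dvd_of_dvd_mul_right (Dvd.intro _ k2.symm)
  · exact c1.dvd_of_dvd_mul_right (Dvd.intro _ k2)

/-- **The end**: if `S = Q C_S(t)`, `S / Q` is abelian, the extremal conjugates of `t` in `t Q` are `S`-conjugate to `t`,
and either there are no involutions of `S` outside `Q` and `t Q` (clean case, or `S / Q` cyclic) or `Q` is free for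
them and `|C_Q(t)|² ≠ |Q|`, then `t` is not killed by all the homomorphisms to `A ≥ S / Q`. -/
theorem false_of_partial [Finite G] {A : Type*} [CommGroup A] {S Q : Subgroup G} {t : G} (hS : IsPGroup 2 S)
    (hQS : Q ≤ S) (φ : S →* A) (hφ : ∀ x : S, φ x = 1 ↔ (x : G) ∈ Q) (ht : t * t = 1) (htS : t ∈ S) (htQ : t ∉ Q)
    (hcov : ∀ x ∈ S, ∃ r ∈ Q, x * r * t = t * (x * r))
    (hodd : Odd (S.relIndex (centralizer ({t} : Set G))))
    (hcl : ∀ g : G, g⁻¹ * t * g ∈ S → t⁻¹ * (g⁻¹ * t * g) ∈ Q →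
      Odd (S.relIndex (centralizer ({g⁻¹ * t * g} : Set G))) → ∃ x ∈ S, g⁻¹ * t * g = x⁻¹ * t * x)
    (hfree : ∀ u ∈ S, u * u = 1 → u ∉ Q → t⁻¹ * u ∉ Q →
      FreeSer u Q ∧ Nat.card (Q ⊓ centralizer ({t} : Set G) : Subgroup G) ^ 2 ≠ Nat.card Q)
    (hG : ∀ f : G →* A, f t = 1) : False := by
  obtain ⟨g, hg, hg1, hg2, hg3⟩ := GTwoFour.TransferTL.exists_extremal S φ t hG ht htS
    (fun h => htQ ((hφ ⟨t, htS⟩).1 h)) hodd
  by_cases hgt : t⁻¹ * (g⁻¹ * t * g) ∈ Q
  · obtain ⟨x, hx, e⟩ := hcl g hg hgt hg2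
    exact hg3 x hx e
  have hgQ : g⁻¹ * t * g ∉ Q := fun h => hg1 ((hφ _).2 h)
  have hgg : g⁻¹ * t * g * (g⁻¹ * t * g) = 1 := by
    calc g⁻¹ * t * g * (g⁻¹ * t * g) = g⁻¹ * (t * t) * g := by group
      _ = 1 := by rw [ht]; group
  obtain ⟨hF, hne⟩ := hfree _ hg hgg hgQ hgt
  have hn : S ≤ normalizer (Q : Set G) := by
    intro x hx
    rw [mem_normalizer_iff]
    intro y
    constructor
    · intro hy
      have h1 : x * y * x⁻¹ ∈ S := mul_mem (mul_mem hx (hQS hy)) (inv_mem hx)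
      apply (hφ ⟨_, h1⟩).1
      have e : (⟨x * y * x⁻¹, h1⟩ : S) = ⟨x, hx⟩ * ⟨y, hQS hy⟩ * ⟨x, hx⟩⁻¹ := rfl
      rw [e, map_mul, map_mul, map_inv, (hφ ⟨y, hQS hy⟩).2 hy, mul_one, mul_inv_cancel]
    · intro hy
      have h1 : y ∈ S := by
        have h2 := mul_mem (mul_mem (inv_mem hx) (hQS hy)) hx
        have e : x⁻¹ * (x * y * x⁻¹) * x = y := by group
        rwa [e] at h2
      apply (hφ ⟨y, h1⟩).1
      have e : (⟨y, h1⟩ : S) = ⟨x, hx⟩⁻¹ * ⟨x * y * x⁻¹, hQS hy⟩ * ⟨x, hx⟩ := by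
        apply Subtype.ext
        change y = x⁻¹ * (x * y * x⁻¹) * x
        group
      rw [e, map_mul, map_mul, map_inv, (hφ ⟨_, hQS hy⟩).2 hy, mul_one, inv_mul_cancel]
  have hc : ∀ x ∈ S, x⁻¹ * (g⁻¹ * t * g * x * (g⁻¹ * t * g)⁻¹) ∈ Q := by
    intro x hx
    have h1 : x⁻¹ * (g⁻¹ * t * g * x * (g⁻¹ * t * g)⁻¹) ∈ S :=
      mul_mem (inv_mem hx) (mul_mem (mul_mem hg hx) (inv_mem hg))
    apply (hφ ⟨_, h1⟩).1
    have e : (⟨x⁻¹ * (g⁻¹ * t * g * x * (g⁻¹ * t * g)⁻¹), h1⟩ : S) =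
        ⟨x, hx⟩⁻¹ * (⟨g⁻¹ * t * g, hg⟩ * ⟨x, hx⟩ * ⟨g⁻¹ * t * g, hg⟩⁻¹) := rfl
    rw [e, map_mul, map_mul, map_mul, map_inv, map_inv, mul_comm (φ ⟨g⁻¹ * t * g, hg⟩), mul_inv_cancel_right,
      inv_mul_cancel]
  have c1 := hF.card_cover hgg hQS hn hc
  have c2 := hF.card_sq hgg
  have c3 := card_eq_of_odd hS hodd hg2
  -- the product formula for `t`
  have hcov' : S = Q ⊔ (S ⊓ centralizer ({t} : Set G)) := by
    apply le_antisymm
    · intro x hx
      obtain ⟨r, hr, he⟩ := hcov x hx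
      have h2 : x * r ∈ S ⊓ centralizer ({t} : Set G) :=
        ⟨mul_mem hx (hQS hr), mem_centralizer_singleton_iff.2 he⟩
      have : x = (x * r) * r⁻¹ := by group
      rw [this]
      exact mul_mem (mem_sup_right h2) (mem_sup_left (inv_mem hr))
    · exact sup_le hQS inf_le_left
  have h2 := card_mul_card hQS (inf_le_left : S ⊓ centralizer ({t} : Set G) ≤ S) hn hcov'
  have h3 : Q ⊓ (S ⊓ centralizer ({t} : Set G)) = Q ⊓ centralizer ({t} : Set G) := by
    rw [← inf_assoc, inf_eq_left.2 hQS]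
  rw [h3, c3] at h2
  apply hne
  rw [← c2]
  congr 1
  have h0 : 0 < Nat.card S := Nat.card_pos
  apply Nat.eq_of_mul_eq_mul_left h0
  rw [h2, ← c1, mul_comm]

/-- `S = Q C_S(t)`, `u ∈ S` extremal: `|C_Q(u)| ≥ |C_Q(t)|` if `S / Q` has at most `|S / Q|` elements centralising `u` -/
theorem card_inf_le [Finite G] {S Q : Subgroup G} {t g : G} (hS : IsPGroup 2 S) (hQS : Q ≤ S)
    (hn : S ≤ normalizer (Q : Set G)) (hcov : ∀ x ∈ S, ∃ r ∈ Q, x * r * t = t * (x * r))
    (h1 : Odd (S.relIndex (centralizer ({t} : Set G))))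
    (h2 : Odd (S.relIndex (centralizer ({g⁻¹ * t * g} : Set G)))) :
    Nat.card (Q ⊓ centralizer ({t} : Set G) : Subgroup G) ≤
      Nat.card (Q ⊓ centralizer ({g⁻¹ * t * g} : Set G) : Subgroup G) := by
  have c3 := card_eq_of_odd hS h1 h2
  have hcov' : S = Q ⊔ (S ⊓ centralizer ({t} : Set G)) := by
    apply le_antisymm
    · intro x hx
      obtain ⟨r, hr, he⟩ := hcov x hx
      have h2 : x * r ∈ S ⊓ centralizer ({t} : Set G) :=
        ⟨mul_mem hx (hQS hr), mem_centralizer_singleton_iff.2 he⟩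
      have : x = (x * r) * r⁻¹ := by group
      rw [this]
      exact mul_mem (mem_sup_right h2) (mem_sup_left (inv_mem hr))
    · exact sup_le hQS inf_le_left
  have e1 := card_mul_card hQS (inf_le_left : S ⊓ centralizer ({t} : Set G) ≤ S) hn hcov'
  have e2 : Q ⊓ (S ⊓ centralizer ({t} : Set G)) = Q ⊓ centralizer ({t} : Set G) := by
    rw [← inf_assoc, inf_eq_left.2 hQS]
  rw [e2] at e1
  -- the group `Q C_S(u)`
  set D := S ⊓ centralizer ({g⁻¹ * t * g} : Set G) with hD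
  have hDn : (Q ⊔ D : Subgroup G) ≤ normalizer (Q : Set G) :=
    sup_le le_normalizer (inf_le_left.trans hn)
  have e3 := card_mul_card (B := Q) (C := Q ⊔ D) (D := D) le_sup_left le_sup_right hDn rfl
  have e4 : Q ⊓ D = Q ⊓ centralizer ({g⁻¹ * t * g} : Set G) := by
    rw [hD, ← inf_assoc, inf_eq_left.2 hQS]
  rw [e4, ← c3, ← e1] at e3
  have h5 : Nat.card (Q ⊔ D : Subgroup G) ≤ Nat.card S :=
    Nat.card_le_card_of_injective (Subgroup.inclusion (sup_le hQS inf_le_left))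
      (Subgroup.inclusion_injective _)
  by_contra hlt
  push Not at hlt
  have h6 : 0 < Nat.card S := Nat.card_pos
  have h7 : Nat.card (Q ⊔ D : Subgroup G) * Nat.card (Q ⊓ centralizer ({g⁻¹ * t * g} : Set G) : Subgroup G) <
      Nat.card S * Nat.card (Q ⊓ centralizer ({t} : Set G) : Subgroup G) :=
    calc _ ≤ Nat.card S * Nat.card (Q ⊓ centralizer ({g⁻¹ * t * g} : Set G) : Subgroup G) :=
          Nat.mul_le_mul_right _ h5
      _ < _ := Nat.mul_lt_mul_of_pos_left hlt h6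
  omega

/-- `S` normalises the kernel -/
theorem le_normalizer_of_ker {A : Type*} [CommGroup A] {S Q : Subgroup G} (hQS : Q ≤ S) (φ : S →* A)
    (hφ : ∀ x : S, φ x = 1 ↔ (x : G) ∈ Q) : S ≤ normalizer (Q : Set G) := by
  intro x hx
  rw [mem_normalizer_iff]
  intro y
  constructor
  · intro hy
    have h1 : x * y * x⁻¹ ∈ S := mul_mem (mul_mem hx (hQS hy)) (inv_mem hx)
    apply (hφ ⟨_, h1⟩).1
    have e : (⟨x * y * x⁻¹, h1⟩ : S) = ⟨x, hx⟩ * ⟨y, hQS hy⟩ * ⟨x, hx⟩⁻¹ := rfl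
    rw [e, map_mul, map_mul, map_inv, (hφ ⟨y, hQS hy⟩).2 hy, mul_one, mul_inv_cancel]
  · intro hy
    have h1 : y ∈ S := by
      have h2 := mul_mem (mul_mem (inv_mem hx) (hQS hy)) hx
      have e : x⁻¹ * (x * y * x⁻¹) * x = y := by group
      rwa [e] at h2
    apply (hφ ⟨y, h1⟩).1
    have e : (⟨y, h1⟩ : S) = ⟨x, hx⟩⁻¹ * ⟨x * y * x⁻¹, hQS hy⟩ * ⟨x, hx⟩ := by
      apply Subtype.ext
      change y = x⁻¹ * (x * y * x⁻¹) * x
      group
    rw [e, map_mul, map_mul, map_inv, (hφ ⟨_, hQS hy⟩).2 hy, mul_one, inv_mul_cancel]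

/-- **The end**, with the hypothesis on `t Q` inside `Q ⟨t⟩`: the conjugates `u` of `t` in `t Q` with
`|C_Q(u)| ≥ |C_Q(t)|` are `Q`-conjugate to `t`. -/
theorem false_of_inner [Finite G] {A : Type*} [CommGroup A] {S Q : Subgroup G} {t : G} (hS : IsPGroup 2 S)
    (hQS : Q ≤ S) (φ : S →* A) (hφ : ∀ x : S, φ x = 1 ↔ (x : G) ∈ Q) (ht : t * t = 1) (htS : t ∈ S) (htQ : t ∉ Q)
    (hcov : ∀ x ∈ S, ∃ r ∈ Q, x * r * t = t * (x * r))
    (hodd : Odd (S.relIndex (centralizer ({t} : Set G))))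
    (hcl : ∀ g : G, t⁻¹ * (g⁻¹ * t * g) ∈ Q → Nat.card (Q ⊓ centralizer ({t} : Set G) : Subgroup G) ≤
      Nat.card (Q ⊓ centralizer ({g⁻¹ * t * g} : Set G) : Subgroup G) → ∃ x ∈ Q, g⁻¹ * t * g = x⁻¹ * t * x)
    (hfree : ∀ u ∈ S, u * u = 1 → u ∉ Q → t⁻¹ * u ∉ Q →
      FreeSer u Q ∧ Nat.card (Q ⊓ centralizer ({t} : Set G) : Subgroup G) ^ 2 ≠ Nat.card Q)
    (hG : ∀ f : G →* A, f t = 1) : False := by
  refine false_of_partial hS hQS φ hφ ht htS htQ hcov hodd (fun g hg hgt h2 => ?_) hfree hG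
  obtain ⟨x, hx, e⟩ := hcl g hgt
    (card_inf_le hS hQS (le_normalizer_of_ker hQS φ hφ) hcov hodd h2)
  exact ⟨x, hQS hx, e⟩

end Cfsg.Agent.OddHalf.SpN

end

-- merged: Cfsg.Agent.OddHalf.SpN.FreeLift
section

/-!
# Free series: scalars, products (helper859)

* `FreeSer.torus` : a factor `A / B` which is elementary abelian is free for the involution `u` if there are `g`, `g'`
  ("scalars" `c`, `σ c` with `c + σ c = 1`) with `a^g a^{g'} = a` and `u g = g' u` on `A / B`;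
* `FreeSer.lift` : `FreeSer u A`, `FreeSer (u b) B`, `b ∈ B`, `A` normalises `B`, `A ∩ B = 1`: `FreeSer (u b) (A B)`.
-/

set_option autoImplicit false

namespace Cfsg.Agent.OddHalf.SpN

open Subgroup

variable {G : Type*} [Group G]

/-- an elementary abelian factor on which `u` is semilinear -/
theorem FreeSer.torus [Finite G] {u : G} (huu : u * u = 1) {A B : Subgroup G} (hB : FreeSer u B) (hBA : B ≤ A)
    (hsA : ∀ a ∈ A, u * a * u⁻¹ ∈ A)
    (hcomm : ∀ a ∈ A, ∀ b ∈ A, a * b * a⁻¹ * b⁻¹ ∈ B) (hsq : ∀ a ∈ A, a * a ∈ B)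
    (g g' : G) (hg : ∀ a ∈ A, g * a * g⁻¹ ∈ A) (hgB' : ∀ b ∈ B, g' * b * g'⁻¹ ∈ B)
    (hadd : ∀ a ∈ A, g * a * g⁻¹ * (g' * a * g'⁻¹) * a⁻¹ ∈ B)
    (hsemi : ∀ a ∈ A, (g' * (u * a * u⁻¹) * g'⁻¹)⁻¹ * (u * (g * a * g⁻¹) * u⁻¹) ∈ B) : FreeSer u A := by
  have hn : ∀ a ∈ A, ∀ b ∈ B, a * b * a⁻¹ ∈ B := by
    intro a ha b hb
    have e : a * b * a⁻¹ = (a * b * a⁻¹ * b⁻¹) * b := by group
    rw [e]
    exact mul_mem (hcomm a ha b (hBA hb)) hb
  have hN : (B.subgroupOf A).Normal := ⟨fun b hb a => by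
    rw [mem_subgroupOf] at hb ⊢
    exact hn a a.2 b hb⟩
  let _ : CommGroup (A ⧸ B.subgroupOf A) :=
    { (inferInstance : Group (A ⧸ B.subgroupOf A)) with
      mul_comm := by
        intro x y
        obtain ⟨a, rfl⟩ := QuotientGroup.mk_surjective x
        obtain ⟨b, rfl⟩ := QuotientGroup.mk_surjective y
        rw [← QuotientGroup.mk_mul, ← QuotientGroup.mk_mul, QuotientGroup.eq, mem_subgroupOf]
        have h1 := hcomm _ (inv_mem b.2) _ (inv_mem a.2)
        have h2 : ((a * b)⁻¹ * (b * a) : A) = b⁻¹ * a⁻¹ * b * a := by group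
        rw [h2]
        simpa using h1 }
  have key : ∀ a b : A, ((a : A ⧸ B.subgroupOf A) = b) ↔ (a : G)⁻¹ * b ∈ B := by
    intro a b
    rw [QuotientGroup.eq, mem_subgroupOf]
    rfl
  let cu : A →* A :=
    { toFun := fun a => ⟨u * a * u⁻¹, hsA a a.2⟩
      map_one' := Subtype.ext (by simp)
      map_mul' := fun a b => Subtype.ext (by
        change u * ((a : G) * b) * u⁻¹ = u * a * u⁻¹ * (u * b * u⁻¹)
        group) }
  have hcu : B.subgroupOf A ≤ (B.subgroupOf A).comap cu := by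
    intro b hb
    rw [mem_comap, mem_subgroupOf]
    rw [mem_subgroupOf] at hb
    exact hB.inv b hb
  let σ : Additive (A ⧸ B.subgroupOf A) →+ Additive (A ⧸ B.subgroupOf A) :=
    MonoidHom.toAdditive (QuotientGroup.map (B.subgroupOf A) (B.subgroupOf A) cu hcu)
  let π : A →* Multiplicative (Additive (A ⧸ B.subgroupOf A)) :=
    { toFun := fun a => Multiplicative.ofAdd (Additive.ofMul (a : A ⧸ B.subgroupOf A))
      map_one' := rfl
      map_mul' := fun a b => rfl }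
  have hσ : ∀ a : A, σ (Additive.ofMul (a : A ⧸ B.subgroupOf A)) =
      Additive.ofMul ((cu a : A) : A ⧸ B.subgroupOf A) := fun a => rfl
  refine hB.module (V := Additive (A ⧸ B.subgroupOf A)) (σ := σ) ?_ ?_ ?_ hBA hn hsA π ?_ ?_ ?_
  · intro x
    obtain ⟨a, ha⟩ := QuotientGroup.mk_surjective (Additive.toMul x)
    have h1 : x = Additive.ofMul (a : A ⧸ B.subgroupOf A) := by rw [ha]; rfl
    rw [h1, ← ofMul_mul, ← QuotientGroup.mk_mul]
    have h2 : ((a * a : A) : A ⧸ B.subgroupOf A) = ((1 : A) : A ⧸ B.subgroupOf A) := by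
      rw [key]
      have := inv_mem (hsq a a.2)
      simpa using this
    rw [h2]
    rfl
  · intro x
    obtain ⟨a, ha⟩ := QuotientGroup.mk_surjective (Additive.toMul x)
    have h1 : x = Additive.ofMul (a : A ⧸ B.subgroupOf A) := by rw [ha]; rfl
    rw [h1, hσ, hσ]
    congr 2
    apply Subtype.ext
    change u * (u * (a : G) * u⁻¹) * u⁻¹ = a
    have hu : u⁻¹ = u := inv_eq_of_mul_eq_one_left huu
    calc u * (u * (a : G) * u⁻¹) * u⁻¹ = (u * u) * a * (u⁻¹ * u⁻¹) := by group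
      _ = a := by rw [hu, huu]; group
  · intro x hx
    obtain ⟨a, ha⟩ := QuotientGroup.mk_surjective (Additive.toMul x)
    have h1 : x = Additive.ofMul (a : A ⧸ B.subgroupOf A) := by rw [ha]; rfl
    rw [h1] at hx ⊢
    rw [hσ] at hx
    have h2 : (a : G)⁻¹ * (u * a * u⁻¹) ∈ B := (key _ _).1 (Additive.ofMul.injective hx).symm
    refine ⟨Additive.ofMul (((⟨g * a * g⁻¹, hg a a.2⟩ : A)) : A ⧸ B.subgroupOf A), ?_⟩
    rw [hσ, ← ofMul_mul, ← QuotientGroup.mk_mul]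
    congr 1
    rw [eq_comm, key]
    change (g * (a : G) * g⁻¹ * (u * (g * (a : G) * g⁻¹) * u⁻¹))⁻¹ * a ∈ B
    have h3 := hsemi a a.2
    have h4 := hgB' _ h2
    have h5 := hadd a a.2
    -- `u (g a g⁻¹) u⁻¹ = g' a g'⁻¹ b`
    have e1 : u * (g * (a : G) * g⁻¹) * u⁻¹ = g' * a * g'⁻¹ * ((g' * ((a : G)⁻¹ * (u * a * u⁻¹)) * g'⁻¹) *
        ((g' * (u * a * u⁻¹) * g'⁻¹)⁻¹ * (u * (g * a * g⁻¹) * u⁻¹))) := by group
    set b := (g' * ((a : G)⁻¹ * (u * a * u⁻¹)) * g'⁻¹) *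
        ((g' * (u * a * u⁻¹) * g'⁻¹)⁻¹ * (u * (g * a * g⁻¹) * u⁻¹)) with hb
    have hbB : b ∈ B := mul_mem h4 h3
    rw [e1]
    have e2 : (g * (a : G) * g⁻¹ * (g' * a * g'⁻¹ * b))⁻¹ * a =
        b⁻¹ * ((a : G)⁻¹ * (g * a * g⁻¹ * (g' * a * g'⁻¹) * (a : G)⁻¹) * (a : G)⁻¹⁻¹)⁻¹ := by group
    rw [e2]
    exact mul_mem (inv_mem hbB) (inv_mem (hn _ (inv_mem a.2) _ h5))
  · intro x
    obtain ⟨a, ha⟩ := QuotientGroup.mk_surjective (Additive.toMul (Multiplicative.toAdd x))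
    exact ⟨a, congrArg (fun y => Multiplicative.ofAdd (Additive.ofMul y)) ha⟩
  · intro a
    constructor
    · intro h
      have h1 : (a : A ⧸ B.subgroupOf A) = ((1 : A) : A ⧸ B.subgroupOf A) := h
      rw [key] at h1
      have := inv_mem h1
      simpa using this
    · intro h
      have h1 : (a : A ⧸ B.subgroupOf A) = ((1 : A) : A ⧸ B.subgroupOf A) := by
        rw [key]
        have := inv_mem h
        simpa using this
      change Multiplicative.ofAdd (Additive.ofMul (a : A ⧸ B.subgroupOf A)) = 1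
      rw [h1]
      rfl
  · intro a
    rfl

/-- products -/
theorem FreeSer.lift [Finite G] {u b : G} {B : Subgroup G} (hb : b ∈ B) (huB : ∀ x ∈ B, u * x * u⁻¹ ∈ B)
    (hB : FreeSer (u * b) B) {A : Subgroup G} (hA : FreeSer u A) :
    (∀ a ∈ A, ∀ x ∈ B, a * x * a⁻¹ ∈ B) → (∀ x ∈ A, x ∈ B → x = 1) → FreeSer (u * b) (A ⊔ B) := by
  induction hA with
  | bot =>
    intro _ _
    rwa [bot_sup_eq]
  | @step A A₁ hA₁ hle hn hsA hsB h1 hcard ih =>
    intro hAB hdisj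
    have ih' := ih (fun a ha => hAB a (hle ha)) (fun x hx => hdisj x (hle hx))
    have dec : ∀ g ∈ A ⊔ B, ∃ a ∈ A, ∃ x ∈ B, g = a * x := fun g hg => F4.EndO.exists_mul hAB hg
    have dec₁ : ∀ g ∈ A₁ ⊔ B, ∃ a ∈ A₁, ∃ x ∈ B, g = a * x := fun g hg =>
      F4.EndO.exists_mul (fun a ha => hAB a (hle ha)) hg
    have hle' : A₁ ⊔ B ≤ A ⊔ B := sup_le_sup_right hle B
    have hBle : B ≤ A₁ ⊔ B := le_sup_right
    have conjB : ∀ a ∈ A, ∀ x ∈ B, a⁻¹ * x * a ∈ B := by
      intro a ha x hx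
      have := hAB a⁻¹ (inv_mem ha) x hx
      rwa [inv_inv] at this
    -- `A ∩ A₁ B = A₁`
    have hmod : ∀ a ∈ A, a ∈ A₁ ⊔ B → a ∈ A₁ := by
      intro a ha ha'
      obtain ⟨a₁, ha₁, x, hx, e⟩ := dec₁ a ha'
      have h2 : x = a₁⁻¹ * a := by rw [e]; group
      have h3 : x = 1 := hdisj x (by rw [h2]; exact mul_mem (inv_mem (hle ha₁)) ha) hx
      rw [e, h3, mul_one]; exact ha₁
    -- the action
    have act : ∀ a ∈ A, ∀ x ∈ B, ∃ y ∈ B, u * b * (a * x) * (u * b)⁻¹ = u * a * u⁻¹ * y := by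
      intro a ha x hx
      refine ⟨u * ((a⁻¹ * b * a) * x * b⁻¹) * u⁻¹, huB _ (mul_mem (mul_mem (conjB a ha b hb) hx) (inv_mem hb)), ?_⟩
      group
    have hsA' : ∀ g ∈ A ⊔ B, u * b * g * (u * b)⁻¹ ∈ A ⊔ B := by
      intro g hg
      obtain ⟨a, ha, x, hx, rfl⟩ := dec g hg
      obtain ⟨y, hy, e⟩ := act a ha x hx
      rw [e]
      exact mul_mem (mem_sup_left (hsA a ha)) (mem_sup_right hy)
    have hn' : ∀ g ∈ A ⊔ B, ∀ y ∈ A₁ ⊔ B, g * y * g⁻¹ ∈ A₁ ⊔ B := by
      intro g hg y hy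
      obtain ⟨a, ha, x, hx, rfl⟩ := dec g hg
      obtain ⟨a₁, ha₁, x₁, hx₁, rfl⟩ := dec₁ y hy
      have e : a * x * (a₁ * x₁) * (a * x)⁻¹ =
          (a * a₁ * a⁻¹) * (a * ((a₁⁻¹ * x * a₁) * x₁ * x⁻¹) * a⁻¹) := by group
      rw [e]
      refine mul_mem (mem_sup_left (hn a ha a₁ ha₁)) (mem_sup_right (hAB a ha _ ?_))
      exact mul_mem (mul_mem (conjB a₁ (hle ha₁) x hx) hx₁) (inv_mem hx)
    refine FreeSer.step ih' hle' hn' hsA' ih'.inv ?_ ?_
    · intro g hg hgg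
      obtain ⟨a, ha, x, hx, rfl⟩ := dec g hg
      obtain ⟨y, hy, e⟩ := act a ha x hx
      rw [e] at hgg
      -- `a x (u a u⁻¹) y`
      have hua := hsA a ha
      have h2 : a * (u * a * u⁻¹) ∈ A₁ ⊔ B := by
        have e2 : a * (u * a * u⁻¹) = a * x * (u * a * u⁻¹ * y) *
            (y⁻¹ * ((u * a * u⁻¹)⁻¹ * x⁻¹ * (u * a * u⁻¹))) := by group
        rw [e2]
        exact mul_mem hgg (hBle (mul_mem (inv_mem hy) (conjB _ hua _ (inv_mem hx))))
      obtain ⟨r, hr, hr2⟩ := h1 a ha (hmod _ (mul_mem ha hua) h2)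
      refine ⟨r, mem_sup_left hr, ?_⟩
      obtain ⟨z, hz, ez⟩ := act r⁻¹ (inv_mem hr) 1 (one_mem _)
      rw [mul_one] at ez
      rw [ez]
      have e3 : (r * (u * r⁻¹ * u⁻¹ * z))⁻¹ * (a * x) = z⁻¹ * ((r * (u * r⁻¹ * u⁻¹))⁻¹ * a) * x := by group
      rw [e3]
      exact mul_mem (mul_mem (hBle (inv_mem hz)) (mem_sup_left hr2)) (hBle hx)
    · -- cardinalities
      have c0 : ∀ C : Subgroup G, C ≤ A → Nat.card (C ⊔ B : Subgroup G) = Nat.card C * Nat.card B := by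
        intro C hC
        have hCB : ∀ a ∈ C, ∀ x ∈ B, a * x * a⁻¹ ∈ B := fun a ha => hAB a (hC ha)
        rw [← Nat.card_prod]
        symm
        refine Nat.card_congr (Equiv.ofBijective (fun z : C × B => (⟨z.1 * z.2,
          mul_mem (mem_sup_left z.1.2) (mem_sup_right z.2.2)⟩ : (C ⊔ B : Subgroup G))) ⟨?_, ?_⟩)
        · rintro ⟨⟨x, hx⟩, ⟨s, hs⟩⟩ ⟨⟨y, hy⟩, ⟨r, hr⟩⟩ he
          have h2 : x * s = y * r := congrArg (fun z : (C ⊔ B : Subgroup G) => (z : G)) he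
          have h3 : y⁻¹ * x = r * s⁻¹ := by
            rw [inv_mul_eq_iff_eq_mul, ← mul_assoc, eq_mul_inv_iff_mul_eq]; exact h2
          have h4 : y⁻¹ * x = 1 := hdisj _ (hC (mul_mem (inv_mem hy) hx)) (by
            rw [h3]; exact mul_mem hr (inv_mem hs))
          have h5 : x = y := (inv_mul_eq_one.1 h4).symm
          subst h5
          have h6 : s = r := mul_left_cancel h2
          subst h6
          rfl
        · rintro ⟨g, hg⟩
          obtain ⟨a, ha, x, hx, rfl⟩ := F4.EndO.exists_mul hCB hg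
          exact ⟨(⟨a, ha⟩, ⟨x, hx⟩), rfl⟩
      have iff1 : ∀ a ∈ A, ∀ x ∈ B, (a * x)⁻¹ * (u * b * (a * x) * (u * b)⁻¹) ∈ A₁ ⊔ B ↔
          a⁻¹ * (u * a * u⁻¹) ∈ A₁ := by
        intro a ha x hx
        obtain ⟨y, hy, e⟩ := act a ha x hx
        rw [e]
        have hua := hsA a ha
        have hC : a⁻¹ * (u * a * u⁻¹) ∈ A := mul_mem (inv_mem ha) hua
        have e2 : (a * x)⁻¹ * (u * a * u⁻¹ * y) = a⁻¹ * (u * a * u⁻¹) *
            (((a⁻¹ * (u * a * u⁻¹))⁻¹ * x⁻¹ * (a⁻¹ * (u * a * u⁻¹))) * y) := by group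
        rw [e2]
        have hyy := mul_mem (conjB _ hC _ (inv_mem hx)) hy
        constructor
        · intro h
          refine hmod _ hC ?_
          have := mul_mem h (hBle (inv_mem hyy))
          rwa [mul_assoc, mul_inv_cancel, mul_one] at this
        · intro h
          exact mul_mem (mem_sup_left h) (hBle hyy)
      let C : Subgroup G :=
        { carrier := {x | x ∈ A ∧ x⁻¹ * (u * x * u⁻¹) ∈ A₁}
          one_mem' := ⟨one_mem _, by simp⟩
          mul_mem' := by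
            rintro x y ⟨hx, hx'⟩ ⟨hy, hy'⟩
            refine ⟨mul_mem hx hy, ?_⟩
            have e : (x * y)⁻¹ * (u * (x * y) * u⁻¹) =
                (y⁻¹ * (x⁻¹ * (u * x * u⁻¹)) * y⁻¹⁻¹) * (y⁻¹ * (u * y * u⁻¹)) := by group
            rw [e]
            exact mul_mem (hn y⁻¹ (inv_mem hy) _ hx') hy'
          inv_mem' := by
            rintro x ⟨hx, hx'⟩
            refine ⟨inv_mem hx, ?_⟩
            have e : x⁻¹⁻¹ * (u * x⁻¹ * u⁻¹) = x * (x⁻¹ * (u * x * u⁻¹))⁻¹ * x⁻¹ := by group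
            rw [e]
            exact hn x hx _ (inv_mem hx') }
      have hCA : C ≤ A := fun x hx => hx.1
      have hC : Nat.card C ^ 2 = Nat.card A * Nat.card A₁ := hcard
      have e1 : Nat.card {x : G // x ∈ A ⊔ B ∧ x⁻¹ * (u * b * x * (u * b)⁻¹) ∈ A₁ ⊔ B} =
          Nat.card (C ⊔ B : Subgroup G) := by
        apply Nat.card_congr
        refine Equiv.subtypeEquivRight fun g => ?_
        constructor
        · rintro ⟨hg, hg'⟩
          obtain ⟨a, ha, x, hx, rfl⟩ := dec g hg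
          exact mul_mem (mem_sup_left ⟨ha, (iff1 a ha x hx).1 hg'⟩) (mem_sup_right hx)
        · intro hg
          obtain ⟨a, ha, x, hx, rfl⟩ := F4.EndO.exists_mul (fun a ha => hAB a (hCA ha)) hg
          exact ⟨mul_mem (mem_sup_left ha.1) (mem_sup_right hx), (iff1 a ha.1 x hx).2 ha.2⟩
      rw [e1, c0 C hCA, c0 A le_rfl, c0 A₁ hle, mul_pow, hC]
      ring

end Cfsg.Agent.OddHalf.SpN

end

-- merged: Cfsg.Agent.OddHalf.SpN.OutTwo
section

/-!
# ODD D7, `K = Sp_2n(q)`: small facts for the outer 2-part (helper859)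

* `Frame.Up_max` : `R.Up` is a maximal 2-subgroup of `K`;
* `Frame.Sem.eq_one_of_Up` : an element of `U` acting as `diag ∘ σ` is `1`;
* `Frame.OutT.conj_Up` : `T` normalises `U`.
-/

set_option autoImplicit false

namespace Cfsg.Agent.OddHalf.SpN

open Subgroup Cfsg Cfsg.Agent.ClassicalGeometry.SympBasic Cfsg.Agent.ClassicalGeometry.SympAutSemi

variable {n : ℕ} {F : Type*} [Field F] {G : Type*} [Group G]

namespace Frame

variable {R : Frame n F G}

/-- `T` normalises `U` -/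
theorem OutT.conj_Up {T : Subgroup G} (h : R.OutT T) {y u : G} (hy : y ∈ T) (hu : u ∈ R.Up) :
    y * u * y⁻¹ ∈ R.Up := by
  obtain ⟨A, -, rfl⟩ := id hu
  obtain ⟨B, hB⟩ := R.nK y (h.Tc y hy) A
  rw [hB]
  apply h.TK
  rw [← hB]
  exact mul_mem (mul_mem hy (h.UT hu)) (inv_mem hy)

variable (R) in
/-- `U` is a maximal 2-subgroup of `K` -/
theorem Up_max [CharP F 2] [Finite F] [Finite G] {P : Subgroup G} (hP : IsPGroup 2 P) (hPK : P ≤ R.K) (hU : R.Up ≤ P) :
    P ≤ R.Up := by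
  have h1 : R.Up.relIndex P * P.relIndex R.K = R.Up.relIndex R.K := relIndex_mul_relIndex _ _ _ hU hPK
  have h2 : Odd (R.Up.relIndex P) := Odd.of_dvd_nat R.odd_Up (Dvd.intro _ h1)
  obtain ⟨a, ha⟩ := IsPGroup.iff_card.mp hP
  have h3 : R.Up.relIndex P ∣ 2 ^ a := by rw [← ha]; exact relIndex_dvd_card _ _
  obtain ⟨b, -, hb⟩ := (Nat.dvd_prime_pow Nat.prime_two).1 h3
  have h4 : b = 0 := by
    by_contra hb0
    rw [hb] at h2
    exact (Nat.not_even_iff_odd.2 h2) (Even.pow_of_ne_zero even_two hb0)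
  rw [h4, pow_zero] at hb
  exact relIndex_eq_one.1 hb

/-- an element of `U` acting as `diag ∘ σ` is `1` -/
theorem Sem.eq_one_of_Up [CharP F 2] [Finite F] (hn : 3 ≤ n) {y : G} {σ : F ≃+* F} {lam : Fin n → Fˣ}
    (hs : R.Sem y σ lam) (hy : y ∈ R.Up) : y = 1 := by
  have hσ : σ = 1 := hs.eq_one_of_mem (by omega) hy
  subst hσ
  -- powers
  have hpow : ∀ m : ℕ, ∀ i a, y ^ m * R.y i a * (y ^ m)⁻¹ = R.y i (((ev lam i : F) ^ 2) ^ m * a) := by
    intro m i
    induction m with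
    | zero => intro a; simp
    | succ m ih =>
      intro a
      have e : y ^ (m + 1) * R.y i a * (y ^ (m + 1))⁻¹ = y ^ m * (y * R.y i a * y⁻¹) * (y ^ m)⁻¹ := by
        rw [pow_succ]; group
      have h1 := hs.yy i a
      change y * R.y i a * y⁻¹ = R.y i ((ev lam i : F) ^ 2 * a) at h1
      rw [e, h1, ih]
      congr 1
      ring
  obtain ⟨k, hk⟩ := R.Up_isPGroup ⟨y, hy⟩
  have hk' : y ^ 2 ^ k = 1 := congrArg Subtype.val hk
  have hc : ∀ i, (ev lam i : F) ^ 2 = 1 := by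
    intro i
    have h1 := hpow (2 ^ k) i 1
    rw [hk', one_mul, inv_one, mul_one, mul_one] at h1
    have h2 := R.y_inj h1
    have h3 : ∀ (m : ℕ) (a : F), a ^ 2 ^ m = 1 → a = 1 := by
      intro m
      induction m with
      | zero => intro a h; simpa using h
      | succ m ih =>
        intro a h
        rw [pow_succ, pow_mul, pow_two] at h
        have h4 : (a ^ 2 ^ m + 1) * (a ^ 2 ^ m + 1) = 0 := by
          rw [CharTwo.add_mul_self, h, one_mul, CharTwo.add_self_eq_zero]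
        have h5 := mul_self_eq_zero.1 h4
        apply ih
        rw [add_eq_zero_iff_eq_neg, CharTwo.neg_eq] at h5
        exact h5
    exact h3 k _ h2.symm
  obtain ⟨A, -, rfl⟩ := id hy
  have hcomm : ∀ i, Commute A (sy i 1) := by
    intro i
    apply R.inj
    have h1 := hs.yy i 1
    change R.ι A * R.ι (sy i 1) * (R.ι A)⁻¹ = R.ι (sy i ((ev lam i : F) ^ 2 * 1)) at h1
    rw [hc, one_mul, mul_inv_eq_iff_eq_mul] at h1
    rw [map_mul, map_mul]
    exact h1
  have hA : A = 1 := by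
    apply rho_injective
    rw [map_one]
    refine Out.SI.ext (Out.SI.of_rho A) Out.SI.one fun i => ?_
    rw [Out.fix_of_comm_sy (hcomm i)]
    rfl
  rw [hA, map_one]

end Frame

end Cfsg.Agent.OddHalf.SpN

end

-- merged: Cfsg.Agent.OddHalf.Out.FreeEnd
section

/-!
# END with an outer 2-part, when the outer involutions act freely on the factors of `U*`

Frame `Out.Exclude.Fr` (`T` Sylow in `C_G(t)`, `U* = Us` a 2-group normalised by `T`, `U = C_{U*}(t)`, `T / U` abelian,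
`S = T U*`).  If every involution `u ∈ S` outside `U*` and `t U*` is free on `U*` (`FreeSer u U*`, so that
`|C_{U*}(u)|² = |U*|` and `C_S(u)` covers `S / U*`), `|U|² ≠ |U*|`, and the involutions of `t U*` which matter are
conjugate to `t`, then `t` is not in the commutator subgroup of `G`.

`of_freeC`: the hypothesis on the outer involutions in the form needed: all `d ∈ T` with `d² ∈ U` lie in
`⟨t, s⟩ U`, and `U*` has a series with factors centralised by `⟨t⟩ U*` on which `s` acts freely (`FreeC`).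
-/

set_option autoImplicit false

namespace Cfsg.Agent.OddHalf.Out.FreeEnd

open Subgroup Exclude SpN

variable {G : Type*} [Group G] {t : G} {T U Us : Subgroup G}

/-- `|T| |U*| = |S| |U|` -/
theorem card_S [Finite G] (F : Fr t T U Us) : Nat.card F.S * Nat.card U = Nat.card Us * Nat.card T := by
  have hn : F.S ≤ normalizer (Us : Set G) := by
    intro x hx
    rw [mem_normalizer_iff]
    intro y
    constructor
    · exact fun hy => F.S_norm hx hy
    · intro hy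
      have := F.S_norm (inv_mem hx) hy
      have e : x⁻¹ * (x * y * x⁻¹) * x⁻¹⁻¹ = y := by group
      rwa [e] at this
  have h1 : F.S = Us ⊔ T := by
    apply le_antisymm
    · rintro _ ⟨d, hd, w, hw, rfl⟩
      exact mul_mem (mem_sup_right hd) (mem_sup_left hw)
    · exact sup_le F.Us_le F.T_le
  have h2 := card_mul_card F.Us_le F.T_le hn h1
  have h5 : Us ⊓ T = U := by
    ext w
    exact ⟨fun hw => (F.hU w).2 ⟨hw.1, F.Tc w hw.2⟩, fun hw => ⟨F.le hw, F.UT hw⟩⟩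
  rwa [h5] at h2

/-- `|C_S(g⁻¹ t g)| = |T|` if `g⁻¹ T g ≤ S` -/
theorem card_cent [Finite G] (F : Fr t T U Us) {g : G} (hg : ∀ d ∈ T, g⁻¹ * d * g ∈ F.S) :
    Nat.card (F.S ⊓ centralizer ({g⁻¹ * t * g} : Set G) : Subgroup G) = Nat.card T := by
  apply le_antisymm
  · refine Nat.card_le_card_of_injective (fun x => (⟨g * x * g⁻¹,
      F.conj_mem hg x.2.1 (mem_centralizer_singleton_iff.1 x.2.2)⟩ : T)) ?_
    intro a b hab
    have h2 : g * (a : G) * g⁻¹ = g * b * g⁻¹ := congrArg Subtype.val hab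
    exact Subtype.ext (mul_left_cancel (mul_right_cancel h2))
  · refine Nat.card_le_card_of_injective
      (fun d : T => (⟨g⁻¹ * d * g, hg d d.2, mem_centralizer_singleton_iff.2 ?_⟩ :
        (F.S ⊓ centralizer ({g⁻¹ * t * g} : Set G) : Subgroup G))) ?_
    · calc g⁻¹ * d * g * (g⁻¹ * t * g) = g⁻¹ * (d * t) * g := by group
        _ = g⁻¹ * (t * d) * g := by rw [F.Tc d d.2]
        _ = g⁻¹ * t * g * (g⁻¹ * d * g) := by group
    · intro a b hab
      have h2 : g⁻¹ * (a : G) * g = g⁻¹ * b * g := congrArg Subtype.val hab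
      exact Subtype.ext (mul_left_cancel (mul_right_cancel h2))

/-- a conjugate `g⁻¹ t g` of `t` with `g⁻¹ T g ≤ S` is not free on `U*` -/
theorem card_of_free [Finite G] (F : Fr t T U Us) {g : G} (hg : ∀ d ∈ T, g⁻¹ * d * g ∈ F.S)
    (hF : FreeSer (g⁻¹ * t * g) Us) : Nat.card U ^ 2 = Nat.card Us := by
  have hn : F.S ≤ normalizer (Us : Set G) := by
    intro x hx
    rw [mem_normalizer_iff]
    intro y
    constructor
    · exact fun hy => F.S_norm hx hy
    · intro hy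
      have := F.S_norm (inv_mem hx) hy
      have e : x⁻¹ * (x * y * x⁻¹) * x⁻¹⁻¹ = y := by group
      rwa [e] at this
  have huu : g⁻¹ * t * g * (g⁻¹ * t * g) = 1 := by
    calc g⁻¹ * t * g * (g⁻¹ * t * g) = g⁻¹ * (t * t) * g := by group
      _ = 1 := by rw [F.tt]; group
  have c1 := hF.card_cover huu F.Us_le hn (fun x hx => by
    have h1 := F.comm_mem (inv_mem hx) (hg t F.tT)
    have e : x⁻¹ * (g⁻¹ * t * g) * x⁻¹⁻¹ * (g⁻¹ * t * g)⁻¹ = x⁻¹ * (g⁻¹ * t * g * x * (g⁻¹ * t * g)⁻¹) := by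
      group
    rwa [e] at h1)
  have c2 := hF.card_sq huu
  have c3 := card_cent F hg
  have c4 := card_S F
  rw [c3, mul_comm, ← c4] at c1
  have h0 : 0 < Nat.card F.S := Nat.card_pos
  rw [Nat.eq_of_mul_eq_mul_left h0 c1]
  exact c2

/-- **The end.** -/
theorem not_mem_commutator [Finite G] (F : Fr t T U Us) (htU : t ∉ Us)
    (hcl : ∀ u : G, u * u = 1 → t * u ∈ Us → IsConj t u →
      Nat.card U ≤ Nat.card (Us ⊓ centralizer ({u} : Set G) : Subgroup G) → ∃ k ∈ Us, u = k * t * k⁻¹)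
    (hfree : ∀ d ∈ T, ∀ w ∈ Us, d * w * (d * w) = 1 → d ∉ U → t * d ∉ U → d * d ∈ U → FreeSer (d * w) Us)
    (hne : Nat.card U ^ 2 ≠ Nat.card Us) : t ∉ _root_.commutator G := by
  have huu : ∀ g : G, g⁻¹ * t * g * (g⁻¹ * t * g) = 1 := by
    intro g
    calc g⁻¹ * t * g * (g⁻¹ * t * g) = g⁻¹ * (t * t) * g := by group
      _ = 1 := by rw [F.tt]; group
  refine F4.EndOut.not_mem_commutator F htU ?_ 1 (one_mem _) (by rwa [mul_one]) ?_
  · intro g hg htu
    obtain ⟨k, hk, e⟩ := hcl (g⁻¹ * t * g) (huu g) htu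
      (isConj_iff.2 ⟨g⁻¹, by group⟩) (card_le F rfl hg)
    exact ⟨k, F.Us_le hk, e⟩
  · intro g hg
    by_cases h1 : t * (g⁻¹ * t * g) ∈ Us
    · exact Or.inl h1
    by_cases h2 : g⁻¹ * t * g ∈ Us
    · exact Or.inr (Or.inl h2)
    exfalso
    obtain ⟨d, hd, w, hw, e⟩ := F.mem_S.1 (hg t F.tT)
    have hdU : d ∉ U := by
      intro h3
      apply h2
      rw [e]
      exact mul_mem (F.le h3) hw
    have htdU : t * d ∉ U := by
      intro h3
      apply h1
      rw [e, ← mul_assoc]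
      exact mul_mem (F.le h3) hw
    have hdd : d * d ∈ U := by
      refine (F.hU _).2 ⟨?_, F.Tc _ (mul_mem hd hd)⟩
      have h3 : d * w * (d * w) = 1 := by rw [← e]; exact huu g
      have h4 : d * d = (d * w * d⁻¹)⁻¹ * (d * w * (d * w)) * w⁻¹ := by group
      rw [h4, h3, mul_one]
      exact mul_mem (inv_mem (F.norm d hd w hw)) (inv_mem hw)
    apply hne
    apply card_of_free F hg
    rw [e]
    refine hfree d hd w hw ?_ hdU htdU hdd
    rw [← e]
    exact huu g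

/-- the hypothesis on the outer involutions from a free series for `s` with factors centralised by `⟨t⟩ U*` -/
theorem free_of_freeC {s : G} (hd : ∀ d ∈ T, d * d ∈ U → d ∉ U → t * d ∉ U → s * d ∈ U ∨ t * s * d ∈ U)
    (hss : s * s = 1) (htt : t * t = 1) (hUs : U ≤ Us) {Q : Subgroup G} (htQ : t ∈ Q)
    (hUQ : Us ≤ Q) (hF : FreeC s Q Us) :
    ∀ d ∈ T, ∀ w ∈ Us, d * w * (d * w) = 1 → d ∉ U → t * d ∉ U → d * d ∈ U → FreeSer (d * w) Us := by
  intro d hdT w hw _ h1 h2 h3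
  rcases hd d hdT h3 h1 h2 with h | h
  · have e : d * w = s * (s * d * w) := by
      rw [← mul_assoc, ← mul_assoc, hss, one_mul]
    rw [e]
    exact hF.free (hUQ (mul_mem (hUs h) hw))
  · have e : d * w = s * (t * (t * s * d * w)) := by
      have : s * (t * (t * s * d * w)) = s * (t * t) * s * d * w := by group
      rw [this, htt, mul_one, hss, one_mul]
    rw [e]
    exact hF.free (mul_mem htQ (hUQ (mul_mem (hUs h) hw)))

/-- **The end**, with a free series -/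
theorem end_freeC [Finite G] (F : Fr t T U Us) (htU : t ∉ Us) {s : G} (hss : s * s = 1)
    (hd : ∀ d ∈ T, d * d ∈ U → d ∉ U → t * d ∉ U → s * d ∈ U ∨ t * s * d ∈ U)
    {Q : Subgroup G} (htQ : t ∈ Q) (hUQ : Us ≤ Q) (hF : FreeC s Q Us)
    (hcl : ∀ u : G, u * u = 1 → t * u ∈ Us → IsConj t u →
      Nat.card U ≤ Nat.card (Us ⊓ centralizer ({u} : Set G) : Subgroup G) → ∃ k ∈ Us, u = k * t * k⁻¹)
    (hne : Nat.card U ^ 2 ≠ Nat.card Us) : t ∉ _root_.commutator G :=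
  not_mem_commutator F htU hcl (free_of_freeC hd hss F.tt F.le htQ hUQ hF) hne

end Cfsg.Agent.OddHalf.Out.FreeEnd

end

-- merged: Cfsg.Agent.OddHalf.SpN.COneOut
section

/-!
# ODD D7, `K = Sp_2n(q)`, `n ≥ 3`, `q ≥ 4`, pattern (C,O) with an outer 2-part (helper859)

`U*` is helper63's group `R_1 ⋯ R_n`.  `R_k / Y_k` is elementary abelian and `h_k(c)` acts on it as the scalar `c`; an
involution `y w`, `y` of field type, is semilinear on `R_k / Y_k` and on `Y_k`, hence free on `U*`.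
-/

set_option autoImplicit false

namespace Cfsg.Agent.OddHalf.SpN

open Subgroup

namespace COne

variable {n : ℕ} {F : Type*} [Field F] [CharP F 2] {G : Type*} [Group G] {R : Frame n F G} (D : COne R)

/-- the doubles are normalised by the semilinear elements -/
structure SemC (D : COne R) : Prop where
  wx : ∀ y σ lam, R.Sem y σ lam → ∀ i j, Dj i j → ∀ u, ∃ c e, y * D.wx i j u * y⁻¹ = D.wx i j c * R.x i j e
  wy : ∀ y σ lam, R.Sem y σ lam → ∀ i u, ∃ c e, y * D.wy i u * y⁻¹ = D.wy i c * R.y i e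

section free

variable [Finite F] (h3 : ∀ i j : Ix n, ∃ k, Dj i k ∧ Dj j k) {i : Ix n}

include h3 in
/-- the semilinear elements normalise `F_i` -/
theorem sem_F [Finite G] (hS : D.SemC) {y : G} {σ : F ≃+* F} {lam : Fin n → Fˣ} (hy : R.Sem y σ lam) :
    ∀ f ∈ D.Fg i Set.univ, y * f * y⁻¹ ∈ D.Fg i Set.univ := by
  refine closure_conj (S := D.FS i Set.univ) ?_
  rintro g (⟨u, rfl⟩ | ⟨a, rfl⟩ | ⟨j, hj, hij, ⟨u, rfl⟩ | ⟨a, rfl⟩ | ⟨u, v, rfl⟩⟩)
  · obtain ⟨c, e, h⟩ := hS.wy y σ lam hy i u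
    rw [h]; exact mul_mem (D.wy_mem_F c) (D.y_mem_F e)
  · rw [hy.yy]; exact D.y_mem_F _
  · obtain ⟨c, e, h⟩ := hS.wx y σ lam hy i j hij u
    rw [h]; exact mul_mem (D.wx_mem_F hj hij c) (D.x_mem_F hj hij e)
  · rw [hy.yx i j hij]; exact D.x_mem_F hj hij _
  · obtain ⟨c, e, h⟩ := hS.wx y σ lam hy i (neg j) (dj_neg_right.mpr hij) u
    obtain ⟨c', e', h'⟩ := hS.wy y σ lam hy j v
    have e1 : y * D.p i j u v * y⁻¹ = (y * D.wx i (neg j) u * y⁻¹) *
        ((y * D.wy j v * y⁻¹) * (y * D.wx i (neg j) u * y⁻¹)⁻¹ * (y * D.wy j v * y⁻¹)⁻¹) := by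
      unfold p; group
    have hm : y * D.wx i (neg j) u * y⁻¹ ∈ D.Fg i Set.univ := by
      rw [h]
      exact mul_mem (D.wx_mem_F (Set.mem_univ _) (dj_neg_right.mpr hij) c)
        (D.x_mem_F (Set.mem_univ _) (dj_neg_right.mpr hij) e)
    have hn : y * D.wy j v * y⁻¹ ∈ normalizer (D.Fg i Set.univ : Set G) := by
      rw [h']
      exact mul_mem (D.wy_nor h3 hij c') (D.y_nor h3 hij e')
    rw [e1]
    exact mul_mem hm ((mem_normalizer_iff.1 hn _).1 (inv_mem hm))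

omit [CharP F 2] [Finite F] in
theorem ev_single (k : Fin n) (μ : Fˣ) : ev (Pi.mulSingle k μ) (Sum.inl k : Ix n) = μ :=
  Pi.mulSingle_eq_same (M := fun _ : Fin n => Fˣ) k μ

omit [CharP F 2] [Finite F] in
theorem ev_single_dj {k : Fin n} (μ : Fˣ) {j : Ix n} (hj : Dj (Sum.inl k) j) : ev (Pi.mulSingle k μ) j = 1 := by
  rcases j with j | j
  · have : j ≠ k := fun h => hj.1 (by rw [h])
    exact Pi.mulSingle_eq_of_ne (M := fun _ : Fin n => Fˣ) this μ
  · have : j ≠ k := fun h => hj.2 (by rw [h]; rfl)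
    show ((Pi.mulSingle k μ : Fin n → Fˣ) j)⁻¹ = 1
    rw [Pi.mulSingle_eq_of_ne this, inv_one]

omit [CharP F 2] [Finite F] in
theorem fm_single (σ : F ≃+* F) (k : Fin n) (μ : Fˣ) :
    fm σ (Pi.mulSingle k μ) = Pi.mulSingle k (Units.map (σ : F →* F) μ) := by
  funext j
  unfold fm
  by_cases h : j = k
  · subst h; rw [Pi.mulSingle_eq_same, Pi.mulSingle_eq_same]
  · rw [Pi.mulSingle_eq_of_ne h, Pi.mulSingle_eq_of_ne h, map_one]

omit [Finite F] in
theorem Yg_cen {f : G} (hf : Cy R i f) : ∀ z ∈ Yg R i, f * z * f⁻¹ = z := by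
  rintro _ ⟨a, rfl⟩
  exact (hf a).mul_inv_cancel

include h3 in
/-- `h_k(c)`, `h_k(d)`, `c + d = 1` : scalars `c`, `d` on `F_k / Y_k` -/
theorem add_F {k : Fin n} {c d : Fˣ} (hcd : (c : F) + d = 1) : ∀ f ∈ D.Fg (Sum.inl k) Set.univ,
    R.h (Pi.mulSingle k c) * f * (R.h (Pi.mulSingle k c))⁻¹ *
      (R.h (Pi.mulSingle k d) * f * (R.h (Pi.mulSingle k d))⁻¹) * f⁻¹ ∈ Yg R (Sum.inl k) := by
  set g := R.h (Pi.mulSingle k c) with hg
  set g' := R.h (Pi.mulSingle k d) with hg'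
  have hcd2 : (c : F) ^ 2 + (d : F) ^ 2 = 1 := by
    rw [← CharTwo.add_sq, hcd, one_pow]
  have hF : ∀ f ∈ D.Fg (Sum.inl k) Set.univ, g * f * g⁻¹ ∈ D.Fg (Sum.inl k) Set.univ := fun f hf => D.h_F _ f hf
  have hF' : ∀ f ∈ D.Fg (Sum.inl k) Set.univ, g' * f * g'⁻¹ ∈ D.Fg (Sum.inl k) Set.univ := fun f hf => D.h_F _ f hf
  have cm : ∀ a ∈ D.Fg (Sum.inl k) Set.univ, ∀ b ∈ D.Fg (Sum.inl k) Set.univ, a * b * a⁻¹ * b⁻¹ ∈ Yg R (Sum.inl k) := by
    intro a ha b hb
    obtain ⟨e, he⟩ := D.F_cm h3 ha hb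
    exact ⟨e, by rw [he]; group⟩
  have cy : ∀ a ∈ D.Fg (Sum.inl k) Set.univ, ∀ z ∈ Yg R (Sum.inl k), a * z * a⁻¹ ∈ Yg R (Sum.inl k) := by
    intro a ha z hz
    rw [Yg_cen (D.F_cy ha) z hz]; exact hz
  intro f hf
  refine (closure_induction (p := fun f _ => f ∈ D.Fg (Sum.inl k) Set.univ ∧
    g * f * g⁻¹ * (g' * f * g'⁻¹) * f⁻¹ ∈ Yg R (Sum.inl k)) ?_ ?_ ?_ ?_ hf).2
  · rintro f (⟨u, rfl⟩ | ⟨a, rfl⟩ | ⟨j, hj, hij, ⟨u, rfl⟩ | ⟨a, rfl⟩ | ⟨u, v, rfl⟩⟩)
    · refine ⟨D.wy_mem_F u, ?_⟩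
      rw [hg, hg', D.h_wy, D.h_wy, ev_single, ev_single]
      obtain ⟨e, he⟩ := D.wy_add (Sum.inl k) ((c : F) ^ 2 * u) ((d : F) ^ 2 * u)
      rw [he, ← add_mul, hcd2, one_mul]
      have : D.wy (Sum.inl k) u * R.y (Sum.inl k) e * (D.wy (Sum.inl k) u)⁻¹ = R.y (Sum.inl k) e :=
        Yg_cen (D.F_cy (D.wy_mem_F (J := Set.univ) u)) _ ⟨e, rfl⟩
      rw [this]; exact ⟨e, rfl⟩
    · refine ⟨D.y_mem_F a, ?_⟩
      rw [hg, hg', R.h_y, R.h_y]
      exact mul_mem (mul_mem ⟨_, rfl⟩ ⟨_, rfl⟩) (inv_mem ⟨_, rfl⟩)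
    · refine ⟨D.wx_mem_F hj hij u, ?_⟩
      rw [hg, hg', D.h_wx _ hij, D.h_wx _ hij, ev_single, ev_single, ev_single_dj _ hij, ev_single_dj _ hij,
        ← D.wx_add hij, Units.val_one, mul_one, mul_one, ← add_mul, hcd, one_mul, mul_inv_cancel]
      exact one_mem _
    · refine ⟨D.x_mem_F hj hij a, ?_⟩
      rw [hg, hg', R.h_x, R.h_x, ev_single, ev_single, ev_single_dj _ hij, ev_single_dj _ hij,
        ← R.x_add, Units.val_one, mul_one, mul_one, ← add_mul, hcd, one_mul, mul_inv_cancel]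
      exact one_mem _
    · refine ⟨D.p_mem_F hj hij u v, ?_⟩
      rw [hg, hg', D.h_p hij, D.h_p hij, ev_single, ev_single, ev_single_dj _ hij, ev_single_dj _ hij, inv_one,
        Units.val_one, mul_one, mul_one, one_pow, one_mul]
      obtain ⟨e, he⟩ := D.p_add h3 hij ((d : F) * u) ((c : F) * u) v
      rw [← add_mul, add_comm (d : F), hcd, one_mul] at he
      refine ⟨e, ?_⟩
      have e2 : D.p (Sum.inl k) j (↑c * u) v * D.p (Sum.inl k) j (↑d * u) v =
          R.y (Sum.inl k) e * D.p (Sum.inl k) j u v := by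
        rw [he, ← mul_assoc, R.y_sq, one_mul]
      rw [e2]; group
  · exact ⟨one_mem _, by simp⟩
  · rintro a b - - ⟨ha, ha'⟩ ⟨hb, hb'⟩
    refine ⟨mul_mem ha hb, ?_⟩
    have e : g * (a * b) * g⁻¹ * (g' * (a * b) * g'⁻¹) * (a * b)⁻¹ =
        (g * a * g⁻¹ * ((g * b * g⁻¹) * (g' * a * g'⁻¹) * (g * b * g⁻¹)⁻¹ * (g' * a * g'⁻¹)⁻¹) * (g * a * g⁻¹)⁻¹) *
        ((g * a * g⁻¹ * (g' * a * g'⁻¹)) * (g * b * g⁻¹ * (g' * b * g'⁻¹) * b⁻¹) *
          (g * a * g⁻¹ * (g' * a * g'⁻¹))⁻¹) *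
        (g * a * g⁻¹ * (g' * a * g'⁻¹) * a⁻¹) := by group
    rw [e]
    exact mul_mem (mul_mem (cy _ (hF a ha) _ (cm _ (hF b hb) _ (hF' a ha)))
      (cy _ (mul_mem (hF a ha) (hF' a ha)) _ hb')) ha'
  · rintro a - ⟨ha, ha'⟩
    refine ⟨inv_mem ha, ?_⟩
    have e : g * a⁻¹ * g⁻¹ * (g' * a⁻¹ * g'⁻¹) * a⁻¹⁻¹ =
        (a⁻¹ * ((g' * a * g'⁻¹) * (g * a * g⁻¹) * (g' * a * g'⁻¹)⁻¹ * (g * a * g⁻¹)⁻¹ *
          (g * a * g⁻¹ * (g' * a * g'⁻¹) * a⁻¹)) * a⁻¹⁻¹)⁻¹ := by group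
    rw [e]
    exact inv_mem (cy _ (inv_mem ha) _ (mul_mem (cm _ (hF' a ha) _ (hF a ha)) ha'))

/-! ### The groups `R_k` -/

omit [CharP F 2] [Finite F] in
theorem single_mem_HL {m : ℕ} {j : Fin n} (hj : (j : ℕ) < m) (μ : Fˣ) : R.h (Pi.mulSingle j μ) ∈ HL R m := by
  refine ⟨_, fun l hl => ?_, rfl⟩
  have : l ≠ j := fun e => by rw [e] at hl; omega
  exact Pi.mulSingle_eq_of_ne (M := fun _ : Fin n => Fˣ) this μ

omit [CharP F 2] [Finite F] in
/-- the semilinear elements normalise `H_{<k}` -/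
theorem sem_HL {y : G} {σ : F ≃+* F} {lam : Fin n → Fˣ} (hy : R.Sem y σ lam) {k : ℕ} :
    ∀ g ∈ HL R k, y * g * y⁻¹ ∈ HL R k := by
  rintro _ ⟨l, hl, rfl⟩
  refine ⟨fm σ l, fun j hj => ?_, hy.yh l⟩
  show Units.map (σ : F →* F) (l j) = 1
  rw [hl j hj, map_one]

include h3 in
theorem sem_Rk [Finite G] (hS : D.SemC) {y : G} {σ : F ≃+* F} {lam : Fin n → Fˣ} (hy : R.Sem y σ lam) {k : Fin n} :
    ∀ r ∈ D.Rk k, y * r * y⁻¹ ∈ D.Rk k := by
  intro r hr
  obtain ⟨h1, h2⟩ := D.mem_Rk.mp hr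
  refine D.mem_Rk.mpr ⟨D.sem_F h3 hS hy r h1, fun g hg => ?_⟩
  have h4 := h2 _ (sem_HL hy.inv g hg)
  rw [inv_inv] at h4
  calc g * (y * r * y⁻¹) = y * (y⁻¹ * g * y * r) * y⁻¹ := by group
    _ = y * (r * (y⁻¹ * g * y)) * y⁻¹ := by rw [h4]
    _ = _ := by group

theorem h_Rk (mu : Fin n → Fˣ) {k : Fin n} : ∀ r ∈ D.Rk k, R.h mu * r * (R.h mu)⁻¹ ∈ D.Rk k := by
  intro r hr
  obtain ⟨h1, h2⟩ := D.mem_Rk.mp hr
  refine D.mem_Rk.mpr ⟨D.h_F mu r h1, ?_⟩
  rintro _ ⟨l, hl, rfl⟩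
  have h4 := h2 _ ⟨l, hl, rfl⟩
  have h5 : R.h l * R.h mu = R.h mu * R.h l := by rw [← map_mul, ← map_mul, mul_comm]
  calc R.h l * (R.h mu * r * (R.h mu)⁻¹) = (R.h l * R.h mu) * r * (R.h mu)⁻¹ := by group
    _ = R.h mu * (R.h l * r) * (R.h mu)⁻¹ := by rw [h5]; group
    _ = R.h mu * r * (R.h mu * (R.h l)⁻¹)⁻¹ := by rw [h4]; group
    _ = R.h mu * r * ((R.h l)⁻¹ * R.h mu)⁻¹ := by
      have h6 : R.h mu * (R.h l)⁻¹ = (R.h l)⁻¹ * R.h mu := by
        rw [← map_inv, ← map_mul, ← map_mul, mul_comm]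
      rw [h6]
    _ = _ := by group

theorem Yg_le_Rk {k : Fin n} : Yg R (Sum.inl k) ≤ D.Rk k := by
  rintro _ ⟨a, rfl⟩
  refine D.mem_Rk.mpr ⟨D.y_mem_F a, ?_⟩
  rintro _ ⟨l, hl, rfl⟩
  have e := R.h_y l (Sum.inl k) a
  have hk : ev l (Sum.inl k : Ix n) = 1 := hl k le_rfl
  rw [hk, Units.val_one, one_pow, one_mul] at e
  exact mul_inv_eq_iff_eq_mul.mp e

include h3 in
/-- **`R_k` is free** for the involution `y w b`, `y` of field type, `w` in `R_{k+1} ⋯ R_n`, `b ∈ R_k`. -/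
theorem free_Rk [Finite G] (hS : D.SemC) {y : G} {σ : F ≃+* F} {lam : Fin n → Fˣ} (hy : R.Sem y σ lam)
    (hσ : ∀ a, σ (σ a) = a) (hσ1 : ∃ a, σ a ≠ a) {k : Fin n} {w : G} (hw : ∀ r ∈ D.Rk k, w * r * w⁻¹ ∈ D.Rk k)
    (hwh : ∀ μ : Fˣ, w * R.h (Pi.mulSingle k μ) = R.h (Pi.mulSingle k μ) * w)
    (hwy : ∀ a, Commute w (R.y (Sum.inl k) a)) {b : G} (hb : b ∈ D.Rk k)
    (huu : y * w * b * (y * w * b) = 1) : FreeSer (y * w * b) (D.Rk k) := by
  obtain ⟨c₀, hc₀⟩ := exists_trace hσ hσ1 1 (map_one σ)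
  have hc0 : c₀ ≠ 0 := by
    rintro rfl
    rw [map_zero, add_zero] at hc₀
    exact one_ne_zero hc₀
  set c : Fˣ := Units.mk0 c₀ hc0 with hc
  set d : Fˣ := Units.map (σ : F →* F) c with hd
  have hdv : (d : F) = σ c₀ := rfl
  have hcv : (c : F) = c₀ := rfl
  have hcd : (c : F) + d = 1 := by rw [hdv, hcv]; exact hc₀.symm
  have hcd2 : (c : F) ^ 2 + (d : F) ^ 2 = 1 := by rw [← CharTwo.add_sq, hcd, one_pow]
  have hbF : b ∈ D.Fg (Sum.inl k) Set.univ := (D.mem_Rk.mp hb).1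
  -- the action on `Y_k`
  have hact : ∀ a, y * w * b * R.y (Sum.inl k) a * (y * w * b)⁻¹ =
      R.y (Sum.inl k) ((ev lam (Sum.inl k : Ix n) : F) ^ 2 * σ a) := by
    intro a
    have e1 : b * R.y (Sum.inl k) a * b⁻¹ = R.y (Sum.inl k) a := (D.F_cy hbF a).mul_inv_cancel
    have e2 : w * R.y (Sum.inl k) a * w⁻¹ = R.y (Sum.inl k) a := (hwy a).mul_inv_cancel
    calc y * w * b * R.y (Sum.inl k) a * (y * w * b)⁻¹
        = y * (w * (b * R.y (Sum.inl k) a * b⁻¹) * w⁻¹) * y⁻¹ := by group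
      _ = _ := by rw [e1, e2, hy.yy]
  have hY : FreeSer (y * w * b) (Yg R (Sum.inl k)) := by
    refine FreeSer.bot.torus huu bot_le ?_ ?_ ?_ (R.h (Pi.mulSingle k c)) (R.h (Pi.mulSingle k d)) ?_ ?_ ?_ ?_
    · rintro _ ⟨a, rfl⟩
      rw [hact]; exact ⟨_, rfl⟩
    · rintro _ ⟨a, rfl⟩ _ ⟨a', rfl⟩
      rw [mem_bot, (R.y_comm (ne_neg _) a a').eq]; group
    · rintro _ ⟨a, rfl⟩
      rw [mem_bot, R.y_sq]
    · rintro _ ⟨a, rfl⟩
      rw [R.h_y]; exact ⟨_, rfl⟩
    · intro x hx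
      rw [mem_bot] at hx ⊢
      rw [hx]; group
    · rintro _ ⟨a, rfl⟩
      rw [mem_bot, R.h_y, R.h_y, ev_single, ev_single, ← R.y_add, ← add_mul, hcd2, one_mul, mul_inv_cancel]
    · rintro _ ⟨a, rfl⟩
      rw [mem_bot, hact, R.h_y, R.h_y, hact, ev_single, ev_single, inv_mul_eq_one]
      congr 1
      rw [map_mul, map_pow, hdv, hcv]; ring
  have cm : ∀ a ∈ D.Rk k, ∀ b ∈ D.Rk k, a * b * a⁻¹ * b⁻¹ ∈ Yg R (Sum.inl k) := by
    intro a ha b hb
    obtain ⟨e, he⟩ := D.F_cm h3 (D.mem_Rk.mp ha).1 (D.mem_Rk.mp hb).1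
    exact ⟨e, by rw [he]; group⟩
  refine hY.torus huu D.Yg_le_Rk ?_ cm (fun a ha => D.F_sq h3 (D.mem_Rk.mp ha).1) (R.h (Pi.mulSingle k c))
    (R.h (Pi.mulSingle k d)) (D.h_Rk _) ?_ (fun a ha => D.add_F h3 hcd a (D.mem_Rk.mp ha).1) ?_
  · intro r hr
    have e : y * w * b * r * (y * w * b)⁻¹ = y * (w * (b * r * b⁻¹) * w⁻¹) * y⁻¹ := by group
    rw [e]
    exact D.sem_Rk h3 hS hy _ (hw _ (mul_mem (mul_mem hb hr) (inv_mem hb)))
  · rintro _ ⟨a, rfl⟩
    rw [R.h_y]; exact ⟨_, rfl⟩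
  · -- semilinearity modulo `Y_k`
    intro r hr
    set g := R.h (Pi.mulSingle k c) with hg
    set g' := R.h (Pi.mulSingle k d) with hg'
    have hgr : g * r * g⁻¹ ∈ D.Rk k := D.h_Rk _ r hr
    -- `b` acts trivially modulo `Y_k`
    obtain ⟨e1, he1⟩ := cm b hb r hr
    obtain ⟨e2, he2⟩ := cm b hb _ hgr
    have f1 : b * r * b⁻¹ = R.y (Sum.inl k) e1 * r := by rw [← he1]; group
    have f2 : b * (g * r * g⁻¹) * b⁻¹ = R.y (Sum.inl k) e2 * (g * r * g⁻¹) := by rw [← he2]; group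
    have ywy : ∀ a, y * (w * R.y (Sum.inl k) a * w⁻¹) * y⁻¹ ∈ Yg R (Sum.inl k) := by
      intro a
      rw [(hwy a).mul_inv_cancel, hy.yy]; exact ⟨_, rfl⟩
    have e3 : y * w * b * r * (y * w * b)⁻¹ = (y * (w * R.y (Sum.inl k) e1 * w⁻¹) * y⁻¹) *
        (y * (w * r * w⁻¹) * y⁻¹) := by
      calc y * w * b * r * (y * w * b)⁻¹ = y * (w * (b * r * b⁻¹) * w⁻¹) * y⁻¹ := by group
        _ = _ := by rw [f1]; group
    have e4 : y * w * b * (g * r * g⁻¹) * (y * w * b)⁻¹ = (y * (w * R.y (Sum.inl k) e2 * w⁻¹) * y⁻¹) *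
        (g' * (y * (w * r * w⁻¹) * y⁻¹) * g'⁻¹) := by
      have h5 : y * g * y⁻¹ = g' := by rw [hg, hy.yh, fm_single]
      calc y * w * b * (g * r * g⁻¹) * (y * w * b)⁻¹ = y * (w * (b * (g * r * g⁻¹) * b⁻¹) * w⁻¹) * y⁻¹ := by group
        _ = y * (w * (R.y (Sum.inl k) e2 * (g * r * g⁻¹)) * w⁻¹) * y⁻¹ := by rw [f2]
        _ = (y * (w * R.y (Sum.inl k) e2 * w⁻¹) * y⁻¹) * (y * ((w * g) * r * (w * g)⁻¹) * y⁻¹) := by group
        _ = (y * (w * R.y (Sum.inl k) e2 * w⁻¹) * y⁻¹) * (y * ((g * w) * r * (g * w)⁻¹) * y⁻¹) := by rw [hwh]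
        _ = (y * (w * R.y (Sum.inl k) e2 * w⁻¹) * y⁻¹) *
            ((y * g * y⁻¹) * (y * (w * r * w⁻¹) * y⁻¹) * (y * g * y⁻¹)⁻¹) := by group
        _ = _ := by rw [h5]
    rw [e3, e4]
    obtain ⟨a1, ha1⟩ := ywy e1
    obtain ⟨a2, ha2⟩ := ywy e2
    rw [ha1, ha2]
    set s := y * (w * r * w⁻¹) * y⁻¹ with hs
    have hsR : s ∈ D.Rk k := D.sem_Rk h3 hS hy _ (hw r hr)
    have e5 : (g' * (R.y (Sum.inl k) a1 * s) * g'⁻¹)⁻¹ * (R.y (Sum.inl k) a2 * (g' * s * g'⁻¹)) =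
        (g' * s * g'⁻¹)⁻¹ * ((g' * R.y (Sum.inl k) a1 * g'⁻¹)⁻¹ * R.y (Sum.inl k) a2) * (g' * s * g'⁻¹)⁻¹⁻¹ := by
      group
    rw [e5]
    have h6 : (g' * R.y (Sum.inl k) a1 * g'⁻¹)⁻¹ * R.y (Sum.inl k) a2 ∈ Yg R (Sum.inl k) := by
      rw [R.h_y]
      exact mul_mem (inv_mem ⟨_, rfl⟩) ⟨_, rfl⟩
    rw [Yg_cen (D.F_cy (inv_mem (D.mem_Rk.mp (D.h_Rk _ s hsR)).1)) _ h6]
    exact h6

end free

section count

variable [Finite F] [Finite G] (h3 : ∀ i j : Ix n, ∃ k, Dj i k ∧ Dj j k)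

include h3 in
/-- `R_m ≤ F_m({j : Dj k j})` for `k < m` -/
theorem Rk_le {k m : Fin n} (hkm : k < m) {μ : Fˣ} (hμ : μ ≠ 1) {r : G} (hr : r ∈ D.Rk m) :
    r ∈ D.Fg (Sum.inl m) {j | Dj (Sum.inl k) j} := by
  obtain ⟨hr1, hr2⟩ := D.mem_Rk.mp hr
  have hdj : Dj (Sum.inl m : Ix n) (Sum.inl k) :=
    ⟨fun h => hkm.ne' (Sum.inl_injective h), fun h => by simp at h⟩
  have h1 := ev_single (F := F) k μ
  obtain ⟨j₀, hm0, hk0⟩ := h3 (Sum.inl m) (Sum.inl k)
  refine D.mem_of_fix h3 (lam := Pi.mulSingle k μ) (ev_single_dj μ hdj.symm) (fun j hj => ev_single_dj μ hj) ?_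
    (j₀ := j₀) hk0 hm0 hr1 ?_
  · intro j hmj hj h
    have hj' : ¬ Dj (Sum.inl k) j := hj
    simp only [Dj, not_and_or, not_not] at hj'
    rcases hj' with hj | hj
    · rw [← hj, h1] at h; exact hμ h
    · have hj' : j = neg (Sum.inl k) := by rw [hj, neg_neg]
      rw [hj', ev_neg, h1, inv_eq_one] at h; exact hμ h
  · have := hr2 (R.h (Pi.mulSingle k μ)) (single_mem_HL hkm μ)
    rw [this]; group

include h3 in
/-- `R_m` centralises `Y_k` for `k < m` -/
theorem Rk_cy {k m : Fin n} (hkm : k < m) {μ : Fˣ} (hμ : μ ≠ 1) {r : G} (hr : r ∈ D.Rk m) (c : F) :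
    Commute r (R.y (Sum.inl k) c) := by
  have hkm' : (Sum.inl k : Ix n) ≠ neg (Sum.inl m) := fun h => by simp at h
  refine closure_induction (p := fun g _ => Commute g (R.y (Sum.inl k) c)) ?_ (Commute.one_left _)
    (fun _ _ _ _ a b => a.mul_left b) (fun _ _ a => a.inv_left) (D.Rk_le h3 hkm hμ hr)
  rintro g (⟨u, rfl⟩ | ⟨a, rfl⟩ | ⟨j, hj, hij, ⟨u, rfl⟩ | ⟨a, rfl⟩ | ⟨u, v, rfl⟩⟩)
  · exact D.b1 hkm' u c
  · exact R.y_comm hkm' a c
  · exact D.a4 hij hkm' hj.2 u c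
  · exact (R.y_x_comm (fun h => by simp at h) (fun h => hj.2 (by rw [h, neg_neg])) c a).symm
  · have e1 : Commute (D.wx (Sum.inl m) (neg j) u) (R.y (Sum.inl k) c) :=
      D.a4 (dj_neg_right.mpr hij) hkm' (by rw [neg_neg]; exact hj.1) u c
    have e2 : Commute (D.wy j v) (R.y (Sum.inl k) c) := D.b1 hj.2 v c
    exact ((e1.mul_left e2).mul_left e1.inv_left).mul_left e2.inv_left

omit [CharP F 2] [Finite F] [Finite G] in
theorem Q_le_K {i : Ix n} : R.Q i ≤ R.K := by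
  rw [Frame.Q, closure_le]
  rintro g (⟨a, rfl⟩ | ⟨k, a, rfl⟩)
  · exact ⟨_, rfl⟩
  · exact ⟨_, rfl⟩

omit [Finite F] [Finite G] in
theorem Q_sq {i : Ix n} : ∀ q ∈ R.Q i, q * q = 1 := by
  intro q hq
  refine closure_induction (p := fun b _ => b ∈ R.Q i → b * b = 1) ?_ ?_ ?_ ?_ hq hq
  · rintro g (⟨a, rfl⟩ | ⟨k, a, rfl⟩) -
    exacts [R.y_sq _ a, R.x_sq _ k a]
  · intro _; rw [one_mul]
  · intro a b ha hb h1 h2 _
    have h4 := Q_comm b hb a ha
    calc a * b * (a * b) = a * (b * a) * b := by group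
      _ = (a * a) * (b * b) := by rw [h4]; group
      _ = 1 := by rw [h1 ha, h2 hb, one_mul]
  · intro a ha h1 _
    have : a⁻¹ * a⁻¹ = (a * a)⁻¹ := by group
    rw [this, h1 ha, inv_one]

omit [Finite F] [Finite G] in
theorem Q_t {i : Ix n} : ∀ q ∈ R.Q i, q * R.t = R.t * q := by
  intro q hq
  refine (closure_induction (p := fun b _ => Commute b R.t) ?_ (Commute.one_left _)
    (fun _ _ _ _ h1 h2 => h1.mul_left h2) (fun _ _ h1 => h1.inv_left) hq).eq
  rintro g (⟨a, rfl⟩ | ⟨k, a, rfl⟩)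
  exacts [R.y_t _ a, R.x_t _ k a]

/-- the injection `(q, q') ↦ c_q q'` -/
theorem card_sq_le {t : G} {B : Subgroup G} (hB : Good t B) (hsq : ∀ q ∈ B, q * t = t * q → q * q = 1)
    (tt : t * t = 1) :
    Nat.card (B ⊓ centralizer ({t} : Set G) : Subgroup G) ^ 2 ≤ Nat.card B ∧
    ((∃ p ∈ B, ∀ q ∈ B, q * t = t * q → p * t * p⁻¹ ≠ t * q) →
      Nat.card (B ⊓ centralizer ({t} : Set G) : Subgroup G) ^ 2 < Nat.card B) := by
  classical
  set Q := B ⊓ centralizer ({t} : Set G) with hQ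
  have hQt : ∀ q : Q, (q : G) * t = t * q := fun q => mem_centralizer_singleton_iff.1 q.2.2
  have hc : ∀ q : Q, ∃ c ∈ B, c * t * c⁻¹ = t * q := by
    intro q
    refine hB.inv q q.2.1 ?_
    have h1 := hsq q q.2.1 (hQt q)
    calc t * (q : G) * (t * q) = t * ((q : G) * t) * q := by group
      _ = (t * t) * (q * q) := by rw [hQt q]; group
      _ = 1 := by rw [tt, h1, one_mul]
  choose c hcB hct using hc
  let f : Q × Q → B := fun z => ⟨c z.1 * z.2, mul_mem (hcB z.1) z.2.2.1⟩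
  have hfv : ∀ z : Q × Q, (f z : G) * t * (f z : G)⁻¹ = t * z.1 := by
    intro z
    change c z.1 * z.2 * t * (c z.1 * z.2)⁻¹ = t * z.1
    calc c z.1 * z.2 * t * (c z.1 * z.2)⁻¹ = c z.1 * ((z.2 : G) * t * (z.2 : G)⁻¹) * (c z.1)⁻¹ := by group
      _ = c z.1 * t * (c z.1)⁻¹ := by rw [hQt z.2]; group
      _ = _ := hct z.1
  have hf : Function.Injective f := by
    intro z z' h
    have h1 : (z.1 : G) = z'.1 := by
      have h2 := hfv z
      rw [h, hfv z'] at h2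
      exact (mul_left_cancel h2).symm
    have h2 : z.1 = z'.1 := Subtype.ext h1
    have h3 : c z.1 * z.2 = c z'.1 * z'.2 := congrArg Subtype.val h
    rw [h2] at h3
    exact Prod.ext h2 (Subtype.ext (mul_left_cancel h3))
  have hcard : Nat.card (Q × Q) = Nat.card Q ^ 2 := by rw [Nat.card_prod, pow_two]
  refine ⟨?_, ?_⟩
  · rw [← hcard]; exact Nat.card_le_card_of_injective f hf
  · rintro ⟨p, hp, hpq⟩
    rw [← hcard]
    refine lt_of_le_of_ne (Nat.card_le_card_of_injective f hf) fun heq => ?_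
    obtain ⟨z, hz⟩ := (hf.bijective_of_nat_card_le heq.ge).2 ⟨p, hp⟩
    have h1 := hfv z
    rw [hz] at h1
    exact hpq z.1 z.1.2.1 (hQt z.1) h1

include h3 in
theorem Rk_ct {k : Fin n} {r : G} (hr : r ∈ D.Rk k) (hc : r * R.t = R.t * r) : r ∈ R.Q (Sum.inl k) :=
  D.mem_Q_of_comm h3 (D.mem_Rk.mp hr).1 hc

include h3 in
theorem Rk_card (k : Fin n) :
    Nat.card (D.Rk k ⊓ centralizer ({R.t} : Set G) : Subgroup G) ^ 2 ≤ Nat.card (D.Rk k) :=
  (card_sq_le (D.Rk_good h3 k) (fun q hq hqt => Q_sq q (D.Rk_ct h3 hq hqt)) R.tt).1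

include h3 in
theorem Rk_card_lt {k l : Fin n} (hk : (k : ℕ) = 0) (hkl : k ≠ l) :
    Nat.card (D.Rk k ⊓ centralizer ({R.t} : Set G) : Subgroup G) ^ 2 < Nat.card (D.Rk k) := by
  refine (card_sq_le (D.Rk_good h3 k) (fun q hq hqt => Q_sq q (D.Rk_ct h3 hq hqt)) R.tt).2 ?_
  have hd : Dj (Sum.inl k : Ix n) (Sum.inl l) := ⟨fun h => hkl (Sum.inl_injective h), fun h => by simp at h⟩
  set i : Ix n := Sum.inl k with hi
  set p := D.p i (Sum.inl l) 1 1 with hp
  have hpF : p ∈ D.Fg i Set.univ := D.p_mem_F (Set.mem_univ _) hd 1 1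
  refine ⟨p, D.mem_Rk.mpr ⟨hpF, ?_⟩, ?_⟩
  · rintro _ ⟨m, hm, rfl⟩
    have : m = 1 := by funext j; exact hm j (by omega)
    rw [this, map_one, one_mul, mul_one]
  · intro q hq hqt h
    have hqQ := D.Rk_ct h3 hq hqt
    have hqF := (D.mem_Rk.mp hq).1
    obtain ⟨c, d, htp⟩ := D.t_p hd 1 1
    rw [← hp, one_pow, mul_one] at htp
    have ti : R.t⁻¹ = R.t := R.t_inv
    -- `w = w_i(1) x y = p⁻¹ q p`
    have e1 : D.wy i 1 * R.x i (Sum.inl l) c * R.y i d = p⁻¹ * q * p := by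
      have e2 : R.t * p * R.t = q * p := by
        calc R.t * p * R.t = R.t * (p * R.t * p⁻¹) * p := by group
          _ = R.t * (R.t * q) * p := by rw [h]
          _ = q * p := by rw [← mul_assoc, R.tt, one_mul]
      calc D.wy i 1 * R.x i (Sum.inl l) c * R.y i d = p⁻¹ * (p * D.wy i 1 * R.x i (Sum.inl l) c * R.y i d) := by group
        _ = p⁻¹ * (R.t * p * R.t) := by rw [htp]
        _ = _ := by rw [e2]; group
    have e3 : p⁻¹ * q * p ∈ R.Q i := by
      obtain ⟨a, ha⟩ := D.F_cm h3 hqF hpF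
      have e4 : p⁻¹ * q * p = p⁻¹ * R.y i a * p * q := by
        calc p⁻¹ * q * p = p⁻¹ * (q * p) := by group
          _ = p⁻¹ * (R.y i a * (p * q)) := by rw [ha]
          _ = _ := by group
      have e5 : p⁻¹ * R.y i a * p = R.y i a := by
        have := (D.F_cy hpF a).inv_left.eq
        rw [this]; group
      rw [e4, e5]
      exact mul_mem (R.y_mem_Q i a) hqQ
    have e6 : D.wy i 1 ∈ R.Q i := by
      have e7 : D.wy i 1 = p⁻¹ * q * p * (R.y i d)⁻¹ * (R.x i (Sum.inl l) c)⁻¹ := by rw [← e1]; group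
      rw [e7]
      exact mul_mem (mul_mem e3 (inv_mem (R.y_mem_Q i d))) (inv_mem (R.x_mem_Q i _ c))
    have e8 := Q_t _ e6
    have e9 := D.wy_t i 1
    have e10 : R.y i 1 = 1 := by
      have e11 : R.t * D.wy i 1 * R.t = D.wy i 1 := by rw [← e8, mul_assoc, R.tt, mul_one]
      rw [e11] at e9
      exact left_eq_mul.1 e9
    exact one_ne_zero (R.y_eq_one e10)

end count

section chain

/-- the product of `A` and `B` -/
theorem glue_eq_sup {A B : Subgroup G} (h : ∀ a ∈ A, ∀ b ∈ B, a * b * a⁻¹ ∈ B) : glue A B h = A ⊔ B := by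
  apply le_antisymm
  · rintro _ ⟨a, ha, b, hb, rfl⟩
    exact mul_mem (mem_sup_left ha) (mem_sup_right hb)
  · refine sup_le (fun a ha => ⟨a, ha, 1, one_mem _, (mul_one _).symm⟩) fun b hb => ⟨1, one_mem _, b, hb, (one_mul _).symm⟩

theorem card_sup_of {A B : Subgroup G} (h : ∀ a ∈ A, ∀ b ∈ B, a * b * a⁻¹ ∈ B) (hd : ∀ x ∈ A, x ∈ B → x = 1) :
    Nat.card (A ⊔ B : Subgroup G) = Nat.card A * Nat.card B := by
  rw [← Nat.card_prod]
  symm
  refine Nat.card_congr (Equiv.ofBijective (fun z : A × B => (⟨z.1 * z.2,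
    mul_mem (mem_sup_left z.1.2) (mem_sup_right z.2.2)⟩ : (A ⊔ B : Subgroup G))) ⟨?_, ?_⟩)
  · rintro ⟨⟨x, hx⟩, ⟨s, hs⟩⟩ ⟨⟨y, hy⟩, ⟨r, hr⟩⟩ he
    have h2 : x * s = y * r := congrArg (fun z : (A ⊔ B : Subgroup G) => (z : G)) he
    have h3 : y⁻¹ * x = r * s⁻¹ := by
      rw [inv_mul_eq_iff_eq_mul, ← mul_assoc, eq_mul_inv_iff_mul_eq]; exact h2
    have h4 : y⁻¹ * x = 1 := hd _ (mul_mem (inv_mem hy) hx) (by
      rw [h3]; exact mul_mem hr (inv_mem hs))
    have h5 : x = y := (inv_mul_eq_one.1 h4).symm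
    subst h5
    have h6 : s = r := mul_left_cancel h2
    subst h6
    rfl
  · rintro ⟨g, hg⟩
    obtain ⟨a, ha, x, hx, rfl⟩ := F4.EndO.exists_mul h hg
    exact ⟨(⟨a, ha⟩, ⟨x, hx⟩), rfl⟩

variable [Finite F] [Finite G]

/-- the group `A = R_{n-m} ⋯ R_{n-1}` -/
structure Chn (D : COne R) (m : ℕ) (A : Subgroup G) : Prop where
  good : Good R.t A
  rk : ∀ k : Fin n, n - m ≤ k → D.Rk k ≤ A
  hl : ∀ a ∈ A, ∀ g ∈ HL R (n - m), g * a = a * g
  nor : ∀ k : Fin n, (k : ℕ) < n - m → A ≤ normalizer (D.Fg (Sum.inl k) Set.univ : Set G)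
  cY : ∀ a ∈ A, ∀ k : Fin n, (k : ℕ) < n - m → ∀ c, Commute a (R.y (Sum.inl k) c)
  sem : ∀ y σ lam, R.Sem y σ lam → ∀ a ∈ A, y * a * y⁻¹ ∈ A
  ctK : ∀ a ∈ A, a * R.t = R.t * a → a ∈ R.K
  free : ∀ y σ lam, R.Sem y σ lam → (∀ a, σ (σ a) = a) → (∃ a, σ a ≠ a) → y * y = 1 →
    ∀ w ∈ A, y * w * (y * w) = 1 → FreeSer (y * w) A
  crd : Nat.card (A ⊓ centralizer ({R.t} : Set G) : Subgroup G) ^ 2 ≤ Nat.card A
  crd' : n - m = 0 → Nat.card (A ⊓ centralizer ({R.t} : Set G) : Subgroup G) ^ 2 < Nat.card A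

theorem exists_chn (h3 : ∀ i j : Ix n, ∃ k, Dj i k ∧ Dj j k) (hn : 2 ≤ n) (hS : D.SemC) {μ : Fˣ} (hμ : μ ≠ 1) :
    ∀ m, m ≤ n → ∃ A : Subgroup G, Chn D m A := by
  intro m
  induction m with
  | zero =>
    intro _
    refine ⟨⊥, ⟨⟨IsPGroup.of_bot, ?_, ?_, ?_⟩, ?_, ?_, ?_, ?_, ?_, ?_, ?_, ?_, ?_⟩⟩
    · intro a ha
      rw [mem_bot] at ha ⊢
      rw [ha, mul_one, R.tt]
    · intro h; exact R.t1 (mem_bot.mp h)
    · intro a ha _
      rw [mem_bot] at ha
      exact ⟨1, one_mem _, by rw [ha]; group⟩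
    · intro k hk; exact absurd k.2 (by omega)
    · intro a ha g _
      rw [mem_bot] at ha
      rw [ha]; group
    · intro k _; exact bot_le
    · intro a ha k _ c
      rw [mem_bot] at ha
      rw [ha]; exact Commute.one_left _
    · intro y σ lam _ a ha
      rw [mem_bot] at ha ⊢
      rw [ha]; group
    · intro a ha _
      rw [mem_bot] at ha
      rw [ha]; exact one_mem _
    · intro y σ lam _ _ _ _ w _ _
      exact FreeSer.bot
    · simp
    · intro h; omega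
  | succ m ih =>
    intro hm
    obtain ⟨A, hA⟩ := ih (by omega)
    have hk0 : n - (m + 1) < n := by omega
    let k0 : Fin n := ⟨n - (m + 1), hk0⟩
    have hk1 : n - m = (k0 : ℕ) + 1 := by show n - m = n - (m + 1) + 1; omega
    have h : ∀ a ∈ A, ∀ b ∈ D.Rk k0, a * b * a⁻¹ ∈ D.Rk k0 := by
      intro a ha b hb
      obtain ⟨hb1, hb2⟩ := D.mem_Rk.mp hb
      refine D.mem_Rk.mpr ⟨(mem_normalizer_iff.mp (hA.nor k0 (by omega) ha) b).mp hb1, ?_⟩
      intro g hg
      have e1 := hA.hl a ha g (HL_mono (by omega) hg)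
      have e2 := hb2 g hg
      calc g * (a * b * a⁻¹) = (g * a) * b * a⁻¹ := by group
        _ = a * (g * b) * a⁻¹ := by rw [e1]; group
        _ = a * b * (g * a⁻¹) := by rw [e2]; group
        _ = _ := by
          have : g * a⁻¹ = a⁻¹ * g := by
            calc g * a⁻¹ = a⁻¹ * (a * g) * a⁻¹ := by group
              _ = _ := by rw [← e1]; group
          rw [this]; group
    have disj : ∀ b ∈ D.Rk k0, b ∈ A ∨ R.t * b ∈ A → b = 1 := by
      intro b hb hbA
      have hg : R.h (Pi.mulSingle k0 μ) ∈ HL R (n - m) := single_mem_HL (by omega) μ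
      refine D.Rk_fpf h3 hμ hb ?_
      rcases hbA with hbA | hbA
      · exact hA.hl b hbA _ hg
      · have e1 := hA.hl _ hbA _ hg
        have e2 := (R.h_t (Pi.mulSingle k0 μ)).eq
        rw [← mul_assoc, e2, mul_assoc, mul_assoc] at e1
        exact mul_left_cancel e1
    have disj' : ∀ x ∈ A, x ∈ D.Rk k0 → x = 1 := fun x hx hx' => disj x hx' (Or.inl hx)
    have dec : ∀ x ∈ A ⊔ D.Rk k0, ∃ a ∈ A, ∃ b ∈ D.Rk k0, x = a * b := fun x hx => F4.EndO.exists_mul h hx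
    -- `C(t)`
    have hct : ∀ a ∈ A, ∀ b ∈ D.Rk k0, (a * b) * R.t = R.t * (a * b) →
        a * R.t = R.t * a ∧ b * R.t = R.t * b := by
      intro a ha b hb hc
      have ti : R.t⁻¹ = R.t := R.t_inv
      have e1 : a⁻¹ * (R.t * a * R.t) = b * (R.t * b * R.t)⁻¹ := by
        have e2 : R.t * (a * b) * R.t = a * b := by rw [← hc, mul_assoc, R.tt, mul_one]
        have e3 : R.t * (a * b) * R.t = (R.t * a * R.t) * (R.t * b * R.t) := by
          calc R.t * (a * b) * R.t = R.t * a * 1 * b * R.t := by group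
            _ = _ := by rw [← R.tt]; simp only [mul_assoc]
        rw [e3] at e2
        rw [inv_mul_eq_iff_eq_mul, ← mul_assoc, eq_mul_inv_iff_mul_eq]
        exact e2
      have h1 : a⁻¹ * (R.t * a * R.t) = 1 := disj' _ (mul_mem (inv_mem ha) (hA.good.nt a ha)) (by
        rw [e1]; exact mul_mem hb (inv_mem ((D.Rk_good h3 k0).nt b hb)))
      have h2 : a * R.t = R.t * a := by
        have h3 : R.t * a * R.t = a := (inv_mul_eq_one.1 h1).symm
        calc a * R.t = (R.t * a * R.t) * R.t := by rw [h3]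
          _ = R.t * a * (R.t * R.t) := by group
          _ = _ := by rw [R.tt, mul_one]
      refine ⟨h2, mul_left_cancel (a := a) ?_⟩
      rw [← mul_assoc, hc, ← mul_assoc, ← mul_assoc, h2]
    have hinf : (A ⊔ D.Rk k0) ⊓ centralizer ({R.t} : Set G) =
        (A ⊓ centralizer ({R.t} : Set G)) ⊔ (D.Rk k0 ⊓ centralizer ({R.t} : Set G)) := by
      apply le_antisymm
      · rintro x ⟨hx, hx'⟩
        obtain ⟨a, ha, b, hb, rfl⟩ := dec x hx
        obtain ⟨h1, h2⟩ := hct a ha b hb (mem_centralizer_singleton_iff.1 hx')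
        exact mul_mem (mem_sup_left ⟨ha, mem_centralizer_singleton_iff.2 h1⟩)
          (mem_sup_right ⟨hb, mem_centralizer_singleton_iff.2 h2⟩)
      · exact sup_le (le_inf (inf_le_left.trans le_sup_left) inf_le_right)
          (le_inf (inf_le_left.trans le_sup_right) inf_le_right)
    have hc1 : Nat.card ((A ⊔ D.Rk k0) ⊓ centralizer ({R.t} : Set G) : Subgroup G) =
        Nat.card (A ⊓ centralizer ({R.t} : Set G) : Subgroup G) *
          Nat.card (D.Rk k0 ⊓ centralizer ({R.t} : Set G) : Subgroup G) := by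
      rw [hinf]
      refine card_sup_of ?_ fun x hx hx' => disj' x hx.1 hx'.1
      rintro a ⟨ha, ha'⟩ b ⟨hb, hb'⟩
      refine ⟨h a ha b hb, ?_⟩
      have h5 : a * b * a⁻¹ ∈ centralizer ({R.t} : Set G) :=
        (centralizer ({R.t} : Set G)).mul_mem ((centralizer ({R.t} : Set G)).mul_mem ha' hb')
          ((centralizer ({R.t} : Set G)).inv_mem ha')
      exact h5
    have hc2 : Nat.card (A ⊔ D.Rk k0 : Subgroup G) = Nat.card A * Nat.card (D.Rk k0) := card_sup_of h disj'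
    refine ⟨A ⊔ D.Rk k0, ⟨?_, ?_, ?_, ?_, ?_, ?_, ?_, ?_, ?_, ?_⟩⟩
    · rw [← glue_eq_sup h]
      exact hA.good.glue R.tt (D.Rk_good h3 k0) h disj
    · intro k hk
      by_cases hkm : n - m ≤ k
      · exact (hA.rk k hkm).trans le_sup_left
      · have : k = k0 := Fin.ext (by show (k : ℕ) = n - (m + 1); omega)
        rw [this]; exact le_sup_right
    · intro x hx g hg
      obtain ⟨a, ha, b, hb, rfl⟩ := dec x hx
      have e1 := hA.hl a ha g (HL_mono (by omega) hg)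
      have e2 := (D.mem_Rk.mp hb).2 g hg
      rw [← mul_assoc, e1, mul_assoc, e2, mul_assoc]
    · intro k hk
      refine sup_le (hA.nor k (by omega)) fun b hb => D.Rk_nor h3 (k := k) (m := k0) (Fin.lt_def.mpr hk) hμ hb
    · intro x hx k hk c
      obtain ⟨a, ha, b, hb, rfl⟩ := dec x hx
      exact (hA.cY a ha k (by omega) c).mul_left (D.Rk_cy h3 (k := k) (m := k0) (Fin.lt_def.mpr hk) hμ hb c)
    · intro y σ lam hy x hx
      obtain ⟨a, ha, b, hb, rfl⟩ := dec x hx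
      have e : y * (a * b) * y⁻¹ = (y * a * y⁻¹) * (y * b * y⁻¹) := by group
      rw [e]
      exact mul_mem (mem_sup_left (hA.sem y σ lam hy a ha)) (mem_sup_right (D.sem_Rk h3 hS hy b hb))
    · intro x hx hc
      obtain ⟨a, ha, b, hb, rfl⟩ := dec x hx
      obtain ⟨h1, h2⟩ := hct a ha b hb hc
      exact mul_mem (hA.ctK a ha h1) (Q_le_K (D.Rk_ct h3 hb h2))
    · intro y σ lam hy hσ hσ1 hyy x hx huu
      obtain ⟨a, ha, b, hb, rfl⟩ := dec x hx
      have hyi : y⁻¹ = y := inv_eq_of_mul_eq_one_left hyy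
      -- `(y a)² = 1`
      have e1 : y * a * (y * a) = 1 := by
        apply disj'
        · have e2 : y * a * (y * a) = (y * a * y⁻¹) * a := by
            rw [hyi]; group
          rw [e2]
          exact mul_mem (hA.sem y σ lam hy a ha) ha
        · have e2 : y * a * (y * a) = (((y * a)⁻¹ * b * (y * a)) * b)⁻¹ := by
            apply eq_inv_of_mul_eq_one_left
            rw [← huu]; group
          rw [e2]
          have e3 : (y * a)⁻¹ * b * (y * a) = a⁻¹ * (y * b * y⁻¹) * a⁻¹⁻¹ := by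
            rw [mul_inv_rev, hyi]; group
          refine inv_mem (mul_mem ?_ hb)
          rw [e3]
          exact h _ (inv_mem ha) _ (D.sem_Rk h3 hS hy b hb)
      have hF := hA.free y σ lam hy hσ hσ1 hyy a ha e1
      have hB : FreeSer (y * a * b) (D.Rk k0) := by
        refine D.free_Rk h3 hS hy hσ hσ1 (h a ha) (fun μ' => ?_) (fun c => hA.cY a ha k0 (by omega) c) hb ?_
        · exact (hA.hl a ha _ (single_mem_HL (by omega) μ')).symm
        · rw [← huu]; group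
      rw [← mul_assoc]
      refine FreeSer.lift hb ?_ hB hF h disj'
      intro b' hb'
      have e4 : y * a * b' * (y * a)⁻¹ = y * (a * b' * a⁻¹) * y⁻¹ := by group
      rw [e4]
      exact D.sem_Rk h3 hS hy _ (h a ha b' hb')
    · rw [hc1, hc2, mul_pow]
      exact Nat.mul_le_mul hA.crd (D.Rk_card h3 k0)
    · intro h0
      rw [hc1, hc2, mul_pow]
      have hk00 : (k0 : ℕ) = 0 := h0
      have h4 : Nat.card (D.Rk k0 ⊓ centralizer ({R.t} : Set G) : Subgroup G) ^ 2 < Nat.card (D.Rk k0) :=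
        D.Rk_card_lt h3 (k := k0) (l := ⟨1, by omega⟩) hk00 (fun e => by
          have := congrArg Fin.val e
          rw [hk00] at this
          exact absurd this (by simp))
      exact Nat.mul_lt_mul_of_le_of_lt hA.crd h4 Nat.card_pos

end chain

section main

variable [Finite F] [Finite G]

/-- `U ≤ R_1 ⋯ R_n` -/
theorem Up_le_of_Rk {S : Subgroup G} (h2 : ∀ k, D.Rk k ≤ S) : R.Up ≤ S := by
  have hy : ∀ (k : Fin n) (a : F), R.y (Sum.inl k) a ∈ S := fun k a => h2 k (D.Yg_le_Rk ⟨a, rfl⟩)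
  have hx : ∀ (k j : Fin n), k < j → ∀ a : F,
      R.x (Sum.inl k) (Sum.inl j) a ∈ S ∧ R.x (Sum.inl k) (Sum.inr j) a ∈ S := by
    intro k j hkj a
    constructor
    · have hd : Dj (Sum.inl k : Ix n) (Sum.inl j) := ⟨fun h => hkj.ne (Sum.inl_injective h), fun h => by simp at h⟩
      refine h2 k (D.mem_Rk.mpr ⟨D.x_mem_F (Set.mem_univ _) hd a, ?_⟩)
      rintro _ ⟨l, hl, rfl⟩
      have e := R.h_x l (Sum.inl k) (Sum.inl j) a
      have hk : ev l (Sum.inl k : Ix n) = 1 := hl k le_rfl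
      have hj : ev l (Sum.inl j : Ix n) = 1 := hl j hkj.le
      rw [hk, hj, Units.val_one, one_mul, one_mul] at e
      exact mul_inv_eq_iff_eq_mul.mp e
    · have hd : Dj (Sum.inl k : Ix n) (Sum.inr j) := ⟨fun h => by simp at h, fun h => hkj.ne (Sum.inl_injective h)⟩
      refine h2 k (D.mem_Rk.mpr ⟨D.x_mem_F (Set.mem_univ _) hd a, ?_⟩)
      rintro _ ⟨l, hl, rfl⟩
      have e := R.h_x l (Sum.inl k) (Sum.inr j) a
      have hk : ev l (Sum.inl k : Ix n) = 1 := hl k le_rfl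
      have hj : ev l (Sum.inr j : Ix n) = 1 := by
        show (l j)⁻¹ = 1
        rw [hl j hkj.le, inv_one]
      rw [hk, hj, Units.val_one, one_mul, one_mul] at e
      exact mul_inv_eq_iff_eq_mul.mp e
  rw [R.Up_eq_closure, closure_le]
  rintro _ (⟨i, j, hij, h, a, rfl⟩ | ⟨i, h, a, rfl⟩)
  · rcases i with i | i <;> rcases j with j | j
    · rcases lt_trichotomy i j with h1 | h1 | h1
      · exact (hx i j h1 a).1
      · exact absurd (by rw [h1]) hij.1
      · rw [R.x_symm]; exact (hx j i h1 a).1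
    · rcases lt_trichotomy i j with h1 | h1 | h1
      · exact (hx i j h1 a).2
      · exact absurd (by rw [h1]; rfl) hij.2
      · exfalso
        have h2 := Fd_inl_lt h1
        have h3 : Fd (Sum.inr j : Ix n) = -Fd (Sum.inl j : Ix n) := Fd_neg (Sum.inl j)
        omega
    · rcases lt_trichotomy i j with h1 | h1 | h1
      · exfalso
        have h2 := Fd_inl_lt h1
        have h3 : Fd (Sum.inr i : Ix n) = -Fd (Sum.inl i : Ix n) := Fd_neg (Sum.inl i)
        omega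
      · exact absurd (by rw [h1]; rfl) hij.2
      · rw [R.x_symm]; exact (hx j i h1 a).2
    · exfalso
      have h2 := Fd_inl_pos i
      have h4 := Fd_inl_pos j
      have h3 : Fd (Sum.inr i : Ix n) = -Fd (Sum.inl i : Ix n) := Fd_neg (Sum.inl i)
      have h5 : Fd (Sum.inr j : Ix n) = -Fd (Sum.inl j : Ix n) := Fd_neg (Sum.inl j)
      omega
  · rcases i with i | i
    · exact hy i a
    · exfalso
      have h2 := Fd_inl_pos i
      have h3 : Fd (Sum.inr i : Ix n) = -Fd (Sum.inl i : Ix n) := Fd_neg (Sum.inl i)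
      omega

/-- **END (C,O) with an outer 2-part** -/
theorem out (hS : D.SemC) (hn : 3 ≤ n) {μ : Fˣ} (hμ : μ ≠ 1) {T : Subgroup G} (hT : R.OutT T) :
    R.t ∉ _root_.commutator G := by
  obtain ⟨S, C⟩ := D.exists_chn (exists_third hn) (by omega) hS hμ n le_rfl
  have h2 : ∀ k, D.Rk k ≤ S := fun k => C.rk k (by omega)
  have hUS : R.Up ≤ S := D.Up_le_of_Rk h2
  have hU : ∀ w, w ∈ R.Up ↔ w ∈ S ∧ w * R.t = R.t * w := by
    intro w
    refine ⟨fun hw => ⟨hUS hw, (Frame.Up_comm_t hw).eq⟩, fun hw => ?_⟩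
    have h4 : S ⊓ centralizer ({R.t} : Set G) ≤ R.Up := R.Up_max
      (C.good.p2.to_le inf_le_left) (fun x hx => C.ctK x hx.1 (mem_centralizer_singleton_iff.1 hx.2))
      (fun x hx => ⟨hUS hx, mem_centralizer_singleton_iff.2 (Frame.Up_comm_t hx).eq⟩)
    exact h4 ⟨hw.1, mem_centralizer_singleton_iff.2 hw.2⟩
  have hUc : S ⊓ centralizer ({R.t} : Set G) = R.Up := by
    ext w
    exact ⟨fun hw => (hU w).2 ⟨hw.1, mem_centralizer_singleton_iff.1 hw.2⟩,
      fun hw => ⟨hUS hw, mem_centralizer_singleton_iff.2 (Frame.Up_comm_t hw).eq⟩⟩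
  have F := hT.fr C.good.p2 (hT.norm_of hUS fun y _ σ lam hy => C.sem y σ lam hy) hU
  refine Out.FreeEnd.not_mem_commutator F C.good.tn ?_ ?_ ?_
  · intro u huu htu _ _
    have e : R.t * (R.t * u) = u := by rw [← mul_assoc, R.tt, one_mul]
    obtain ⟨c, hc, h⟩ := C.good.inv _ htu (by rw [e]; exact huu)
    exact ⟨c, hc, by rw [h, e]⟩
  · intro d hd w hw hdw h1 h4 h5
    obtain ⟨y, hy, u, hu, rfl, σ, lam, hs⟩ := hT.dec d hd
    have hyy : y * y ∈ R.Up := by
      have e : y * y = (y * u) * (y * u) * (u⁻¹ * (y⁻¹ * u * y)⁻¹) := by group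
      rw [e]
      have h6 := hT.conj_Up (inv_mem hy) hu
      rw [inv_inv] at h6
      exact mul_mem h5 (mul_mem (inv_mem hu) (inv_mem h6))
    have hy1 : y ∉ R.Up := fun h => h1 (mul_mem h hu)
    have hy2 : R.t * y ∉ R.Up := fun h => h4 (by rw [← mul_assoc]; exact mul_mem h hu)
    obtain ⟨hσ, hσ1⟩ := hT.field (by omega) hy hs hyy hy1 hy2
    have hy3 : y * y = 1 := (hs.mul hs).eq_one_of_Up hn hyy
    have e1 : y * u * w = y * (u * w) := mul_assoc _ _ _
    rw [e1] at hdw ⊢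
    exact C.free y σ lam hs hσ hσ1 hy3 _ (mul_mem (hUS hu) hw) hdw
  · have := C.crd' (by omega)
    rw [hUc] at this
    exact this.ne

end main

end COne

end Cfsg.Agent.OddHalf.SpN

end

-- merged: Cfsg.Agent.OddHalf.SpN.OutStart
section

/-!
# ODD D7, `K = Sp_2n(q)`, `q` even, `q ≥ 4`, `n ≥ 3`: section 1 with outer part (helper583)

`h : R.OutT T` (`OutDefs.lean`): `T` a maximal 2-subgroup of `C(t)`. `a, b, c : Fin n` with values `0, 1, 2`.

* `OutT.ot : StartB.OT T R.T1 …`, `OutT.nconj`, `OutT.front : Defs.Fr R.t R.t R.K R.Up (R.Z1 a b) T`, `OutT.sinp`;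
* `OutT.norm_T1'` : `N(T) ≤ N(T₁)`;
* `OutT.start`, `movesY`, `movesX`, `short_of`, `long_of`, `mixed_of` : as in `StartClean.lean`.
-/

set_option autoImplicit false

namespace Cfsg.Agent.OddHalf.SpN.Frame.OutT

open Cfsg Cfsg.Agent.ClassicalGeometry.SympBasic Cfsg.Agent.ClassicalGeometry.SympAutSemi
open Cfsg.Agent.OddHalf.SpN
open scoped Matrix commutatorElement
open Subgroup TU StartB WExist

variable {n : ℕ} {F : Type*} [Field F] {G : Type*} [Group G] {R : Frame n F G} {T : Subgroup G}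

/-- a 2-subgroup of `C(t)` is conjugate in `C(t)` into `T` -/
theorem exists_conj_le [Finite G] (h : R.OutT T) {V : Subgroup G} (hV : IsPGroup 2 V)
    (hVt : ∀ x ∈ V, x * R.t = R.t * x) : ∃ c : G, c * R.t = R.t * c ∧ ∀ x ∈ V, c * x * c⁻¹ ∈ T := by
  set C := centralizer ({R.t} : Set G) with hC
  have hTC : T ≤ C := fun x hx => mem_centralizer_singleton_iff.2 (h.Tc x hx)
  have hVC : V ≤ C := fun x hx => mem_centralizer_singleton_iff.2 (hVt x hx)
  let S1 : Sylow 2 C := ⟨T.subgroupOf C, h.T2.comap_of_injective C.subtype C.subtype_injective, by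
    intro Q hQ hle
    apply le_antisymm _ hle
    have h1 : Q.map C.subtype ≤ T := by
      apply h.Tmax _ (hQ.map C.subtype)
      · intro y hy
        exact ⟨⟨y, hTC hy⟩, hle (by exact hy), rfl⟩
      · rintro _ ⟨y, -, rfl⟩
        exact mem_centralizer_singleton_iff.1 y.2
    intro y hy
    exact h1 ⟨y, hy, rfl⟩⟩
  obtain ⟨S2, hS2⟩ := (hV.comap_of_injective C.subtype C.subtype_injective).exists_le_sylow
  obtain ⟨c, hc⟩ := MulAction.exists_smul_eq C S2 S1
  refine ⟨c, mem_centralizer_singleton_iff.1 c.2, fun x hx => ?_⟩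
  have h1 : (⟨x, hVC hx⟩ : C) ∈ (S2 : Subgroup C) := hS2 (by exact hx)
  have h2 : c * ⟨x, hVC hx⟩ * c⁻¹ ∈ (S1 : Subgroup C) := by
    rw [← hc]
    exact ⟨_, h1, rfl⟩
  exact h2

variable [CharP F 2] [Finite F]

theorem T1_le (h : R.OutT T) : R.T1 ≤ T := by
  rw [R.T1_eq_sup]
  exact sup_le h.UT (zpowers_le.2 h.tT)

theorem norm_Up (h : R.OutT T) {g : G} (hg : g ∈ T) : g ∈ normalizer (R.Up : Set G) := by
  have key : ∀ g ∈ T, ∀ u ∈ R.Up, g * u * g⁻¹ ∈ R.Up := by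
    intro g hg u hu
    have h1 := h.ab g hg u (h.UT hu)
    have e : g * u * g⁻¹ = g * u * g⁻¹ * u⁻¹ * u := by group
    rw [e]
    exact mul_mem h1 hu
  rw [mem_normalizer_iff]
  intro x
  refine ⟨key g hg x, fun hx => ?_⟩
  have := key g⁻¹ (inv_mem hg) _ hx
  have e : g⁻¹ * (g * x * g⁻¹) * g⁻¹⁻¹ = x := by group
  rwa [e] at this

theorem norm_T1 (h : R.OutT T) {g : G} (hg : g ∈ T) : g ∈ normalizer (R.T1 : Set G) := by
  have key : ∀ g ∈ T, ∀ u ∈ R.T1, g * u * g⁻¹ ∈ R.T1 := by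
    intro g hg u hu
    have hgt := h.Tc g hg
    obtain ⟨A, hA, rfl | rfl⟩ := hu
    · exact R.Up_le_T1 ((mem_normalizer_iff.1 (h.norm_Up hg) _).1 (by rw [R.Up_eq]; exact ⟨A, hA, rfl⟩))
    · have h1 := R.Up_le_T1 ((mem_normalizer_iff.1 (h.norm_Up hg) (R.ι A)).1 (by rw [R.Up_eq]; exact ⟨A, hA, rfl⟩))
      have e : g * (R.t * R.ι A) * g⁻¹ = R.t * (g * R.ι A * g⁻¹) := by
        calc g * (R.t * R.ι A) * g⁻¹ = (g * R.t) * R.ι A * g⁻¹ := by group
          _ = _ := by rw [hgt]; group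
      rw [e]
      exact mul_mem R.t_mem_T1 h1
  rw [mem_normalizer_iff]
  intro x
  refine ⟨key g hg x, fun hx => ?_⟩
  have := key g⁻¹ (inv_mem hg) _ hx
  have e : g⁻¹ * (g * x * g⁻¹) * g⁻¹⁻¹ = x := by group
  rwa [e] at this

/-- an element with `Sem y σ lam` and `c σ(s) = s` for all `s` is in `T₁` -/
theorem mem_T1_of_sem (h : R.OutT T) {y : G} (hy : y ∈ T) {σ : F ≃+* F} {lam : Fin n → Fˣ} (hs : R.Sem y σ lam)
    {c : F} (hc : ∀ s, c * σ s = s) : y ∈ R.T1 := by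
  have h1 := hc 1
  rw [map_one, mul_one] at h1
  subst h1
  have h2 : σ = 1 := by
    ext s
    have := hc s
    rw [one_mul] at this
    exact this
  subst h2
  rcases h.lin y hy lam hs with h3 | h3
  · exact R.Up_le_T1 h3
  · have h4 := mul_mem R.t_mem_T1 (R.Up_le_T1 h3)
    rwa [← mul_assoc, R.tt, one_mul] at h4

theorem bact (h : R.OutT T) {a b : Fin n} (ha : a.val = 0) (hb : b.val = 1) {g : G} (hg : g ∈ T)
    (hc : ∀ s, g * R.x (Sum.inl a) (Sum.inl b) s = R.x (Sum.inl a) (Sum.inl b) s * g) : g ∈ R.T1 := by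
  have nab : a ≠ b := by rintro rfl; omega
  obtain ⟨y, hy, u, hu, rfl, σ, lam, hs⟩ := h.dec g hg
  refine mul_mem (h.mem_T1_of_sem hy hs (c := ev lam (Sum.inl a) * ev lam (Sum.inl b)) fun s => ?_)
    (R.Up_le_T1 hu)
  have h1 := hs.yx _ _ (dj_inl nab) s
  have h2 := R.T1_x (i := Sum.inl a) (j := Sum.inl b) (by rw [pos_inl]; exact ha) (by rw [pos_inl]; exact hb)
    (dj_inl nab) u (R.Up_le_T1 hu) s
  have h3 : y * R.x (Sum.inl a) (Sum.inl b) s * y⁻¹ = R.x (Sum.inl a) (Sum.inl b) s := by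
    have h4 := hc s
    rw [mul_assoc, h2, ← mul_assoc, ← mul_assoc] at h4
    rw [mul_right_cancel h4]; group
  rw [h3] at h1
  exact (R.x_inj (dj_inl nab) h1).symm

theorem ract (h : R.OutT T) (hq : ∃ s : F, s ≠ 0 ∧ s ≠ 1) {a b c : Fin n} (ha : a.val = 0) (hb : b.val = 1)
    (hc : c.val = 2) {g : G} (hg : g ∈ T)
    (hr : ∀ u ∈ R.T1, R.rr (Sum.inl b) (Sum.inl c) (g * u * g⁻¹) = R.rr (Sum.inl b) (Sum.inl c) u) : g ∈ R.T1 := by
  have D := R.tu hq ha hb hc
  have nbc : b ≠ c := by rintro rfl; omega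
  have hbc : b < c := by rw [Fin.lt_def]; omega
  obtain ⟨y, hy, w, hw, rfl, σ, lam, hs⟩ := h.dec g hg
  have hw1 := R.Up_le_T1 hw
  refine mul_mem (h.mem_T1_of_sem hy hs (c := ev lam (Sum.inl b) * ev lam (Sum.inr c)) fun s => ?_) hw1
  set u := R.x (Sum.inl b) (Sum.inr c) s with hu
  have hrx : ∀ s : F, R.rr (Sum.inl b) (Sum.inl c) (R.x (Sum.inl b) (Sum.inr c) s) = s := by
    intro s
    rw [Frame.x, R.rr_ι, ent_sx (dj_inl_inr nbc)]
    simp [nbc]
  have hu1 : u ∈ R.T1 := R.ι_mem_T1 (sx_inl_inr_mem hbc s)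
  have r1 : R.rr (Sum.inl b) (Sum.inl c) (1 : G) = 0 := by
    have := D.r_mul 1 (one_mem _) 1 (one_mem _)
    rw [mul_one] at this
    exact (left_eq_add.1 this)
  have rinv : R.rr (Sum.inl b) (Sum.inl c) w⁻¹ + R.rr (Sum.inl b) (Sum.inl c) w = 0 := by
    rw [← D.r_mul _ (inv_mem hw1) _ hw1, inv_mul_cancel, r1]
  have h1 := hr (w⁻¹ * u * w) (mul_mem (mul_mem (inv_mem hw1) hu1) hw1)
  have e : y * w * (w⁻¹ * u * w) * (y * w)⁻¹ = y * u * y⁻¹ := by group
  rw [e, D.r_mul _ (mul_mem (inv_mem hw1) hu1) _ hw1, D.r_mul _ (inv_mem hw1) _ hu1, hu,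
    hs.yx _ _ (dj_inl_inr nbc), hrx, hrx] at h1
  rw [h1]
  linear_combination rinv

/-- `StartB.OT` -/
theorem ot (h : R.OutT T) (hq : ∃ s : F, s ≠ 0 ∧ s ≠ 1) {a b c : Fin n} (ha : a.val = 0) (hb : b.val = 1)
    (hc : c.val = 2) :
    OT T R.T1 (R.y (Sum.inl a)) (R.x (Sum.inl a) (Sum.inl b)) (R.x (Sum.inl a) (Sum.inl c))
      (R.y (Sum.inl b)) (R.rr (Sum.inl b) (Sum.inl c)) (R.rr (Sum.inl a) (Sum.inl b)) :=
  { R.tu hq ha hb hc with
    T1T := h.T1_le
    nT1 := fun g hg => h.norm_T1 hg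
    ract := fun g hg hr => h.ract hq ha hb hc hg hr
    bact := fun g hg hr => h.bact ha hb hg hr }

/-- `t` is not conjugate into `X_12 Y_1` -/
theorem nconj [Finite G] (h : R.OutT T) {a b c : Fin n} (ha : a.val = 0) (hb : b.val = 1) (hc : c.val = 2) {z : G}
    (hz : z ∈ R.Z1 a b) (g : G) : g * R.t * g⁻¹ ≠ z := by
  intro hg
  set U := (Uu n F).map R.ι with hU
  set V := U.map (MulAut.conj g⁻¹).toMonoidHom with hV
  have hV2 : IsPGroup 2 V := (Uu_isPGroup.map R.ι).map _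
  have hVt : ∀ x ∈ V, x * R.t = R.t * x := by
    rintro _ ⟨u, ⟨A, hA, rfl⟩, rfl⟩
    change g⁻¹ * R.ι A * g⁻¹⁻¹ * R.t = R.t * (g⁻¹ * R.ι A * g⁻¹⁻¹)
    have hc1 := R.Z1_comm ha hb hz _ (R.ι_mem_T1 hA)
    rw [← hg] at hc1
    calc g⁻¹ * R.ι A * g⁻¹⁻¹ * R.t = g⁻¹ * (R.ι A * (g * R.t * g⁻¹)) * g := by group
      _ = R.t * (g⁻¹ * R.ι A * g⁻¹⁻¹) := by rw [hc1]; group
  obtain ⟨c', hct, hcV⟩ := h.exists_conj_le hV2 hVt
  have h2 : R.t ∈ ⁅V, V⁆ := by
    rw [hV, ← map_commutator]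
    refine ⟨z, ?_, ?_⟩
    · have := R.Z1_le ha hb hc hz
      rwa [map_commutator] at this
    · change g⁻¹ * z * g⁻¹⁻¹ = R.t
      rw [← hg]; group
  have h3 : ⁅V, V⁆ ≤ R.Up.comap (MulAut.conj c').toMonoidHom := by
    rw [commutator_le]
    intro x hx y hy
    change c' * ⁅x, y⁆ * c'⁻¹ ∈ R.Up
    have e : c' * ⁅x, y⁆ * c'⁻¹ = (c' * x * c'⁻¹) * (c' * y * c'⁻¹) * (c' * x * c'⁻¹)⁻¹ * (c' * y * c'⁻¹)⁻¹ := by
      rw [commutatorElement_def]; group
    rw [e]
    exact h.ab _ (hcV x hx) _ (hcV y hy)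
  have h4 : c' * R.t * c'⁻¹ ∈ R.Up := h3 h2
  rw [hct, mul_inv_cancel_right] at h4
  exact R.t_notMem_K (R.Up_le h4)

/-- **the frame of the front** -/
theorem front [Finite G] (h : R.OutT T) {a b c : Fin n} (ha : a.val = 0) (hb : b.val = 1) (hc : c.val = 2) :
    D7Out.Defs.Fr R.t R.t R.K R.Up (R.Z1 a b) T where
  tt := R.tt
  t1 := R.t1
  pR := R.zpowers_pgroup
  tR := mem_zpowers _
  nK := fun g hg => R.norm_K hg
  vK := by
    rintro _ ⟨k, rfl⟩
    exact (R.comm k).eq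
  cK := fun c hct hcK => by
    rcases R.cK c hct (fun k => (hcK _ ⟨k, rfl⟩).symm) with rfl | rfl
    · exact one_mem _
    · exact mem_zpowers _
  KR := by
    rintro _ ⟨k, rfl⟩ hk
    exact (R.zpowers_t hk).resolve_right (R.tK k)
  pT := h.T2
  vT := h.tT
  tc := h.Tc
  max := h.Tmax
  U_eq := by
    apply le_antisymm (le_inf h.UT R.Up_le)
    rintro _ ⟨hg, A, rfl⟩
    exact h.TK A hg
  ZU := by
    rw [R.Up_eq]
    exact (R.Z1_le ha hb hc).trans (map_mono (Subgroup.commutator_le_self _))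
  Zc := fun z hz u hu => R.Z1_comm ha hb hz u (R.Up_le_T1 hu)
  Zsq := fun z hz => R.Z1_sq hz
  Z1 := by
    intro h
    have h1 : R.y (Sum.inl a) 1 ∈ R.Z1 a b := ⟨0, 1, by rw [R.x_zero, one_mul]⟩
    rw [h, mem_bot] at h1
    exact one_ne_zero (R.y_eq_one h1)
  cU := fun x hx hxU => by
    have hx1 : x ∈ R.T1 := h.bact ha hb hx fun s => hxU _ (by
      rw [R.Up_eq]; exact ⟨_, sx_inl_inl_mem _ _ _, rfl⟩)
    obtain ⟨s, s', h1⟩ := R.center_T1 ha hb hx1 (fun A hA => hxU _ (by rw [R.Up_eq]; exact ⟨A, hA, rfl⟩))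
    rcases h1 with h1 | h1
    · exact ⟨1, one_mem _, _, ⟨s, s', rfl⟩, by rw [one_mul]; exact h1⟩
    · exact ⟨R.t, mem_zpowers _, _, ⟨s, s', rfl⟩, h1⟩
  nconj := fun z hz g => h.nconj ha hb hc hz g

/-- the input of section 1 -/
theorem sinp [Finite G] (h : R.OutT T) (hq : ∃ s : F, s ≠ 0 ∧ s ≠ 1) {a b c : Fin n} (ha : a.val = 0)
    (hb : b.val = 1) (hc : c.val = 2) :
    SInp R.t R.t R.K R.Up (R.Z1 a b) T R.T1 (R.A1 a) (R.B1 a b) R.h.range (R.y (Sum.inl a))
      (R.x (Sum.inl a) (Sum.inl b)) (R.x (Sum.inl a) (Sum.inl c)) (R.y (Sum.inl b))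
      (R.rr (Sum.inl b) (Sum.inl c)) (R.rr (Sum.inl a) (Sum.inl b)) where
  fr := h.front ha hb hc
  ot := h.ot hq ha hb hc
  hA := fun g => by rw [R.mem_A1]; exact ⟨fun ⟨s, e⟩ => ⟨s, e.symm⟩, fun ⟨s, e⟩ => ⟨s, e.symm⟩⟩
  hB := fun g => by rw [R.mem_B1]; exact ⟨fun ⟨s, e⟩ => ⟨s, e.symm⟩, fun ⟨s, e⟩ => ⟨s, e.symm⟩⟩
  hZ := fun z hz => hz
  Ht := by
    rintro _ ⟨lam, rfl⟩
    exact (R.h_t lam).eq
  HT1 := by
    rintro _ ⟨lam, rfl⟩
    exact R.h_T1 lam
  tr := fun s s' p p' hs hs' hp hp' => R.tor_trans (dj_inl (by rintro rfl; omega)) hs hs' hp hp'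

variable [Finite G]

/-- `N(T) ≤ N(T₁)` -/
theorem norm_T1' (h : R.OutT T) (hq : ∃ s : F, s ≠ 0 ∧ s ≠ 1) {a b c : Fin n} (ha : a.val = 0)
    (hb : b.val = 1) (hc : c.val = 2) {g : G} (hg : g ∈ normalizer (T : Set G)) : g ∈ normalizer (R.T1 : Set G) :=
  (h.ot hq ha hb hc).norm_T1 h.T2 hg

/-- the long root elements are moved inside `N(T₁)` if one of them is moved -/
theorem movesY (h : R.OutT T) (hq : ∃ s : F, s ≠ 0 ∧ s ≠ 1) {a b c : Fin n} (ha : a.val = 0) (hb : b.val = 1)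
    (hc : c.val = 2) {s : F} (hs : s ≠ 0) (h' : IsConj R.t (R.t * R.y (Sum.inl a) s)) :
    ∀ u, ∃ g ∈ normalizer (R.T1 : Set G), Mv R.t (R.y (Sum.inl a)) R.h (chiy (Sum.inl a)) g u :=
  R.mvY (by omega) hq (by rw [pos_inl]; exact ha)
    (fus_coord (fun _ => Iff.rfl) ((h.sinp hq ha hb hc).fusA hs h'))

/-- the short root elements are moved inside `N(T₁)` if one of them is moved -/
theorem movesX (h : R.OutT T) (hq : ∃ s : F, s ≠ 0 ∧ s ≠ 1) {a b c : Fin n} (ha : a.val = 0) (hb : b.val = 1)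
    (hc : c.val = 2) {s : F} (hs : s ≠ 0) (h' : IsConj R.t (R.t * R.x (Sum.inl a) (Sum.inl b) s)) :
    ∀ u, ∃ g ∈ normalizer (R.T1 : Set G), Mv R.t (R.x (Sum.inl a) (Sum.inl b)) R.h
      (chix (Sum.inl a) (Sum.inl b)) g u :=
  R.mvX (by omega) hq (by rw [pos_inl]; exact ha) (by rw [pos_inl]; exact hb)
    (fus_coord (fun _ => Iff.rfl) ((h.sinp hq ha hb hc).fusB hs h'))

/-- **Section 1 with outer part.** -/
theorem start (h : R.OutT T) (hq : ∃ s : F, s ≠ 0 ∧ s ≠ 1) {a b c : Fin n} (ha : a.val = 0) (hb : b.val = 1)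
    (hc : c.val = 2) (hni : ¬ D7Out.Defs.Iso R.t T) :
    (∃ s : F, s ≠ 0 ∧ IsConj R.t (R.t * R.y (Sum.inl a) s)) ∨
      ∃ s : F, s ≠ 0 ∧ IsConj R.t (R.t * R.x (Sum.inl a) (Sum.inl b) s) := by
  rcases (h.sinp hq ha hb hc).start hni with h1 | h1
  · left
    obtain ⟨g, -, -, h2⟩ := h1 (R.y (Sum.inl a) 1) ⟨1, rfl⟩
    exact ⟨1, one_ne_zero, isConj_iff.2 ⟨g, h2⟩⟩
  · right
    obtain ⟨g, -, -, h2⟩ := h1 (R.x (Sum.inl a) (Sum.inl b) 1) ⟨1, rfl⟩
    exact ⟨1, one_ne_zero, isConj_iff.2 ⟨g, h2⟩⟩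

/-- long and mixed moved: short moved -/
theorem short_of (h : R.OutT T) (hq : ∃ s : F, s ≠ 0 ∧ s ≠ 1) {a b c : Fin n} (ha : a.val = 0) (hb : b.val = 1)
    (hc : c.val = 2) {s : F} (hs : s ≠ 0) (h1 : IsConj R.t (R.t * R.y (Sum.inl a) s)) {p p' : F} (hp : p ≠ 0)
    (h' : IsConj R.t (R.t * (R.x (Sum.inl a) (Sum.inl b) p * R.y (Sum.inl a) p'))) :
    ∃ s : F, s ≠ 0 ∧ IsConj R.t (R.t * R.x (Sum.inl a) (Sum.inl b) s) :=
  (h.sinp hq ha hb hc).short_of_mixed ((h.sinp hq ha hb hc).fusA hs h1) hp h'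

/-- short and mixed moved: long moved -/
theorem long_of (h : R.OutT T) (hq : ∃ s : F, s ≠ 0 ∧ s ≠ 1) {a b c : Fin n} (ha : a.val = 0) (hb : b.val = 1)
    (hc : c.val = 2) {s : F} (hs : s ≠ 0) (h1 : IsConj R.t (R.t * R.x (Sum.inl a) (Sum.inl b) s)) {p p' : F}
    (hp' : p' ≠ 0) (h' : IsConj R.t (R.t * (R.x (Sum.inl a) (Sum.inl b) p * R.y (Sum.inl a) p'))) :
    ∃ s : F, s ≠ 0 ∧ IsConj R.t (R.t * R.y (Sum.inl a) s) :=
  (h.sinp hq ha hb hc).long_of_mixed ((h.sinp hq ha hb hc).fusB hs h1) hp' h'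

/-- long and short moved: mixed moved -/
theorem mixed_of (h : R.OutT T) (hq : ∃ s : F, s ≠ 0 ∧ s ≠ 1) {a b c : Fin n} (ha : a.val = 0) (hb : b.val = 1)
    (hc : c.val = 2) {s s' : F} (hs : s ≠ 0) (h1 : IsConj R.t (R.t * R.y (Sum.inl a) s)) (hs' : s' ≠ 0)
    (h' : IsConj R.t (R.t * R.x (Sum.inl a) (Sum.inl b) s')) (p p' : F) :
    IsConj R.t (R.t * (R.x (Sum.inl a) (Sum.inl b) p * R.y (Sum.inl a) p')) :=
  (h.sinp hq ha hb hc).mixed_of ((h.sinp hq ha hb hc).fusA hs h1) ((h.sinp hq ha hb hc).fusB hs' h') p p'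

end Cfsg.Agent.OddHalf.SpN.Frame.OutT

end

-- merged: Cfsg.Agent.OddHalf.SpN.OutGrd
section

/-!
# Tools for the END with an outer 2-part (helper200)

* `card_lt`: `|U*| < |U|²` if one marked level is not trivial;
* `card_fix_sq_le`: `|{a | c σ(a) = a}|² ≤ |F|` for an automorphism `σ ≠ 1`;
* `card_double`, `card_single`: `|C_V(y)|² ≤ |V|` for a double `V`, and for a root group;
* `hfld_of`, `hDN_of`: the hypotheses of `EndOut.end_out'` for a graded group from a family of root groups.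
-/

set_option autoImplicit false

namespace Cfsg.Agent.OddHalf.SpN.OutGrd

open Cfsg.Agent.OddHalf.F4 Cfsg.Agent.OddHalf.F4.EndO Subgroup

variable {G : Type*} [Group G]

section grd

variable {t : G} {V X : ℕ → Subgroup G} {lg : ℕ → Prop} {R n : ℕ}

theorem card_NV_le [Finite G] (h : Grd t V X lg R n) {k : ℕ} (hk : 1 ≤ k) :
    Nat.card (N V k) ≤ Nat.card (V k) * Nat.card (N V (k + 1)) := by
  have h1 := (Grd.card_aux (A := N V k) (B := V k) (M := N V (k + 1)) (fun g hg => by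
    obtain ⟨v, hv, g', hg', rfl⟩ := h.decomp hk hg
    exact ⟨v, hv, by rw [inv_mul_cancel_left]; exact hg'⟩)).1
  have h2 : N V k ⊓ N V (k + 1) = N V (k + 1) := inf_eq_right.2 (N_anti V (Nat.le_succ k))
  rwa [h2] at h1

theorem card_V_le [Finite G] (h : Grd t V X lg R n) (k : ℕ) : Nat.card (V k) ≤ Nat.card (X k) ^ 2 := by
  classical
  have h1 : ∀ v : V k, (v : G)⁻¹ * (t * v * t) ∈ X k := fun v => h.brk v.2
  let β : V k → X k := fun v => ⟨_, h1 v⟩
  let I : Set (X k) := Set.range β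
  have hs : ∀ b : I, ∃ a : V k, β a = b.1 := fun b => b.2
  choose s hs using hs
  have hmem : ∀ a : V k, (s ⟨β a, a, rfl⟩ : G)⁻¹ * a ∈ X k := by
    intro a
    set b := s ⟨β a, a, rfl⟩ with hb
    have h2 : β b = β a := hs _
    have h3 : (b : G)⁻¹ * (t * b * t) = (a : G)⁻¹ * (t * a * t) := congrArg Subtype.val h2
    refine h.fix k _ (mul_mem (inv_mem b.2) a.2) ?_
    have h4 : t * (b : G) * t = b * ((a : G)⁻¹ * (t * a * t)) := by rw [← h3]; group
    rw [h.conj_mul, h.conj_inv, h4]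
    have h5 : Commute (a : G) (t * a * t) := h.V_comm a.2 (h.conj k _ a.2)
    have h6 : Commute (b : G) (a : G) := h.V_comm b.2 a.2
    have h7 : Commute (b : G) (t * a * t) := h.V_comm b.2 (h.conj k _ a.2)
    calc ((b : G) * ((a : G)⁻¹ * (t * a * t)))⁻¹ * (t * a * t) =
        ((t * a * t)⁻¹ * a) * ((b : G)⁻¹ * (t * a * t)) := by group
      _ = ((t * a * t)⁻¹ * a) * ((t * a * t) * (b : G)⁻¹) := by rw [(h7.inv_left).eq]
      _ = (t * a * t)⁻¹ * (a * (t * a * t)) * (b : G)⁻¹ := by group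
      _ = a * (b : G)⁻¹ := by rw [h5.eq]; group
      _ = (b : G)⁻¹ * a := h6.inv_left.symm.eq
  let f : V k → X k × X k := fun a => (β a, ⟨_, hmem a⟩)
  have hf : Function.Injective f := by
    intro a a' haa
    have h1 : β a = β a' := congrArg (fun z => z.1) haa
    have h2 : (s ⟨β a, a, rfl⟩ : G)⁻¹ * a = (s ⟨β a', a', rfl⟩ : G)⁻¹ * a' :=
      congrArg (fun z => ((z.2 : X k) : G)) haa
    have h3 : (⟨β a, a, rfl⟩ : I) = ⟨β a', a', rfl⟩ := Subtype.ext h1
    rw [h3] at h2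
    exact Subtype.ext (mul_left_cancel h2)
  have := Nat.card_le_card_of_injective f hf
  rw [Nat.card_prod] at this
  rwa [sq]

/-- `|U*| < |U|²` -/
theorem card_lt [Finite G] (h : Grd t V X lg R n) {k0 : ℕ} (hk0 : 1 ≤ k0) (hl : lg k0) (hX : X k0 ≠ ⊥) :
    Nat.card (N V 1) < Nat.card (N X 1) ^ 2 := by
  have hlt : Nat.card (V k0) < Nat.card (X k0) ^ 2 := by
    have h1 : V k0 = X k0 := le_antisymm (h.lgV k0 hl) (h.X_le k0)
    rw [h1]
    have h2 : 1 < Nat.card (X k0) := by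
      have : Nontrivial (X k0) := nontrivial_iff_ne_bot _ |>.2 hX
      exact Finite.one_lt_card
    nlinarith
  have main : ∀ c k : ℕ, n < k + c → 1 ≤ k →
      Nat.card (N V k) ≤ Nat.card (N X k) ^ 2 ∧ (k ≤ k0 → Nat.card (N V k) < Nat.card (N X k) ^ 2) := by
    intro c
    induction c with
    | zero =>
      intro k hk hk1
      have h1 : N V k = ⊥ := h.top_N (by omega)
      refine ⟨?_, fun hkk => ?_⟩
      · rw [h1, card_bot]
        have : 0 < Nat.card (N X k) := Nat.card_pos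
        nlinarith
      · exfalso
        apply hX
        rw [eq_bot_iff]
        exact (h.X_le k0).trans ((h.top k0 (by omega)).le)
    | succ c ih =>
      intro k hk hk1
      obtain ⟨ih1, ih2⟩ := ih (k + 1) (by omega) (by omega)
      have h1 := card_NV_le h hk1
      have h2 := card_V_le h k
      have h3 := h.card_NX hk1
      have h4 : (Nat.card (X k) * Nat.card (N X (k + 1))) ^ 2 ≤ Nat.card (N X k) ^ 2 := Nat.pow_le_pow_left h3 2
      rw [mul_pow] at h4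
      refine ⟨h1.trans ((Nat.mul_le_mul h2 ih1).trans h4), fun hkk => ?_⟩
      rcases hkk.eq_or_lt with rfl | hlt'
      · refine lt_of_le_of_lt h1 (lt_of_lt_of_le ?_ h4)
        exact Nat.mul_lt_mul_of_lt_of_le hlt ih1 (pow_pos Nat.card_pos 2)
      · refine lt_of_le_of_lt h1 (lt_of_lt_of_le ?_ h4)
        exact Nat.mul_lt_mul_of_le_of_lt h2 (ih2 hlt') (pow_pos Nat.card_pos 2)
  exact (main (n + 1) 1 (by omega) le_rfl).2 hk0

end grd

section card

variable {F : Type*} [Field F] [Finite F]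

/-- the fixed points of a semilinear map -/
theorem card_fix_sq_le (σ : F ≃+* F) (h1 : ∃ a, σ a ≠ a) (c : F) :
    Nat.card {a : F // c * σ a = a} ^ 2 ≤ Nat.card F := by
  obtain ⟨θ, hθ⟩ := h1
  rw [sq, ← Nat.card_prod]
  refine Nat.card_le_card_of_injective
    (fun z : {a : F // c * σ a = a} × {a : F // c * σ a = a} => (z.1 : F) + z.2 * θ) ?_
  rintro ⟨⟨a, ha⟩, ⟨b, hb⟩⟩ ⟨⟨a', ha'⟩, ⟨b', hb'⟩⟩ he
  have he' : a + b * θ = a' + b' * θ := he
  have hα : c * σ (a - a') = a - a' := by rw [map_sub, mul_sub, ha, ha']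
  have hβ : c * σ (b' - b) = b' - b := by rw [map_sub, mul_sub, hb, hb']
  have h2 : a - a' = (b' - b) * θ := by linear_combination he'
  by_cases h0 : b' - b = 0
  · have h3 : a - a' = 0 := by rw [h2, h0, zero_mul]
    have h4 : a = a' := sub_eq_zero.1 h3
    have h5 : b' = b := sub_eq_zero.1 h0
    subst h4; subst h5; rfl
  · exfalso
    apply hθ
    have h3 : c * σ ((b' - b) * θ) = (b' - b) * θ := by rw [← h2]; exact hα
    rw [map_mul, ← mul_assoc, hβ] at h3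
    exact mul_left_cancel₀ h0 h3

/-- the fixed points of `y` on a root group -/
theorem card_single [Finite G] {X : Subgroup G} {Y : F → G} (hX : ∀ g, g ∈ X ↔ ∃ a, g = Y a)
    (inj : ∀ a b, Y a = Y b → a = b) {y : G} {c : F} {σ : F ≃+* F} (hσ : ∃ a, σ a ≠ a)
    (hy : ∀ a, y * Y a * y⁻¹ = Y (c * σ a)) :
    Nat.card (X ⊓ centralizer {y} : Subgroup G) ^ 2 ≤ Nat.card X := by
  have h1 : Nat.card (X ⊓ centralizer {y} : Subgroup G) ≤ Nat.card {a : F // c * σ a = a} := by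
    have hc : ∀ z : (X ⊓ centralizer {y} : Subgroup G), ∃ a : {a : F // c * σ a = a}, (z : G) = Y a := by
      rintro ⟨z, hz, hz'⟩
      obtain ⟨a, rfl⟩ := (hX z).1 hz
      refine ⟨⟨a, inj _ _ ?_⟩, rfl⟩
      rw [← hy]
      have := mem_centralizer_singleton_iff.1 hz'
      rw [← this]; group
    choose f hf using hc
    refine Nat.card_le_card_of_injective f fun z z' h => Subtype.ext ?_
    rw [hf z, hf z', h]
  have h2 : Nat.card F ≤ Nat.card X :=
    Nat.card_le_card_of_injective (fun a => (⟨Y a, (hX _).2 ⟨a, rfl⟩⟩ : X))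
      fun a b h => inj _ _ (congrArg Subtype.val h)
  exact ((Nat.pow_le_pow_left h1 2).trans (card_fix_sq_le σ hσ c)).trans h2

/-- the fixed points of `y` on a double of a root group -/
theorem card_double [Finite G] {V : Subgroup G} {t : G} {Y : F → G} (hadd : ∀ a b, Y (a + b) = Y a * Y b)
    (inj : ∀ a b, Y a = Y b → a = b) (mem : ∀ a, Y a ∈ V)
    (ht : ∀ g ∈ V, ∃ u, t * g * t = g * Y u) (onto : ∀ u, ∃ g ∈ V, t * g * t = g * Y u)
    (ker : ∀ g ∈ V, t * g * t = g → ∃ a, g = Y a) (Yt : ∀ a, t * Y a * t = Y a) (hc : ∀ g ∈ V, ∀ a, g * Y a = Y a * g) (tt : t * t = 1)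
    {y : G} (hyt : Commute y t) {c : F} {σ : F ≃+* F} (hσ : ∃ a, σ a ≠ a)
    (hy : ∀ a, y * Y a * y⁻¹ = Y (c * σ a)) :
    Nat.card (V ⊓ centralizer {y} : Subgroup G) ^ 2 ≤ Nat.card V := by
  classical
  set E := {a : F // c * σ a = a} with hE
  have hEc : Nat.card E ^ 2 ≤ Nat.card F := card_fix_sq_le σ hσ c
  have tinv : t⁻¹ = t := inv_eq_of_mul_eq_one_left tt
  have tm : ∀ a b : G, t * (a * b) * t = (t * a * t) * (t * b * t) := fun a b => by
    calc t * (a * b) * t = t * a * 1 * b * t := by group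
      _ = _ := by rw [← tt]; group
  have ti : ∀ a : G, t * a⁻¹ * t = (t * a * t)⁻¹ := fun a => by
    rw [mul_inv_rev, mul_inv_rev, tinv, mul_assoc]
  -- same height
  have same : ∀ g ∈ V, ∀ g' ∈ V, ∀ u, t * g * t = g * Y u → t * g' * t = g' * Y u → ∃ a, g' = g * Y a := by
    intro g hg g' hg' u h1 h2
    obtain ⟨a, ha⟩ := ker (g⁻¹ * g') (mul_mem (inv_mem hg) hg') (by
      rw [tm, ti, h1, h2, hc g hg u]
      have h3 := hc g' hg' u
      calc (Y u * g)⁻¹ * (g' * Y u) = g⁻¹ * ((Y u)⁻¹ * (g' * Y u)) := by group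
        _ = g⁻¹ * g' := by rw [h3]; group)
    exact ⟨a, by rw [← ha]; group⟩
  -- `|F|² ≤ |V|`
  have hVF : Nat.card F ^ 2 ≤ Nat.card V := by
    choose r hr hrt using onto
    rw [sq, ← Nat.card_prod]
    refine Nat.card_le_card_of_injective (fun z : F × F => (⟨r z.1 * Y z.2, mul_mem (hr _) (mem _)⟩ : V)) ?_
    rintro ⟨u, a⟩ ⟨u', a'⟩ he
    have h1 : r u * Y a = r u' * Y a' := congrArg Subtype.val he
    have h2 : ∀ u a, t * (r u * Y a) * t = r u * Y a * Y u := by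
      intro u a
      rw [tm, hrt, Yt, mul_assoc, ← hadd, add_comm, hadd, mul_assoc]
    have h3 : Y u = Y u' := by
      have h4 := h2 u a
      rw [h1, h2 u' a'] at h4
      exact (mul_left_cancel h4).symm
    have h4 := inj _ _ h3
    subst h4
    have h5 := inj _ _ (mul_left_cancel h1)
    subst h5
    rfl
  -- `|C| ≤ |E|²`
  set C : Subgroup G := V ⊓ centralizer {y} with hC
  have hCm : ∀ z ∈ C, z ∈ V ∧ y * z * y⁻¹ = z := by
    rintro z ⟨h1, h2⟩
    refine ⟨h1, ?_⟩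
    rw [← mem_centralizer_singleton_iff.1 h2]; group
  have hcE : ∀ z : C, ∃ u : E, t * (z : G) * t = z * Y u := by
    rintro ⟨z, hz⟩
    obtain ⟨h1, h2⟩ := hCm z hz
    obtain ⟨u, hu⟩ := ht z h1
    refine ⟨⟨u, inj _ _ ?_⟩, hu⟩
    rw [← hy]
    have h3 : y⁻¹ * t = t * y⁻¹ := hyt.inv_left.eq
    have h4 : y * (t * z * t) * y⁻¹ = t * z * t := by
      calc y * (t * z * t) * y⁻¹ = (y * t) * z * (t * y⁻¹) := by group
        _ = t * (y * z * y⁻¹) * t := by rw [hyt.eq, ← h3]; group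
        _ = _ := by rw [h2]
    rw [hu] at h4
    have h5 : y * (z * Y u) * y⁻¹ = (y * z * y⁻¹) * (y * Y u * y⁻¹) := by group
    rw [h5, h2] at h4
    exact mul_left_cancel h4
  choose β hβ using hcE
  let I : Set E := Set.range β
  have hs : ∀ b : I, ∃ z : C, β z = b.1 := fun b => b.2
  choose s hs using hs
  have hmem : ∀ z : C, ∃ a : E, (z : G) = s ⟨β z, z, rfl⟩ * Y a := by
    intro z
    set b := s ⟨β z, z, rfl⟩ with hb
    have h2 : β b = β z := hs _
    obtain ⟨a, ha⟩ := same b (hCm b b.2).1 z (hCm z z.2).1 (β z) (by rw [← h2]; exact hβ b) (hβ z)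
    refine ⟨⟨a, inj _ _ ?_⟩, ha⟩
    rw [← hy]
    have h3 : Y a = (b : G)⁻¹ * z := by rw [ha]; group
    rw [h3]
    calc y * ((b : G)⁻¹ * z) * y⁻¹ = (y * b * y⁻¹)⁻¹ * (y * z * y⁻¹) := by group
      _ = _ := by rw [(hCm b b.2).2, (hCm z z.2).2]
  choose α hα using hmem
  have hle : Nat.card C ≤ Nat.card E ^ 2 := by
    rw [sq, ← Nat.card_prod]
    refine Nat.card_le_card_of_injective (fun z : C => (β z, α z)) ?_
    intro z z' h
    have h1 : β z = β z' := congrArg Prod.fst h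
    have h2 : α z = α z' := congrArg Prod.snd h
    have h3 : (⟨β z, z, rfl⟩ : I) = ⟨β z', z', rfl⟩ := Subtype.ext h1
    apply Subtype.ext
    rw [hα z, hα z', h3, h2]
  calc Nat.card C ^ 2 ≤ (Nat.card E ^ 2) ^ 2 := Nat.pow_le_pow_left hle 2
    _ ≤ Nat.card F ^ 2 := Nat.pow_le_pow_left hEc 2
    _ ≤ Nat.card V := hVF

end card

section fam

open GradeOf

variable {P : Type*} {t : G} {deg : P → ℕ} {V X : P → Subgroup G} {lg : ℕ → Prop} {R n : ℕ}

theorem hDN_of (hV : ∀ p q, 0 < deg p → deg p = deg q → V p = V q) {y : G}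
    (hy : ∀ p, 0 < deg p → ∀ v ∈ V p, y * v * y⁻¹ ∈ V p) {i : ℕ} {v : G}
    (hv : v ∈ N (Vd deg V) i) : y * v * y⁻¹ ∈ N (Vd deg V) i := by
  have h1 : ∀ j, ∀ v ∈ Vd deg V j, y * v * y⁻¹ ∈ Vd deg V j := by
    intro j v hv
    by_cases h : ∃ p, 0 < deg p ∧ deg p = j
    · obtain ⟨p, hp, rfl⟩ := h
      rw [Vd_eq hV hp] at hv ⊢
      exact hy p hp v hv
    · push Not at h
      rw [Vd_bot h, mem_bot] at hv ⊢
      rw [hv]; group
  have h2 : N (Vd deg V) i ≤ (N (Vd deg V) i).comap (MulAut.conj y).toMonoidHom := by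
    refine N_le fun j hj v hv => ?_
    exact le_N _ hj (h1 j v hv)
  exact h2 hv

theorem hfld_of (h : Grd t (Vd deg V) (Vd deg X) lg R n)
    (hV : ∀ p q, 0 < deg p → deg p = deg q → V p = V q) {y : G}
    (hy : ∀ p, 0 < deg p → ∀ v ∈ V p, y * v * y⁻¹ ∈ V p)
    (hc : ∀ p, 0 < deg p → Nat.card (V p ⊓ centralizer {y} : Subgroup G) ^ 2 ≤ Nat.card (V p)) {i : ℕ} (hi : 1 ≤ i) :
    ∃ K : Subgroup G, (∀ v ∈ Vd deg V i, v⁻¹ * (y * v * y⁻¹) ∈ N (Vd deg V) (i + 1) → v ∈ K) ∧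
      Nat.card K ^ 2 ≤ Nat.card (Vd deg V i) := by
  by_cases h' : ∃ p, 0 < deg p ∧ deg p = i
  · obtain ⟨p, hp, rfl⟩ := h'
    have hVe := Vd_eq hV hp
    refine ⟨V p ⊓ centralizer {y}, fun v hv hv' => ?_, by rw [hVe]; exact hc p hp⟩
    have hv1 : v ∈ V p := by rwa [hVe] at hv
    refine ⟨hv1, mem_centralizer_singleton_iff.2 ?_⟩
    have h2 : v⁻¹ * (y * v * y⁻¹) ∈ Vd deg V (deg p) := by
      rw [hVe]; exact mul_mem (inv_mem hv1) (hy p hp v hv1)
    have h3 := h.ind hi h2 hv'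
    rw [inv_mul_eq_one] at h3
    calc v * y = (y * v * y⁻¹) * y := by rw [← h3]
      _ = y * v := by group
  · push Not at h'
    refine ⟨⊥, fun v hv _ => ?_, ?_⟩
    · rwa [Vd_bot h'] at hv
    · rw [card_bot, Vd_bot h', card_bot]; norm_num

end fam

end Cfsg.Agent.OddHalf.SpN.OutGrd

end

-- merged: Cfsg.Agent.OddHalf.SpN.OutLS
section

/-!
# Patterns `{l}` and `{s}` with an outer 2-part, `q ≥ 4` (helper200)

`DL.out`, `DS.out` : `t` is not in the commutator subgroup of `G`, for a 2-group `T` as in `Frame.OutT`.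
-/

set_option autoImplicit false
set_option maxHeartbeats 400000

namespace Cfsg.Agent.OddHalf.SpN

open Cfsg.Agent.OddHalf.F4.EndO Cfsg.Agent.OddHalf.F4 Subgroup
open scoped commutatorElement

variable {n : ℕ} {F : Type*} [Field F] {G : Type*} [Group G] [CharP F 2] {R : Frame n F G}

theorem XP_dgC {p q : PP n} (hp : 0 < dN dgC p) (hpq : dN dgC p = dN dgC q) : R.XP p = R.XP q := by
  have h1 := dN_pos.1 hp
  have h2 := dN_pos.1 (hpq ▸ hp)
  rcases uniqC (p := p) (q := q) h1 (by rw [← dN_cast h1, ← dN_cast h2, hpq]) with rfl | rfl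
  · rfl
  · exact R.XP_symm _ _

namespace Frame

variable (R)

/-- fixed points on `X_ij` -/
theorem card_xs [Finite F] [Finite G] {i j : Ix n} (hij : Dj i j) {y : G} {σ : F ≃+* F} {lam : Fin n → Fˣ}
    (A : R.Sem y σ lam) (hσ : ∃ a, σ a ≠ a) :
    Nat.card (R.xs i j ⊓ centralizer {y} : Subgroup G) ^ 2 ≤ Nat.card (R.xs i j) :=
  OutGrd.card_single (Y := R.x i j) (fun _ => Iff.rfl) (fun _ _ => R.x_inj hij) hσ
    (fun a => A.yx i j hij a)

theorem card_ys [Finite F] [Finite G] {i : Ix n} {y : G} {σ : F ≃+* F} {lam : Fin n → Fˣ}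
    (A : R.Sem y σ lam) (hσ : ∃ a, σ a ≠ a) :
    Nat.card (R.ys i ⊓ centralizer {y} : Subgroup G) ^ 2 ≤ Nat.card (R.ys i) :=
  OutGrd.card_single (Y := R.y i) (fun _ => Iff.rfl) (fun _ _ => R.y_inj) hσ
    (fun a => A.yy i a)

theorem sem_xs {i j : Ix n} (hij : Dj i j) {y : G} {σ : F ≃+* F} {lam : Fin n → Fˣ} (A : R.Sem y σ lam) {v : G}
    (hv : v ∈ R.xs i j) : y * v * y⁻¹ ∈ R.xs i j := by
  obtain ⟨a, rfl⟩ := hv
  exact ⟨_, A.yx i j hij a⟩

theorem sem_ys {i : Ix n} {y : G} {σ : F ≃+* F} {lam : Fin n → Fˣ} (A : R.Sem y σ lam) {v : G}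
    (hv : v ∈ R.ys i) : y * v * y⁻¹ ∈ R.ys i := by
  obtain ⟨a, rfl⟩ := hv
  exact ⟨_, A.yy i a⟩

end Frame

/-- `γ = 1` if short root elements are not moved -/
theorem DL.gamma_eq_one [Finite F] (hn : 3 ≤ n) {γ : F} (D : DL R γ)
    (nm : ∀ i j a, Dj i j → a ≠ 0 → ¬ IsConj R.t (R.t * R.x i j a)) : γ = 1 := by
  have h := D.dataO hn nm
  let i : Ix n := Sum.inl ⟨0, by omega⟩
  obtain ⟨j, hij, -⟩ := exists_dj hn i i
  obtain ⟨w, hw, hwt⟩ := D.onto i 1
  have h1 := h.wy hij hw (b := 1) (by rw [one_pow]; exact hwt) 1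
  have h2 := D.par i j hij w hw 1 (by rw [one_pow]; exact hwt) 1
  rw [one_pow, mul_one] at h1
  rw [one_pow, mul_one, mul_one] at h2
  have hx : Commute w (R.x i j 1) := h.Wx i j hij w hw 1
  have h3 : w * R.y j 1 * w⁻¹ = R.x i j 1 * R.y j 1 := by
    have h4 : R.y j 1 * w = w * R.x i j 1 * R.y j 1 := by
      rw [← h1, mul_assoc _ (R.y j 1) (R.y j 1), R.y_sq, mul_one]
    -- `y w = w x y`
    have h5 : R.y j 1 = R.x i j 1 * (w * R.y j 1 * w⁻¹) := by
      calc R.y j 1 = (R.y j 1 * w) * w⁻¹ := by group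
        _ = R.x i j 1 * (w * R.y j 1 * w⁻¹) := by rw [h4, hx.eq]; group
    calc w * R.y j 1 * w⁻¹ = R.x i j 1 * (R.x i j 1 * (w * R.y j 1 * w⁻¹)) := by
          rw [← mul_assoc (R.x i j 1) (R.x i j 1), R.x_sq, one_mul]
      _ = _ := by rw [← h5]
  rw [commutatorElement_def, h3] at h2
  have h4 : R.x i j 1 = R.x i j γ := by rw [← h2]; group
  exact (R.x_inj hij h4).symm

/-- **pattern `{l}`, outer 2-part** -/
theorem DL.out [Finite F] [Finite G] (hn : 3 ≤ n) (hq : 3 ≤ Nat.card F) {γ : F} (D : DL R γ)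
    (nm : ∀ i j a, Dj i j → a ≠ 0 → ¬ IsConj R.t (R.t * R.x i j a)) {T : Subgroup G} (hT : R.OutT T) :
    R.t ∉ _root_.commutator G := by
  have hγ := D.gamma_eq_one hn nm
  subst hγ
  have hF : ∃ μ : Fˣ, (μ : F) ≠ 1 := by
    have := Fintype.ofFinite F
    classical
    obtain ⟨b', hb'⟩ := Finset.exists_mem_notMem_of_card_lt_card (s := ({0, 1} : Finset F)) (t := Finset.univ) (by
      refine lt_of_le_of_lt Finset.card_le_two ?_
      rw [Finset.card_univ, ← Nat.card_eq_fintype_card]; omega)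
    have h2 := hb'.2
    rw [Finset.mem_insert, Finset.mem_singleton, not_or] at h2
    exact ⟨Units.mk0 b' h2.1, h2.2⟩
  have h := D.dataO hn nm
  have he : ∀ i, ∀ w ∈ D.V i, w * w = 1 := h.elem (fun i w hw w' hw' => D.comm i w hw w' hw') (by
    intro b hb
    have := Fintype.ofFinite F
    classical
    obtain ⟨b', hb'⟩ := Finset.exists_mem_notMem_of_card_lt_card (s := ({0, b} : Finset F)) (t := Finset.univ) (by
      refine lt_of_le_of_lt Finset.card_le_two ?_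
      rw [Finset.card_univ, ← Nat.card_eq_fintype_card]; omega)
    have h2 := hb'.2
    rw [Finset.mem_insert, Finset.mem_singleton, not_or] at h2
    refine ⟨b', h2.1, fun e => h2.2 ?_⟩
    have : b' = -b := by linear_combination e
    rw [this, CharTwo.neg_eq])
  have hg := h.grdL hn he
  have hNX : N (GradeOf.Vd (dN dgB) R.XP) 1 = R.Up := R.N_XP_B.trans (UpP_eq R)
  have hV : ∀ p q : PP n, 0 < dN dgB p → dN dgB p = dN dgB q → VL R D.V p = VL R D.V q := by
    intro p q hp hpq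
    have h1 := dN_pos.1 hp
    have h2 := dN_pos.1 (hpq ▸ hp)
    rcases uniqB (p := p) (q := q) h1 (by rw [← dN_cast h1, ← dN_cast h2, hpq]) with rfl | rfl
    · rfl
    · exact VL_symm R D.V _ _
  have hX : ∀ p q : PP n, 0 < dN dgB p → dN dgB p = dN dgB q → R.XP p = R.XP q :=
    fun p q hp hpq => DataO.XP_dgB hp hpq
  -- the elements of `D` normalise the levels
  have hyV : ∀ y σ lam, R.Sem y σ lam → ∀ p : PP n, 0 < dN dgB p → ∀ v ∈ VL R D.V p, y * v * y⁻¹ ∈ VL R D.V p := by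
    rintro y σ lam A ⟨i, j⟩ hp v hv
    by_cases hij : i = j
    · subst hij
      rw [VL_ii] at hv ⊢
      exact D.sem_mem hn hF A (map_one σ) hv
    · rw [VL_ij R D.V hij] at hv ⊢
      exact R.sem_xs (dj_of_dgB hij (dN_pos.1 hp)) A hv
  have hyN : ∀ y σ lam, R.Sem y σ lam → ∀ i, ∀ v ∈ N (GradeOf.Vd (dN dgB) (VL R D.V)) i,
      y * v * y⁻¹ ∈ N (GradeOf.Vd (dN dgB) (VL R D.V)) i :=
    fun y σ lam A i v hv => OutGrd.hDN_of hV (hyV y σ lam A) hv
  have hUN : R.Up ≤ N (GradeOf.Vd (dN dgB) (VL R D.V)) 1 := by rw [← hNX]; exact hg.NX_le 1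
  have hfr : Out.Exclude.Fr R.t T (N (GradeOf.Vd (dN dgB) R.XP) 1) (N (GradeOf.Vd (dN dgB) (VL R D.V)) 1) := by
    rw [hNX]
    refine hT.fr hg.isPGroup (hT.norm_of hUN fun y _ σ lam A w hw => hyN y σ lam A 1 w hw) fun w => ⟨fun hw =>
      ⟨hUN hw, (Frame.Up_comm_t hw).eq⟩, fun hw => ?_⟩
    rw [← hNX]
    refine hg.mem_NX le_rfl hw.1 ?_
    rw [← hw.2, mul_assoc, R.tt, mul_one]
  have ht : R.t ∉ N (GradeOf.Vd (dN dgB) R.XP) 1 := fun ht => R.t_notMem_K (R.N_XP_le_K dgB ht)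
  -- a marked level
  let k0 : Ix n := Sum.inl ⟨0, by omega⟩
  let k1 : Ix n := Sum.inl ⟨1, by omega⟩
  have h01 : Dj k0 k1 := by
    refine ⟨fun e => ?_, fun e => ?_⟩
    · have := congrArg ex e
      have e0 : ex k0 = n := rfl
      have e1 : ex k1 = n - 1 := rfl
      omega
    · have := congrArg ex e
      rw [ex_neg] at this
      have e0 : ex k0 = n := rfl
      have e1 : ex k1 = n - 1 := rfl
      omega
  have h5n := pow_pos (show (0 : ℤ) < 5 by norm_num) n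
  have h5n' := pow_pos (show (0 : ℤ) < 5 by norm_num) (n - 1)
  have d0 : dgB k0 k1 = 5 ^ n + 5 ^ (n - 1) := dgB_ij h01.1
  have p0 : 0 < dN dgB (k0, k1) := by
    rw [dN_pos]
    simp only
    omega
  have hcard : Nat.card (N (GradeOf.Vd (dN dgB) (VL R D.V)) 1) < Nat.card (N (GradeOf.Vd (dN dgB) R.XP) 1) ^ 2 := by
    refine OutGrd.card_lt hg (k0 := dN dgB (k0, k1)) p0 ⟨(k0, k1), p0, rfl, h01.1⟩ ?_
    rw [GradeOf.Vd_eq hX p0, R.XP_ij h01.1]
    intro hbot
    have h1 : R.x k0 k1 1 ∈ R.xs k0 k1 := ⟨1, rfl⟩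
    rw [hbot, mem_bot] at h1
    exact one_ne_zero (R.x_eq_one h01 h1)
  refine EndOut.end_out hg hfr ht hcard (Frame.D R T) Frame.D_le ?_ ?_ ?_
    (fun d hd hld hR x hx hx1 => DataO.pushL hn d hd hld hR x hx hx1) (h.nmL hn)
  · intro v hv
    obtain ⟨y, hy, u, hu, e⟩ := hT.exists_D hv
    exact ⟨y, hy, u, by rw [hNX]; exact hu, e⟩
  · rintro y ⟨-, σ, lam, A⟩ i _ v hv
    exact hyN y σ lam A i v hv
  · rintro y ⟨hyT, σ, lam, A⟩ h2 h3 h4 i hi
    rw [hNX] at h2 h3 h4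
    obtain ⟨-, hσ⟩ := hT.field (by omega) hyT A h2 h3 h4
    refine OutGrd.hfld_of hg hV (hyV y σ lam A) ?_ hi
    rintro ⟨i, j⟩ hp
    by_cases hij : i = j
    · subst hij
      rw [VL_ii]
      exact OutGrd.card_double (Y := R.y i) (fun a b => R.y_add i a b) (fun _ _ => R.y_inj) (D.y_mem i)
        (D.ht i) (D.onto i) (D.ker i) (fun a => R.t_of_comm (R.y_t i a)) (D.cy i) R.tt A.yt hσ (fun a => A.yy i a)
    · rw [VL_ij R D.V hij]
      exact R.card_xs (dj_of_dgB hij (dN_pos.1 hp)) A hσ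

/-- **pattern `{s}`, outer 2-part** -/
theorem DS.out [Finite F] [Finite G] (hn : 3 ≤ n) (hF : ∃ μ : Fˣ, (μ : F) ≠ 1) {δ : F} (D : DS R δ)
    (nm : ∀ i a, a ≠ 0 → ¬ IsConj R.t (R.t * R.y i a)) {T : Subgroup G} (hT : R.OutT T) :
    R.t ∉ _root_.commutator G := by
  obtain ⟨j, hj, -⟩ := exists_dj hn (Sum.inl ⟨0, by omega⟩ : Ix n) (Sum.inl ⟨0, by omega⟩)
  have hδ := D.delta_eq_one hj nm
  subst hδ
  have h := D.dataSE hn hF nm
  have hg := h.grdS
  have hNX : N (GradeOf.Vd (dN dgC) R.XP) 1 = R.Up := R.N_XP_C.trans (UpP_eq R)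
  have hV : ∀ p q : PP n, 0 < dN dgC p → dN dgC p = dN dgC q → VS R D.W p = VS R D.W q := by
    intro p q hp hpq
    have h1 := dN_pos.1 hp
    have h2 := dN_pos.1 (hpq ▸ hp)
    rcases uniqC (p := p) (q := q) h1 (by rw [← dN_cast h1, ← dN_cast h2, hpq]) with rfl | rfl
    · rfl
    · exact h.VS_symm _ _
  have hX : ∀ p q : PP n, 0 < dN dgC p → dN dgC p = dN dgC q → R.XP p = R.XP q :=
    fun p q hp hpq => XP_dgC hp hpq
  -- the elements of `D` normalise the levels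
  have hyV : ∀ y σ lam, R.Sem y σ lam → ∀ p : PP n, 0 < dN dgC p → ∀ v ∈ VS R D.W p, y * v * y⁻¹ ∈ VS R D.W p := by
    rintro y σ lam A ⟨i, j⟩ hp v hv
    by_cases hij : i = j
    · subst hij
      rw [VS_ii] at hv ⊢
      exact R.sem_ys A hv
    · rw [VS_ij R D.W hij] at hv ⊢
      exact D.sem_mem hn hF A (dj_of_dgC hij (dN_pos.1 hp)) hv
  have hyN : ∀ y σ lam, R.Sem y σ lam → ∀ i, ∀ v ∈ N (GradeOf.Vd (dN dgC) (VS R D.W)) i,
      y * v * y⁻¹ ∈ N (GradeOf.Vd (dN dgC) (VS R D.W)) i :=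
    fun y σ lam A i v hv => OutGrd.hDN_of hV (hyV y σ lam A) hv
  have hUN : R.Up ≤ N (GradeOf.Vd (dN dgC) (VS R D.W)) 1 := by rw [← hNX]; exact hg.NX_le 1
  have hfr : Out.Exclude.Fr R.t T (N (GradeOf.Vd (dN dgC) R.XP) 1) (N (GradeOf.Vd (dN dgC) (VS R D.W)) 1) := by
    rw [hNX]
    refine hT.fr hg.isPGroup (hT.norm_of hUN fun y _ σ lam A w hw => hyN y σ lam A 1 w hw) fun w => ⟨fun hw =>
      ⟨hUN hw, (Frame.Up_comm_t hw).eq⟩, fun hw => ?_⟩
    rw [← hNX]
    refine hg.mem_NX le_rfl hw.1 ?_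
    rw [← hw.2, mul_assoc, R.tt, mul_one]
  have ht : R.t ∉ N (GradeOf.Vd (dN dgC) R.XP) 1 := fun ht => R.t_notMem_K (R.N_XP_le_K dgC ht)
  -- a marked level
  let k0 : Ix n := Sum.inl ⟨0, by omega⟩
  have h5n := pow_pos (show (0 : ℤ) < 5 by norm_num) n
  have d0 : Fd k0 = 5 ^ n := rfl
  have p0 : 0 < dN dgC (k0, k0) := by
    rw [dN_pos]
    show 0 < Fd k0 + Fd k0
    omega
  have hcard : Nat.card (N (GradeOf.Vd (dN dgC) (VS R D.W)) 1) < Nat.card (N (GradeOf.Vd (dN dgC) R.XP) 1) ^ 2 := by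
    refine OutGrd.card_lt hg (k0 := dN dgC (k0, k0)) p0 ⟨(k0, k0), p0, rfl, rfl⟩ ?_
    rw [GradeOf.Vd_eq hX p0, R.XP_ii]
    intro hbot
    have h1 : R.y k0 1 ∈ R.ys k0 := ⟨1, rfl⟩
    rw [hbot, mem_bot] at h1
    exact one_ne_zero (R.y_eq_one h1)
  refine EndOut.end_out' hg hfr ht hcard (Frame.D R T) Frame.D_le ?_ ?_ ?_ fun l hl hl1 _ _ => h.nm_Lg hl hl1
  · intro v hv
    obtain ⟨y, hy, u, hu, e⟩ := hT.exists_D hv
    exact ⟨y, hy, u, by rw [hNX]; exact hu, e⟩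
  · rintro y ⟨-, σ, lam, A⟩ i _ v hv
    exact hyN y σ lam A i v hv
  · rintro y ⟨hyT, σ, lam, A⟩ h2 h3 h4 i hi
    rw [hNX] at h2 h3 h4
    obtain ⟨-, hσ⟩ := hT.field (by omega) hyT A h2 h3 h4
    refine OutGrd.hfld_of hg hV (hyV y σ lam A) ?_ hi
    rintro ⟨i, j⟩ hp
    by_cases hij : i = j
    · subst hij
      rw [VS_ii]
      exact R.card_ys A hσ
    · have hd := dj_of_dgC hij (dN_pos.1 hp)
      rw [VS_ij R D.W hij]
      exact OutGrd.card_double (Y := R.x i j) (fun a b => R.x_add i j a b) (fun _ _ => R.x_inj hd) (D.x_mem i j)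
        (D.ht i j hd) (D.onto i j hd) (D.ker i j hd) (fun a => R.t_of_comm (R.x_t i j a))
        (fun g hg a => D.comm i j hd g hg _ (D.x_mem i j a)) R.tt A.yt hσ (fun a => A.yx i j hd a)

end Cfsg.Agent.OddHalf.SpN

end

-- merged: Cfsg.Agent.OddHalf.SpN.OutMain
section

/-!
# ODD D7, `K = Sp_2n(q)`, `n ≥ 3`, `q ≥ 4` even, with an outer 2-part: the master (helper859)

* `toCOne_semC` : the semilinear elements normalise the doubles of pattern (C,O);
* `CC.out_none` : the end of pattern (C,C) if `T / U` has no outer involution;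
* `OutT.core` : all the patterns, the end of (C,C) being a hypothesis.
-/

set_option autoImplicit false

namespace Cfsg.Agent.OddHalf.Out.FreeEnd

open Subgroup Exclude

/-- **The end** if `T / U` has no outer involution -/
theorem not_mem_commutator_none {G : Type*} [Group G] {t : G} {T U Us : Subgroup G} [Finite G] (F : Fr t T U Us)
    (htU : t ∉ Us)
    (hcl : ∀ u : G, u * u = 1 → t * u ∈ Us → ∃ k ∈ Us, u = k * t * k⁻¹)
    (hd : ∀ d ∈ T, d * d ∈ U → d ∈ U ∨ t * d ∈ U) : t ∉ _root_.commutator G := by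
  have huu : ∀ g : G, g⁻¹ * t * g * (g⁻¹ * t * g) = 1 := by
    intro g
    calc g⁻¹ * t * g * (g⁻¹ * t * g) = g⁻¹ * (t * t) * g := by group
      _ = 1 := by rw [F.tt]; group
  refine F4.EndOut.not_mem_commutator F htU ?_ 1 (one_mem _) (by rwa [mul_one]) ?_
  · intro g hg htu
    obtain ⟨k, hk, e⟩ := hcl (g⁻¹ * t * g) (huu g) htu
    exact ⟨k, F.Us_le hk, e⟩
  · intro g hg
    obtain ⟨d, hdT, w, hw, e⟩ := F.mem_S.1 (hg t F.tT)
    have hdd : d * d ∈ U := by
      refine (F.hU _).2 ⟨?_, F.Tc _ (mul_mem hdT hdT)⟩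
      have h3 : d * w * (d * w) = 1 := by rw [← e]; exact huu g
      have h4 : d * d = (d * w * d⁻¹)⁻¹ * (d * w * (d * w)) * w⁻¹ := by group
      rw [h4, h3, mul_one]
      exact mul_mem (inv_mem (F.norm d hdT w hw)) (inv_mem hw)
    rcases hd d hdT hdd with h | h
    · right; left
      rw [e]; exact mul_mem (F.le h) hw
    · left
      rw [e, ← mul_assoc]; exact mul_mem (F.le h) hw

end Cfsg.Agent.OddHalf.Out.FreeEnd

namespace Cfsg.Agent.OddHalf.SpN

open Cfsg.Agent.OddHalf.F4.EndO Cfsg.Agent.OddHalf.F4 Subgroup Cfsg.Agent.ClassicalGeometry.SympBasic WExist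

variable {n : ℕ} {F : Type*} [Field F] [CharP F 2] [Finite F] {G : Type*} [Group G] {R : Frame n F G}

/-- the semilinear elements normalise the doubles -/
theorem toCOne_semC (D : DS R (1 : F)) (V : DL R (0 : F)) (hn : 3 ≤ n) (hF : ∃ a : F, a ≠ 0 ∧ a ≠ 1) :
    (toCOne D V hn hF).SemC where
  wx := fun y σ lam A i j hij u => by
    have h1 := D.sem_mem hn (exists_unit_neB hF) A hij (D.ws_mem hij u)
    obtain ⟨c, hc⟩ := D.ht i j hij _ h1
    obtain ⟨e, he⟩ := D.eq_ws hij h1 hc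
    exact ⟨c, e, he⟩
  wy := fun y σ lam A i u => by
    have h1 := V.sem_mem hn (exists_unit_neB hF) A (map_zero σ) (V.wl_mem i u)
    obtain ⟨c, hc⟩ := V.ht i _ h1
    obtain ⟨e, he⟩ := V.eq_wl i h1 hc
    exact ⟨c, e, he⟩

/-- **pattern (C,C)**, no outer involution in `T / U` -/
theorem CC.out_none [Finite G] (C : CC R) (hn : 3 ≤ n) (hF : ∃ μ : Fˣ, (μ : F) ≠ 1) {T : Subgroup G}
    (hT : R.OutT T) (hd : ∀ d ∈ T, d * d ∈ R.Up → d ∈ R.Up ∨ R.t * d ∈ R.Up) : R.t ∉ _root_.commutator G := by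
  have hg := C.grdC hn hF
  have hNX : N (GradeOf.Vd (dN dgC) R.XP) 1 = R.Up := R.N_XP_C.trans (UpP_eq R)
  have hV : ∀ p q : PP n, 0 < dN dgC p → dN dgC p = dN dgC q → C.VC p = C.VC q := by
    intro p q hp hpq
    have h1 := dN_pos.1 hp
    have h2 := dN_pos.1 (hpq ▸ hp)
    rcases uniqC (p := p) (q := q) h1 (by rw [← dN_cast h1, ← dN_cast h2, hpq]) with rfl | rfl
    · rfl
    · exact C.VC_symm _ _
  -- the elements of `D` normalise the levels
  have hyV : ∀ y σ lam, R.Sem y σ lam → ∀ p : PP n, 0 < dN dgC p → ∀ v ∈ C.VC p, y * v * y⁻¹ ∈ C.VC p := by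
    rintro y σ lam A ⟨i, j⟩ hp v hv
    by_cases hij : i = j
    · subst hij
      rw [C.VC_ii] at hv ⊢
      exact C.L.sem_mem hn hF A (map_zero σ) hv
    · rw [C.VC_ij hij] at hv ⊢
      exact C.D.sem_mem hn hF A (dj_of_dgC hij (dN_pos.1 hp)) hv
  have hyN : ∀ y σ lam, R.Sem y σ lam → ∀ i, ∀ v ∈ N (GradeOf.Vd (dN dgC) C.VC) i,
      y * v * y⁻¹ ∈ N (GradeOf.Vd (dN dgC) C.VC) i :=
    fun y σ lam A i v hv => OutGrd.hDN_of hV (hyV y σ lam A) hv
  have hUN : R.Up ≤ N (GradeOf.Vd (dN dgC) C.VC) 1 := by rw [← hNX]; exact hg.NX_le 1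
  have hfr : Out.Exclude.Fr R.t T R.Up (N (GradeOf.Vd (dN dgC) C.VC) 1) := by
    refine hT.fr hg.isPGroup (hT.norm_of hUN fun y _ σ lam A w hw => hyN y σ lam A 1 w hw) fun w => ⟨fun hw =>
      ⟨hUN hw, (Frame.Up_comm_t hw).eq⟩, fun hw => ?_⟩
    rw [← hNX]
    refine hg.mem_NX le_rfl hw.1 ?_
    rw [← hw.2, mul_assoc, R.tt, mul_one]
  have htX : R.t ∉ N (GradeOf.Vd (dN dgC) R.XP) 1 := fun ht => R.t_notMem_K (R.N_XP_le_K dgC ht)
  have ht : R.t ∉ N (GradeOf.Vd (dN dgC) C.VC) 1 := fun h' => htX (hg.mem_NX le_rfl h' (by rw [R.tt, one_mul]))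
  refine Out.FreeEnd.not_mem_commutator_none hfr ht (fun u huu htu => ?_) hd
  have htu' : R.t * (R.t * u) = u := by rw [← mul_assoc, R.tt, one_mul]
  obtain ⟨w, hw, l, hl, he⟩ := hg.exists_conj htu (by rw [htu']; exact huu)
  rw [htu'] at he
  have hl1 : l = 1 := by
    have : Lg (GradeOf.Vd (dN dgC) R.XP) (GradeOf.lgd (dN dgC) fun _ : PP n => False) 1 ≤ ⊥ :=
      Lg_le fun i _ hi => by obtain ⟨_, _, _, h⟩ := hi; exact h.elim
    exact Subgroup.mem_bot.1 (this hl)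
  rw [hl1, mul_one] at he
  exact ⟨w, hw, by rw [← he]; group⟩

namespace Frame

/-- **All the patterns**, the end of (C,C) being a hypothesis -/
theorem OutT.core [Finite G] {T : Subgroup G} (hT : R.OutT T) (hn : 3 ≤ n) (hq : ∃ a : F, a ≠ 0 ∧ a ≠ 1)
    (hni : ¬ D7Out.Defs.Iso R.t T)
    (hcc : CC R → (∃ a b : Fin n, a.val = 0 ∧ b.val = 1 ∧
      (∃ s : F, s ≠ 0 ∧ IsConj R.t (R.t * R.y (Sum.inl a) s)) ∧
      ∃ s : F, s ≠ 0 ∧ IsConj R.t (R.t * R.x (Sum.inl a) (Sum.inl b) s)) → R.t ∉ _root_.commutator G) :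
    R.t ∉ _root_.commutator G := by
  obtain ⟨a, ha⟩ : ∃ a : Fin n, a = ⟨0, by omega⟩ := ⟨⟨0, by omega⟩, rfl⟩
  obtain ⟨b, hb⟩ : ∃ a : Fin n, a.val = 1 := ⟨⟨1, by omega⟩, rfl⟩
  obtain ⟨c, hc⟩ : ∃ a : Fin n, a.val = 2 := ⟨⟨2, by omega⟩, rfl⟩
  have ha0 : a.val = 0 := by rw [ha]
  have hab : a ≠ b := by rintro rfl; omega
  have hd : Dj (Sum.inl a : Ix n) (Sum.inl b) := ⟨fun e => hab (Sum.inl_injective e), fun e => by cases e⟩
  have L : ∀ (i : Ix n) (s : F), s ≠ 0 → IsConj R.t (R.t * R.y i s) → ∃ γ : F, Nonempty (DL R γ) :=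
    fun i s hs h => by
      have h1 := hT.movesY hq ha0 hb hc hs (R.conj_y_all h _)
      rw [ha] at h1
      exact R.exists_DL hn hq (fus_of_mv h1)
  have S : ∀ (i j : Ix n) (s : F), Dj i j → s ≠ 0 → IsConj R.t (R.t * R.x i j s) →
      ∃ δ : F, Nonempty (DS R δ) :=
    fun i j s hij hs h => by
      obtain ⟨δ, D, -⟩ := R.exists_DS hn hq ha0 hb (hT.movesX hq ha0 hb hc hs (R.conj_x_all hij h hd))
      exact ⟨δ, ⟨D⟩⟩
  have hF := exists_unit_neB hq
  by_cases hl : ∃ (i : Ix n) (s : F), s ≠ 0 ∧ IsConj R.t (R.t * R.y i s)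
  · obtain ⟨i, s, hs, h⟩ := hl
    obtain ⟨γ, ⟨V⟩⟩ := L i s hs h
    by_cases hsh : ∃ (i j : Ix n) (s : F), Dj i j ∧ s ≠ 0 ∧ IsConj R.t (R.t * R.x i j s)
    · obtain ⟨i', j', s', hij', hs', h'⟩ := hsh
      obtain ⟨δ, ⟨D⟩⟩ := S i' j' s' hij' hs' h'
      have I : Inp D V := Inp.of D V hn hq
      obtain ⟨rfl, h0 | h1⟩ := I.gamma_delta
      · subst h0
        exact hcc (toCC D V hn hq) ⟨a, b, ha0, hb, ⟨s, hs, R.conj_y_all h _⟩, s', hs', R.conj_x_all hij' h' hd⟩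
      · subst h1
        obtain ⟨μ, hμ⟩ := hF
        exact (toCOne D V hn hq).out (toCOne_semC D V hn hq) hn (μ := μ) (fun e => hμ (by rw [e]; rfl)) hT
    · push Not at hsh
      refine V.out hn ?_ (fun i j s hij hs h => hsh i j s hij hs h) hT
      obtain ⟨x, h0, h1⟩ := hq
      have := Fintype.ofFinite F
      classical
      rw [Nat.card_eq_fintype_card, ← Finset.card_univ]
      have h3 : ({0, 1, x} : Finset F).card = 3 := by
        rw [Finset.card_eq_three]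
        exact ⟨0, 1, x, zero_ne_one, h0.symm, h1.symm, rfl⟩
      rw [← h3]
      exact Finset.card_le_card (Finset.subset_univ _)
  · push Not at hl
    rcases hT.start hq ha0 hb hc hni with ⟨s, hs, h⟩ | ⟨s, hs, h⟩
    · exact absurd h (hl _ s hs)
    · obtain ⟨δ, ⟨D⟩⟩ := S _ _ s hd hs h
      exact D.out hn hF (fun i s hs h => hl i s hs h) hT

end Frame

end Cfsg.Agent.OddHalf.SpN

end

-- merged: Cfsg.Agent.OddHalf.SpN.OutK
section

/-!
# ODD D7, `K = Sp_2n(q)`, `q` even, outer 2-part: the order of `T` (helper625)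

`OutT.card_T`: `|T| ≤ 2 q² |U|`.
-/

set_option autoImplicit false

namespace Cfsg.Agent.OddHalf.SpN

open Subgroup TU

variable {n : ℕ} {F : Type*} [Field F]

namespace Frame

variable [CharP F 2] [Finite F] {G : Type*} [Group G] {R : Frame n F G} {T : Subgroup G}

/-- `|T| ≤ 2 q² |U|` -/
theorem OutT.card_T [Finite G] (h : R.OutT T) (hn : 3 ≤ n) :
    Nat.card T ≤ Nat.card F ^ 2 * (2 * Nat.card R.Up) := by
  classical
  obtain ⟨ζ, hζ⟩ := IsCyclic.exists_generator (α := Fˣ)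
  set i : Ix n := Sum.inl (Out.c0 hn) with hi
  have h0 : pos i = 0 := pos_inl _
  have ht : ∀ d ∈ T, R.t * d = d * R.t := fun d hd => (h.Tc d hd).symm
  have hact : ∀ z : T, ∀ a, ∃ b, (z : G) * R.y i a * (z : G)⁻¹ = R.y i b := by
    intro z a
    obtain ⟨y, hy, u, hu, e, σ, lam, hs⟩ := h.dec z z.2
    refine ⟨(ev lam i : F) ^ 2 * σ a, ?_⟩
    rw [e]
    have h1 := (Up_comm_y hu h0 a).eq
    calc y * u * R.y i a * (y * u)⁻¹ = y * (u * R.y i a) * u⁻¹ * y⁻¹ := by group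
      _ = y * R.y i a * y⁻¹ := by rw [h1]; group
      _ = _ := hs.yy i a
  choose m hm using hact
  -- same values: same coset of `⟨t⟩ U`
  have hco : ∀ z z' : T, m z 1 = m z' 1 → m z ζ = m z' ζ →
      (z : G)⁻¹ * z' ∈ R.Up ∨ R.t * ((z : G)⁻¹ * z') ∈ R.Up := by
    intro z z' e1 e2
    have hw : (z : G)⁻¹ * z' ∈ T := mul_mem (inv_mem z.2) z'.2
    obtain ⟨y, hy, u, hu, e, σ, lam, hs⟩ := h.dec _ hw
    have hfix : ∀ a, m z a = m z' a → (ev lam i : F) ^ 2 * σ a = a := by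
      intro a ea
      apply R.y_inj (i := i)
      rw [← hs.yy]
      have h1 := (Up_comm_y hu h0 a).eq
      have h2 : ((z : G)⁻¹ * z') * R.y i a * ((z : G)⁻¹ * z')⁻¹ = R.y i a := by
        calc ((z : G)⁻¹ * z') * R.y i a * ((z : G)⁻¹ * z')⁻¹ = (z : G)⁻¹ * (z' * R.y i a * (z' : G)⁻¹) * z := by group
          _ = (z : G)⁻¹ * (z * R.y i a * (z : G)⁻¹) * z := by rw [hm, hm, ea]
          _ = _ := by group
      rw [e] at h2
      calc y * R.y i a * y⁻¹ = y * (R.y i a * u) * u⁻¹ * y⁻¹ := by group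
        _ = y * u * R.y i a * (y * u)⁻¹ := by rw [← h1]; group
        _ = _ := h2
    have f1 := hfix 1 e1
    rw [map_one, mul_one] at f1
    have f2 := hfix ζ e2
    rw [f1, one_mul] at f2
    have f3 : ∀ x : Fˣ, σ (x : F) = x := by
      intro x
      obtain ⟨k, rfl⟩ := mem_zpowers_iff.1 (hζ x)
      rw [Units.val_zpow_eq_zpow_val, map_zpow₀, f2]
    have f4 : σ = 1 := by
      ext a
      by_cases ha : a = 0
      · subst ha; rw [map_zero, map_zero]
      · exact f3 (Units.mk0 a ha)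
    subst f4
    rw [e]
    rcases h.lin y hy lam hs with h5 | h5
    · exact Or.inl (mul_mem h5 hu)
    · right; rw [← mul_assoc]; exact mul_mem h5 hu
  -- representatives
  have hrep : ∀ p : F × F, ∃ z : T, ∀ z' : T, (m z' 1, m z' ζ) = p → (m z 1, m z ζ) = p := by
    intro p
    by_cases hp : ∃ z : T, (m z 1, m z ζ) = p
    · obtain ⟨z, hz⟩ := hp
      exact ⟨z, fun _ _ => hz⟩
    · exact ⟨1, fun z' hz' => absurd ⟨z', hz'⟩ hp⟩
  choose r hr using hrep
  have hmem : ∀ z : T, ((r (m z 1, m z ζ) : G))⁻¹ * z ∈ R.Up ∨ R.t * (((r (m z 1, m z ζ) : G))⁻¹ * z) ∈ R.Up := by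
    intro z
    have h1 := hr (m z 1, m z ζ) z rfl
    have h2 := Prod.mk.inj h1
    exact hco _ _ h2.1 h2.2
  have hcard : Nat.card ((F × F) × (Bool × R.Up)) = Nat.card F ^ 2 * (2 * Nat.card R.Up) := by
    rw [Nat.card_prod, Nat.card_prod, Nat.card_prod, pow_two]
    simp
  rw [← hcard]
  refine Nat.card_le_card_of_injective (fun z : T => ((m z 1, m z ζ),
    (if hz : ((r (m z 1, m z ζ) : G))⁻¹ * z ∈ R.Up then (true, ⟨_, hz⟩)
      else (false, ⟨_, (hmem z).resolve_left hz⟩) : Bool × R.Up))) ?_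
  intro z z' hzz
  obtain ⟨e1, e2⟩ := Prod.mk.inj hzz
  apply Subtype.ext
  have e3 : r (m z 1, m z ζ) = r (m z' 1, m z' ζ) := by rw [e1]
  by_cases c1 : ((r (m z 1, m z ζ) : G))⁻¹ * z ∈ R.Up
  · by_cases c2 : ((r (m z' 1, m z' ζ) : G))⁻¹ * z' ∈ R.Up
    · rw [dif_pos c1, dif_pos c2] at e2
      have e4 : ((r (m z 1, m z ζ) : G))⁻¹ * z = ((r (m z' 1, m z' ζ) : G))⁻¹ * z' :=
        congrArg Subtype.val (Prod.mk.inj e2).2
      rw [e3] at e4
      exact mul_left_cancel e4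
    · rw [dif_pos c1, dif_neg c2] at e2
      exact absurd (Prod.mk.inj e2).1 (by decide)
  · by_cases c2 : ((r (m z' 1, m z' ζ) : G))⁻¹ * z' ∈ R.Up
    · rw [dif_neg c1, dif_pos c2] at e2
      exact absurd (Prod.mk.inj e2).1 (by decide)
    · rw [dif_neg c1, dif_neg c2] at e2
      have e4 : R.t * (((r (m z 1, m z ζ) : G))⁻¹ * z) = R.t * (((r (m z' 1, m z' ζ) : G))⁻¹ * z') :=
        congrArg Subtype.val (Prod.mk.inj e2).2
      rw [e3] at e4
      exact mul_left_cancel (mul_left_cancel e4)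

end Frame

end Cfsg.Agent.OddHalf.SpN

end

-- merged: Cfsg.Agent.OddHalf.Out.FieldEnd
section

/-!
# The end for a fully doubled `U*` with an outer 2-part of field type, `K`-free

`T = ⟨t⟩ U ⟨f⟩`, `s` the involution of `⟨f⟩`; `W1, W2, W3` the doubles of three root groups of type `A₂`, `U* = W2 M`,
`M` centralises `W1`. Then one of the two types `s`, `t s` is not conjugate to `t` (`ZeroDiv`, `Exclude`), and `t` is
not in the commutator subgroup (`EndOut.not_mem_commutator`).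
-/

set_option autoImplicit false

namespace Cfsg.Agent.OddHalf.Out.FieldEnd

open Subgroup Cfsg.Agent.OddHalf.Out.ZeroDiv

variable {G : Type*} [Group G] {F : Type*} [Field F]

/-- the fixed field is small -/
theorem card_fix_sq [Finite F] [CharP F 2] (σ : F →+* F) (h2 : ∀ a, σ (σ a) = a) {w0 : F} (hw0 : w0 + σ w0 = 1) :
    Nat.card {a : F // σ a = a} ^ 2 = Nat.card F := by
  let θ : F →+ F := AddMonoidHom.id F + (σ : F →+ F)
  have hθ : ∀ x, θ x = x + σ x := fun x => rfl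
  have hk : ∀ x : F, x + σ x = 0 ↔ σ x = x := by
    intro x
    rw [add_eq_zero_iff_eq_neg, CharTwo.neg_eq, eq_comm]
  have hker' : θ.ker = θ.range := by
    ext x
    rw [AddMonoidHom.mem_ker, AddMonoidHom.mem_range, hθ, hk]
    constructor
    · intro hx
      refine ⟨x * w0, ?_⟩
      rw [hθ, map_mul, hx, ← mul_add, hw0, mul_one]
    · rintro ⟨y, rfl⟩
      rw [hθ, map_add, h2, add_comm]
  have h1 := AddSubgroup.card_eq_card_quotient_mul_card_addSubgroup θ.ker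
  have h3 : Nat.card (F ⧸ θ.ker) = Nat.card θ.range :=
    Nat.card_congr (QuotientAddGroup.quotientKerEquivRange θ).toEquiv
  have h4 : Nat.card {a : F // σ a = a} = Nat.card θ.ker := by
    apply Nat.card_congr
    exact Equiv.subtypeEquivRight fun a => by rw [AddMonoidHom.mem_ker, hθ, hk]
  rw [h4, h1, h3, ← hker', pow_two]

/-- `|C_W(v)| ≤ q` for `v = s`, `t s` -/
theorem Lay.card_fix_le [Finite G] [Finite F] [CharP F 2] {t s : G} {σ : F →+* F} {x : F → G} {W : Subgroup G}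
    (h : Lay t s σ x W) (tt : t * t = 1) (ss : s * s = 1) (st : s * t = t * s) (h2 : ∀ a, σ (σ a) = a) {w0 : F}
    (hw0 : w0 + σ w0 = 1) {v : G} (hv : v = s ∨ v = t * s) :
    Nat.card (W ⊓ centralizer ({v} : Set G) : Subgroup G) ≤ Nat.card F := by
  classical
  set D : Subgroup G := W ⊓ centralizer ({v} : Set G) with hD
  have ti : t⁻¹ = t := inv_eq_of_mul_eq_one_left tt
  choose b hb using fun w : D => h.brk w w.2.1
  -- `b` is a homomorphism
  have hxc : ∀ (a : F) (w : D), (w : G) * x a = x a * w := fun a w => h.comm w.2.1 (h.mem a)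
  have hbt : ∀ w : D, t * (w : G) * t = w * x (b w) := fun w => by rw [← hb w, mul_inv_cancel_left]
  let f : D →* Multiplicative F :=
    { toFun := fun w => Multiplicative.ofAdd (b w)
      map_one' := by
        have h1 := hbt 1
        rw [Subgroup.coe_one, mul_one, tt, one_mul] at h1
        have h3 : b 1 = 0 := h.inj _ h1.symm
        show Multiplicative.ofAdd (b 1) = 1
        rw [h3]; rfl
      map_mul' := by
        intro w w'
        have h1 : x (b (w * w')) = x (b w + b w') := by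
          rw [h.add]
          have h3 := hbt (w * w')
          rw [Subgroup.coe_mul] at h3
          have h4 : t * ((w : G) * w') * t = (t * w * t) * (t * w' * t) := by
            calc t * ((w : G) * w') * t = t * w * (t * t) * w' * t := by rw [tt]; group
              _ = _ := by group
          rw [h4, hbt w, hbt w'] at h3
          have h5 : (w : G) * x (b w) * (w' * x (b w')) = w * w' * (x (b w) * x (b w')) := by
            calc (w : G) * x (b w) * (w' * x (b w')) = w * (x (b w) * w') * x (b w') := by group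
              _ = w * (w' * x (b w)) * x (b w') := by rw [← hxc]
              _ = _ := by group
          rw [h5] at h3
          exact (mul_left_cancel h3).symm
        show Multiplicative.ofAdd (b (w * w')) = Multiplicative.ofAdd (b w) * Multiplicative.ofAdd (b w')
        rw [h.xinj h1]; rfl }
  have hf : ∀ w, (f w).toAdd = b w := fun w => rfl
  -- action of `v` on `x a`
  have hvx : ∀ a, v * x a * v⁻¹ = x (σ a) := by
    intro a
    rcases hv with rfl | rfl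
    · exact h.sx a
    · have h1 : t * s * x a * (t * s)⁻¹ = t * (s * x a * s⁻¹) * t := by
        rw [mul_inv_rev, ti]; group
      rw [h1, h.sx, h.tx, mul_assoc, tt, mul_one]
  have hvt : v * t = t * v := by
    rcases hv with rfl | rfl
    · exact st
    · rw [mul_assoc, st]
  -- values of `b` are fixed
  have hbσ : ∀ w : D, σ (b w) = b w := by
    intro w
    have hwv : (w : G) * v = v * w := mem_centralizer_singleton_iff.1 w.2.2
    have h1 := hbt w
    have h3 : v * (t * (w : G) * t) * v⁻¹ = t * w * t := by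
      have e : v * (w : G) * v⁻¹ = w := by rw [← hwv]; group
      have hvt' : t * v⁻¹ = v⁻¹ * t := by
        calc t * v⁻¹ = v⁻¹ * (v * t) * v⁻¹ := by group
          _ = v⁻¹ * (t * v) * v⁻¹ := by rw [hvt]
          _ = v⁻¹ * t := by group
      calc v * (t * (w : G) * t) * v⁻¹ = (v * t) * w * (t * v⁻¹) := by group
        _ = (t * v) * w * (v⁻¹ * t) := by rw [hvt, hvt']
        _ = t * (v * w * v⁻¹) * t := by group
        _ = t * w * t := by rw [e]
    rw [h1] at h3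
    have h4 : v * ((w : G) * x (b w)) * v⁻¹ = w * x (σ (b w)) := by
      have e : v * (w : G) * v⁻¹ = w := by rw [← hwv]; group
      calc v * ((w : G) * x (b w)) * v⁻¹ = (v * w * v⁻¹) * (v * x (b w) * v⁻¹) := by group
        _ = _ := by rw [e, hvx]
    rw [h4] at h3
    exact h.xinj (mul_left_cancel h3)
  -- the kernel
  have hker : Nat.card f.ker ≤ Nat.card {a : F // σ a = a} := by
    have hex : ∀ w : f.ker, ∃ a : F, ((w : D) : G) = x a := by
      intro w
      have h1 : b w = 0 := by rw [← hf]; exact congrArg Multiplicative.toAdd w.2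
      have h3 := hbt w
      rw [h1, h.zero, mul_one] at h3
      apply h.cent _ (w : D).2.1
      calc t * ((w : D) : G) = t * w * (t * t) := by rw [tt, mul_one]
        _ = (t * w * t) * t := by group
        _ = w * t := by rw [h3]
    choose c hc using hex
    refine Nat.card_le_card_of_injective (fun w : f.ker => (⟨c w, ?_⟩ : {a : F // σ a = a})) ?_
    · have hwv : ((w : D) : G) * v = v * w := mem_centralizer_singleton_iff.1 (w : D).2.2
      apply h.xinj
      rw [← hvx, ← hc w, ← hwv]; group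
    · intro w w' hww
      have h1 : c w = c w' := congrArg Subtype.val hww
      apply Subtype.ext
      apply Subtype.ext
      rw [hc w, hc w', h1]
  have hrange : Nat.card f.range ≤ Nat.card {a : F // σ a = a} := by
    refine Nat.card_le_card_of_injective (fun y : f.range => (⟨(y : Multiplicative F).toAdd, ?_⟩ :
      {a : F // σ a = a})) ?_
    · obtain ⟨w, hw⟩ := y.2
      rw [← hw, hf]
      exact hbσ w
    · intro y y' h1
      apply Subtype.ext
      have h2 : (y : Multiplicative F).toAdd = (y' : Multiplicative F).toAdd := Subtype.mk.inj h1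
      exact Multiplicative.toAdd.injective h2
  have h1 := f.ker.card_eq_card_quotient_mul_card_subgroup
  have h3 : Nat.card (D ⧸ f.ker) = Nat.card f.range :=
    Nat.card_congr (QuotientGroup.quotientKerEquivRange f).toEquiv
  rw [h1, h3, ← card_fix_sq σ h2 hw0, pow_two]
  exact Nat.mul_le_mul hrange hker

/-- The data of the end. -/
structure Data (t s : G) (T U Us : Subgroup G) (σ : F →+* F) (x1 x2 x3 : F → G) (W1 W2 W3 M Z Zs : Subgroup G) :
    Prop where
  fr : Exclude.Fr t T U Us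
  pair : Pair t s σ x1 x2 x3 W1 W2 W3
  htU : t ∉ Us
  sT : s ∈ T
  sU : s ∉ Us
  tsU : t * s ∉ Us
  σ2 : ∀ a, σ (σ a) = a
  σ1 : ∃ a, σ a ≠ a
  W1U : W1 ≤ Us
  W2U : W2 ≤ Us
  W3U : W3 ≤ Us
  MU : M ≤ Us
  c3 : ∀ w ∈ W3, ∀ u ∈ Us, w * u = u * w
  /-- `U* = W₂ M` -/
  dec : ∀ u ∈ Us, ∃ w ∈ W2, ∃ m ∈ M, u = w * m
  ind : ∀ w ∈ W2, w ∈ M → w = 1
  tM : ∀ m ∈ M, t * m * t ∈ M
  sM : ∀ m ∈ M, s * m * s⁻¹ ∈ M
  cM : ∀ m ∈ M, ∀ w ∈ W1, m * w = w * m
  /-- involutions of `T / U` -/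
  inv : ∀ d ∈ T, d * d ∈ U → d ∈ U ∨ t * d ∈ U ∨ s * d ∈ U ∨ t * s * d ∈ U
  ct : ∀ u ∈ Us, (t * u) * (t * u) = 1 → ∃ k ∈ Us, t * u = k * t * k⁻¹
  cs : ∀ u ∈ Us, (s * u) * (s * u) = 1 → ∃ k ∈ Us, s * u = k * s * k⁻¹
  cts : ∀ u ∈ Us, (t * s * u) * (t * s * u) = 1 → ∃ k ∈ Us, t * s * u = k * (t * s) * k⁻¹
  ZsU : Zs ≤ Us
  Zc : ∀ z ∈ Zs, ∀ w ∈ Us, z * w = w * z
  k0 : ∀ z ∈ Zs, ∀ g : G, g⁻¹ * t * g ≠ z
  k0' : ∀ z ∈ Z, ∃ g : G, g⁻¹ * t * g = t * z
  hcard : Nat.card Z ≤ Nat.card (Zs ⊓ centralizer ({s} : Set G) : Subgroup G)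
  hcard' : Nat.card Z ≤ Nat.card (Zs ⊓ centralizer ({t * s} : Set G) : Subgroup G)
  k1 : ∀ c ∈ T, (∀ a ∈ T, ∀ b ∈ T, c * (a * b * a⁻¹ * b⁻¹) = a * b * a⁻¹ * b⁻¹ * c) → c ∈ Z ∨ t * c ∈ Z
  k2 : ∀ c ∈ T, (∀ z ∈ Z, c * z = z * c) → c ∈ U ∨ t * c ∈ U
  k3 : ∀ u ∈ U, (∃ c ∈ U, c * u ≠ u * c) → Nat.card F ≤ Set.ncard {x | ∃ c ∈ U, x = c * u * c⁻¹}

variable {t s : G} {T U Us : Subgroup G} {σ : F →+* F} {x1 x2 x3 : F → G} {W1 W2 W3 M Z Zs : Subgroup G}

/-- the few conjugates -/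
theorem Data.few [Finite G] [Finite F] [CharP F 2] (D : Data t s T U Us σ x1 x2 x3 W1 W2 W3 M Z Zs) {w0 : F}
    (hw0 : w0 + σ w0 = 1) {v y w : G} (hv : v = s ∨ v = t * s) (hy : y ∈ W1) (hw : w ∈ W2)
    (hwv : v * w * v⁻¹ = w) (hw1 : w ≠ 1) (hyw : br y w = 1) :
    Set.ncard {x | ∃ c ∈ Us, c * v = v * c ∧ x = c * y * c⁻¹} < Nat.card F := by
  classical
  have P := D.pair
  have ti : t⁻¹ = t := inv_eq_of_mul_eq_one_left P.tt
  set E : Subgroup G := W2 ⊓ centralizer ({v} : Set G) with hE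
  have hcard := Lay.card_fix_le P.l2 P.tt P.ss P.st D.σ2 hw0 hv
  rw [← hE] at hcard
  -- `v` normalises `W2` and `M`
  have vW : ∀ a ∈ W2, v * a * v⁻¹ ∈ W2 := by
    intro a ha
    rcases hv with rfl | rfl
    · exact P.l2.sW a ha
    · have e : t * s * a * (t * s)⁻¹ = t * (s * a * s⁻¹) * t := by rw [mul_inv_rev, ti]; group
      rw [e]
      exact P.l2.conj_t _ (P.l2.sW a ha)
  have vM : ∀ a ∈ M, v * a * v⁻¹ ∈ M := by
    intro a ha
    rcases hv with rfl | rfl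
    · exact D.sM a ha
    · have e : t * s * a * (t * s)⁻¹ = t * (s * a * s⁻¹) * t := by rw [mul_inv_rev, ti]; group
      rw [e]
      exact D.tM _ (D.sM a ha)
  have hsub : {x | ∃ c ∈ Us, c * v = v * c ∧ x = c * y * c⁻¹} ⊆
      Set.range (fun a : E => (a : G) * y * (a : G)⁻¹) := by
    rintro x ⟨c, hc, hcv, rfl⟩
    obtain ⟨a, ha, m, hm, rfl⟩ := D.dec c hc
    have h1 : v * a * v⁻¹ = a := by
      have h2 : v * (a * m) * v⁻¹ = a * m := by rw [← hcv]; group
      have h3 : a⁻¹ * (v * a * v⁻¹) = m * (v * m * v⁻¹)⁻¹ := by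
        have h4 : (v * a * v⁻¹) * (v * m * v⁻¹) = a * m := by rw [← h2]; group
        calc a⁻¹ * (v * a * v⁻¹) = a⁻¹ * ((v * a * v⁻¹) * (v * m * v⁻¹)) * (v * m * v⁻¹)⁻¹ := by group
          _ = _ := by rw [h4]; group
      have h4 := D.ind _ (mul_mem (inv_mem ha) (vW a ha)) (by
        rw [h3]; exact mul_mem hm (inv_mem (vM m hm)))
      exact (inv_mul_eq_one.1 h4).symm
    have h2 : a ∈ E := ⟨ha, mem_centralizer_singleton_iff.2 (by
      calc a * v = (v * a * v⁻¹) * v := by rw [h1]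
        _ = v * a := by group)⟩
    refine ⟨⟨a, h2⟩, ?_⟩
    show a * y * a⁻¹ = a * m * y * (a * m)⁻¹
    have := D.cM m hm y hy
    calc a * y * a⁻¹ = a * (y * m) * m⁻¹ * a⁻¹ := by group
      _ = a * (m * y) * m⁻¹ * a⁻¹ := by rw [this]
      _ = _ := by group
  have hwE : w ∈ E := ⟨hw, mem_centralizer_singleton_iff.2 (by
    calc w * v = (v * w * v⁻¹) * v := by rw [hwv]
      _ = v * w := by group)⟩
  have hlt : Set.ncard (Set.range (fun a : E => (a : G) * y * (a : G)⁻¹)) < Nat.card E := by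
    have h1 : ¬ Function.Injective (fun a : E => (a : G) * y * (a : G)⁻¹) := by
      intro hinj
      have h2 : (w : G) * y * w⁻¹ = (1 : G) * y * (1 : G)⁻¹ := by
        have h3 : y * w = w * y := by
          have h4 : y * w * y⁻¹ * w⁻¹ = 1 := hyw
          rw [mul_inv_eq_one, mul_inv_eq_iff_eq_mul] at h4
          exact h4
        rw [← h3]; group
      have h3 : (⟨w, hwE⟩ : E) = 1 := hinj h2
      exact hw1 (congrArg Subtype.val h3)
    have := Fintype.ofFinite E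
    rw [← Set.image_univ, ← Nat.card_congr (Equiv.Set.univ E)]
    change _ < Set.ncard (Set.univ : Set E)
    refine lt_of_le_of_ne (Set.ncard_image_le (Set.toFinite _)) fun h3 => h1 ?_
    rw [Set.ncard_image_iff (Set.toFinite _)] at h3
    exact Set.injOn_univ.1 h3
  exact lt_of_le_of_lt (Set.ncard_le_ncard hsub (Set.toFinite _)) (lt_of_lt_of_le hlt hcard)

/-- **The end.** -/
theorem Data.not_mem_commutator [Finite G] [Finite F] [CharP F 2]
    (D : Data t s T U Us σ x1 x2 x3 W1 W2 W3 M Z Zs) : t ∉ _root_.commutator G := by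
  classical
  have P := D.pair
  have ti : t⁻¹ = t := inv_eq_of_mul_eq_one_left P.tt
  obtain ⟨w0, hw0⟩ := exists_w0 σ D.σ2 D.σ1
  obtain ⟨θ1, θ2, β, C⟩ := P.exists_coord hw0
  obtain ⟨v, hv, y, hy, w, hw, hyv, hwv, hxv, hw1, hyw, hyx⟩ := C.zero_div hw0
  have hfew := D.few hw0 hv hy hw hwv hw1 hyw
  have vUs : v ∉ Us := by
    rcases hv with rfl | rfl
    · exact D.sU
    · exact D.tsU
  have hyv' : y * v = v * y := by
    calc y * v = (v * y * v⁻¹) * v := by rw [hyv]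
      _ = v * y := by group
  have hcardv : Nat.card Z ≤ Nat.card (Zs ⊓ centralizer ({v} : Set G) : Subgroup G) := by
    rcases hv with rfl | rfl
    · exact D.hcard
    · exact D.hcard'
  -- `v` is excluded
  have hexc : ∀ g : G, g⁻¹ * t * g = v → ¬ ∀ d ∈ T, g⁻¹ * d * g ∈ D.fr.S := by
    intro g hgv hg
    refine Exclude.excluded D.fr vUs Z Zs D.ZsU D.Zc D.k0 D.k0' hcardv D.k1 D.k2 D.k3 (D.W1U hy) hyv'
      ⟨x2 1, D.W2U (P.l2.mem 1), ?_, ?_⟩ hfew hgv hg
    · calc x2 1 * v = (v * x2 1 * v⁻¹) * v := by rw [hxv]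
        _ = v * x2 1 := by group
    · intro h
      apply hyx
      unfold br
      rw [← h]; group
  have conj_of : ∀ (g k v' : G), k ∈ Us → g⁻¹ * t * g = k * v' * k⁻¹ → (∀ d ∈ T, g⁻¹ * d * g ∈ D.fr.S) →
      (g * k)⁻¹ * t * (g * k) = v' ∧ ∀ d ∈ T, (g * k)⁻¹ * d * (g * k) ∈ D.fr.S := by
    intro g k v' hk h hg
    constructor
    · calc (g * k)⁻¹ * t * (g * k) = k⁻¹ * (g⁻¹ * t * g) * k := by group
        _ = v' := by rw [h]; group
    · intro d hd
      have e : (g * k)⁻¹ * d * (g * k) = k⁻¹ * (g⁻¹ * d * g) * k := by group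
      rw [e]
      exact mul_mem (mul_mem (inv_mem (D.fr.Us_le hk)) (hg d hd)) (D.fr.Us_le hk)
  have hsq : ∀ g : G, g⁻¹ * t * g * (g⁻¹ * t * g) = 1 := by
    intro g
    calc g⁻¹ * t * g * (g⁻¹ * t * g) = g⁻¹ * (t * t) * g := by group
      _ = 1 := by rw [P.tt]; group
  -- the types
  have htypes : ∀ g : G, (∀ d ∈ T, g⁻¹ * d * g ∈ D.fr.S) →
      (g⁻¹ * t * g ∈ Us ∨ t * (g⁻¹ * t * g) ∈ Us ∨ s * (g⁻¹ * t * g) ∈ Us ∨ t * s * (g⁻¹ * t * g) ∈ Us) := by
    intro g hg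
    obtain ⟨d, hd, w', hw', e⟩ := D.fr.mem_S.1 (hg t D.fr.tT)
    have h1 := hsq g
    rw [e] at h1
    have h2 : d * d ∈ U := by
      apply (D.fr.hU _).2
      refine ⟨?_, ?_⟩
      · have h5 : d * d = w'⁻¹ * (d⁻¹ * w'⁻¹ * d) := by
          have : d * d = d * w' * (d * w') * ((w'⁻¹ * (d⁻¹ * w'⁻¹ * d))) := by group
          rw [h1, one_mul] at this
          exact this
        rw [h5]
        have h6 := D.fr.norm _ (inv_mem hd) _ (inv_mem hw')
        rw [inv_inv] at h6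
        exact mul_mem (inv_mem hw') h6
      · have := D.fr.Tc _ (mul_mem hd hd)
        exact this
    have hle := D.fr.le
    rcases D.inv d hd h2 with h | h | h | h
    · left; rw [e]; exact mul_mem (hle h) hw'
    · right; left; rw [e, ← mul_assoc]; exact mul_mem (hle h) hw'
    · right; right; left; rw [e, ← mul_assoc]; exact mul_mem (hle h) hw'
    · right; right; right; rw [e, ← mul_assoc]; exact mul_mem (hle h) hw'
  have sinv : s⁻¹ = s := inv_eq_of_mul_eq_one_left P.ss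
  have tss : (t * s) * (t * s) = 1 := by
    calc (t * s) * (t * s) = t * (s * t) * s := by group
      _ = (t * t) * (s * s) := by rw [P.st]; group
      _ = 1 := by rw [P.tt, P.ss, one_mul]
  have tsinv : (t * s)⁻¹ = t * s := inv_eq_of_mul_eq_one_left tss
  -- membership in `s U*` and `t s U*`
  have ksU : ∀ g : G, s * (g⁻¹ * t * g) ∈ Us → ∃ k ∈ Us, g⁻¹ * t * g = k * s * k⁻¹ := by
    intro g h
    obtain ⟨k, hk, e⟩ := D.cs _ h (by
      have e1 : s * (s * (g⁻¹ * t * g)) = g⁻¹ * t * g := by rw [← mul_assoc, P.ss, one_mul]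
      rw [e1]; exact hsq g)
    rw [← mul_assoc, P.ss, one_mul] at e
    exact ⟨k, hk, e⟩
  have ktsU : ∀ g : G, t * s * (g⁻¹ * t * g) ∈ Us → ∃ k ∈ Us, g⁻¹ * t * g = k * (t * s) * k⁻¹ := by
    intro g h
    obtain ⟨k, hk, e⟩ := D.cts _ h (by
      have e1 : t * s * (t * s * (g⁻¹ * t * g)) = g⁻¹ * t * g := by rw [← mul_assoc, tss, one_mul]
      rw [e1]; exact hsq g)
    rw [← mul_assoc, tss, one_mul] at e
    exact ⟨k, hk, e⟩
  have ktU : ∀ g : G, t * (g⁻¹ * t * g) ∈ Us → ∃ k ∈ Us, g⁻¹ * t * g = k * t * k⁻¹ := by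
    intro g h
    obtain ⟨k, hk, e⟩ := D.ct _ h (by
      have e1 : t * (t * (g⁻¹ * t * g)) = g⁻¹ * t * g := by rw [← mul_assoc, P.tt, one_mul]
      rw [e1]; exact hsq g)
    rw [← mul_assoc, P.tt, one_mul] at e
    exact ⟨k, hk, e⟩
  have tS := D.fr.T_le D.fr.tT
  have sS := D.fr.T_le D.sT
  rcases hv with rfl | rfl
  · -- `s` is excluded, `c = t s`
    refine F4.EndOut.not_mem_commutator D.fr D.htU (fun g _ h => ?_) (t * v) (mul_mem tS sS) ?_ fun g hg => ?_
    · obtain ⟨k, hk, e⟩ := ktU g h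
      exact ⟨k, D.fr.Us_le hk, e⟩
    · rw [← mul_assoc, P.tt, one_mul]; exact D.sU
    · rw [tsinv]
      rcases htypes g hg with h | h | h | h
      · exact Or.inr (Or.inl h)
      · exact Or.inl h
      · exfalso
        obtain ⟨k, hk, e⟩ := ksU g h
        obtain ⟨e1, e2⟩ := conj_of g k v hk e hg
        exact hexc _ e1 e2
      · exact Or.inr (Or.inr h)
  · -- `t s` is excluded, `c = s`
    refine F4.EndOut.not_mem_commutator D.fr D.htU (fun g _ h => ?_) s sS D.tsU fun g hg => ?_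
    · obtain ⟨k, hk, e⟩ := ktU g h
      exact ⟨k, D.fr.Us_le hk, e⟩
    · rw [sinv]
      rcases htypes g hg with h | h | h | h
      · exact Or.inr (Or.inl h)
      · exact Or.inl h
      · exact Or.inr (Or.inr h)
      · exfalso
        obtain ⟨k, hk, e⟩ := ktsU g h
        obtain ⟨e1, e2⟩ := conj_of g k (t * s) hk e hg
        exact hexc _ e1 e2

end Cfsg.Agent.OddHalf.Out.FieldEnd

end

-- merged: Cfsg.Agent.OddHalf.Out.LayFree
section

/-!
# Freeness of `s` and `t s` on one doubled root group by counting; change of the involution of a graded group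

* `Lay.card_W`: `|W| = q²`; `Lay.free'`: `s` and `t s` act freely on `W`;
* `Grd.change`: if every degree is doubled for `t` and `v` acts freely on every `V i`, then `v` can replace `t`.
-/

set_option autoImplicit false

namespace Cfsg.Agent.OddHalf.Out.ZeroDiv

open Subgroup

variable {G : Type*} [Group G]

/-- `w ↦ w⁻¹ w^v` -/
def bH (W : Subgroup G) (comm : ∀ a ∈ W, ∀ b ∈ W, a * b = b * a) {v : G} (vv : v * v = 1)
    (hv : ∀ w ∈ W, v * w * v ∈ W) : W →* W :=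
  MonoidHom.mk' (fun w => ⟨(w : G)⁻¹ * (v * w * v), mul_mem (inv_mem w.2) (hv _ w.2)⟩) (by
    intro a b
    apply Subtype.ext
    show ((a : G) * b)⁻¹ * (v * (a * b) * v) = ((a : G)⁻¹ * (v * a * v)) * ((b : G)⁻¹ * (v * b * v))
    have h1 : v * ((a : G) * b) * v = (v * a * v) * (v * b * v) := by
      calc v * ((a : G) * b) * v = v * a * (v * v) * b * v := by rw [vv]; group
        _ = _ := by group
    have h2 := comm _ (inv_mem b.2) _ (mul_mem (inv_mem a.2) (hv _ a.2))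
    rw [h1]
    calc ((a : G) * b)⁻¹ * ((v * a * v) * (v * b * v)) = (b : G)⁻¹ * ((a : G)⁻¹ * (v * a * v)) * (v * b * v) := by
          group
      _ = _ := by rw [h2]; group)

theorem bH_apply (W : Subgroup G) (comm : ∀ a ∈ W, ∀ b ∈ W, a * b = b * a) {v : G} (vv : v * v = 1)
    (hv : ∀ w ∈ W, v * w * v ∈ W) (w : W) : (bH W comm vv hv w : G) = (w : G)⁻¹ * (v * w * v) := rfl

theorem card_ker [Finite G] (W : Subgroup G) (comm : ∀ a ∈ W, ∀ b ∈ W, a * b = b * a) {v : G} (vv : v * v = 1)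
    (hv : ∀ w ∈ W, v * w * v ∈ W) :
    Nat.card W = Nat.card (W ⊓ centralizer ({v} : Set G) : Subgroup G) * Nat.card (bH W comm vv hv).range := by
  have h1 := (bH W comm vv hv).ker.card_eq_card_quotient_mul_card_subgroup
  have h3 : Nat.card (W ⧸ (bH W comm vv hv).ker) = Nat.card (bH W comm vv hv).range :=
    Nat.card_congr (QuotientGroup.quotientKerEquivRange _).toEquiv
  have h4 : (bH W comm vv hv).ker.map W.subtype = W ⊓ centralizer ({v} : Set G) := by
    ext x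
    constructor
    · rintro ⟨w, hw, rfl⟩
      refine ⟨w.2, mem_centralizer_singleton_iff.2 ?_⟩
      have h5 : (w : G)⁻¹ * (v * w * v) = 1 := congrArg Subtype.val hw
      have h6 : v * (w : G) * v = w := (inv_mul_eq_one.1 h5).symm
      show (w : G) * v = v * w
      calc (w : G) * v = (v * w * v) * v := by rw [h6]
        _ = v * w * (v * v) := by group
        _ = v * w := by rw [vv, mul_one]
    · rintro ⟨hx, hxv⟩
      refine ⟨⟨x, hx⟩, ?_, rfl⟩
      apply Subtype.ext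
      show x⁻¹ * (v * x * v) = 1
      rw [← mem_centralizer_singleton_iff.1 hxv, mul_assoc, vv, mul_one, inv_mul_cancel]
  have h5 : Nat.card (bH W comm vv hv).ker = Nat.card (W ⊓ centralizer ({v} : Set G) : Subgroup G) := by
    rw [← h4]
    exact (Nat.card_congr ((bH W comm vv hv).ker.equivMapOfInjective W.subtype W.subtype_injective).toEquiv)
  rw [h1, h3, h5, mul_comm]

theorem range_le (W : Subgroup G) (comm : ∀ a ∈ W, ∀ b ∈ W, a * b = b * a) (sq : ∀ w ∈ W, w * w = 1) {v : G}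
    (vv : v * v = 1) (hv : ∀ w ∈ W, v * w * v ∈ W) {x : W} (hx : x ∈ (bH W comm vv hv).range) :
    (x : G) ∈ (W ⊓ centralizer ({v} : Set G) : Subgroup G) := by
  refine ⟨x.2, mem_centralizer_singleton_iff.2 ?_⟩
  obtain ⟨w, rfl⟩ := hx
  have hsq := sq _ (mul_mem (inv_mem w.2) (hv _ w.2))
  rw [bH_apply]
  set z := (w : G)⁻¹ * (v * w * v) with hz
  have vi : v⁻¹ = v := inv_eq_of_mul_eq_one_left vv
  have h1 : v * z * v = z⁻¹ := by
    rw [hz]
    calc v * ((w : G)⁻¹ * (v * w * v)) * v = v * (w : G)⁻¹ * v * w * (v * v) := by group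
      _ = v⁻¹ * (w : G)⁻¹ * v⁻¹ * w := by rw [vv, vi, mul_one]
      _ = _ := by group
  rw [inv_eq_of_mul_eq_one_left hsq] at h1
  calc z * v = (v * z * v) * v := by rw [h1]
    _ = v * z * (v * v) := by group
    _ = v * z := by rw [vv, mul_one]

theorem card_range_le [Finite G] (W : Subgroup G) (comm : ∀ a ∈ W, ∀ b ∈ W, a * b = b * a)
    (sq : ∀ w ∈ W, w * w = 1) {v : G} (vv : v * v = 1) (hv : ∀ w ∈ W, v * w * v ∈ W) :
    Nat.card (bH W comm vv hv).range ≤ Nat.card (W ⊓ centralizer ({v} : Set G) : Subgroup G) :=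
  Nat.card_le_card_of_injective (fun x : (bH W comm vv hv).range =>
    (⟨(x : W), range_le W comm sq vv hv x.2⟩ : (W ⊓ centralizer ({v} : Set G) : Subgroup G)))
    (fun _ _ hxy => Subtype.ext (Subtype.ext (Subtype.mk.inj hxy)))

/-- `|W| ≤ |C_W(v)|²` -/
theorem card_le_sq [Finite G] (W : Subgroup G) (comm : ∀ a ∈ W, ∀ b ∈ W, a * b = b * a)
    (sq : ∀ w ∈ W, w * w = 1) {v : G} (vv : v * v = 1) (hv : ∀ w ∈ W, v * w * v ∈ W) :
    Nat.card W ≤ Nat.card (W ⊓ centralizer ({v} : Set G) : Subgroup G) ^ 2 := by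
  rw [card_ker W comm vv hv, pow_two]
  exact Nat.mul_le_mul_left _ (card_range_le W comm sq vv hv)

/-- if `|C_W(v)|² ≤ |W|` then `v` acts freely on `W` -/
theorem free_of_card [Finite G] (W : Subgroup G) (comm : ∀ a ∈ W, ∀ b ∈ W, a * b = b * a)
    (sq : ∀ w ∈ W, w * w = 1) {v : G} (vv : v * v = 1) (hv : ∀ w ∈ W, v * w * v ∈ W)
    (hc : Nat.card (W ⊓ centralizer ({v} : Set G) : Subgroup G) ^ 2 ≤ Nat.card W) {x : G} (hx : x ∈ W)
    (hxv : v * x * v = x) : ∃ w ∈ W, w⁻¹ * (v * w * v) = x := by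
  classical
  rw [card_ker W comm vv hv, pow_two] at hc
  have hpos : 0 < Nat.card (W ⊓ centralizer ({v} : Set G) : Subgroup G) := Nat.card_pos
  have h1 := Nat.le_of_mul_le_mul_left hc hpos
  have h2 := card_range_le W comm sq vv hv
  have h3 : Function.Surjective (fun x : (bH W comm vv hv).range =>
      (⟨(x : W), range_le W comm sq vv hv x.2⟩ : (W ⊓ centralizer ({v} : Set G) : Subgroup G))) := by
    have hinj : Function.Injective (fun x : (bH W comm vv hv).range =>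
      (⟨(x : W), range_le W comm sq vv hv x.2⟩ : (W ⊓ centralizer ({v} : Set G) : Subgroup G))) :=
      fun _ _ hxy => Subtype.ext (Subtype.ext (Subtype.mk.inj hxy))
    exact ((Nat.bijective_iff_injective_and_card _).2 ⟨hinj, le_antisymm h2 h1⟩).2
  obtain ⟨y, hy⟩ := h3 ⟨x, hx, mem_centralizer_singleton_iff.2 (by
    calc x * v = (v * x * v) * v := by rw [hxv]
      _ = v * x * (v * v) := by group
      _ = v * x := by rw [vv, mul_one])⟩
  obtain ⟨w, hw⟩ := y.2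
  refine ⟨w, w.2, ?_⟩
  rw [← bH_apply W comm vv hv, hw]
  exact congrArg Subtype.val hy

/-- if `v` acts freely then `|C_W(v)|² ≤ |W|` -/
theorem sq_card_le_of_free [Finite G] (W : Subgroup G) (comm : ∀ a ∈ W, ∀ b ∈ W, a * b = b * a) {v : G}
    (vv : v * v = 1) (hv : ∀ w ∈ W, v * w * v ∈ W)
    (hfree : ∀ x ∈ W, v * x = x * v → ∃ w ∈ W, w⁻¹ * (v * w * v) = x) :
    Nat.card (W ⊓ centralizer ({v} : Set G) : Subgroup G) ^ 2 ≤ Nat.card W := by
  rw [card_ker W comm vv hv, pow_two]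
  refine Nat.mul_le_mul_left _ ?_
  have h1 : ∀ x : (W ⊓ centralizer ({v} : Set G) : Subgroup G), ∃ w : W, (bH W comm vv hv w : G) = x := by
    rintro ⟨x, hx, hxv⟩
    obtain ⟨w, hw, e⟩ := hfree x hx (mem_centralizer_singleton_iff.1 hxv).symm
    exact ⟨⟨w, hw⟩, e⟩
  choose f hf using h1
  refine Nat.card_le_card_of_injective (fun x => (⟨bH W comm vv hv (f x), ⟨_, rfl⟩⟩ :
    (bH W comm vv hv).range)) ?_
  intro x y hxy
  apply Subtype.ext
  rw [← hf x, ← hf y]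
  exact congrArg (fun z : (bH W comm vv hv).range => ((z : W) : G)) hxy

variable {F : Type*} [Field F] {t s : G} {σ : F →+* F} {x : F → G} {W : Subgroup G}

theorem Lay.cent_eq (h : Lay t s σ x W) [Finite G] :
    Nat.card (W ⊓ centralizer ({t} : Set G) : Subgroup G) = Nat.card F := by
  symm
  apply Nat.card_congr
  refine Equiv.ofBijective (fun a => (⟨x a, h.mem a, mem_centralizer_singleton_iff.2 (h.tx a).symm⟩ :
    (W ⊓ centralizer ({t} : Set G) : Subgroup G))) ⟨?_, ?_⟩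
  · intro a b hab
    exact h.xinj (Subtype.mk.inj hab)
  · rintro ⟨w, hw, hwt⟩
    obtain ⟨a, rfl⟩ := h.cent w hw (mem_centralizer_singleton_iff.1 hwt).symm
    exact ⟨a, rfl⟩

/-- `|W| = q²` -/
theorem Lay.card_W [Finite G] (h : Lay t s σ x W) (tt : t * t = 1) : Nat.card W = Nat.card F ^ 2 := by
  have comm : ∀ a ∈ W, ∀ b ∈ W, a * b = b * a := fun a ha b hb => h.comm ha hb
  apply le_antisymm
  · rw [← h.cent_eq]
    exact card_le_sq W comm h.sq tt h.conj_t
  · rw [card_ker W comm tt h.conj_t, h.cent_eq, pow_two]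
    refine Nat.mul_le_mul_left _ ?_
    have : Finite (bH W comm tt h.conj_t).range := inferInstance
    choose w hw hb using h.surj
    refine Nat.card_le_card_of_injective (fun a : F =>
      (⟨bH W comm tt h.conj_t ⟨w a, hw a⟩, ⟨_, rfl⟩⟩ : (bH W comm tt h.conj_t).range)) ?_
    intro a b hab
    have h1 : (w a)⁻¹ * (t * w a * t) = (w b)⁻¹ * (t * w b * t) :=
      congrArg (fun z : (bH W comm tt h.conj_t).range => ((z : W) : G)) hab
    rw [hb, hb] at h1
    exact h.xinj h1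

/-- **`s` and `t s` act freely on `W`.** -/
theorem Lay.free' [Finite G] [Finite F] [CharP F 2] (h : Lay t s σ x W) (tt : t * t = 1) (ss : s * s = 1)
    (st : s * t = t * s) (h2 : ∀ a, σ (σ a) = a) {w0 : F} (hw0 : w0 + σ w0 = 1) {v : G} (hv : v = s ∨ v = t * s)
    {y : G} (hy : y ∈ W) (hvy : v * y * v = y) : ∃ w ∈ W, w⁻¹ * (v * w * v) = y := by
  have si : s⁻¹ = s := inv_eq_of_mul_eq_one_left ss
  have vv : v * v = 1 := by
    rcases hv with rfl | rfl
    · exact ss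
    · calc t * s * (t * s) = t * (s * t) * s := by group
        _ = (t * t) * (s * s) := by rw [st]; group
        _ = 1 := by rw [tt, ss, one_mul]
  have hvW : ∀ w ∈ W, v * w * v ∈ W := by
    intro w hw
    rcases hv with rfl | rfl
    · have := h.sW w hw
      rwa [si] at this
    · have e : t * s * w * (t * s) = t * (s * w * s⁻¹) * t := by
        calc t * s * w * (t * s) = t * s * w * (s * t) := by rw [st]
          _ = t * (s * w * s) * t := by group
          _ = _ := by rw [si]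
      rw [e]
      exact h.conj_t _ (h.sW w hw)
  refine free_of_card W (fun a ha b hb => h.comm ha hb) h.sq vv hvW ?_ hy hvy
  rw [h.card_W tt]
  exact Nat.pow_le_pow_left (FieldEnd.Lay.card_fix_le h tt ss st h2 hw0 hv) 2

end Cfsg.Agent.OddHalf.Out.ZeroDiv

namespace Cfsg.Agent.OddHalf.F4.EndO

open Subgroup

variable {G : Type*} [Group G] {t : G} {V X : ℕ → Subgroup G} {lg : ℕ → Prop} {R n : ℕ}

/-- change of the involution: `v` acts freely on every `V i` -/
theorem Grd.change (h : Grd t V X lg R n) {v : G} (vv : v * v = 1) (hn : ∀ i, ∀ w ∈ V i, v * w * v ∈ V i)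
    (hfree : ∀ i, ∀ x ∈ V i, v * x * v = x → ∃ w ∈ V i, w⁻¹ * (v * w * v) = x) :
    Grd v V (fun i => V i ⊓ centralizer ({v} : Set G)) (fun _ => False) 0 n where
  tt := vv
  conj := hn
  sq := h.sq
  X_le := fun i => inf_le_left
  X_fix := fun i x hx => by
    rw [← mem_centralizer_singleton_iff.1 hx.2, mul_assoc, vv, mul_one]
  fix := fun i x hx hf => ⟨hx, mem_centralizer_singleton_iff.2 (by
    calc x * v = (v * x * v) * v := by rw [hf]
      _ = v * x * (v * v) := by group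
      _ = v * x := by rw [vv, mul_one])⟩
  free := fun i _ x hx => hfree i x hx.1 (by
    rw [← mem_centralizer_singleton_iff.1 hx.2, mul_assoc, vv, mul_one])
  lgV := fun i hi => hi.elim
  comm := h.comm
  lcomm := fun i j _ _ _ hi => hi.elim
  top := h.top
  indep := fun i hi => by
    rw [eq_bot_iff]
    rintro x ⟨hx, hx'⟩
    have h1 : x ∈ N V (i + 1) := by
      have : N (fun i => V i ⊓ centralizer ({v} : Set G)) (i + 1) ≤ N V (i + 1) :=
        N_le fun j hj => (inf_le_left).trans (le_N V hj)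
      exact this hx'
    exact Subgroup.mem_bot.2 (h.ind hi hx.1 h1)
  lR := fun i hi => hi.elim

/-- conjugacy of the involutions of `v N` -/
theorem Grd.conj_of_change (h : Grd t V X lg R n) {v : G} (vv : v * v = 1) (hn : ∀ i, ∀ w ∈ V i, v * w * v ∈ V i)
    (hfree : ∀ i, ∀ x ∈ V i, v * x * v = x → ∃ w ∈ V i, w⁻¹ * (v * w * v) = x) {u : G} (hu : u ∈ N V 1)
    (hi : (v * u) * (v * u) = 1) : ∃ k ∈ N V 1, v * u = k * v * k⁻¹ := by
  obtain ⟨w, hw, l, hl, he⟩ := (h.change vv hn hfree).exists_conj hu hi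
  have hl1 : l = 1 := by
    have : Lg (fun i => V i ⊓ centralizer ({v} : Set G)) (fun _ : ℕ => False) 1 ≤ ⊥ :=
      Lg_le fun i _ hi => hi.elim
    exact Subgroup.mem_bot.1 (this hl)
  refine ⟨w, hw, ?_⟩
  rw [hl1, mul_one] at he
  calc v * u = w * (w⁻¹ * (v * u) * w) * w⁻¹ := by group
    _ = w * v * w⁻¹ := by rw [he]

end Cfsg.Agent.OddHalf.F4.EndO

end

-- merged: Cfsg.Agent.OddHalf.SpN.OutCC
section

/-!
# END of the pattern (C,C) for `Sp_2n(q)` with an outer 2-part (helper625)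

`C : CC R`, `T` as in `Frame.OutT`. `U* = C.Us` is generated by the doubles of the positive root groups.

* `CC.par_comm`: the doubles of partners commute;
* `CC.out_one`: no outer involution in `T / U` besides `t`; `CC.out_pure`: with a pure field involution `s ∈ T`
  (instance of `Out/FieldEnd.Data`): `t` is not in the commutator subgroup of `G`.
-/

set_option autoImplicit false
set_option maxHeartbeats 400000

namespace Cfsg.Agent.OddHalf.SpN

open Cfsg Cfsg.Agent.ClassicalGeometry.SympBasic Cfsg.Agent.ClassicalGeometry.SympAutSemi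
open Cfsg.Agent.OddHalf.F4.EndO Subgroup
open Cfsg.Agent.OddHalf.Out.ZeroDiv (Lay Pair)
open scoped commutatorElement

variable {n : ℕ} {F : Type*} [Field F] {G : Type*} [Group G] [CharP F 2] {R : Frame n F G}

/-! ### degrees -/

theorem Fd_inl (m : Fin n) : Fd (Sum.inl m : Ix n) = 5 ^ (n - m.val) := rfl

theorem lt_of_posFd {m : Fin n} {l : Ix n} (h : 0 < Fd (neg (Sum.inl m)) + Fd l) :
    ∃ p : Fin n, p < m ∧ l = Sum.inl p := by
  rw [Fd_neg, Fd_inl] at h
  rcases l with p | p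
  · refine ⟨p, ?_, rfl⟩
    rw [Fd_inl] at h
    by_contra hp
    have h1 : n - p.val ≤ n - m.val := by
      have : m.val ≤ p.val := by
        by_contra h2
        exact hp (Fin.lt_def.2 (by omega))
      omega
    have h2 : (5 : ℤ) ^ (n - p.val) ≤ 5 ^ (n - m.val) := pow_le_pow_right₀ (by norm_num) h1
    linarith
  · exfalso
    have h1 : Fd (Sum.inr p : Ix n) = -Fd (Sum.inl p : Ix n) := by rw [← Fd_neg]; rfl
    rw [h1, Fd_inl] at h
    have h2 := pow_pos (show (0 : ℤ) < 5 by norm_num) (n - p.val)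
    have h3 := pow_pos (show (0 : ℤ) < 5 by norm_num) (n - m.val)
    linarith

theorem Fd_inl_pos' (m : Fin n) : 0 < Fd (Sum.inl m : Ix n) := by
  rw [Fd_inl]; exact pow_pos (by norm_num) _

theorem exists_inl {l : Ix n} (h : 0 < Fd l) : ∃ p : Fin n, l = Sum.inl p := by
  rcases l with p | p
  · exact ⟨p, rfl⟩
  · exfalso
    have h1 : Fd (Sum.inr p : Ix n) = -Fd (Sum.inl p : Ix n) := by rw [← Fd_neg]; rfl
    rw [h1] at h
    have := Fd_inl_pos' p
    linarith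

namespace CC

variable (C : CC R)

/-- angle at most 90 -/
theorem commW {i j k l : Ix n} (hij : Dj i j) (hkl : Dj k l) (h1 : k ≠ neg i) (h2 : k ≠ neg j) (h3 : l ≠ neg i)
    (h4 : l ≠ neg j) {g g' : G} (hg : g ∈ C.D.W i j) (hg' : g' ∈ C.D.W k l) : Commute g g' := by
  have hgs : g ∈ C.D.W j i := by rwa [C.D.symm j i]
  have hgs' : g' ∈ C.D.W l k := by rwa [C.D.symm l k]
  rcases cases5 i j k with rfl | rfl | rfl | rfl | ⟨ik, jk⟩
  · rcases cases5 k j l with rfl | rfl | rfl | rfl | ⟨il, jl⟩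
    · exact absurd rfl hkl.1
    · exact C.D.comm _ _ hij g hg g' hg'
    · exact absurd rfl h3
    · exact absurd rfl h4
    · exact C.c60 k j l hij hkl jl g hg g' hg'
  · rcases cases5 i k l with rfl | rfl | rfl | rfl | ⟨il, jl⟩
    · exact C.D.comm _ _ hij g hg g' hgs'
    · exact absurd rfl hkl.1
    · exact absurd rfl h3
    · exact absurd rfl h4
    · exact C.c60 k i l hij.symm hkl il g hgs g' hg'
  · exact absurd rfl h1
  · exact absurd rfl h2
  · rcases cases5 i j l with rfl | rfl | rfl | rfl | ⟨il, jl⟩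
    · exact C.c60 l j k hij hkl.symm jk g hg g' hgs'
    · exact C.c60 l i k hij.symm hkl.symm ik g hgs g' hgs'
    · exact absurd rfl h3
    · exact absurd rfl h4
    · exact C.c90 i j k l hij ik il jk jl hkl g hg g' hg'

/-- the doubles of partners commute -/
theorem par_comm (hn : 3 ≤ n) {i j : Ix n} (hij : Dj i j) {g g' : G} (hg : g ∈ C.D.W i j)
    (hg' : g' ∈ C.D.W i (neg j)) : Commute g g' := by
  obtain ⟨k, hik, hjk⟩ := exists_dj hn i j
  have hij' : Dj i (neg j) := dj_neg_right.mpr hij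
  have hkj : Dj k (neg j) := dj_neg_right.mpr hjk.symm
  obtain ⟨u, hu⟩ := C.D.ht i (neg j) hij' g' hg'
  obtain ⟨w, hw, hwu⟩ := C.D.onto k (neg j) hkj u
  set x := R.x i (neg k) 1 with hxdef
  have hx : x ∈ C.D.W i (neg k) := C.D.x_mem _ _ _
  set g'' := ⁅w, x⁆ with hg''
  have h1 : g'' ∈ C.D.W i (neg j) := C.c120 i k (neg j) hik hij' hkj w hw x hx
  set p := R.x k (neg j) u with hp
  set c := R.x i (neg j) u with hc
  have hcm : c ∈ C.D.W i (neg j) := C.D.x_mem _ _ _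
  have hpx : ⁅p, x⁆ = c := by
    have h2 := R.x_rel' (i := neg j) (j := k) (k := i) hkj.symm hik.symm hij'.symm u 1
    rw [mul_one, R.x_symm (neg j) k, R.x_symm (neg k) i, R.x_symm (neg j) i] at h2
    exact h2
  have hwc : Commute w c := C.D.cx k (neg j) hkj w hw i (neg j) u hik.2 (by rw [neg_neg]; exact hij.1)
    (fun e => hjk.1 (neg_inj.1 e)) (by rw [neg_neg]; exact neg_ne j)
  have htx : R.t * x * R.t = x := R.t_of_comm (R.x_t _ _ _)
  have hht : R.t * g'' * R.t = g'' * c := by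
    have e1 : R.t * g'' * R.t = (w * p) * x * (w * p)⁻¹ * x⁻¹ := by
      rw [hg'', commutatorElement_def, R.t_mul, R.t_mul, R.t_mul, R.t_inv', R.t_inv', hwu, htx]
    rw [e1]
    calc w * p * x * (w * p)⁻¹ * x⁻¹ = w * ⁅p, x⁆ * x * w⁻¹ * x⁻¹ := by rw [commutatorElement_def]; group
      _ = (w * c) * x * w⁻¹ * x⁻¹ := by rw [hpx]
      _ = c * g'' := by rw [hwc.eq, hg'', commutatorElement_def]; group
      _ = g'' * c := C.D.comm i (neg j) hij' c hcm g'' h1
  obtain ⟨e, he⟩ := C.D.ker i (neg j) hij' (g''⁻¹ * g') (mul_mem (inv_mem h1) hg') (by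
    rw [R.t_mul, R.t_inv', hht, hu]
    have h3 : c * (g''⁻¹ * g') = g''⁻¹ * g' * c := C.D.comm i (neg j) hij' c hcm _ (mul_mem (inv_mem h1) hg')
    calc (g'' * c)⁻¹ * (g' * c) = c⁻¹ * (g''⁻¹ * g' * c) := by group
      _ = g''⁻¹ * g' := by rw [← h3]; group)
  have hg'e : g' = g'' * R.x i (neg j) e := by rw [← he]; group
  rw [hg'e]
  refine Commute.mul_right ?_ (C.NN_x hij (C.W_le hij hg) e)
  -- `g` commutes with `g''`
  have cgx : Commute g x := C.D.cx i j hij g hg i (neg k) 1 (ne_neg i) hij.2 (fun e => hik.1 (neg_inj.1 e).symm)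
    (fun e => hjk.1 (neg_inj.1 e).symm)
  set r := ⁅g, w⁆ with hr
  have hrm : r ∈ C.D.W i k := by
    rw [C.D.symm]
    exact C.c120 k j i hjk.symm hik.symm hij.symm g (by rw [C.D.symm]; exact hg) w hw
  have crx : Commute r x := C.NN_x hik (C.W_le hik hrm) 1
  have crg : Commute r g'' := C.c60 i k (neg j) hik hij' hkj r hrm g'' h1
  have e2 : g * w * g⁻¹ = r * w := by rw [hr, commutatorElement_def]; group
  have e3 : g * x * g⁻¹ = x := by rw [cgx.eq]; group
  have e4 : g * g'' * g⁻¹ = g'' := by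
    calc g * g'' * g⁻¹ = (g * w * g⁻¹) * (g * x * g⁻¹) * (g * w * g⁻¹)⁻¹ * (g * x * g⁻¹)⁻¹ := by
          rw [hg'', commutatorElement_def]; group
      _ = r * g'' * (x * r⁻¹) * x⁻¹ := by rw [e2, e3, hg'', commutatorElement_def]; group
      _ = r * g'' * (r⁻¹ * x) * x⁻¹ := by rw [crx.inv_left.eq]
      _ = (r * g'') * r⁻¹ := by group
      _ = g'' := by rw [crg.eq]; group
  show g * g'' = g'' * g
  calc g * g'' = (g * g'' * g⁻¹) * g := by group
    _ = g'' * g := by rw [e4]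

/-! ### `U*` -/

/-- `U*` -/
def Us : Subgroup G := N (GradeOf.Vd (dN dgC) C.VC) 1

theorem Us_le {K : Subgroup G} (h1 : ∀ i j, Dj i j → 0 < Fd i + Fd j → C.D.W i j ≤ K)
    (h2 : ∀ i, 0 < Fd i → C.L.V i ≤ K) : C.Us ≤ K := by
  rw [Us, GradeOf.N_eq _ _ le_rfl]
  refine iSup₂_le fun r hr => ?_
  obtain ⟨i, j⟩ := r
  have hr' : 0 < dgC i j := dN_pos.1 hr
  by_cases h : i = j
  · subst h
    rw [C.VC_ii]
    exact h2 i (by unfold dgC at hr'; omega)
  · rw [C.VC_ij h]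
    exact h1 i j (dj_of_dgC h hr') hr'

theorem W_le_Us {i j : Ix n} (hij : Dj i j) (h : 0 < Fd i + Fd j) : C.D.W i j ≤ C.Us := by
  have h1 : 0 < dN dgC (i, j) := dN_pos.2 h
  have h2 := GradeOf.le_N' (V := C.VC) (deg := dN dgC) (p := (i, j)) (h := 1) h1 h1
  rwa [C.VC_ij hij.1] at h2

theorem V_le_Us {i : Ix n} (h : 0 < Fd i) : C.L.V i ≤ C.Us := by
  have h1 : 0 < dN dgC (i, i) := dN_pos.2 (by show 0 < Fd i + Fd i; omega)
  have h2 := GradeOf.le_N' (V := C.VC) (deg := dN dgC) (p := (i, i)) (h := 1) h1 h1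
  rwa [C.VC_ii] at h2

theorem VC_eq {p q : PP n} (hp : 0 < dN dgC p) (hpq : dN dgC p = dN dgC q) : C.VC p = C.VC q := by
  have h1 := dN_pos.1 hp
  have h2 := dN_pos.1 (hpq ▸ hp)
  rcases uniqC (p := p) (q := q) h1 (by rw [← dN_cast h1, ← dN_cast h2, hpq]) with rfl | rfl
  · rfl
  · exact C.VC_symm _ _

variable [Finite F] (hn : 3 ≤ n) (hF : ∃ μ : Fˣ, (μ : F) ≠ 1)
include hn hF

theorem mem_Up_iff (w : G) : w ∈ R.Up ↔ w ∈ C.Us ∧ w * R.t = R.t * w := by
  have h1 := (C.grdC hn hF).inf_centralizer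
  rw [R.N_XP_C, UpP_eq] at h1
  rw [← h1]
  exact ⟨fun h => ⟨h.1, mem_centralizer_singleton_iff.1 h.2⟩, fun h => ⟨h.1, mem_centralizer_singleton_iff.2 h.2⟩⟩

theorem Up_le_Us : R.Up ≤ C.Us := fun w hw => ((C.mem_Up_iff hn hF w).1 hw).1

theorem Us_pgroup : IsPGroup 2 C.Us := (C.grdC hn hF).isPGroup

theorem t_notMem_Us : R.t ∉ C.Us := fun h =>
  R.t_notMem_K (R.Up_le ((C.mem_Up_iff hn hF _).2 ⟨h, rfl⟩))

/-- `Sem` elements normalise `U*` -/
theorem sem_Us {y : G} {σ : F ≃+* F} {lam : Fin n → Fˣ} (A : R.Sem y σ lam) {w : G} (hw : w ∈ C.Us) :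
    y * w * y⁻¹ ∈ C.Us := by
  have h1 : C.Us ≤ C.Us.comap (MulAut.conj y).toMonoidHom := by
    refine C.Us_le ?_ ?_
    · intro i j hij hp v hv
      exact C.W_le_Us hij hp (C.D.sem_mem hn hF A hij hv)
    · intro i hp v hv
      exact C.V_le_Us hp (C.L.sem_mem hn hF A (map_zero σ) hv)
  exact h1 hw

/-- the frame -/
theorem fr {T : Subgroup G} (h : R.OutT T) : Out.Exclude.Fr R.t T R.Up C.Us :=
  h.fr (C.Us_pgroup hn hF) (h.norm_of (C.Up_le_Us hn hF) fun _ _ _ _ hs _ hw => C.sem_Us hn hF hs hw)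
    (C.mem_Up_iff hn hF)

theorem ct {u : G} (hu : u ∈ C.Us) (hi : (R.t * u) * (R.t * u) = 1) : ∃ k ∈ C.Us, R.t * u = k * R.t * k⁻¹ := by
  obtain ⟨w, hw, l, hl, he⟩ := (C.grdC hn hF).exists_conj hu hi
  have hl1 : l = 1 := by
    have : Lg (GradeOf.Vd (dN dgC) R.XP) (GradeOf.lgd (dN dgC) fun _ : PP n => False) 1 ≤ ⊥ :=
      Lg_le fun i _ hi => by obtain ⟨_, _, _, h⟩ := hi; exact h.elim
    exact Subgroup.mem_bot.1 (this hl)
  refine ⟨w, hw, ?_⟩
  rw [hl1, mul_one] at he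
  calc R.t * u = w * (w⁻¹ * (R.t * u) * w) * w⁻¹ := by group
    _ = w * R.t * w⁻¹ := by rw [he]

/-! ### the pieces -/

/-- the doubled root group as a `Lay` -/
theorem layW {s : G} {σ : F ≃+* F} (hs : R.Sem s σ 1) {i j : Ix n} (hij : Dj i j) :
    Lay R.t s (σ : F →+* F) (R.x i j) (C.D.W i j) where
  add := R.x_add i j
  inj := fun _ h => R.x_eq_one hij h
  mem := C.D.x_mem i j
  sq := C.Wsq i j hij
  conj_t := fun w hw => by
    obtain ⟨u, hu⟩ := C.D.ht i j hij w hw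
    rw [hu]; exact mul_mem hw (C.D.x_mem i j u)
  cent := fun w hw h => C.D.ker i j hij w hw (R.t_of_comm h.symm)
  tx := fun u => (R.x_t i j u).symm.eq
  brk := fun w hw => by
    obtain ⟨u, hu⟩ := C.D.ht i j hij w hw
    exact ⟨u, by rw [hu, inv_mul_cancel_left]⟩
  surj := fun u => by
    obtain ⟨w, hw, hu⟩ := C.D.onto i j hij u
    exact ⟨w, hw, by rw [hu, inv_mul_cancel_left]⟩
  sx := fun u => by
    have := hs.yx i j hij u
    rw [ev_one_fun, ev_one_fun, Units.val_one, one_mul, one_mul] at this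
    exact this
  sW := fun w hw => C.D.sem_mem hn hF hs hij hw

theorem layV {s : G} {σ : F ≃+* F} (hs : R.Sem s σ 1) (i : Ix n) :
    Lay R.t s (σ : F →+* F) (R.y i) (C.L.V i) where
  add := R.y_add i
  inj := fun _ h => R.y_eq_one h
  mem := C.L.y_mem i
  sq := C.Vsq i
  conj_t := fun w hw => by
    obtain ⟨u, hu⟩ := C.L.ht i w hw
    rw [hu]; exact mul_mem hw (C.L.y_mem i u)
  cent := fun w hw h => C.L.ker i w hw (R.t_of_comm h.symm)
  tx := fun u => (R.y_t i u).symm.eq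
  brk := fun w hw => by
    obtain ⟨u, hu⟩ := C.L.ht i w hw
    exact ⟨u, by rw [hu, inv_mul_cancel_left]⟩
  surj := fun u => by
    obtain ⟨w, hw, hu⟩ := C.L.onto i u
    exact ⟨w, hw, by rw [hu, inv_mul_cancel_left]⟩
  sx := fun u => by
    have := hs.yy i u
    rw [ev_one_fun, Units.val_one, one_pow, one_mul] at this
    exact this
  sW := fun w hw => C.L.sem_mem hn hF hs (map_zero σ) hw

/-- conjugacy of the involutions of `s U*`, `t s U*` -/
theorem cv [Finite G] {s : G} {σ : F ≃+* F} (hs : R.Sem s σ 1) (ss : s * s = 1) (σ2 : ∀ a, σ (σ a) = a)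
    (σ1 : ∃ a, σ a ≠ a) {v : G} (hv : v = s ∨ v = R.t * s) {u : G} (hu : u ∈ C.Us)
    (hi : (v * u) * (v * u) = 1) : ∃ k ∈ C.Us, v * u = k * v * k⁻¹ := by
  obtain ⟨w0, hw0⟩ := Out.ZeroDiv.exists_w0 (σ : F →+* F) σ2 σ1
  have st : s * R.t = R.t * s := hs.yt.eq
  have vv : v * v = 1 := by
    rcases hv with rfl | rfl
    · exact ss
    · calc R.t * s * (R.t * s) = R.t * (s * R.t) * s := by group
        _ = (R.t * R.t) * (s * s) := by rw [st]; group
        _ = 1 := by rw [R.tt, ss, one_mul]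
  have vi : v⁻¹ = v := inv_eq_of_mul_eq_one_left vv
  have hsv : ∃ lam, R.Sem v σ lam := by
    rcases hv with rfl | rfl
    · exact ⟨_, hs⟩
    · exact ⟨_, Frame.Sem.t.mul hs⟩
  obtain ⟨lam, hsem⟩ := hsv
  have hW : ∀ p : PP n, 0 < dN dgC p → ∀ w ∈ C.VC p, v * w * v ∈ C.VC p := by
    rintro ⟨i, j⟩ hp w hw
    have hp' := dN_pos.1 hp
    by_cases hij : i = j
    · subst hij
      rw [C.VC_ii] at hw ⊢
      have := C.L.sem_mem hn hF hsem (map_zero σ) hw
      rwa [vi] at this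
    · rw [C.VC_ij hij] at hw ⊢
      have := C.D.sem_mem hn hF hsem (dj_of_dgC hij hp') hw
      rwa [vi] at this
  have hfree : ∀ p : PP n, 0 < dN dgC p → ∀ x ∈ C.VC p, v * x * v = x → ∃ w ∈ C.VC p, w⁻¹ * (v * w * v) = x := by
    rintro ⟨i, j⟩ hp x hx hxv
    have hp' := dN_pos.1 hp
    by_cases hij : i = j
    · subst hij
      rw [C.VC_ii] at hx ⊢
      exact (C.layV hn hF hs i).free' R.tt ss st σ2 hw0 hv hx hxv
    · rw [C.VC_ij hij] at hx ⊢
      exact (C.layW hn hF hs (dj_of_dgC hij hp')).free' R.tt ss st σ2 hw0 hv hx hxv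
  have cases : ∀ d : ℕ, (∃ p : PP n, 0 < dN dgC p ∧ dN dgC p = d) ∨ (∀ p : PP n, 0 < dN dgC p → dN dgC p ≠ d) := by
    intro d
    by_cases h : ∃ p : PP n, 0 < dN dgC p ∧ dN dgC p = d
    · exact Or.inl h
    · right
      intro p hp he
      exact h ⟨p, hp, he⟩
  refine (C.grdC hn hF).conj_of_change vv ?_ ?_ hu hi
  · intro d w hw
    rcases cases d with ⟨p, hp, rfl⟩ | h
    · rw [GradeOf.Vd_eq (deg := dN dgC) (V := C.VC) (fun p q => C.VC_eq) hp] at hw ⊢
      exact hW p hp w hw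
    · rw [GradeOf.Vd_bot h, Subgroup.mem_bot] at hw ⊢
      rw [hw, mul_one, vv]
  · intro d x hx hxv
    rcases cases d with ⟨p, hp, rfl⟩ | h
    · rw [GradeOf.Vd_eq (deg := dN dgC) (V := C.VC) (fun p q => C.VC_eq) hp] at hx ⊢
      exact hfree p hp x hx hxv
    · rw [GradeOf.Vd_bot h, Subgroup.mem_bot] at hx
      exact ⟨1, one_mem _, by rw [hx, mul_one, vv, inv_one, one_mul]⟩

omit [Finite F] hF in
/-- `W_1m` and the other positive doubles -/
theorem comm_am {a m : Fin n} (ha : a.val = 0) (ham : a ≠ m) {g : G} (hg : g ∈ C.D.W (Sum.inl a) (Sum.inl m))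
    {k l : Ix n} (hkl : Dj k l) (hp : 0 < Fd k + Fd l) (hex : k = neg (Sum.inl m) → l = Sum.inl a)
    (hex' : l = neg (Sum.inl m) → k = Sum.inl a) {v : G} (hv : v ∈ C.D.W k l) : Commute g v := by
  have hd : Dj (Sum.inl a : Ix n) (Sum.inl m) := TU.dj_inl ham
  have h1 : k ≠ neg (Sum.inl a) := by
    rintro rfl
    obtain ⟨p, hp', -⟩ := lt_of_posFd hp
    rw [Fin.lt_def] at hp'
    omega
  have h2 : l ≠ neg (Sum.inl a) := by
    rintro rfl
    rw [add_comm] at hp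
    obtain ⟨p, hp', -⟩ := lt_of_posFd hp
    rw [Fin.lt_def] at hp'
    omega
  by_cases e1 : k = neg (Sum.inl m)
  · have e2 := hex e1
    subst e1
    subst e2
    rw [C.D.symm] at hv
    exact C.par_comm hn hd hg hv
  by_cases e2 : l = neg (Sum.inl m)
  · have e3 := hex' e2
    subst e2
    subst e3
    exact C.par_comm hn hd hg hv
  exact C.commW hd hkl h1 e1 h2 e2 hg hv

omit [Finite F] hn hF in
theorem comm_am_V {a m : Fin n} (ham : a ≠ m) {g : G} (hg : g ∈ C.D.W (Sum.inl a) (Sum.inl m))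
    {k : Ix n} (hp : 0 < Fd k) {v : G} (hv : v ∈ C.L.V k) : Commute g v := by
  obtain ⟨p, rfl⟩ := exists_inl hp
  exact C.cWV _ _ _ (TU.dj_inl ham) (by simp) (by simp) g hg v hv

omit [Finite F] hF in
/-- `W_12` is central in `U*` -/
theorem W12_central {a b : Fin n} (ha : a.val = 0) (hb : b.val = 1) {g : G}
    (hg : g ∈ C.D.W (Sum.inl a) (Sum.inl b)) {w : G} (hw : w ∈ C.Us) : g * w = w * g := by
  have hab : a ≠ b := by rintro rfl; omega
  have hb' : ∀ {l : Ix n}, 0 < Fd (neg (Sum.inl b)) + Fd l → l = Sum.inl a := by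
    intro l h
    obtain ⟨p, hp, rfl⟩ := lt_of_posFd h
    rw [Fin.lt_def] at hp
    congr 1
    exact Fin.ext (by omega)
  have h1 : C.Us ≤ centralizer ({g} : Set G) := by
    refine C.Us_le ?_ ?_
    · intro i j hij hp v hv
      refine mem_centralizer_singleton_iff.2 (Commute.symm ?_).eq
      refine C.comm_am hn ha hab hg hij hp ?_ ?_ hv
      · rintro rfl; exact hb' hp
      · rintro rfl; exact hb' (by rwa [add_comm] at hp)
    · intro i hp v hv
      exact mem_centralizer_singleton_iff.2 (C.comm_am_V hab hg hp hv).symm.eq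
  exact (mem_centralizer_singleton_iff.1 (h1 hw)).symm

omit [Finite F] hn hF in
/-- `V_1` is central in `U*` -/
theorem V1_central {a : Fin n} (ha : a.val = 0) {g : G} (hg : g ∈ C.L.V (Sum.inl a)) {w : G} (hw : w ∈ C.Us) :
    g * w = w * g := by
  have h1 : C.Us ≤ centralizer ({g} : Set G) := by
    refine C.Us_le ?_ ?_
    · intro i j hij hp v hv
      refine mem_centralizer_singleton_iff.2 (C.cWV i j (Sum.inl a) hij ?_ ?_ v hv g hg).eq
      · rintro e
        have e' : i = neg (Sum.inl a) := by rw [e, neg_neg]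
        subst e'
        obtain ⟨p, hp', -⟩ := lt_of_posFd hp
        rw [Fin.lt_def] at hp'
        omega
      · rintro e
        have e' : j = neg (Sum.inl a) := by rw [e, neg_neg]
        subst e'
        rw [add_comm] at hp
        obtain ⟨p, hp', -⟩ := lt_of_posFd hp
        rw [Fin.lt_def] at hp'
        omega
    · intro i hp v hv
      obtain ⟨p, rfl⟩ := exists_inl hp
      by_cases e : p = a
      · subst e
        exact mem_centralizer_singleton_iff.2 (C.L.comm _ v hv g hg)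
      · exact mem_centralizer_singleton_iff.2 (C.cVV _ _ (TU.dj_inl e) v hv g hg).eq
  exact (mem_centralizer_singleton_iff.1 (h1 hw)).symm

/-! ### the complement `M` of `W_{2,-3}` -/

/-- the product of the positive doubles except `W_{b,-c}` -/
def Mg (b c : Fin n) : Subgroup G :=
  ⨆ p : PP n, ⨆ _ : 0 < dgC p.1 p.2 ∧ p ≠ (Sum.inl b, Sum.inr c) ∧ p ≠ (Sum.inr c, Sum.inl b), C.VC p

omit [Finite F] hn hF in
theorem Mg_le {b c : Fin n} {K : Subgroup G}
    (h1 : ∀ i j, Dj i j → 0 < Fd i + Fd j → ¬ (i = Sum.inl b ∧ j = Sum.inr c) → ¬ (i = Sum.inr c ∧ j = Sum.inl b) →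
      C.D.W i j ≤ K) (h2 : ∀ i, 0 < Fd i → C.L.V i ≤ K) : C.Mg b c ≤ K := by
  refine iSup₂_le fun r hr => ?_
  obtain ⟨i, j⟩ := r
  obtain ⟨hr', hr1, hr2⟩ := hr
  by_cases h : i = j
  · subst h
    rw [C.VC_ii]
    exact h2 i (by unfold dgC at hr'; simp only at hr'; omega)
  · rw [C.VC_ij h]
    refine h1 i j (dj_of_dgC h hr') hr' ?_ ?_
    · rintro ⟨rfl, rfl⟩; exact hr1 rfl
    · rintro ⟨rfl, rfl⟩; exact hr2 rfl

omit [Finite F] hn hF in
theorem W_le_Mg {b c : Fin n} {i j : Ix n} (hij : Dj i j) (h : 0 < Fd i + Fd j)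
    (h1 : ¬ (i = Sum.inl b ∧ j = Sum.inr c)) (h2 : ¬ (i = Sum.inr c ∧ j = Sum.inl b)) : C.D.W i j ≤ C.Mg b c := by
  rw [← C.VC_ij hij.1]
  unfold Mg
  exact le_iSupP (V := C.VC) (r := (i, j)) (S := fun p : PP n => 0 < dgC p.1 p.2 ∧ p ≠ (Sum.inl b, Sum.inr c) ∧
    p ≠ (Sum.inr c, Sum.inl b)) ⟨h, fun e => h1 ⟨congrArg Prod.fst e, congrArg Prod.snd e⟩,
      fun e => h2 ⟨congrArg Prod.fst e, congrArg Prod.snd e⟩⟩

omit [Finite F] hn hF in
theorem V_le_Mg {b c : Fin n} {i : Ix n} (h : 0 < Fd i) : C.L.V i ≤ C.Mg b c := by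
  rw [← C.VC_ii]
  unfold Mg
  have h0 : 0 < dgC i i := by unfold dgC; omega
  refine le_iSupP (V := C.VC) (r := (i, i)) (S := fun p : PP n => 0 < dgC p.1 p.2 ∧
    p ≠ (Sum.inl b, Sum.inr c) ∧ p ≠ (Sum.inr c, Sum.inl b)) ⟨h0, fun e => ?_, fun e => ?_⟩
  · have e1 : i = Sum.inl b := congrArg Prod.fst e
    have e2 : i = Sum.inr c := congrArg Prod.snd e
    rw [e1] at e2
    simp at e2
  · have e1 : i = Sum.inr c := congrArg Prod.fst e
    have e2 : i = Sum.inl b := congrArg Prod.snd e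
    rw [e1] at e2
    simp at e2

omit [Finite F] hn hF in
theorem Mg_le_Us {b c : Fin n} : C.Mg b c ≤ C.Us :=
  C.Mg_le (fun _ _ hij hp _ _ => C.W_le_Us hij hp) (fun _ hp => C.V_le_Us hp)

/-- `Sem` elements normalise `M` -/
theorem sem_Mg {b c : Fin n} {y : G} {σ : F ≃+* F} {lam : Fin n → Fˣ} (A : R.Sem y σ lam) {w : G}
    (hw : w ∈ C.Mg b c) : y * w * y⁻¹ ∈ C.Mg b c := by
  have h1 : C.Mg b c ≤ (C.Mg b c).comap (MulAut.conj y).toMonoidHom := by
    refine C.Mg_le ?_ ?_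
    · intro i j hij hp h1 h2 v hv
      exact C.W_le_Mg hij hp h1 h2 (C.D.sem_mem hn hF A hij hv)
    · intro i hp v hv
      exact C.V_le_Mg hp (C.L.sem_mem hn hF A (map_zero σ) hv)
  exact h1 hw

omit [Finite F] hF in
/-- `M` centralises `W_13` -/
theorem Mg_comm {a b c : Fin n} (ha : a.val = 0) (hb : b.val = 1) (hc : c.val = 2) {g : G}
    (hg : g ∈ C.D.W (Sum.inl a) (Sum.inl c)) {w : G} (hw : w ∈ C.Mg b c) : w * g = g * w := by
  have hac : a ≠ c := by rintro rfl; omega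
  have hc' : ∀ {l : Ix n}, 0 < Fd (neg (Sum.inl c)) + Fd l → l ≠ Sum.inl b → l = Sum.inl a := by
    intro l h hl
    obtain ⟨p, hp, rfl⟩ := lt_of_posFd h
    rw [Fin.lt_def] at hp
    congr 1
    refine Fin.ext ?_
    have : p.val ≠ b.val := fun e => hl (by rw [Fin.ext e])
    omega
  have h1 : C.Mg b c ≤ centralizer ({g} : Set G) := by
    refine C.Mg_le ?_ ?_
    · intro i j hij hp h1 h2 v hv
      refine mem_centralizer_singleton_iff.2 (Commute.symm ?_).eq
      refine C.comm_am hn ha hac hg hij hp ?_ ?_ hv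
      · rintro rfl; exact hc' hp fun e => h2 ⟨rfl, e⟩
      · rintro rfl; exact hc' (by rwa [add_comm] at hp) fun e => h1 ⟨e, rfl⟩
    · intro i hp v hv
      exact mem_centralizer_singleton_iff.2 (C.comm_am_V hac hg hp hv).symm.eq
  exact mem_centralizer_singleton_iff.1 (h1 hw)

/-- `W_{2,-3}` normalises `M` -/
theorem W2_norm {a b c : Fin n} (ha : a.val = 0) (hb : b.val = 1) (hc : c.val = 2) {w : G}
    (hw : w ∈ C.D.W (Sum.inl b) (Sum.inr c)) {m : G} (hm : m ∈ C.Mg b c) : w * m * w⁻¹ ∈ C.Mg b c := by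
  have hab : a ≠ b := by rintro rfl; omega
  have hbc : b ≠ c := by rintro rfl; omega
  have hac : a ≠ c := by rintro rfl; omega
  have dbc : Dj (Sum.inl b : Ix n) (Sum.inl c) := TU.dj_inl hbc
  have dbc' : Dj (Sum.inl b : Ix n) (Sum.inr c) := TU.dj_inl_inr hbc
  have Fac : Fd (Sum.inl c : Ix n) < Fd (Sum.inl a) := Fd_inl_lt (Fin.lt_def.2 (by omega))
  have Fbc : Fd (Sum.inl c : Ix n) < Fd (Sum.inl b) := Fd_inl_lt (Fin.lt_def.2 (by omega))
  have key : ∀ v, ⁅w, v⁆ ∈ C.Mg b c → v ∈ C.Mg b c → w * v * w⁻¹ ∈ C.Mg b c := by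
    intro v h1 h2
    have e : w * v * w⁻¹ = ⁅w, v⁆ * v := by rw [commutatorElement_def]; group
    rw [e]; exact mul_mem h1 h2
  have keyc : ∀ v, Commute w v → v ∈ C.Mg b c → w * v * w⁻¹ ∈ C.Mg b c := by
    intro v h1 h2
    rw [h1.eq, mul_inv_cancel_right]; exact h2
  -- the cases (1), (3) for short doubles
  have aux1 : ∀ j, 0 < Fd (neg (Sum.inl b : Ix n)) + Fd j → ∀ v ∈ C.D.W (neg (Sum.inl b)) j,
      ⁅w, v⁆ ∈ C.Mg b c := by
    intro j hp v hv
    obtain ⟨p, hp', rfl⟩ := lt_of_posFd hp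
    have hpa : p = a := by
      rw [Fin.lt_def] at hp'
      exact Fin.ext (by omega)
    subst hpa
    rw [C.D.symm] at hv
    have h1 := C.c120 (Sum.inl p) (Sum.inl b) (Sum.inr c) (TU.dj_inl hab) (TU.dj_inl_inr hac) dbc' w hw v hv
    refine C.W_le_Mg (TU.dj_inl_inr hac) ?_ ?_ ?_ h1
    · have e : Fd (Sum.inr c : Ix n) = -Fd (Sum.inl c : Ix n) := by rw [← Fd_neg]; rfl
      rw [e]; omega
    · rintro ⟨e, -⟩; exact hab (Sum.inl_injective e)
    · rintro ⟨e, -⟩; simp at e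
  have aux2 : ∀ j, Dj (Sum.inl c : Ix n) j → j ≠ neg (Sum.inl b) → 0 < Fd (Sum.inl c : Ix n) + Fd j →
      ∀ v ∈ C.D.W (Sum.inl c) j, ⁅w, v⁆ ∈ C.Mg b c := by
    intro j hcj hjb hp v hv
    by_cases e : j = Sum.inl b
    · subst e
      rw [C.D.symm] at hv
      have h1 := C.par_comm hn dbc hv (g' := w) hw
      rw [commutatorElement_eq_one_iff_commute.2 h1.symm]
      exact one_mem _
    · have dbj : Dj (Sum.inl b : Ix n) j := ⟨fun e' => e e'.symm, fun e' => hjb (by rw [e', neg_neg])⟩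
      have h1 := C.c120 (Sum.inl b) (Sum.inl c) j dbc dbj hcj v hv w hw
      have h2 := inv_mem h1
      rw [commutatorElement_inv] at h2
      refine C.W_le_Mg dbj (by omega) ?_ ?_ h2
      · rintro ⟨-, rfl⟩
        exact hcj.2 rfl
      · rintro ⟨e', -⟩; simp at e'
  have h1 : C.Mg b c ≤ (C.Mg b c).comap (MulAut.conj w).toMonoidHom := by
    refine C.Mg_le ?_ ?_
    · intro i j hij hp hx1 hx2 v hv
      have hvM := C.W_le_Mg hij hp hx1 hx2 hv
      show w * v * w⁻¹ ∈ C.Mg b c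
      by_cases e1 : i = neg (Sum.inl b)
      · subst e1; exact key v (aux1 j hp v hv) hvM
      by_cases e2 : j = neg (Sum.inl b)
      · subst e2
        rw [C.D.symm] at hv
        exact key v (aux1 i (by omega) v hv) hvM
      by_cases e3 : i = Sum.inl c
      · subst e3; exact key v (aux2 j hij e2 hp v hv) hvM
      by_cases e4 : j = Sum.inl c
      · subst e4
        rw [C.D.symm] at hv
        exact key v (aux2 i hij.symm e1 (by omega) v hv) hvM
      refine keyc v ?_ hvM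
      refine C.commW dbc' hij e1 ?_ e2 ?_ hw hv
      · rw [neg_inr]; exact e3
      · rw [neg_inr]; exact e4
    · intro i hp v hv
      have hvM := C.V_le_Mg (b := b) (c := c) hp hv
      show w * v * w⁻¹ ∈ C.Mg b c
      obtain ⟨p, rfl⟩ := exists_inl hp
      by_cases e : p = c
      · subst e
        obtain ⟨a', ha', v', hv', h2⟩ := C.mem135 dbc hn hF (g := w) hw hv
        refine key v ?_ hvM
        rw [h2]
        refine mul_mem (C.W_le_Mg dbc ?_ ?_ ?_ ha') (C.V_le_Mg ?_ hv')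
        · have := Fd_inl_pos' b
          have := Fd_inl_pos' p
          omega
        · rintro ⟨-, e'⟩; simp at e'
        · rintro ⟨e', -⟩; simp at e'
        · exact Fd_inl_pos' b
      · refine keyc v ?_ hvM
        refine C.cWV _ _ _ dbc' (by simp) ?_ w hw v hv
        rw [neg_inr]
        intro e'
        exact e (Sum.inl_injective e')
  exact h1 hm

/-- `U* = W_{2,-3} M` -/
theorem dec {a b c : Fin n} (ha : a.val = 0) (hb : b.val = 1) (hc : c.val = 2) {u : G} (hu : u ∈ C.Us) :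
    ∃ w ∈ C.D.W (Sum.inl b) (Sum.inr c), ∃ m ∈ C.Mg b c, u = w * m := by
  refine exists_mul (fun w hw m hm => C.W2_norm hn hF ha hb hc hw hm) ?_
  have h1 : C.Us ≤ C.D.W (Sum.inl b) (Sum.inr c) ⊔ C.Mg b c := by
    refine C.Us_le ?_ ?_
    · intro i j hij hp
      by_cases h1 : i = Sum.inl b ∧ j = Sum.inr c
      · obtain ⟨rfl, rfl⟩ := h1
        exact le_sup_left
      · by_cases h2 : i = Sum.inr c ∧ j = Sum.inl b
        · obtain ⟨rfl, rfl⟩ := h2
          rw [C.D.symm]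
          exact le_sup_left
        · exact (C.W_le_Mg hij hp h1 h2).trans le_sup_right
    · intro i hp
      exact (C.V_le_Mg hp).trans le_sup_right
  exact h1 hu

omit [Finite F] hF in
/-- `W_{2,-3} ∩ M = 1` -/
theorem ind {a b c : Fin n} (ha : a.val = 0) (hb : b.val = 1) (hc : c.val = 2) {w : G}
    (hw : w ∈ C.D.W (Sum.inl b) (Sum.inr c)) (hm : w ∈ C.Mg b c) : w = 1 := by
  have hab : a ≠ b := by rintro rfl; omega
  have hbc : b ≠ c := by rintro rfl; omega
  have hac : a ≠ c := by rintro rfl; omega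
  have dbc' : Dj (Sum.inl b : Ix n) (Sum.inr c) := TU.dj_inl_inr hbc
  have hx : ∀ d, ⁅R.x (Sum.inl a) (Sum.inl c) 1, R.x (Sum.inl b) (Sum.inr c) d⁆ = R.x (Sum.inl a) (Sum.inl b) d := by
    intro d
    have := R.x_rel' (i := Sum.inl a) (j := Sum.inl c) (k := Sum.inl b) (TU.dj_inl hac) (TU.dj_inl hbc.symm)
      (TU.dj_inl hab) 1 d
    rw [one_mul, neg_inl, R.x_symm (Sum.inr c)] at this
    exact this
  have c1 : Commute (R.x (Sum.inl a) (Sum.inl c) 1) w :=
    (C.Mg_comm hn ha hb hc (C.D.x_mem (Sum.inl a) (Sum.inl c) 1) hm).symm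
  obtain ⟨u, hu⟩ := C.D.ht _ _ dbc' w hw
  -- conjugate by `t`
  have c2 : Commute (R.x (Sum.inl a) (Sum.inl c) 1) (w * R.x (Sum.inl b) (Sum.inr c) u) := by
    rw [← hu]
    show R.x (Sum.inl a) (Sum.inl c) 1 * (R.t * w * R.t) = R.t * w * R.t * R.x (Sum.inl a) (Sum.inl c) 1
    have h1 := (R.x_t (Sum.inl a) (Sum.inl c) 1).eq
    calc R.x (Sum.inl a) (Sum.inl c) 1 * (R.t * w * R.t) = (R.x (Sum.inl a) (Sum.inl c) 1 * R.t) * w * R.t := by
          group
      _ = R.t * (R.x (Sum.inl a) (Sum.inl c) 1 * w) * R.t := by rw [h1]; group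
      _ = R.t * w * (R.x (Sum.inl a) (Sum.inl c) 1 * R.t) := by rw [c1.eq]; group
      _ = _ := by rw [h1]; group
  have c3 : Commute (R.x (Sum.inl a) (Sum.inl c) 1) (R.x (Sum.inl b) (Sum.inr c) u) := by
    have := c1.inv_right.mul_right c2
    rwa [inv_mul_cancel_left] at this
  have h3 := hx u
  rw [commutatorElement_eq_one_iff_commute.2 c3] at h3
  have hu0 : u = 0 := R.x_eq_one (TU.dj_inl hab) h3.symm
  rw [hu0, R.x_zero, mul_one] at hu
  obtain ⟨d, rfl⟩ := C.D.ker _ _ dbc' w hw hu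
  have h4 := hx d
  rw [commutatorElement_eq_one_iff_commute.2 c1] at h4
  have hd0 : d = 0 := R.x_eq_one (TU.dj_inl hab) h4.symm
  rw [hd0, R.x_zero]

/-! ### counting -/

/-- `y_1(x) x_12(y) x_13(z)` -/
noncomputable def el3 (a b c : Fin n) (p : F × F × F) : Sy n F :=
  sy (Sum.inl a) p.1 * sx (Sum.inl a) (Sum.inl b) p.2.1 * sx (Sum.inl a) (Sum.inl c) p.2.2

omit [Finite F] hn hF C in
theorem el3_inj {a b c : Fin n} (hab : a ≠ b) (hac : a ≠ c) (hbc : b ≠ c) {p q : F × F × F}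
    (h : el3 a b c p = el3 a b c q) : p = q := by
  have key : ∀ (p : F × F × F) (k : Ix n), rho n F (el3 a b c p) (be n F (Sum.inr a)) k =
      be n F (Sum.inr a) k + p.1 * be n F (Sum.inl a) k + p.2.1 * be n F (Sum.inl b) k +
        p.2.2 * be n F (Sum.inl c) k := by
    intro p k
    rw [el3, map_mul, map_mul, Equiv.Perm.mul_apply, Equiv.Perm.mul_apply, rho_sy, rho_sx (TU.dj_inl hab),
      rho_sx (TU.dj_inl hac)]
    simp only [Pi.add_apply, Pi.smul_apply, smul_eq_mul, be_apply, neg_inl]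
    simp [hab, hac, hbc, hab.symm, hac.symm, hbc.symm]
    ring
  have e : ∀ k : Ix n, be n F (Sum.inr a) k + p.1 * be n F (Sum.inl a) k + p.2.1 * be n F (Sum.inl b) k +
        p.2.2 * be n F (Sum.inl c) k = be n F (Sum.inr a) k + q.1 * be n F (Sum.inl a) k +
        q.2.1 * be n F (Sum.inl b) k + q.2.2 * be n F (Sum.inl c) k := by
    intro k
    rw [← key, ← key, h]
  have e1 := e (Sum.inl a)
  have e2 := e (Sum.inl b)
  have e3 := e (Sum.inl c)
  simp [be_apply, hab, hac, hbc, hab.symm, hac.symm, hbc.symm] at e1 e2 e3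
  exact Prod.ext e1 (Prod.ext e2 e3)

theorem card_Us [Finite G] {a b c : Fin n} (hab : a ≠ b) (hac : a ≠ c) (hbc : b ≠ c) :
    Nat.card R.Up * Nat.card F ^ 3 ≤ Nat.card C.Us := by
  classical
  have hmem : ∀ p : F × F × F, R.ι (el3 a b c p) ∈ R.Up := by
    intro p
    rw [R.Up_eq]
    exact ⟨_, mul_mem (mul_mem (TU.sy_inl_mem _ _) (TU.sx_inl_inl_mem _ _ _)) (TU.sx_inl_inl_mem _ _ _), rfl⟩
  have hk : ∀ p : F × F × F, ∃ k ∈ C.Us, R.t * R.ι (el3 a b c p) = k * R.t * k⁻¹ := by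
    intro p
    refine C.ct hn hF (C.Up_le_Us hn hF (hmem p)) ?_
    have h1 := (R.comm (el3 a b c p)).eq
    have e : R.ι (el3 a b c p) = R.y (Sum.inl a) p.1 * R.x (Sum.inl a) (Sum.inl b) p.2.1 *
        R.x (Sum.inl a) (Sum.inl c) p.2.2 := by
      rw [el3, map_mul, map_mul]; rfl
    have c1 : Commute (R.y (Sum.inl a) p.1) (R.x (Sum.inl a) (Sum.inl b) p.2.1) :=
      C.L.cx _ _ (C.L.y_mem _ _) _ _ _ (by simp) (by simp)
    have c2 : Commute (R.y (Sum.inl a) p.1) (R.x (Sum.inl a) (Sum.inl c) p.2.2) :=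
      C.L.cx _ _ (C.L.y_mem _ _) _ _ _ (by simp) (by simp)
    have c3 : Commute (R.x (Sum.inl a) (Sum.inl b) p.2.1) (R.x (Sum.inl a) (Sum.inl c) p.2.2) :=
      R.x_comm (by simp) (by simp) (by simp) (by simp) _ _
    have e2 : R.ι (el3 a b c p) * R.ι (el3 a b c p) = 1 := by
      rw [e]
      have c4 := c2.mul_left c3
      calc _ = (R.y (Sum.inl a) p.1 * R.x (Sum.inl a) (Sum.inl b) p.2.1) * (R.x (Sum.inl a) (Sum.inl c) p.2.2 *
          (R.y (Sum.inl a) p.1 * R.x (Sum.inl a) (Sum.inl b) p.2.1)) * R.x (Sum.inl a) (Sum.inl c) p.2.2 := by group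
        _ = (R.y (Sum.inl a) p.1 * R.x (Sum.inl a) (Sum.inl b) p.2.1) *
          (R.y (Sum.inl a) p.1 * R.x (Sum.inl a) (Sum.inl b) p.2.1) *
          (R.x (Sum.inl a) (Sum.inl c) p.2.2 * R.x (Sum.inl a) (Sum.inl c) p.2.2) := by rw [← c4.eq]; group
        _ = R.y (Sum.inl a) p.1 * (R.x (Sum.inl a) (Sum.inl b) p.2.1 * R.y (Sum.inl a) p.1) *
          R.x (Sum.inl a) (Sum.inl b) p.2.1 := by rw [R.x_sq, mul_one]; group
        _ = (R.y (Sum.inl a) p.1 * R.y (Sum.inl a) p.1) *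
          (R.x (Sum.inl a) (Sum.inl b) p.2.1 * R.x (Sum.inl a) (Sum.inl b) p.2.1) := by rw [← c1.eq]; group
        _ = 1 := by rw [R.y_sq, R.x_sq, one_mul]
    calc R.t * R.ι (el3 a b c p) * (R.t * R.ι (el3 a b c p)) =
          R.t * (R.ι (el3 a b c p) * R.t) * R.ι (el3 a b c p) := by group
      _ = (R.t * R.t) * (R.ι (el3 a b c p) * R.ι (el3 a b c p)) := by rw [h1]; group
      _ = 1 := by rw [R.tt, e2, one_mul]
  choose k hk hkt using hk
  have hcard : Nat.card (R.Up × (F × F × F)) = Nat.card R.Up * Nat.card F ^ 3 := by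
    rw [Nat.card_prod, Nat.card_prod, Nat.card_prod]; ring
  rw [← hcard]
  refine Nat.card_le_card_of_injective (fun q : R.Up × (F × F × F) =>
    (⟨k q.2 * q.1, mul_mem (hk _) (C.Up_le_Us hn hF q.1.2)⟩ : C.Us)) ?_
  rintro ⟨⟨u, hu⟩, p⟩ ⟨⟨u', hu'⟩, p'⟩ hq
  have h1 : k p * u = k p' * u' := Subtype.mk.inj hq
  have hut : u * R.t = R.t * u := ((C.mem_Up_iff hn hF u).1 hu).2
  have hut' : u' * R.t = R.t * u' := ((C.mem_Up_iff hn hF u').1 hu').2
  have h2 : R.t * R.ι (el3 a b c p) = R.t * R.ι (el3 a b c p') := by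
    rw [hkt, hkt]
    calc k p * R.t * (k p)⁻¹ = k p * (R.t * u) * u⁻¹ * (k p)⁻¹ := by group
      _ = (k p * u) * R.t * (k p * u)⁻¹ := by rw [← hut]; group
      _ = (k p' * u') * R.t * (k p' * u')⁻¹ := by rw [h1]
      _ = k p' * (u' * R.t) * u'⁻¹ * (k p')⁻¹ := by group
      _ = k p' * R.t * (k p')⁻¹ := by rw [hut']; group
  have h3 : p = p' := el3_inj hab hac hbc (R.inj (mul_left_cancel h2))
  subst h3
  have h4 : u = u' := mul_left_cancel h1
  subst h4
  rfl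

end CC

omit [CharP F 2] in
/-- a 2-subgroup of `C(t)` is conjugate in `C(t)` into `T` -/
theorem Frame.OutT.exists_conj_le₁ [Finite G] {T : Subgroup G} (h : R.OutT T) {V : Subgroup G} (hV : IsPGroup 2 V)
    (hVt : ∀ x ∈ V, x * R.t = R.t * x) : ∃ c : G, c * R.t = R.t * c ∧ ∀ x ∈ V, c * x * c⁻¹ ∈ T := by
  set C := centralizer ({R.t} : Set G) with hC
  have hTC : T ≤ C := fun x hx => mem_centralizer_singleton_iff.2 (h.Tc x hx)
  have hVC : V ≤ C := fun x hx => mem_centralizer_singleton_iff.2 (hVt x hx)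
  let S1 : Sylow 2 C := ⟨T.subgroupOf C, h.T2.comap_of_injective C.subtype C.subtype_injective, by
    intro Q hQ hle
    apply le_antisymm _ hle
    have h1 : Q.map C.subtype ≤ T := by
      apply h.Tmax _ (hQ.map C.subtype)
      · intro y hy
        exact ⟨⟨y, hTC hy⟩, hle (by exact hy), rfl⟩
      · rintro _ ⟨y, -, rfl⟩
        exact mem_centralizer_singleton_iff.1 y.2
    intro y hy
    exact h1 ⟨y, hy, rfl⟩⟩
  obtain ⟨S2, hS2⟩ := (hV.comap_of_injective C.subtype C.subtype_injective).exists_le_sylow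
  obtain ⟨c, hc⟩ := MulAction.exists_smul_eq C S2 S1
  refine ⟨c, mem_centralizer_singleton_iff.1 c.2, fun x hx => ?_⟩
  have h1 : (⟨x, hVC hx⟩ : C) ∈ (S2 : Subgroup C) := hS2 (by exact hx)
  have h2 : c * ⟨x, hVC hx⟩ * c⁻¹ ∈ (S1 : Subgroup C) := by
    rw [← hc]
    exact ⟨_, h1, rfl⟩
  exact h2

omit [CharP F 2] in
/-- an element with a large 2-group in its centraliser is not conjugate to `t` -/
theorem Frame.OutT.not_conj_of_card [Finite G] {T : Subgroup G} (h : R.OutT T) {Us : Subgroup G}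
    (Us2 : IsPGroup 2 Us) {z : G} (hz : ∀ w ∈ Us, z * w = w * z) (hlt : Nat.card T < Nat.card Us) (g : G) :
    g⁻¹ * R.t * g ≠ z := by
  intro e
  have et : R.t = g * z * g⁻¹ := by rw [← e]; group
  obtain ⟨c, -, hc⟩ := h.exists_conj_le₁ (Us2.map (MulAut.conj g).toMonoidHom) (by
    rintro _ ⟨w, hw, rfl⟩
    show g * w * g⁻¹ * R.t = R.t * (g * w * g⁻¹)
    rw [et]
    calc g * w * g⁻¹ * (g * z * g⁻¹) = g * (w * z) * g⁻¹ := by group
      _ = g * (z * w) * g⁻¹ := by rw [hz w hw]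
      _ = _ := by group)
  have h1 := Nat.card_le_card_of_injective (fun w : Us => (⟨c * (g * w * g⁻¹) * c⁻¹, hc _ ⟨w, w.2, rfl⟩⟩ : T)) (by
    intro w w' hw
    have h2 : c * (g * (w : G) * g⁻¹) * c⁻¹ = c * (g * w' * g⁻¹) * c⁻¹ := Subtype.mk.inj hw
    exact Subtype.ext (mul_left_cancel (mul_right_cancel (mul_left_cancel (mul_right_cancel h2)))))
  omega

namespace CC

omit [CharP F 2] in
theorem two_lt_card [Finite F] (hF : ∃ μ : Fˣ, (μ : F) ≠ 1) : 2 < Nat.card F := by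
  obtain ⟨μ, hμ⟩ := hF
  have := Fintype.ofFinite F
  classical
  rw [Nat.card_eq_fintype_card]
  exact Fintype.two_lt_card_iff.2 ⟨0, 1, μ, zero_ne_one, μ.ne_zero.symm, fun e => hμ e.symm⟩

variable (C : CC R) [Finite F] (hn : 3 ≤ n) (hF : ∃ μ : Fˣ, (μ : F) ≠ 1)
include C hn hF

/-- (k0) -/
theorem k0 [Finite G] {T : Subgroup G} (h : R.OutT T) {a b : Fin n} (ha : a.val = 0) (hb : b.val = 1)
    (hab : Dj (Sum.inl a : Ix n) (Sum.inl b)) {z : G} (hz : z ∈ C.NN hab) (g : G) : g⁻¹ * R.t * g ≠ z := by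
  have hne : a ≠ b := by rintro rfl; omega
  refine h.not_conj_of_card (C.Us_pgroup hn hF) ?_ ?_ g
  · intro w hw
    obtain ⟨p, hp, v, hv, rfl⟩ := hz
    have e1 := C.W12_central hn ha hb hp hw
    have e2 := C.V1_central ha hv hw
    calc p * v * w = p * (v * w) := by group
      _ = (p * w) * v := by rw [e2]; group
      _ = w * (p * v) := by rw [e1]; group
  · have h1 := C.card_Us hn hF (a := a) (b := b) (c := ⟨2, by omega⟩) hne
      (fun e => by rw [e] at ha; simp at ha) (fun e => by rw [e] at hb; simp at hb)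
    have h2 := h.card_T hn
    have h3 := two_lt_card hF
    have h4 : 0 < Nat.card R.Up := Nat.card_pos
    have h5 : Nat.card F ^ 2 * (2 * Nat.card R.Up) < Nat.card R.Up * Nat.card F ^ 3 := by
      have : 0 < Nat.card F ^ 2 * Nat.card R.Up := by positivity
      nlinarith
    omega

/-- **(C,C), one involution in `T / U`** -/
theorem out_one [Finite G] {T : Subgroup G} (h : R.OutT T)
    (hinv : ∀ d ∈ T, d * d ∈ R.Up → d ∈ R.Up ∨ R.t * d ∈ R.Up) : R.t ∉ _root_.commutator G := by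
  have fr := C.fr hn hF h
  have hsq : ∀ g : G, g⁻¹ * R.t * g * (g⁻¹ * R.t * g) = 1 := by
    intro g
    calc g⁻¹ * R.t * g * (g⁻¹ * R.t * g) = g⁻¹ * (R.t * R.t) * g := by group
      _ = 1 := by rw [R.tt]; group
  have htypes : ∀ g : G, (∀ d ∈ T, g⁻¹ * d * g ∈ fr.S) →
      (g⁻¹ * R.t * g ∈ C.Us ∨ R.t * (g⁻¹ * R.t * g) ∈ C.Us) := by
    intro g hg
    obtain ⟨d, hd, w', hw', e⟩ := fr.mem_S.1 (hg R.t fr.tT)
    have h1 := hsq g
    rw [e] at h1
    have h2 : d * d ∈ R.Up := by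
      apply (fr.hU _).2
      refine ⟨?_, ?_⟩
      · have h5 : d * d = w'⁻¹ * (d⁻¹ * w'⁻¹ * d) := by
          have : d * d = d * w' * (d * w') * ((w'⁻¹ * (d⁻¹ * w'⁻¹ * d))) := by group
          rw [h1, one_mul] at this
          exact this
        rw [h5]
        have h6 := fr.norm _ (inv_mem hd) _ (inv_mem hw')
        rw [inv_inv] at h6
        exact mul_mem (inv_mem hw') h6
      · exact fr.Tc _ (mul_mem hd hd)
    rcases hinv d hd h2 with h | h
    · left; rw [e]; exact mul_mem (fr.le h) hw'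
    · right; rw [e, ← mul_assoc]; exact mul_mem (fr.le h) hw'
  refine F4.EndOut.not_mem_commutator fr (C.t_notMem_Us hn hF) (fun g _ hm => ?_) 1 (one_mem _) ?_ fun g hg => ?_
  · obtain ⟨k, hk, e⟩ := C.ct hn hF hm (by
      have e1 : R.t * (R.t * (g⁻¹ * R.t * g)) = g⁻¹ * R.t * g := by rw [← mul_assoc, R.tt, one_mul]
      rw [e1]; exact hsq g)
    rw [← mul_assoc, R.tt, one_mul] at e
    exact ⟨k, fr.Us_le hk, e⟩
  · rw [mul_one]; exact C.t_notMem_Us hn hF
  · rcases htypes g hg with h | h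
    · exact Or.inr (Or.inl h)
    · exact Or.inl h

/-- **(C,C), a pure field involution** -/
theorem out_pure [Finite G] {T : Subgroup G} (h : R.OutT T) {s : G} {σ : F ≃+* F} (hsT : s ∈ T) (ss : s * s = 1)
    (hs : R.Sem s σ 1) (σ2 : ∀ a, σ (σ a) = a) (σ1 : ∃ a, σ a ≠ a) (hsU : s ∉ R.Up) (htsU : R.t * s ∉ R.Up)
    (hinv : ∀ d ∈ T, d * d ∈ R.Up → d ∈ R.Up ∨ R.t * d ∈ R.Up ∨ s * d ∈ R.Up ∨ R.t * s * d ∈ R.Up) :
    R.t ∉ _root_.commutator G := by
  let a : Fin n := ⟨0, by omega⟩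
  let b : Fin n := ⟨1, by omega⟩
  let c : Fin n := ⟨2, by omega⟩
  have ha : a.val = 0 := rfl
  have hb : b.val = 1 := rfl
  have hc : c.val = 2 := rfl
  have hab : a ≠ b := fun e => by have := congrArg Fin.val e; omega
  have hbc : b ≠ c := fun e => by have := congrArg Fin.val e; omega
  have hac : a ≠ c := fun e => by have := congrArg Fin.val e; omega
  have dab : Dj (Sum.inl a : Ix n) (Sum.inl b) := TU.dj_inl hab
  have dac : Dj (Sum.inl a : Ix n) (Sum.inl c) := TU.dj_inl hac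
  have dbc : Dj (Sum.inl b : Ix n) (Sum.inl c) := TU.dj_inl hbc
  have dbc' : Dj (Sum.inl b : Ix n) (Sum.inr c) := TU.dj_inl_inr hbc
  have Fbc : Fd (Sum.inl c : Ix n) < Fd (Sum.inl b) := Fd_inl_lt (Fin.lt_def.2 (by omega))
  have st : s * R.t = R.t * s := hs.yt.eq
  have ti : R.t⁻¹ = R.t := R.t_inv
  have hs0 := hs
  have hts : R.Sem (R.t * s) (1 * σ) (1 * fm 1 1) := Frame.Sem.t.mul hs
  have tsts : (R.t * s) * (R.t * s) = 1 := by
    calc R.t * s * (R.t * s) = R.t * (s * R.t) * s := by group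
      _ = (R.t * R.t) * (s * s) := by rw [st]; group
      _ = 1 := by rw [R.tt, ss, one_mul]
  have pos2 : ∀ p q : Fin n, 0 < Fd (Sum.inl p : Ix n) + Fd (Sum.inl q : Ix n) := fun p q => by
    have := Fd_inl_pos' p
    have := Fd_inl_pos' q
    omega
  have posbc : 0 < Fd (Sum.inl b : Ix n) + Fd (Sum.inr c : Ix n) := by
    have e : Fd (Sum.inr c : Ix n) = -Fd (Sum.inl c : Ix n) := by rw [← Fd_neg]; rfl
    rw [e]; omega
  -- `Zs`
  have Zcomm : ∀ x ∈ C.NN dab, ∀ y ∈ C.NN dab, x * y = y * x := fun x hx y hy => (C.NN_comm dab hx hy).eq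
  have Znorm : ∀ v : G, v * v = 1 → (∃ τ lam, R.Sem v τ lam) → ∀ w ∈ C.NN dab, v * w * v ∈ C.NN dab := by
    rintro v vv ⟨τ, lam, hv⟩ _ ⟨p, hp, q, hq, rfl⟩
    have vi : v⁻¹ = v := inv_eq_of_mul_eq_one_left vv
    have e1 := C.D.sem_mem hn hF hv dab hp
    have e2 := C.L.sem_mem hn hF hv (map_zero τ) hq
    refine ⟨_, e1, _, e2, ?_⟩
    rw [vi]
    calc v * (p * q) * v = v * p * (v * v) * q * v := by rw [vv]; group
      _ = _ := by group
  have Z1NN : R.Z1 a b ≤ C.NN dab := by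
    rintro _ ⟨p, q, rfl⟩
    exact mul_mem (C.x_le dab p) (C.y_le dab q)
  have Z1t : ∀ z ∈ R.Z1 a b, z * R.t = R.t * z := by
    rintro _ ⟨p, q, rfl⟩
    exact ((R.x_t _ _ p).mul_left (R.y_t _ q)).eq
  have NNUs : C.NN dab ≤ C.Us := by
    rintro _ ⟨p, hp, q, hq, rfl⟩
    exact mul_mem (C.W_le_Us dab (pos2 a b) hp) (C.V_le_Us (Fd_inl_pos' a) hq)
  have hcardZ : ∀ v : G, v * v = 1 → (∃ τ lam, R.Sem v τ lam) →
      Nat.card (R.Z1 a b) ≤ Nat.card (C.NN dab ⊓ centralizer ({v} : Set G) : Subgroup G) := by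
    intro v vv hv
    have e1 : Nat.card (R.Z1 a b) ≤ Nat.card (C.NN dab ⊓ centralizer ({R.t} : Set G) : Subgroup G) := by
      refine Nat.card_le_card_of_injective (Subgroup.inclusion (le_inf Z1NN fun z hz =>
        mem_centralizer_singleton_iff.2 (Z1t z hz))) (Subgroup.inclusion_injective _)
    have e2 := Out.ZeroDiv.sq_card_le_of_free (C.NN dab) Zcomm R.tt (Znorm R.t R.tt ⟨_, _, Frame.Sem.t⟩)
      (fun x hx hxt => by
        obtain ⟨m, hm, e⟩ := C.NN_fix dab hx hxt.symm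
        exact ⟨m, hm, by rw [e, inv_mul_cancel_left]⟩)
    have e3 := Out.ZeroDiv.card_le_sq (C.NN dab) Zcomm (fun w hw => C.NN_sq dab hw) vv (Znorm v vv hv)
    exact e1.trans ((Nat.pow_le_pow_iff_left (by norm_num)).1 (e2.trans e3))
  have D : Out.FieldEnd.Data R.t s T R.Up C.Us (σ : F →+* F) (R.x (Sum.inl a) (Sum.inl c))
      (R.x (Sum.inl b) (Sum.inr c)) (R.x (Sum.inl a) (Sum.inl b)) (C.D.W (Sum.inl a) (Sum.inl c))
      (C.D.W (Sum.inl b) (Sum.inr c)) (C.D.W (Sum.inl a) (Sum.inl b)) (C.Mg b c) (R.Z1 a b) (C.NN dab) :=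
    { fr := C.fr hn hF h
      pair :=
        { tt := R.tt
          ss := ss
          st := st
          l1 := C.layW hn hF hs dac
          l2 := C.layW hn hF hs dbc'
          l3 := C.layW hn hF hs dab
          comm := fun x hx y hy => by
            have h1 := C.c120 (Sum.inl b) (Sum.inl c) (Sum.inl a) dbc dab.symm dac.symm x
              (by rw [C.D.symm]; exact hx) y hy
            rw [C.D.symm] at h1
            exact h1
          c13 := fun x hx y hy => (C.c60 _ _ _ dac dab dbc.symm x hx y hy).eq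
          c23 := fun x hx y hy => (C.c60 _ _ _ dbc' dab.symm (TU.dj_inl_inr hac).symm x hx y
            (by rw [C.D.symm]; exact hy)).eq
          rel := fun x y => by
            have := R.x_rel' (i := Sum.inl a) (j := Sum.inl c) (k := Sum.inl b) dac dbc.symm dab x y
            rw [neg_inl, R.x_symm (Sum.inr c)] at this
            exact this
          torus := fun l hl => by
            classical
            let L : Fˣ := Units.mk0 l hl
            refine ⟨R.h (Function.update 1 b L), R.h (Function.update 1 a L), ?_, ?_, ?_, ?_, ?_⟩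
            · intro w hw
              have := C.D.torus_one _ _ dac w hw (Function.update 1 b L) (by
                simp [ev, hab, hbc.symm])
              rw [this]; group
            · intro x
              rw [R.h_x]
              congr 1
              simp [ev, hbc.symm, L]
            · intro w hw
              have := C.D.torus_one _ _ dbc' w hw (Function.update 1 a L) (by
                simp [ev, hab.symm, hac.symm])
              rw [this]; group
            · intro x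
              rw [R.h_x]
              congr 1
              simp [ev, hac.symm, L]
            · intro w hw
              have e1 := C.D.torus_one _ _ dab w hw ((Function.update (1 : Fin n → Fˣ) a L)⁻¹ * Function.update (1 : Fin n → Fˣ) b L) (by
                simp [ev, hab, hab.symm, Pi.mul_apply, Pi.inv_apply])
              rw [map_mul, map_inv] at e1
              calc R.h (Function.update 1 b L) * w * (R.h (Function.update 1 b L))⁻¹ =
                    R.h (Function.update 1 a L) * ((R.h (Function.update 1 a L))⁻¹ *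
                      R.h (Function.update 1 b L) * w) * (R.h (Function.update 1 b L))⁻¹ := by group
                _ = _ := by rw [e1]; group }
      htU := C.t_notMem_Us hn hF
      sT := hsT
      sU := fun h1 => hsU ((C.mem_Up_iff hn hF s).2 ⟨h1, st⟩)
      tsU := fun h1 => htsU ((C.mem_Up_iff hn hF _).2 ⟨h1, by rw [mul_assoc, st]⟩)
      σ2 := σ2
      σ1 := σ1
      W1U := C.W_le_Us dac (pos2 a c)
      W2U := C.W_le_Us dbc' posbc
      W3U := C.W_le_Us dab (pos2 a b)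
      MU := C.Mg_le_Us
      c3 := fun w hw u hu => C.W12_central hn ha hb hw hu
      dec := fun u hu => C.dec hn hF ha hb hc hu
      ind := fun w hw hm => C.ind hn ha hb hc hw hm
      tM := fun m hm => by
        have := C.sem_Mg hn hF Frame.Sem.t hm
        rwa [ti] at this
      sM := fun m hm => C.sem_Mg hn hF hs hm
      cM := fun m hm w hw => C.Mg_comm hn ha hb hc hw hm
      inv := hinv
      ct := fun u hu hi => C.ct hn hF hu hi
      cs := fun u hu hi => C.cv hn hF hs ss σ2 σ1 (Or.inl rfl) hu hi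
      cts := fun u hu hi => C.cv hn hF hs ss σ2 σ1 (Or.inr rfl) hu hi
      ZsU := NNUs
      Zc := fun z hz w hw => by
        obtain ⟨p, hp, v, hv, rfl⟩ := hz
        have e1 := C.W12_central hn ha hb hp hw
        have e2 := C.V1_central ha hv hw
        calc p * v * w = p * (v * w) := by group
          _ = (p * w) * v := by rw [e2]; group
          _ = w * (p * v) := by rw [e1]; group
      k0 := fun z hz g => C.k0 hn hF h ha hb dab hz g
      k0' := fun z hz => by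
        obtain ⟨k, -, e⟩ := C.ct hn hF (NNUs (Z1NN hz)) (by
          have e1 := Z1t z hz
          have e2 := C.NN_sq dab (Z1NN hz)
          calc R.t * z * (R.t * z) = R.t * (z * R.t) * z := by group
            _ = (R.t * R.t) * (z * z) := by rw [e1]; group
            _ = 1 := by rw [R.tt, e2, one_mul])
        exact ⟨k⁻¹, by rw [e, inv_inv]⟩
      hcard := hcardZ s ss ⟨_, _, hs⟩
      hcard' := hcardZ _ tsts ⟨_, _, hts⟩
      k1 := h.k1 hn hsT hs σ1 ha hb
      k2 := h.k2 ha hb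
      k3 := R.k3 }
  exact D.not_mem_commutator

end CC

end Cfsg.Agent.OddHalf.SpN

end

-- merged: Cfsg.Agent.OddHalf.SpN.OutTOf
section

/-!
# D7, `K = Sp_2n(q)`, `q` even: the outer 2-group of a frame (helper979)

* `Up_eq_Uu`: `Up n F = Uu n F`;
* `Dat.exists_T`: a Sylow 2-subgroup `T` of `C(t)` with `T ∩ K = ι(Up)`;
* `Frame.dat`, `Frame.exists_DatT`, `outT`, `Frame.exists_OutT`: `R.OutT T`.
-/

set_option autoImplicit false

namespace Cfsg.Agent.OddHalf.SpN.Out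

open Cfsg Cfsg.Agent.ClassicalGeometry.SympBasic Cfsg.Agent.ClassicalGeometry.SympAutSemi
open Cfsg.Agent.OddHalf.SpN Cfsg.Agent.OddHalf.SpN.TU
open scoped Matrix commutatorElement

variable {n : ℕ} {F : Type*} [Field F] [Finite F] [CharP F 2]

/-- the two definitions of the positive unipotent group agree -/
theorem Up_eq_Uu : Up n F = Uu n F := by
  apply le_antisymm
  · intro A hA
    rw [mem_Uu]
    have h1 : ∀ B ∈ Up n F, ∀ i j : Fin n, (i : ℕ) ≤ j → ent B (Sum.inl j) (Sum.inl i) = if j = i then 1 else 0 := by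
      intro B hB i j hij
      by_cases h : j = i
      · subst h; rw [if_pos rfl]; exact hB.dg j
      · rw [if_neg h]
        have hne : (i : ℕ) ≠ j := fun e => h (Fin.ext e.symm)
        exact hB.up i j (show (i : ℕ) < j by omega)
    intro l k hlk
    rcases l with l | l <;> rcases k with k | k
    · rw [h1 A hA k l hlk]; simp
    · exfalso
      rw [pos_inr, pos_inl] at hlk
      omega
    · rw [if_neg (by simp)]
      exact hA.lo k l
    · have h2 := ent_inv A⁻¹ (Sum.inr l) (Sum.inr k)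
      rw [inv_inv, neg_inr, neg_inr] at h2
      rw [pos_inr, pos_inr] at hlk
      rw [h2, h1 _ (inv_mem hA) l k (by omega)]
      simp only [Sum.inr.injEq, eq_comm]
  · intro A hA
    refine ⟨fun i => Uu_diag hA _, fun i j hij => Uu_zero hA (by rw [pos_inl, pos_inl]; exact hij), fun i j =>
      Uu_zero hA (by rw [pos_inl, pos_inr]; omega)⟩

section

variable {G : Type*} [Group G] {ι : Sy n F →* G} {t v : G}

/-- a Sylow 2-subgroup of `C(t)` containing `U` -/
theorem Dat.exists_T [Finite G] (D : Dat ι t v) : ∃ T : Subgroup G, DatT ι t v T := by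
  set U₀ : Subgroup G := (Up n F).map ι with hU₀
  have hU : IsPGroup 2 ↥U₀ := isPGroup_Up.map ι
  have hUK : U₀ ≤ ι.range := Subgroup.map_le_range ι _
  have hUm : ∀ P : Subgroup G, IsPGroup 2 ↥P → U₀ ≤ P → P ≤ ι.range → P ≤ U₀ := by
    intro P hP hle hPK
    have h1 : P.comap ι ≤ Up n F := by
      apply Up_max
      · exact hP.comap_of_injective ι D.inj
      · exact Subgroup.map_le_iff_le_comap.1 hle
    rw [← Subgroup.map_comap_eq_self hPK]
    exact Subgroup.map_mono h1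
  set C : Subgroup G := Subgroup.centralizer ({t} : Set G) with hC
  have hUC : U₀ ≤ C := by
    rintro _ ⟨A, -, rfl⟩
    exact D.mem_C A
  obtain ⟨P, hP⟩ := (hU.comap_of_injective C.subtype C.subtype_injective).exists_le_sylow
  set T : Subgroup G := (P : Subgroup ↥C).map C.subtype with hT
  have pT : IsPGroup 2 ↥T := P.isPGroup'.map _
  have tc : ∀ x ∈ T, x * t = t * x := by
    rintro _ ⟨y, -, rfl⟩
    exact Subgroup.mem_centralizer_singleton_iff.1 y.2
  have max : ∀ Q : Subgroup G, IsPGroup 2 ↥Q → T ≤ Q → (∀ x ∈ Q, x * t = t * x) → Q ≤ T := by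
    intro Q hQ hle hQt
    have hQC : Q ≤ C := fun x hx => Subgroup.mem_centralizer_singleton_iff.2 (hQt x hx)
    have h1 := P.is_maximal' (hQ.comap_of_injective C.subtype C.subtype_injective) (by
      intro y hy
      exact hle ⟨y, hy, rfl⟩)
    intro x hx
    have h2 : (⟨x, hQC hx⟩ : ↥C) ∈ Q.comap C.subtype := hx
    rw [h1] at h2
    exact ⟨⟨x, hQC hx⟩, h2, rfl⟩
  have hUT : U₀ ≤ T := fun x hx => ⟨⟨x, hUC hx⟩, hP (by exact hx), rfl⟩
  refine ⟨T, { D with pT := pT, vT := ?_, tc := tc, max := max, U_eq := ?_ }⟩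
  · have hRC : ∀ x ∈ Subgroup.zpowers v, x * t = t * x := fun x hx => D.Qt hx
    have hle : T ≤ Subgroup.normalizer ((Subgroup.zpowers v : Subgroup G) : Set G) := by
      intro x hx
      have hxt := tc x hx
      have key : ∀ y : G, y * t = t * y → y * v * y⁻¹ ∈ Subgroup.zpowers v := by
        intro y hy
        apply D.cK
        · have hvt := hRC v (Subgroup.mem_zpowers v)
          have hyt : y⁻¹ * t = t * y⁻¹ := by
            rw [inv_mul_eq_iff_eq_mul, ← mul_assoc, hy, mul_inv_cancel_right]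
          calc y * v * y⁻¹ * t = y * v * (y⁻¹ * t) := by group
            _ = y * (v * t) * y⁻¹ := by rw [hyt]; group
            _ = y * t * v * y⁻¹ := by rw [hvt]; group
            _ = t * (y * v * y⁻¹) := by rw [hy]; group
        · intro A
          have hyN := D.nK y hy
          have h1 : y⁻¹ * ι A * y ∈ ι.range := by
            apply (Subgroup.mem_normalizer_iff.1 hyN (y⁻¹ * ι A * y)).2
            have e : y * (y⁻¹ * ι A * y) * y⁻¹ = ι A := by group
            rw [e]; exact ⟨A, rfl⟩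
          obtain ⟨B, hB⟩ := h1
          have h2 := D.qK B
          rw [hB] at h2
          calc ι A * (y * v * y⁻¹) = y * (y⁻¹ * ι A * y * v) * y⁻¹ := by group
            _ = y * (v * (y⁻¹ * ι A * y)) * y⁻¹ := by rw [h2]
            _ = y * v * y⁻¹ * ι A := by group
      have key2 : ∀ y : G, y * t = t * y → ∀ r ∈ Subgroup.zpowers v, y * r * y⁻¹ ∈ Subgroup.zpowers v := by
        intro y hy r hr
        obtain ⟨j, rfl⟩ := Subgroup.mem_zpowers_iff.1 hr
        have e : y * v ^ j * y⁻¹ = (y * v * y⁻¹) ^ j := by rw [conj_zpow]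
        rw [e]
        exact zpow_mem (key y hy) j
      rw [Subgroup.mem_normalizer_iff]
      intro r
      constructor
      · exact key2 x hxt r
      · intro hr
        have hxt' : x⁻¹ * t = t * x⁻¹ := by
          rw [inv_mul_eq_iff_eq_mul, ← mul_assoc, hxt, mul_inv_cancel_right]
        have h3 := key2 x⁻¹ hxt' _ hr
        have e : x⁻¹ * (x * r * x⁻¹) * x⁻¹⁻¹ = r := by group
        rwa [e] at h3
    have h1 : IsPGroup 2 ((T ⊔ Subgroup.zpowers v : Subgroup G)) := pT.to_sup_of_normal_right' D.pQ hle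
    have h2 : ∀ x ∈ T ⊔ Subgroup.zpowers v, x * t = t * x := by
      have : T ⊔ Subgroup.zpowers v ≤ C := by
        rw [sup_le_iff]
        exact ⟨fun x hx => Subgroup.mem_centralizer_singleton_iff.2 (tc x hx), fun x hx =>
          Subgroup.mem_centralizer_singleton_iff.2 (hRC x hx)⟩
      intro x hx
      exact Subgroup.mem_centralizer_singleton_iff.1 (this hx)
    exact max _ h1 le_sup_left h2 ((le_sup_right : Subgroup.zpowers v ≤ _) (Subgroup.mem_zpowers v))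
  · apply le_antisymm
    · exact le_inf hUT hUK
    · exact hUm _ (pT.to_le inf_le_left) (le_inf hUT hUK) inf_le_right


/-- every element of `T` is `diag ∘ σ` times an element of `U` -/
theorem DatT.exists_diag {T : Subgroup G} (D : DatT ι t v T) (hn : 3 ≤ n) {z : G} (hz : z ∈ T) :
    ∃ A ∈ Up n F, ∃ k : Fin n → Fˣ, Acts ι (z * ι A) (rho n F (sh k) * fa n (D.lf hn ⟨z, D.hT hz⟩)) := by
  obtain ⟨d, hd⟩ := D.tri hn hz
  have hs := D.si hn ⟨z, D.hT hz⟩
  obtain ⟨hi, h0⟩ := Tri.inv hs hd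
  set φ := D.lf hn ⟨z, D.hT hz⟩ with hφ
  set k : Fin n → Fˣ := fun i => Units.mk0 (d i) (h0 i) with hk
  have hg : SI (rho n F (sh k) * fa n φ) φ := by
    have h := (SI.of_rho (sh k)).mul' (SI.of_fa φ)
    rwa [one_mul] at h
  have hgt : Tri (rho n F (sh k) * fa n φ) d := by
    have h := Tri.mul (SI.of_rho (sh k)) (tri_sh k) (tri_fa φ)
    convert h using 1
    funext i
    rw [Pi.one_apply, map_one, mul_one]; rfl
  have h6 := hs.inv'.mul' hg
  rw [inv_mul_cancel] at h6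
  obtain ⟨A, hA⟩ := h6.exists_rho
  refine ⟨A, ?_, k, ?_⟩
  · rw [mem_Up, hA]
    have h8 := Tri.mul hs.inv' hi hgt
    convert h8 using 1
    funext i
    rw [← map_mul, inv_mul_cancel₀ (h0 i), map_one]; rfl
  · have h9 := (D.acts hn ⟨z, D.hT hz⟩).mul (Acts.iota (ι := ι) A)
    have e : D.sH hn ⟨z, D.hT hz⟩ * rho n F A = rho n F (sh k) * fa n φ := by rw [hA]; group
    rwa [e] at h9

/-- `T / U` is abelian if `v` is central in `T` -/
theorem DatT.comm_mem {T : Subgroup G} (D : DatT ι t v T) (hn : 3 ≤ n) (hv : ∀ x ∈ T, x * v = v * x) {a b : G}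
    (ha : a ∈ T) (hb : b ∈ T) : a * b * a⁻¹ * b⁻¹ ∈ (Up n F).map ι := by
  have hc : IsCyclic (F ≃+* F) := Cfsg.Agent.LieRecognition.FieldSemilinear.isCyclic_ringAut F
  let f : ↥T →* (F ≃+* F) := (D.lf hn).comp (Subgroup.inclusion D.hT)
  obtain ⟨⟨g, ⟨s, rfl⟩⟩, hg⟩ := IsCyclic.exists_generator (α := f.range)
  set N : Subgroup ↥T := ((Up n F).map ι).subgroupOf T with hN
  have hNn : N.Normal := by
    refine ⟨fun u hu x => ?_⟩
    rw [hN, Subgroup.mem_subgroupOf] at hu ⊢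
    obtain ⟨B, hB, e⟩ := hu
    obtain ⟨A, hA, e'⟩ := D.conj_U x.2 hB
    refine ⟨A, hA, ?_⟩
    show ι A = (x : G) * u * (x : G)⁻¹
    rw [← e', e]
  have hRT : ∀ r ∈ Subgroup.zpowers v, r ∈ T := fun r hr => D.RT hr
  have key : ∀ x : ↥T, ∃ (r : ↥T) (k : ℤ), (r : G) ∈ Subgroup.zpowers v ∧
      (QuotientGroup.mk x : ↥T ⧸ N) = QuotientGroup.mk r * QuotientGroup.mk s ^ k := by
    intro x
    obtain ⟨k, hk⟩ := Subgroup.mem_zpowers_iff.1 (hg ⟨f x, x, rfl⟩)
    have hk' : (f s) ^ k = f x := congrArg Subtype.val hk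
    have hx : ((x * (s ^ k)⁻¹ : ↥T) : G) ∈ T := (x * (s ^ k)⁻¹).2
    have hl : D.lf hn ⟨((x * (s ^ k)⁻¹ : ↥T) : G), D.hT hx⟩ = 1 := by
      have e : f (x * (s ^ k)⁻¹) = 1 := by rw [map_mul, map_inv, map_zpow, hk', mul_inv_cancel]
      exact e
    obtain ⟨A, hA, r, hr, e, -⟩ := D.mem_UR hn hx hl
    refine ⟨⟨r, hRT r hr⟩, k, hr, ?_⟩
    have e2 : x = ⟨r, hRT r hr⟩ * (⟨ι A, D.iota_mem.2 hA⟩ : ↥T) * s ^ k := by
      have e3 : x * (s ^ k)⁻¹ = ⟨r, hRT r hr⟩ * (⟨ι A, D.iota_mem.2 hA⟩ : ↥T) := by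
        apply Subtype.ext
        show ((x * (s ^ k)⁻¹ : ↥T) : G) = r * ι A
        rw [e, D.QK hr]
      rw [← e3]; group
    have e4 : (QuotientGroup.mk (⟨ι A, D.iota_mem.2 hA⟩ : ↥T) : ↥T ⧸ N) = 1 := by
      rw [QuotientGroup.eq_one_iff, hN, Subgroup.mem_subgroupOf]
      exact ⟨A, hA, rfl⟩
    conv_lhs => rw [e2]
    rw [QuotientGroup.mk_mul, QuotientGroup.mk_mul, e4, mul_one, QuotientGroup.mk_zpow]
  have hcs : ∀ r : ↥T, (r : G) ∈ Subgroup.zpowers v → ∀ x : ↥T,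
      Commute (QuotientGroup.mk r : ↥T ⧸ N) (QuotientGroup.mk x) := by
    intro r hr x
    have h1 : Commute (x : G) (r : G) := by
      obtain ⟨k, hk⟩ := Subgroup.mem_zpowers_iff.1 hr
      rw [← hk]
      exact (show Commute (x : G) v from hv x x.2).zpow_right k
    show (QuotientGroup.mk r : ↥T ⧸ N) * QuotientGroup.mk x = QuotientGroup.mk x * QuotientGroup.mk r
    rw [← QuotientGroup.mk_mul, ← QuotientGroup.mk_mul]
    congr 1
    exact Subtype.ext h1.symm.eq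
  obtain ⟨r, k, hr, er⟩ := key ⟨a, ha⟩
  obtain ⟨r', l, hr', er'⟩ := key ⟨b, hb⟩
  have hcomm : Commute (QuotientGroup.mk (⟨a, ha⟩ : ↥T) : ↥T ⧸ N) (QuotientGroup.mk ⟨b, hb⟩) := by
    rw [er, er']
    have c1 := hcs r hr s
    have c2 := hcs r' hr' s
    have c3 := hcs r hr r'
    exact ((c3.mul_right (c1.zpow_right l))).mul_left
      (((c2.symm.zpow_left k)).mul_right ((Commute.refl _).zpow_zpow k l))
  have h1 : (QuotientGroup.mk ((⟨a, ha⟩ : ↥T) * ⟨b, hb⟩ * (⟨a, ha⟩)⁻¹ * (⟨b, hb⟩)⁻¹) : ↥T ⧸ N) = 1 := by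
    rw [QuotientGroup.mk_mul, QuotientGroup.mk_mul, QuotientGroup.mk_mul, QuotientGroup.mk_inv,
      QuotientGroup.mk_inv, hcomm.eq]
    group
  rw [QuotientGroup.eq_one_iff, hN, Subgroup.mem_subgroupOf] at h1
  exact h1

end

section frame

variable {G : Type*} [Group G]

omit [Finite F] [CharP F 2] in
theorem mem_zpowers_t {R : Frame n F G} {r : G} (hr : r ∈ Subgroup.zpowers R.t) : r = 1 ∨ r = R.t := by
  obtain ⟨k, rfl⟩ := Subgroup.mem_zpowers_iff.1 hr
  have h2 : R.t ^ (2 : ℤ) = 1 := by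
    rw [show (2 : ℤ) = ((2 : ℕ) : ℤ) from rfl, zpow_natCast, pow_two, R.tt]
  rcases Int.even_or_odd' k with ⟨m, rfl | rfl⟩
  · left; rw [zpow_mul, h2, one_zpow]
  · right; rw [zpow_add, zpow_mul, h2, one_zpow, one_mul, zpow_one]

omit [Finite F] [CharP F 2] in
theorem dat_of_frame (R : Frame n F G) : Dat R.ι R.t R.t where
  inj := R.inj
  tt := R.tt
  t1 := R.t1
  tQ := Subgroup.mem_zpowers _
  pQ := by
    rintro ⟨x, hx⟩
    refine ⟨1, Subtype.ext ?_⟩
    show x ^ 2 ^ 1 = 1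
    rw [pow_one, pow_two]
    rcases mem_zpowers_t hx with rfl | rfl
    · exact one_mul 1
    · exact R.tt
  qK := fun A => (R.comm A).eq
  nK := by
    have key : ∀ g : G, g * R.t = R.t * g → ∀ x ∈ R.ι.range, g * x * g⁻¹ ∈ R.ι.range := by
      rintro g hg _ ⟨A, rfl⟩
      obtain ⟨B, hB⟩ := R.nK g hg A
      exact ⟨B, hB.symm⟩
    intro g hg
    rw [Subgroup.mem_normalizer_iff]
    intro x
    refine ⟨key g hg x, fun hx => ?_⟩
    have hg' : g⁻¹ * R.t = R.t * g⁻¹ := by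
      rw [inv_mul_eq_iff_eq_mul, ← mul_assoc, hg, mul_inv_cancel_right]
    have h1 := key g⁻¹ hg' _ hx
    have e : g⁻¹ * (g * x * g⁻¹) * g⁻¹⁻¹ = x := by group
    rwa [e] at h1
  cK := by
    intro c hc h
    rcases R.cK c hc fun k => (h k).symm with rfl | rfl
    · exact one_mem _
    · exact Subgroup.mem_zpowers _

omit [Finite F] in
/-- the semilinear elements -/
theorem sem_of_acts {R : Frame n F G} {y : G} {φ : F ≃+* F} {k : Fin n → Fˣ} (hy : Commute y R.t)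
    (h : Acts R.ι y (rho n F (sh k) * fa n φ)) : R.Sem y φ k where
  yt := hy
  yx := fun i j _ a => by
    refine h.eq ?_
    rw [← sh_sx, map_mul, map_mul, fa_sx, map_inv]
    group
  yy := fun i a => by
    refine h.eq ?_
    rw [← sh_sy, map_mul, map_mul, fa_sy, map_inv]
    group
  yh := fun mu => by
    refine h.eq ?_
    have h1 : rho n F (sh (fm φ mu)) = fa n φ * rho n F (sh mu) * (fa n φ)⁻¹ := by
      rw [eq_mul_inv_iff_mul_eq]
      ext u l
      rw [Equiv.Perm.mul_apply, Equiv.Perm.mul_apply, rho_sh, fa_apply, fa_apply, rho_sh, map_mul, ev_fm]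
    have h2 : sh k * sh (fm φ mu) * (sh k)⁻¹ = (sh (fm φ mu) : Sy n F) := by
      rw [← map_mul, mul_comm k, map_mul, mul_inv_cancel_right]
    rw [← h2, map_mul, map_mul, h1, map_inv]
    group

/-- **`R.OutT T`** -/
theorem outT {R : Frame n F G} {T : Subgroup G} (D : DatT R.ι R.t R.t T) (hn : 3 ≤ n) : R.OutT T where
  T2 := D.pT
  tT := D.vT
  Tc := D.tc
  Tmax := D.max
  UT := by
    rw [R.Up_eq, ← Up_eq_Uu]
    rintro _ ⟨A, hA, rfl⟩
    exact D.iota_mem.2 hA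
  TK := fun A hA => by
    rw [R.Up_eq, ← Up_eq_Uu]
    exact ⟨A, D.iota_mem.1 hA, rfl⟩
  ab := fun a ha b hb => by
    rw [R.Up_eq, ← Up_eq_Uu]
    exact D.comm_mem hn D.tc ha hb
  dec := fun z hz => by
    obtain ⟨A, hA, k, h⟩ := D.exists_diag hn hz
    have hy : z * R.ι A ∈ T := mul_mem hz (D.iota_mem.2 hA)
    refine ⟨z * R.ι A, hy, R.ι A⁻¹, ?_, ?_, _, k, sem_of_acts (D.tc _ hy) h⟩
    · rw [R.Up_eq, ← Up_eq_Uu]
      exact ⟨A⁻¹, inv_mem hA, rfl⟩
    · rw [map_inv]; group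
  lin := fun y hy lam hs => by
    have hl : D.lf hn ⟨y, D.hT hy⟩ = 1 := by
      obtain ⟨d, hd⟩ := D.tri hn hy
      have key : ∀ b, d (c0 hn) ^ 2 * D.lf hn ⟨y, D.hT hy⟩ b = (ev lam (Sum.inl (c0 hn)) : F) ^ 2 * b := by
        intro b
        have h1 := (D.acts hn ⟨y, D.hT hy⟩).eq (hd.conj_zz hn (D.si hn _) 0 b)
        have h2 := hs.yy (Sum.inl (c0 hn)) b
        have e : R.y (Sum.inl (c0 hn)) b = R.ι (zz hn 0 b) := by rw [zz, sx_zero, one_mul]; rfl
        rw [e] at h2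
        have h3 := h1.symm.trans h2
        rw [map_zero, mul_zero, Frame.y] at h3
        have h4 := R.inj h3
        rw [zz, sx_zero, one_mul] at h4
        exact sy_inj h4
      have h1 := key 1
      rw [map_one, mul_one, mul_one] at h1
      ext b
      have h2 := key b
      rw [h1] at h2
      exact mul_left_cancel₀ (pow_ne_zero 2 (ev lam (Sum.inl (c0 hn))).ne_zero) h2
    obtain ⟨A, hA, r, hr, e, -⟩ := D.mem_UR hn hy hl
    rw [R.Up_eq, ← Up_eq_Uu]
    rcases mem_zpowers_t hr with rfl | rfl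
    · left; rw [e, mul_one]; exact ⟨A, hA, rfl⟩
    · right
      rw [e, (R.comm A).eq, ← mul_assoc, R.tt, one_mul]
      exact ⟨A, hA, rfl⟩

/-- **existence of the outer 2-group** -/
theorem exists_OutT [Finite G] (R : Frame n F G) (hn : 3 ≤ n) :
    ∃ T : Subgroup G, DatT R.ι R.t R.t T ∧ R.OutT T := by
  obtain ⟨T, D⟩ := (dat_of_frame R).exists_T
  exact ⟨T, D, outT D hn⟩

end frame

end Cfsg.Agent.OddHalf.SpN.Out

end

-- merged: Cfsg.Agent.OddHalf.SpN.Row
section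

/-!
# D7, row `K = Sp_2n(2^a)`: the glue (helper866)

`node_of` : `Node @FamSp'` from

* `Main` : for `q ≥ 4`, `n ≥ 3`: `t ∉ G'` for a frame `R` and a maximal 2-subgroup `T` of `C(t)` such that `t` is not
  isolated in `Z(T)` (helper859, `OutMain.lean`);
* `Two` : the row for `q = 2`, `n ≥ 4` (helper529).
-/

set_option autoImplicit false

namespace Cfsg.Agent.OddHalf.SpN.Row

open Cfsg Cfsg.Agent.OddHalf.Iface Cfsg.Agent.OddHalf.D7.Cases Cfsg.Agent.OddHalf.D7Out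

universe u

/-- the row for `q ≥ 4`, inside `G` -/
def Main : Prop :=
  ∀ (n : ℕ) (F : Type) [Field F] [Finite F] [CharP F 2] (G : Type u) [Group G] [Finite G] (R : Frame n F G),
    3 ≤ n → (∃ a : F, a ≠ 0 ∧ a ≠ 1) → ∀ T : Subgroup G, R.OutT T → ¬ Defs.Iso R.t T → R.t ∉ commutator G

/-- the row for `q = 2` -/
def Two : Prop :=
  ∀ (G : Type u) [Group G], Ctx G → ∀ K : Subgroup G, Std G K → Cyc K → ∀ (F : Type) [Field F] [Fintype F] (m : ℕ),
    Fintype.card F = 2 → 4 ≤ m → Nonempty (↥K ≃* PSp m F) → False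

theorem charP_two {F : Type} [Field F] [Fintype F] {a : ℕ} (hF : Fintype.card F = 2 ^ a) : CharP F 2 := by
  obtain ⟨p, hp⟩ := CharP.exists F
  obtain ⟨k, hk, hc⟩ := FiniteField.card F p
  rw [hF] at hc
  have h1 : p ∣ 2 ^ a := by rw [hc]; exact dvd_pow_self p k.pos.ne'
  have h2 := (Nat.prime_dvd_prime_iff_eq hk Nat.prime_two).1 (hk.dvd_of_dvd_pow h1)
  rwa [h2] at hp

/-- **The row.** -/
theorem node_of (hM : Main.{u}) (h2 : Two.{u}) : Node.{u} @FamSp'.{u} := by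
  rintro G _ C K S hc ⟨F, _, _, a, m, ha, hF, hm, h3, ⟨e⟩⟩
  rcases Nat.lt_or_ge a 2 with h4 | h4
  · have ha1 : a = 1 := by omega
    subst ha1
    exact h2 G C K S hc F m (by simpa using hF) (by
      rcases Nat.lt_or_ge m 4 with h5 | h5
      · have : m = 3 := by omega
        have := h3 this
        omega
      · exact h5) ⟨e⟩
  · have := C.fin
    have := charP_two hF
    have hq : ∃ c : F, c ≠ 0 ∧ c ≠ 1 := by
      by_contra hcon
      push Not at hcon
      have h5 : Fintype.card F ≤ 2 := by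
        classical
        have h6 : (Finset.univ : Finset F) ⊆ {0, 1} := by
          intro c _
          by_cases h0 : c = 0
          · simp [h0]
          · simp [hcon c h0]
        exact (Finset.card_le_card h6).trans Finset.card_le_two
      have h6 : 2 ^ 2 ≤ 2 ^ a := Nat.pow_le_pow_right (by norm_num) h4
      rw [hF] at h5
      omega
    obtain ⟨R, T, -, h⟩ := Inst.exists_fro_ctx C S hc e hm hq
    have h7 := hM m F G R hm hq T (Out.outT h.dat hm) h.ni
    rw [Cfsg.Agent.OddHalf.Front.FE.commutator_eq_top C] at h7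
    exact h7 (Subgroup.mem_top _)

end Cfsg.Agent.OddHalf.SpN.Row

end

-- merged: Cfsg.Agent.OddHalf.SpN.OutEnd
section

/-!
# ODD D7, `K = Sp_2n(q)`, `n ≥ 3`, `q ≥ 4` even: the end (helper859)

`Frame.OutT.not_mem_commutator`, `Row.main`.
-/

set_option autoImplicit false

namespace Cfsg.Agent.OddHalf.SpN

variable {n : ℕ} {F : Type*} [Field F] [CharP F 2] [Finite F] {G : Type*} [Group G] {R : Frame n F G}

theorem Frame.OutT.not_mem_commutator [Finite G] {T : Subgroup G} (hT : R.OutT T) (hn : 3 ≤ n)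
    (hq : ∃ a : F, a ≠ 0 ∧ a ≠ 1) (hni : ¬ D7Out.Defs.Iso R.t T) : R.t ∉ _root_.commutator G := by
  rcases hT.dich (by omega) with h | ⟨R', s, σ, ht, hK, hU, hT', hsT, hss, hs, h2, h1, hsU, htsU, inv⟩
  · exact hT.core hn hq hni fun C _ => C.out_none hn (exists_unit_neB hq) hT h
  · rw [← ht] at hni ⊢
    rw [← hU] at hsU
    rw [← ht, ← hU] at htsU inv
    exact hT'.core hn hq hni fun C _ => C.out_pure hn (exists_unit_neB hq) hT' hsT hss hs h2 h1 hsU htsU inv

/-- the row for `q ≥ 4` -/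
theorem Row.main : Row.Main := by
  intro n F _ _ _ G _ _ R hn hq T hT hni
  exact hT.not_mem_commutator hn hq hni

end Cfsg.Agent.OddHalf.SpN

end
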