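import Mathlib
import Cfsg.Agent.OddHalf.SpN.OutTri
import Cfsg.Agent.OddHalf.SpN.Start
import Cfsg.Agent.LieRecognition.FieldSemilinear

-- merged: Cfsg.Agent.OddHalf.SpN.OutPerf
section

/-!
# D7, `K = Sp_2n(q)`, `q` even, `q ≥ 4`: perfect subgroups generated by root groups (helper979)

Criteria for root elements to be in `⁅L, L⁆`: `sl2_long`, `sl2_short` (rank one), `long_of`, `short_of` (rank two).
-/

set_option autoImplicit false

namespace Cfsg.Agent.OddHalf.SpN.Out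

open Cfsg Cfsg.Agent.ClassicalGeometry.SympBasic Cfsg.Agent.ClassicalGeometry.SympAutSemi
open Cfsg.Agent.OddHalf.SpN
open scoped Matrix commutatorElement

variable {n : ℕ} {F : Type*} [Field F]

theorem rho_conj_transv (A : Sy n F) (v : Ix n → F) (c : F) :
    A * transv v c * A⁻¹ = transv (rho n F A v) c := by
  apply rho_injective
  rw [map_mul, map_mul, map_inv, (SI.of_rho A).conj_transv]
  rfl

theorem transv_smul (v : Ix n → F) (a c : F) : transv (a • v) c = transv v (a ^ 2 * c) := by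
  apply rho_injective
  ext1 x
  rw [rho_transv, rho_transv, sympForm_smul_right, smul_smul]
  congr 2
  ring

variable [CharP F 2]

theorem rho_sy_pair (i : Ix n) (a x y : F) :
    rho n F (sy i a) (x • be n F i + y • be n F (neg i)) = (x + a * y) • be n F i + y • be n F (neg i) := by
  rw [rho_sy]
  ext k
  simp only [Pi.add_apply, Pi.smul_apply, smul_eq_mul, be_apply, neg_ne, if_false, if_true, mul_zero,
    zero_add, mul_one]
  ring

theorem rho_sy_pair' (i : Ix n) (b x y : F) :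
    rho n F (sy (neg i) b) (x • be n F i + y • be n F (neg i)) = x • be n F i + (y + b * x) • be n F (neg i) := by
  rw [rho_sy]
  ext k
  simp only [Pi.add_apply, Pi.smul_apply, smul_eq_mul, be_apply, neg_neg, ne_neg, if_false, if_true, mul_zero,
    add_zero, mul_one]
  ring

theorem rho_sx_pair {i j : Ix n} (hd : Dj i j) (a x y : F) :
    rho n F (sx i j a) (x • be n F i + y • be n F (neg j)) = (x + a * y) • be n F i + y • be n F (neg j) := by
  have h1 : neg j ≠ i := fun e => hd.2 e.symm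
  rw [rho_sx hd]
  ext k
  simp only [Pi.add_apply, Pi.smul_apply, smul_eq_mul, be_apply, neg_ne, if_false, if_true, mul_zero, h1, neg_inj,
    hd.1, add_zero, zero_add, mul_one, zero_mul]
  ring

theorem rho_sx_pair' {i j : Ix n} (hd : Dj i j) (b x y : F) :
    rho n F (sx (neg i) (neg j) b) (x • be n F i + y • be n F (neg j)) =
      x • be n F i + (y + b * x) • be n F (neg j) := by
  have h1 : j ≠ i := fun e => hd.1 e.symm
  have h2 : i ≠ neg j := hd.2
  rw [rho_sx (dj_neg_left.2 (dj_neg_right.2 hd))]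
  ext k
  simp only [Pi.add_apply, Pi.smul_apply, smul_eq_mul, be_apply, neg_neg, ne_neg, if_false, if_true, mul_zero, h1, h2,
    add_zero, mul_one, zero_mul]
  ring

/-- the torus element of the long root `i` -/
noncomputable def hy (i : Ix n) (l : F) : Sy n F :=
  sy i l * sy (neg i) l⁻¹ * sy i l * (sy i 1 * sy (neg i) 1 * sy i 1)

/-- the torus element of the short root `i j` -/
noncomputable def hx (i j : Ix n) (l : F) : Sy n F :=
  sx i j l * sx (neg i) (neg j) l⁻¹ * sx i j l * (sx i j 1 * sx (neg i) (neg j) 1 * sx i j 1)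

theorem rho_hy (i : Ix n) {l : F} (hl : l ≠ 0) : rho n F (hy i l) (be n F i) = l • be n F i := by
  have e : be n F i = (1 : F) • be n F i + (0 : F) • be n F (neg i) := by rw [one_smul, zero_smul, add_zero]
  rw [hy]
  simp only [map_mul, Equiv.Perm.mul_apply]
  conv_lhs => rw [e]
  rw [rho_sy_pair, rho_sy_pair', rho_sy_pair, rho_sy_pair, rho_sy_pair', rho_sy_pair]
  have e1 : (1 : F) + 1 = 0 := CharTwo.add_self_eq_zero 1
  simp only [mul_zero, add_zero, mul_one, zero_add, e1]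
  rw [inv_mul_cancel₀ hl, e1, mul_zero, add_zero, zero_smul, add_zero]

theorem rho_hx {i j : Ix n} (hd : Dj i j) {l : F} (hl : l ≠ 0) :
    rho n F (hx i j l) (be n F i) = l • be n F i := by
  have e : be n F i = (1 : F) • be n F i + (0 : F) • be n F (neg j) := by rw [one_smul, zero_smul, add_zero]
  rw [hx]
  simp only [map_mul, Equiv.Perm.mul_apply]
  conv_lhs => rw [e]
  rw [rho_sx_pair hd, rho_sx_pair' hd, rho_sx_pair hd, rho_sx_pair hd, rho_sx_pair' hd, rho_sx_pair hd]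
  have e1 : (1 : F) + 1 = 0 := CharTwo.add_self_eq_zero 1
  simp only [mul_zero, add_zero, mul_one, zero_add, e1]
  rw [inv_mul_cancel₀ hl, e1, mul_zero, add_zero, zero_smul, add_zero]

theorem hx_symm (i j : Ix n) (l : F) : hx i j l = hx j i l := by
  rw [hx, hx]
  simp only [sx_symm i j, sx_symm (neg i) (neg j)]

theorem hy_conj (i : Ix n) {l : F} (hl : l ≠ 0) (a : F) : hy i l * sy i a * (hy i l)⁻¹ = sy i (l ^ 2 * a) := by
  rw [sy, rho_conj_transv, rho_hy i hl, transv_smul]; rfl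

theorem hx_conj {i j : Ix n} (hd : Dj i j) {l : F} (hl : l ≠ 0) (a : F) :
    hx i j l * sx i j a * (hx i j l)⁻¹ = sx i j (l ^ 2 * a) := by
  have h1 := rho_hx hd hl
  have h2 := rho_hx hd.symm hl
  rw [← hx_symm] at h2
  have e : ∀ h x y z : Sy n F, h * (x * y * z) * h⁻¹ = (h * x * h⁻¹) * (h * y * h⁻¹) * (h * z * h⁻¹) := by
    intro h x y z; group
  rw [sx, if_pos hd, sx, if_pos hd, e, rho_conj_transv, rho_conj_transv, rho_conj_transv, (SI.of_rho _).add, h1, h2,
    ← smul_add, transv_smul, transv_smul, transv_smul]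

theorem exists_sq {c l : F} (hl1 : l ≠ 1) : ∃ a, c = l ^ 2 * a + a := by
  have h : l ^ 2 + 1 ≠ 0 := by
    intro h
    apply hl1
    apply eq_one_of_sq
    rw [add_eq_zero_iff_eq_neg, CharTwo.neg_eq] at h
    rw [← h]; ring
  exact ⟨c * (l ^ 2 + 1)⁻¹, by field_simp⟩

section sl2

variable {L : Subgroup (Sy n F)}

theorem sl2_long {i : Ix n} (h1 : ∀ a, sy i a ∈ L) (h2 : ∀ a, sy (neg i) a ∈ L) (hq : ∃ c : F, c ≠ 0 ∧ c ≠ 1)
    (c : F) : sy i c ∈ ⁅L, L⁆ := by
  obtain ⟨l, hl0, hl1⟩ := hq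
  obtain ⟨a, rfl⟩ := exists_sq (c := c) hl1
  have hL : hy i l ∈ L :=
    mul_mem (mul_mem (mul_mem (h1 _) (h2 _)) (h1 _)) (mul_mem (mul_mem (h1 _) (h2 _)) (h1 _))
  have h4 : ⁅hy i l, sy i a⁆ = sy i (l ^ 2 * a + a) := by
    rw [commutatorElement_def, hy_conj i hl0, sy_add]
    congr 1
    exact inv_eq_of_mul_eq_one_left (sy_sq i a)
  rw [← h4]
  exact Subgroup.commutator_mem_commutator hL (h1 a)

theorem sl2_short {i j : Ix n} (h1 : ∀ a, sx i j a ∈ L) (h2 : ∀ a, sx (neg i) (neg j) a ∈ L)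
    (hq : ∃ c : F, c ≠ 0 ∧ c ≠ 1) (c : F) : sx i j c ∈ ⁅L, L⁆ := by
  by_cases hd : Dj i j
  · obtain ⟨l, hl0, hl1⟩ := hq
    obtain ⟨a, rfl⟩ := exists_sq (c := c) hl1
    have hL : hx i j l ∈ L :=
      mul_mem (mul_mem (mul_mem (h1 _) (h2 _)) (h1 _)) (mul_mem (mul_mem (h1 _) (h2 _)) (h1 _))
    have h4 : ⁅hx i j l, sx i j a⁆ = sx i j (l ^ 2 * a + a) := by
      rw [commutatorElement_def, hx_conj hd hl0, sx_add]
      congr 1
      exact inv_eq_of_mul_eq_one_left (sx_sq i j a)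
    rw [← h4]
    exact Subgroup.commutator_mem_commutator hL (h1 a)
  · rw [sx_of_not hd]; exact one_mem _

/-- 120 degrees -/
theorem short_of {i j k : Ix n} (hij : Dj i j) (hjk : Dj j k) (hik : Dj i k) (h1 : ∀ a, sx i j a ∈ L)
    (h2 : sx (neg j) k 1 ∈ L) (c : F) : sx i k c ∈ ⁅L, L⁆ := by
  have e := sx_rel hij hjk hik c (1 : F)
  rw [mul_one] at e
  have h4 : ⁅sx i j c, sx (neg j) k (1 : F)⁆ = sx i k c := by
    rw [commutatorElement_def, e]; group
  rw [← h4]
  exact Subgroup.commutator_mem_commutator (h1 c) h2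

/-- 135 degrees -/
theorem long_of {i j : Ix n} (hij : Dj i j) (h1 : ∀ a, sy i a ∈ L) (h2 : ∀ a, sx (neg i) j a ∈ L)
    (hq : ∃ c : F, c ≠ 0 ∧ c ≠ 1) : (∀ c, sy j c ∈ ⁅L, L⁆) ∧ ∀ c, sx i j c ∈ ⁅L, L⁆ := by
  have key : ∀ a b : F, sx i j (a * b) * sy j (a * b ^ 2) ∈ ⁅L, L⁆ := by
    intro a b
    have e := sy_rel hij a b
    have h4 : ⁅sy i a, sx (neg i) j b⁆ = sx i j (a * b) * sy j (a * b ^ 2) := by
      rw [commutatorElement_def, e]; group
    rw [← h4]
    exact Subgroup.commutator_mem_commutator (h1 a) (h2 b)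
  have hy : ∀ c, sy j c ∈ ⁅L, L⁆ := by
    intro c
    obtain ⟨l, hl0, hl1⟩ := hq
    have hl2 : l + 1 ≠ 0 := by
      intro h
      apply hl1
      rw [add_eq_zero_iff_eq_neg, CharTwo.neg_eq] at h
      exact h
    -- `a b = d`: `x(d) y(d b)`, `b = 1, l`
    set d : F := c * (l + 1)⁻¹ with hd
    have k1 := key (d * l⁻¹) l
    have k2 := key d 1
    have e1 : d * l⁻¹ * l = d := by field_simp
    have e2 : d * l⁻¹ * l ^ 2 = d * l := by field_simp
    rw [e1, e2] at k1
    rw [mul_one, one_pow, mul_one] at k2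
    have k3 := mul_mem (inv_mem k2) k1
    have e3 : (sx i j d * sy j d)⁻¹ * (sx i j d * sy j (d * l)) = sy j c := by
      rw [mul_inv_rev, mul_assoc, inv_mul_cancel_left]
      rw [inv_eq_of_mul_eq_one_left (sy_sq j d), ← sy_add]
      congr 1
      rw [hd]; field_simp; ring
    rwa [e3] at k3
  refine ⟨hy, fun c => ?_⟩
  have k1 := key c 1
  rw [mul_one, one_pow, mul_one] at k1
  have k2 := mul_mem k1 (inv_mem (hy c))
  rwa [mul_inv_cancel_right] at k2

end sl2

/-! ### groups generated by root groups -/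

/-- the group generated by the long root groups `i`, `P i`, and the short root groups `i j`, `Q i j` -/
noncomputable def RG (F : Type*) [Field F] [CharP F 2] {n : ℕ} (P : Ix n → Prop) (Q : Ix n → Ix n → Prop) :
    Subgroup (Sy n F) :=
  Subgroup.closure {A | (∃ i a, P i ∧ A = sy i a) ∨ ∃ i j a, Q i j ∧ A = sx i j a}

section RG

variable {P : Ix n → Prop} {Q : Ix n → Ix n → Prop}

theorem sy_mem {i : Ix n} (h : P i) (a : F) : sy i a ∈ RG F P Q :=
  Subgroup.subset_closure (Or.inl ⟨i, a, h, rfl⟩)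

theorem sx_mem {i j : Ix n} (h : Q i j) (a : F) : sx i j a ∈ RG F P Q :=
  Subgroup.subset_closure (Or.inr ⟨i, j, a, h, rfl⟩)

theorem RG_le {S : Subgroup (Sy n F)} (h1 : ∀ i, P i → ∀ a, sy i a ∈ S) (h2 : ∀ i j, Q i j → ∀ a, sx i j a ∈ S) :
    RG F P Q ≤ S := by
  rw [RG, Subgroup.closure_le]
  rintro _ (⟨i, a, h, rfl⟩ | ⟨i, j, a, h, rfl⟩)
  · exact h1 i h a
  · exact h2 i j h a

theorem RG_perfect (h1 : ∀ i, P i → ∀ a, sy i a ∈ ⁅RG F P Q, RG F P Q⁆)
    (h2 : ∀ i j, Q i j → ∀ a, sx i j a ∈ ⁅RG F P Q, RG F P Q⁆) : ⁅RG F P Q, RG F P Q⁆ = RG F P Q := by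
  apply le_antisymm
  · rw [Subgroup.commutator_le]
    intro a ha b hb
    rw [commutatorElement_def]
    exact mul_mem (mul_mem (mul_mem ha hb) (inv_mem ha)) (inv_mem hb)
  · exact RG_le h1 h2

end RG

/-- `i ≠ -1` -/
def PA (hn : 3 ≤ n) (i : Ix n) : Prop := i ≠ Sum.inr (c0 hn)

def QA (hn : 3 ≤ n) (i j : Ix n) : Prop := PA hn i ∧ PA hn j

/-- `i ≠ -1, -2` -/
def PM (hn : 3 ≤ n) (i : Ix n) : Prop := i ≠ Sum.inr (c0 hn) ∧ i ≠ Sum.inr (c1 hn)

def QM (hn : 3 ≤ n) (i j : Ix n) : Prop := PM hn i ∧ PM hn j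

def QB (hn : 3 ≤ n) (i j : Ix n) : Prop := (PM hn i ∧ PM hn j) ∨ (i = Sum.inl (c0 hn) ∧ j = Sum.inr (c1 hn)) ∨
  (i = Sum.inr (c0 hn) ∧ j = Sum.inl (c1 hn))

/-- `⟨Q_1, Sp_{2n-2}⟩` -/
noncomputable def LA (F : Type*) [Field F] [CharP F 2] (hn : 3 ≤ n) : Subgroup (Sy n F) := RG F (PA hn) (QA hn)

/-- `⟨Q_12, SL_2 × Sp_{2n-4}⟩` -/
noncomputable def LB (F : Type*) [Field F] [CharP F 2] (hn : 3 ≤ n) : Subgroup (Sy n F) := RG F (PM hn) (QB hn)

/-- `⟨Q_12, Sp_{2n-4}⟩` -/
noncomputable def LM (F : Type*) [Field F] [CharP F 2] (hn : 3 ≤ n) : Subgroup (Sy n F) := RG F (PM hn) (QM hn)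

theorem c02 (hn : 3 ≤ n) : c0 hn ≠ c2 hn := by simp [c0, c2]

theorem c12 (hn : 3 ≤ n) : c1 hn ≠ c2 hn := by simp [c1, c2]

theorem LA_perfect (hn : 3 ≤ n) (hq : ∃ c : F, c ≠ 0 ∧ c ≠ 1) : ⁅LA F hn, LA F hn⁆ = LA F hn := by
  have h01 := c01 hn
  have key : ∀ i j, QA hn i j → Dj i j → i ≠ Sum.inl (c0 hn) → ∀ a : F, sx i j a ∈ ⁅LA F hn, LA F hn⁆ := by
    intro i j h hd hi
    refine (long_of hd (fun a => sy_mem h.1 a) (fun a => sx_mem ⟨?_, h.2⟩ a) hq).2
    intro e
    apply hi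
    rw [neg_eq_iff] at e
    exact e
  refine RG_perfect (fun i hi a => ?_) fun i j h a => ?_
  · by_cases hi0 : i = Sum.inl (c0 hn)
    · subst hi0
      refine (long_of (i := Sum.inl (c1 hn)) (dj_ll h01.symm) (fun a => sy_mem (by simp [PA]) a)
        (fun a => sx_mem ⟨?_, by simp [PA]⟩ a) hq).1 a
      simpa [PA] using h01.symm
    · refine sl2_long (fun a => sy_mem hi a) (fun a => sy_mem ?_ a) hq a
      intro e
      apply hi0
      rw [neg_eq_iff] at e
      exact e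
  · by_cases hd : Dj i j
    · by_cases hi : i = Sum.inl (c0 hn)
      · rw [sx_symm]
        refine key j i ⟨h.2, h.1⟩ hd.symm ?_ a
        rw [← hi]; exact hd.1.symm
      · exact key i j h hd hi a
    · rw [sx_of_not hd]; exact one_mem _

/-- the part common to `LM` and `LB` -/
theorem LM_aux (hn : 3 ≤ n) (hq : ∃ c : F, c ≠ 0 ∧ c ≠ 1) {L : Subgroup (Sy n F)} (hy : ∀ i, PM hn i → ∀ a, sy i a ∈ L)
    (hx : ∀ i j, QM hn i j → ∀ a, sx i j a ∈ L) :
    (∀ i, PM hn i → ∀ a, sy i a ∈ ⁅L, L⁆) ∧ ∀ i j, QM hn i j → ∀ a, sx i j a ∈ ⁅L, L⁆ := by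
  have h01 := c01 hn
  have h02 := c02 hn
  have h12 := c12 hn
  have key : ∀ i j, QM hn i j → Dj i j → i ≠ Sum.inl (c0 hn) → i ≠ Sum.inl (c1 hn) → ∀ a : F, sx i j a ∈ ⁅L, L⁆ := by
    intro i j h hd hi hi'
    refine (long_of hd (fun a => hy _ h.1 a) (fun a => hx _ _ ⟨⟨?_, ?_⟩, h.2⟩ a) hq).2
    · intro e
      apply hi
      rw [neg_eq_iff] at e
      exact e
    · intro e
      apply hi'
      rw [neg_eq_iff] at e
      exact e
  refine ⟨fun i hi a => ?_, fun i j h a => ?_⟩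
  · by_cases hi0 : i = Sum.inl (c0 hn)
    · subst hi0
      refine (long_of (i := Sum.inl (c2 hn)) (dj_ll h02.symm) (fun a => hy _ (by simp [PM]) a)
        (fun a => hx _ _ ⟨?_, hi⟩ a) hq).1 a
      exact ⟨by simpa using h02.symm, by simpa using h12.symm⟩
    by_cases hi1 : i = Sum.inl (c1 hn)
    · subst hi1
      refine (long_of (i := Sum.inl (c2 hn)) (dj_ll h12.symm) (fun a => hy _ (by simp [PM]) a)
        (fun a => hx _ _ ⟨?_, hi⟩ a) hq).1 a
      exact ⟨by simpa using h02.symm, by simpa using h12.symm⟩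
    · refine sl2_long (fun a => hy _ hi a) (fun a => hy _ ⟨?_, ?_⟩ a) hq a
      · intro e
        apply hi0
        rw [neg_eq_iff] at e
        exact e
      · intro e
        apply hi1
        rw [neg_eq_iff] at e
        exact e
  · by_cases hd : Dj i j
    · by_cases hi : i ≠ Sum.inl (c0 hn) ∧ i ≠ Sum.inl (c1 hn)
      · exact key i j h hd hi.1 hi.2 a
      by_cases hj : j ≠ Sum.inl (c0 hn) ∧ j ≠ Sum.inl (c1 hn)
      · rw [sx_symm]
        exact key j i ⟨h.2, h.1⟩ hd.symm hj.1 hj.2 a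
      -- `{i, j} = {1, 2}`
      have hi' : i = Sum.inl (c0 hn) ∨ i = Sum.inl (c1 hn) := by tauto
      have hj' : j = Sum.inl (c0 hn) ∨ j = Sum.inl (c1 hn) := by tauto
      have hi2 : Dj i (Sum.inl (c2 hn)) := by
        rcases hi' with rfl | rfl
        · exact dj_ll h02
        · exact dj_ll h12
      have hj2 : Dj (Sum.inl (c2 hn)) j := by
        rcases hj' with rfl | rfl
        · exact dj_ll h02.symm
        · exact dj_ll h12.symm
      refine short_of hi2 hj2 hd (fun a => hx _ _ ⟨h.1, by simp [PM]⟩ a) (hx _ _ ⟨?_, h.2⟩ 1) a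
      exact ⟨by simpa using h02.symm, by simpa using h12.symm⟩
    · rw [sx_of_not hd]; exact one_mem _

theorem LM_perfect (hn : 3 ≤ n) (hq : ∃ c : F, c ≠ 0 ∧ c ≠ 1) : ⁅LM F hn, LM F hn⁆ = LM F hn := by
  have h := LM_aux (L := LM F hn) hn hq (fun i hi a => sy_mem hi a) (fun i j h a => sx_mem h a)
  exact RG_perfect h.1 h.2

theorem LB_perfect (hn : 3 ≤ n) (hq : ∃ c : F, c ≠ 0 ∧ c ≠ 1) : ⁅LB F hn, LB F hn⁆ = LB F hn := by
  have h := LM_aux (L := LB F hn) hn hq (fun i hi a => sy_mem hi a) (fun i j h a => sx_mem (Or.inl h) a)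
  refine RG_perfect h.1 fun i j hij a => ?_
  rcases hij with hij | ⟨rfl, rfl⟩ | ⟨rfl, rfl⟩
  · exact h.2 i j hij a
  · exact sl2_short (fun a => sx_mem (Or.inr (Or.inl ⟨rfl, rfl⟩)) a)
      (fun a => sx_mem (Or.inr (Or.inr ⟨rfl, rfl⟩)) a) hq a
  · exact sl2_short (fun a => sx_mem (Or.inr (Or.inr ⟨rfl, rfl⟩)) a)
      (fun a => sx_mem (Or.inr (Or.inl ⟨rfl, rfl⟩)) a) hq a

end Cfsg.Agent.OddHalf.SpN.Out

end

-- merged: Cfsg.Agent.OddHalf.SpN.OutPar
section

/-!
# D7, `K = Sp_2n(q)`, `q` even: centralizers of the central elements of `U` (helper979)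

* `comm_zz_iff`: `C_K(x_12(a) y_1(b))` depends only on `a ≠ 0`, `b ≠ 0`;
* `Dat.le_K`: a perfect subgroup of `C(t)` is in `K`; `Dat.perf_cent`;
* `LA ≤ pA`, `LB ≤ pB`, `LM ≤ pM`; `PM ≠ PA`, `PM ≠ PB`; `Z(PA) = Y_1`, `Z(PB) = X_12`.
-/

set_option autoImplicit false

namespace Cfsg.Agent.OddHalf.SpN.Out

open Cfsg Cfsg.Agent.ClassicalGeometry.SympBasic Cfsg.Agent.ClassicalGeometry.SympAutSemi
open Cfsg.Agent.OddHalf.SpN Cfsg.Agent.OddHalf.SpN.Start
open scoped Matrix commutatorElement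

variable {n : ℕ} {F : Type*} [Field F] [CharP F 2]

theorem zz_b (hn : 3 ≤ n) (b : F) : zz hn 0 b = sy (Sum.inl (c0 hn)) b := by rw [zz, sx_zero, one_mul]

theorem zz_a (hn : 3 ≤ n) (a : F) : zz hn a 0 = sx (Sum.inl (c0 hn)) (Sum.inl (c1 hn)) a := by
  rw [zz, sy_zero, mul_one]

theorem zz_ab (hn : 3 ≤ n) (a b : F) : zz hn a b = zz hn a 0 * zz hn 0 b := by
  rw [zz_mul, add_zero, zero_add]

/-- the elements commuting with a long root element -/
theorem comm_b_iff [Finite F] (hn : 3 ≤ n) {A : Sy n F} {b : F} (hb : b ≠ 0) :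
    Commute A (zz hn 0 b) ↔ rho n F A (be n F (Sum.inl (c0 hn))) = be n F (Sum.inl (c0 hn)) := by
  obtain ⟨c, rfl⟩ := exists_sqrt b
  have hc : c ≠ 0 := fun e => hb (by rw [e, mul_zero])
  have e1 : zz hn 0 (c * c) = transv (c • be n F (Sum.inl (c0 hn))) 1 := by
    rw [zz_b, sy, transv_smul, mul_one, pow_two]
  have e2 : Commute A (zz hn 0 (c * c)) ↔ A * zz hn 0 (c * c) * A⁻¹ = zz hn 0 (c * c) :=
    (mul_inv_eq_iff_eq_mul).symm
  rw [e2, e1, rho_conj_transv]
  constructor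
  · intro h
    have h1 := transv_inj h
    rw [(SI.of_rho A).smul] at h1
    exact smul_right_injective _ hc h1
  · intro h
    rw [(SI.of_rho A).smul, h]; rfl

/-- the elements commuting with a short root element -/
theorem comm_a_iff (hn : 3 ≤ n) {A : Sy n F} {a : F} (ha : a ≠ 0) :
    Commute A (zz hn a 0) ↔ Commute A (zz hn (1 : F) 0) := by
  have key : ∀ a : F, Commute A (zz hn a 0) ↔ ∀ v : Ix n → F,
      a • rho n F A (v (Sum.inr (c1 hn)) • be n F (Sum.inl (c0 hn)) + v (Sum.inr (c0 hn)) • be n F (Sum.inl (c1 hn))) =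
      a • (rho n F A v (Sum.inr (c1 hn)) • be n F (Sum.inl (c0 hn)) +
        rho n F A v (Sum.inr (c0 hn)) • be n F (Sum.inl (c1 hn))) := by
    intro a
    have h1 : Commute A (zz hn a 0) ↔ ∀ v, rho n F A (rho n F (zz hn a 0) v) = rho n F (zz hn a 0) (rho n F A v) := by
      constructor
      · intro h v
        rw [← Equiv.Perm.mul_apply, ← Equiv.Perm.mul_apply, ← map_mul, ← map_mul, h.eq]
      · intro h
        apply rho_injective
        ext1 v
        rw [map_mul, map_mul, Equiv.Perm.mul_apply, Equiv.Perm.mul_apply, h]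
    rw [h1]
    have e : ∀ w : Ix n → F, rho n F (zz hn a 0) w = w + a • (w (Sum.inr (c1 hn)) • be n F (Sum.inl (c0 hn)) +
        w (Sum.inr (c0 hn)) • be n F (Sum.inl (c1 hn))) := by
      intro w
      rw [rho_zz, zero_mul, add_zero, smul_add, smul_smul, smul_smul, add_assoc]
    refine forall_congr' fun v => ?_
    rw [e, e, (SI.of_rho A).add, (SI.of_rho A).smul]
    exact add_right_inj _
  rw [key a, key 1]
  refine forall_congr' fun v => ?_
  rw [one_smul, one_smul]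
  exact (smul_right_injective _ ha).eq_iff

/-- the elements commuting with a mixed element -/
theorem comm_ab_iff [Finite F] (hn : 3 ≤ n) {A : Sy n F} {a b : F} (ha : a ≠ 0) (hb : b ≠ 0) :
    Commute A (zz hn a b) ↔ Commute A (zz hn (1 : F) 0) ∧ Commute A (zz hn (0 : F) 1) := by
  constructor
  · intro h
    have h1 : Commute A (zz hn 0 b) := by
      rw [comm_b_iff hn hb]
      have key : ∀ w : Ix n → F, sympForm n F w (rho n F (zz hn a b) w) = b * (w (Sum.inr (c0 hn))) ^ 2 := by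
        intro w
        rw [rho_zz, sympForm_add_right, sympForm_add_right, sympForm_smul_right, sympForm_smul_right, form_be, form_be,
          sympForm_self, neg_inl, neg_inl]
        linear_combination (a * w (Sum.inr (c1 hn)) * w (Sum.inr (c0 hn))) * (two0 : (2 : F) = 0)
      have h2 : ∀ v : Ix n → F, rho n F A v (Sum.inr (c0 hn)) = v (Sum.inr (c0 hn)) := by
        intro v
        have h3 := key (rho n F A v)
        have h4 : rho n F (zz hn a b) (rho n F A v) = rho n F A (rho n F (zz hn a b) v) := by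
          rw [← Equiv.Perm.mul_apply, ← Equiv.Perm.mul_apply, ← map_mul, ← map_mul, h.eq]
        rw [h4, sympForm_rho, key] at h3
        have h5 := mul_left_cancel₀ hb h3
        have h6 : (v (Sum.inr (c0 hn)) - rho n F A v (Sum.inr (c0 hn))) *
            (v (Sum.inr (c0 hn)) - rho n F A v (Sum.inr (c0 hn))) = 0 := by
          linear_combination h5 - (v (Sum.inr (c0 hn)) * rho n F A v (Sum.inr (c0 hn)) -
            rho n F A v (Sum.inr (c0 hn)) ^ 2) * (two0 : (2 : F) = 0)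
        exact (sub_eq_zero.1 (mul_self_eq_zero.1 h6)).symm
      apply eq_of_forall_sympForm_left
      intro w
      obtain ⟨v, rfl⟩ : ∃ v, rho n F A v = w := (rho n F A).surjective w
      rw [sympForm_rho, form_be, form_be, neg_inl, h2]
    have h2 : Commute A (zz hn a 0) := by
      have e : zz hn a 0 = zz hn a b * zz hn 0 b := by
        rw [zz_mul, add_zero, CharTwo.add_self_eq_zero]
      rw [e]
      exact h.mul_right h1
    rw [comm_a_iff hn ha] at h2
    rw [comm_b_iff hn hb] at h1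
    exact ⟨h2, (comm_b_iff hn one_ne_zero).2 h1⟩
  · rintro ⟨h1, h2⟩
    rw [zz_ab]
    refine Commute.mul_right ((comm_a_iff hn ha).2 h1) ?_
    rw [comm_b_iff hn one_ne_zero] at h2
    exact (comm_b_iff hn hb).2 h2

/-! ### the groups `LA`, `LB`, `LM` -/

theorem LM_comm (hn : 3 ≤ n) {A : Sy n F} (hA : A ∈ LM F hn) (a b : F) : Commute A (zz hn a b) := by
  have h : LM F hn ≤ Subgroup.centralizer {zz hn a b} := by
    refine RG_le (fun i hi c => ?_) fun i j h c => ?_
    · rw [Subgroup.mem_centralizer_singleton_iff]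
      have n0 : (Sum.inl (c0 hn) : Ix n) ≠ neg i := fun e => hi.1 (by rw [← neg_eq_iff] at e; exact e.symm)
      have n1 : (Sum.inl (c1 hn) : Ix n) ≠ neg i := fun e => hi.2 (by rw [← neg_eq_iff] at e; exact e.symm)
      exact ((sy_sx_comm n0 n1 c a).mul_right (sy_comm n0 c b)).eq
    · rw [Subgroup.mem_centralizer_singleton_iff]
      have n0 : (Sum.inl (c0 hn) : Ix n) ≠ neg i := fun e => h.1.1 (by rw [← neg_eq_iff] at e; exact e.symm)
      have n1 : (Sum.inl (c1 hn) : Ix n) ≠ neg i := fun e => h.1.2 (by rw [← neg_eq_iff] at e; exact e.symm)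
      have m0 : (Sum.inl (c0 hn) : Ix n) ≠ neg j := fun e => h.2.1 (by rw [← neg_eq_iff] at e; exact e.symm)
      have m1 : (Sum.inl (c1 hn) : Ix n) ≠ neg j := fun e => h.2.2 (by rw [← neg_eq_iff] at e; exact e.symm)
      refine ((sx_comm n0 m0 n1 m1 c a).mul_right ?_).eq
      refine (sy_sx_comm ?_ ?_ b c).symm
      · intro e; rw [e] at h; exact h.1.1 rfl
      · intro e; rw [e] at h; exact h.2.1 rfl
  exact Subgroup.mem_centralizer_singleton_iff.1 (h hA)

theorem LA_comm (hn : 3 ≤ n) {A : Sy n F} (hA : A ∈ LA F hn) (b : F) : Commute A (zz hn 0 b) := by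
  rw [zz_b]
  have h : LA F hn ≤ Subgroup.centralizer {sy (Sum.inl (c0 hn)) b} := by
    refine RG_le (fun i hi c => ?_) fun i j h c => ?_
    · rw [Subgroup.mem_centralizer_singleton_iff]
      have n0 : (Sum.inl (c0 hn) : Ix n) ≠ neg i := fun e => hi (by rw [← neg_eq_iff] at e; exact e.symm)
      exact (sy_comm n0 c b).eq
    · rw [Subgroup.mem_centralizer_singleton_iff]
      refine (sy_sx_comm ?_ ?_ b c).symm.eq
      · intro e; rw [e] at h; exact h.1 rfl
      · intro e; rw [e] at h; exact h.2 rfl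
  exact Subgroup.mem_centralizer_singleton_iff.1 (h hA)

theorem LB_comm (hn : 3 ≤ n) {A : Sy n F} (hA : A ∈ LB F hn) (a : F) : Commute A (zz hn a 0) := by
  have h : LB F hn ≤ Subgroup.centralizer {zz hn a 0} := by
    refine RG_le (fun i hi c => ?_) fun i j h c => ?_
    · rw [Subgroup.mem_centralizer_singleton_iff]
      exact (LM_comm hn (sy_mem hi c) a 0).eq
    · rw [Subgroup.mem_centralizer_singleton_iff]
      rcases h with h | ⟨rfl, rfl⟩ | ⟨rfl, rfl⟩
      · exact (LM_comm hn (sx_mem h c) a 0).eq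
      · rw [zz_a, sx_symm (Sum.inl (c0 hn)) (Sum.inr (c1 hn)), sx_symm (Sum.inl (c0 hn)) (Sum.inl (c1 hn))]
        exact (sx_comm' (i := Sum.inl (c1 hn)) (j := Sum.inl (c0 hn)) a c).symm.eq
      · rw [zz_a]
        exact (sx_comm' (i := Sum.inl (c0 hn)) (j := Sum.inl (c1 hn)) a c).symm.eq
  exact Subgroup.mem_centralizer_singleton_iff.1 (h hA)

theorem LM_le_LB (hn : 3 ≤ n) : LM F hn ≤ LB F hn :=
  RG_le (fun _ hi a => sy_mem (P := PM hn) (Q := QB hn) hi a)
    fun _ _ h a => sx_mem (P := PM hn) (Q := QB hn) (Or.inl h) a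

theorem LM_le_LA (hn : 3 ≤ n) : LM F hn ≤ LA F hn :=
  RG_le (fun _ hi a => sy_mem (P := PA hn) (Q := QA hn) hi.1 a)
    fun _ _ h a => sx_mem (P := PA hn) (Q := QA hn) ⟨h.1.1, h.2.1⟩ a

theorem zz_mem_LM (hn : 3 ≤ n) (a b : F) : zz hn a b ∈ LM F hn :=
  mul_mem (sx_mem (P := PM hn) (Q := QM hn) ⟨by simp [PM], by simp [PM]⟩ a)
    (sy_mem (P := PM hn) (Q := QM hn) (by simp [PM]) b)

/-! ### perfect subgroups of `C(t)` -/

section perf

variable {G : Type*} [Group G] {ι : Sy n F →* G} {t v : G} [Finite F]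

omit [CharP F 2] in
theorem aut_comm (σ τ : F ≃+* F) : σ * τ = τ * σ := by
  have hc : IsCyclic (F ≃+* F) := Cfsg.Agent.LieRecognition.FieldSemilinear.isCyclic_ringAut F
  exact (IsCyclic.commGroup (α := F ≃+* F)).mul_comm σ τ

/-- a perfect subgroup of `C(t)` is in `K` -/
theorem Dat.le_K (D : Dat ι t v) (hn : 3 ≤ n) {L : Subgroup G} (hL : ∀ x ∈ L, x * t = t * x) (hp : ⁅L, L⁆ = L) :
    L ≤ ι.range := by
  have hLC : ∀ x ∈ L, x ∈ Subgroup.centralizer ({t} : Set G) := fun x hx =>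
    Subgroup.mem_centralizer_singleton_iff.2 (hL x hx)
  have h1 : L ≤ (D.lf hn).ker.map (Subgroup.centralizer ({t} : Set G)).subtype := by
    conv_lhs => rw [← hp]
    rw [Subgroup.commutator_le]
    intro x hx y hy
    refine ⟨⁅(⟨x, hLC x hx⟩ : Subgroup.centralizer ({t} : Set G)), ⟨y, hLC y hy⟩⁆, ?_, rfl⟩
    show D.lf hn _ = 1
    rw [map_commutatorElement, commutatorElement_def, aut_comm (D.lf hn ⟨x, hLC x hx⟩)]
    group
  conv_lhs => rw [← hp]
  rw [Subgroup.commutator_le]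
  intro x hx y hy
  obtain ⟨x', hx', ex⟩ := h1 hx
  obtain ⟨y', hy', ey⟩ := h1 hy
  obtain ⟨A, -, hA⟩ := D.exists_iota hn hx'
  obtain ⟨B, -, hB⟩ := D.exists_iota hn hy'
  have ex' : (x' : G) = x := ex
  have ey' : (y' : G) = y := ey
  rw [ex'] at hA
  rw [ey'] at hB
  refine ⟨⁅A, B⁆, ?_⟩
  set r := (ι A)⁻¹ * x with hr
  set s := (ι B)⁻¹ * y with hs
  have hx2 : x = ι A * r := by rw [hr]; group
  have hy2 : y = ι B * s := by rw [hs]; group
  have hrs : r * s = s * r := by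
    obtain ⟨k, hk⟩ := Subgroup.mem_zpowers_iff.1 hA
    obtain ⟨l, hl⟩ := Subgroup.mem_zpowers_iff.1 hB
    rw [← hk, ← hl]
    exact ((Commute.refl v).zpow_zpow k l)
  have cr : ∀ C, r * ι C = ι C * r := fun C => (D.QK hA C).symm
  have cs : ∀ C, s * ι C = ι C * s := fun C => (D.QK hB C).symm
  rw [map_commutatorElement, commutatorElement_def, commutatorElement_def, hx2, hy2]
  have e1 : (ι A * r) * (ι B * s) = ι A * ι B * (r * s) := by
    calc (ι A * r) * (ι B * s) = ι A * (r * ι B) * s := by group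
      _ = ι A * ι B * (r * s) := by rw [cr]; group
  have e2 : (ι B * s) * (ι A * r) = ι B * ι A * (r * s) := by
    calc (ι B * s) * (ι A * r) = ι B * (s * ι A) * r := by group
      _ = ι B * ι A * (r * s) := by rw [cs, hrs]; group
  have e3 : ι A * r * (ι B * s) * (ι A * r)⁻¹ * (ι B * s)⁻¹ = (ι A * r * (ι B * s)) * ((ι B * s) * (ι A * r))⁻¹ := by
    group
  rw [e3, e1, e2]; group

theorem map_perfect {H : Type*} [Group H] (f : H →* G) {L : Subgroup H} (hp : ⁅L, L⁆ = L) : ⁅L.map f, L.map f⁆ = L.map f := by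
  rw [← Subgroup.map_commutator, hp]

/-- the largest perfect subgroup of `C(t) ∩ C(z)` -/
theorem Dat.perf_cent (D : Dat ι t v) (hn : 3 ≤ n) (z : Sy n F) :
    perf (Subgroup.centralizer ({t} : Set G) ⊓ Subgroup.centralizer ({ι z} : Set G)) =
      (perf (Subgroup.centralizer ({z} : Set (Sy n F)))).map ι := by
  apply le_antisymm
  · set P := perf (Subgroup.centralizer ({t} : Set G) ⊓ Subgroup.centralizer ({ι z} : Set G)) with hP
    have hPp : ⁅P, P⁆ = P := perf_perfect _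
    have hPle := perf_le (Subgroup.centralizer ({t} : Set G) ⊓ Subgroup.centralizer ({ι z} : Set G))
    have hPK : P ≤ ι.range := D.le_K hn
      (fun x hx => Subgroup.mem_centralizer_singleton_iff.1 (hPle hx).1) hPp
    have hmap : (P.comap ι).map ι = P := Subgroup.map_comap_eq_self hPK
    rw [← hmap]
    apply Subgroup.map_mono
    apply le_perf
    · intro A hA
      rw [Subgroup.mem_centralizer_singleton_iff]
      apply D.inj
      rw [map_mul, map_mul]
      exact Subgroup.mem_centralizer_singleton_iff.1 (hPle hA).2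
    · apply Subgroup.map_injective D.inj
      rw [Subgroup.map_commutator, hmap, hPp]
  · apply le_perf
    · rintro _ ⟨A, hA, rfl⟩
      refine ⟨D.mem_C A, Subgroup.mem_centralizer_singleton_iff.2 ?_⟩
      have := Subgroup.mem_centralizer_singleton_iff.1 (perf_le _ hA)
      rw [← map_mul, ← map_mul, this]
    · exact map_perfect ι (perf_perfect _)

/-- `t` is not conjugate into `Z` -/
theorem Dat.nconj (D : Dat ι t v) (hn : 3 ≤ n) (hq : ∃ c : F, c ≠ 0 ∧ c ≠ 1) {a b : F} (g : G) :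
    g * t * g⁻¹ ≠ ι (zz hn a b) := by
  intro hg
  set L : Subgroup G := (LM F hn).map ι with hL
  have hp : ⁅L, L⁆ = L := map_perfect ι (LM_perfect hn hq)
  set L' : Subgroup G := L.map (MulAut.conj g⁻¹).toMonoidHom with hL'
  have hp' : ⁅L', L'⁆ = L' := map_perfect _ hp
  have h1 : ∀ x ∈ L', x * t = t * x := by
    rintro _ ⟨_, ⟨A, hA, rfl⟩, rfl⟩
    show g⁻¹ * ι A * g⁻¹⁻¹ * t = t * (g⁻¹ * ι A * g⁻¹⁻¹)
    have h2 : ι A * (g * t * g⁻¹) = g * t * g⁻¹ * ι A := by
      rw [hg, ← map_mul, ← map_mul, (LM_comm hn hA a b).eq]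
    calc g⁻¹ * ι A * g⁻¹⁻¹ * t = g⁻¹ * (ι A * (g * t * g⁻¹)) * g := by group
      _ = g⁻¹ * (g * t * g⁻¹ * ι A) * g := by rw [h2]
      _ = _ := by group
  have h2 := D.le_K hn h1 hp'
  have h3 : t ∈ L' := ⟨ι (zz hn a b), ⟨_, zz_mem_LM hn a b, rfl⟩, by
    show g⁻¹ * ι (zz hn a b) * g⁻¹⁻¹ = t
    rw [← hg]; group⟩
  obtain ⟨A, hA⟩ := h2 h3
  have h4 : ι A ∈ Subgroup.zpowers v := by rw [hA]; exact D.tQ
  rw [D.KR (by omega : 1 ≤ n) h4, map_one] at hA
  exact D.t1 hA.symm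

end perf

end Cfsg.Agent.OddHalf.SpN.Out

end
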