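import Mathlib
import Cfsg.Agent.OddHalf.SpN.OutTri
import Cfsg.Agent.OddHalf.SpN.OutPar
import Cfsg.Agent.OddHalf.D7Out.FrOf

-- merged: Cfsg.Agent.OddHalf.SpN.OutFld
section

/-!
# D7, `K = Sp_2n(q)`, `q` even: the elements of `T` inducing an involutory field automorphism (helper979)

`GY D hn y`: `y ∈ T` acts as a field involution, `y² ∈ ⟨v⟩`.

* `GY.exists` (A): a good element in the coset of every field element of order two;
* `GY.cent` (B), `GY.conj` (C), `GY.der` (D).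
-/

set_option autoImplicit false

namespace Cfsg.Agent.OddHalf.SpN.Out

open Cfsg Cfsg.Agent.ClassicalGeometry.SympBasic Cfsg.Agent.ClassicalGeometry.SympAutSemi
open Cfsg.Agent.OddHalf.SpN
open scoped Matrix commutatorElement

variable {n : ℕ} {F : Type*} [Field F]

theorem ringEquiv_invol {τ : F ≃+* F} (h : τ * τ = 1) (x : F) : τ (τ x) = x := DFunLike.congr_fun h x

theorem exists_ne_of_ne_one {τ : F ≃+* F} (h : τ ≠ 1) : ∃ x, τ x ≠ x := by
  by_contra hne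
  push Not at hne
  exact h (RingEquiv.ext hne)

/-- automorphisms fixing the fixed field of an involution -/
theorem eq_one_or_eq [CharP F 2] {τ φ : F ≃+* F} (hτ : ∀ x, τ (τ x) = x) (hτ1 : ∃ x, τ x ≠ x)
    (h : ∀ a, τ a = a → φ a = a) : φ = 1 ∨ φ = τ := by
  obtain ⟨c, hc⟩ := hτ1
  have hc0 : c + τ c ≠ 0 := by
    intro h0
    apply hc
    rw [add_eq_zero_iff_eq_neg, CharTwo.neg_eq] at h0
    exact h0.symm
  have hN : φ (c * τ c) = c * τ c := h _ (by rw [map_mul, hτ, mul_comm])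
  have hS : φ (c + τ c) = c + τ c := h _ (by rw [map_add, hτ, add_comm])
  -- `φ` is determined by `φ c`
  have key : ∀ x, ∃ a b, τ a = a ∧ τ b = b ∧ x = a + b * c := by
    intro x
    have hb : τ ((x + τ x) * (c + τ c)⁻¹) = (x + τ x) * (c + τ c)⁻¹ := by
      rw [map_mul, map_inv₀, map_add, map_add, hτ, hτ, add_comm (τ x), add_comm (τ c)]
    refine ⟨x + (x + τ x) * (c + τ c)⁻¹ * c, (x + τ x) * (c + τ c)⁻¹, ?_, hb, ?_⟩
    · rw [map_add, map_mul, hb]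
      field_simp
      linear_combination (τ x * τ c - c * x) * (two0 : (2 : F) = 0)
    · linear_combination (-((x + τ x) * (c + τ c)⁻¹ * c)) * (two0 : (2 : F) = 0)
  have h3 : (φ c - c) * (φ c - τ c) = 0 := by
    rw [map_mul] at hN
    rw [map_add] at hS
    have : φ (τ c) = c + τ c - φ c := by rw [← hS]; ring
    rw [this] at hN
    linear_combination -hN
  rcases mul_eq_zero.1 h3 with h4 | h4
  · left
    ext x
    obtain ⟨a, b, ha, hb, rfl⟩ := key x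
    rw [map_add, map_mul, h a ha, h b hb, sub_eq_zero.1 h4]; rfl
  · right
    ext x
    obtain ⟨a, b, ha, hb, rfl⟩ := key x
    rw [map_add, map_mul, map_add, map_mul, h a ha, h b hb, ha, hb, sub_eq_zero.1 h4]

section comm

variable [CharP F 2]

/-- `x_12(a) y_1(b)` as a product of commutators -/
theorem zz_eq_comm (hn : 3 ≤ n) (a b : F) :
    zz hn a b = ⁅sx (Sum.inl (c0 hn)) (Sum.inl (c2 hn)) (a + b), sx (Sum.inl (c1 hn)) (Sum.inr (c2 hn)) (1 : F)⁆ *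
      ⁅sy (Sum.inl (c1 hn)) b, sx (Sum.inl (c0 hn)) (Sum.inr (c1 hn)) (1 : F)⁆ := by
  have h02 : c0 hn ≠ c2 hn := by simp [c0, c2]
  have h12 : c1 hn ≠ c2 hn := by simp [c1, c2]
  have e1 := sx_rel (i := Sum.inl (c0 hn)) (j := Sum.inl (c2 hn)) (k := Sum.inl (c1 hn)) (dj_ll h02)
    (dj_ll h12.symm) (dj_ll (c01 hn)) (a + b) (1 : F)
  have e2 := sy_rel (i := (Sum.inl (c1 hn) : Ix n)) (j := Sum.inl (c0 hn)) (dj_ll (c01 hn).symm) b (1 : F)
  rw [neg_inl, sx_symm (Sum.inr (c2 hn)), mul_one] at e1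
  rw [neg_inl, sx_symm (Sum.inr (c1 hn)), mul_one, one_pow, mul_one] at e2
  have f1 : ⁅sx (Sum.inl (c0 hn)) (Sum.inl (c2 hn)) (a + b), sx (Sum.inl (c1 hn)) (Sum.inr (c2 hn)) (1 : F)⁆ =
      sx (Sum.inl (c0 hn)) (Sum.inl (c1 hn)) (a + b) := by
    rw [commutatorElement_def, e1]; group
  have f2 : ⁅sy (Sum.inl (c1 hn)) b, sx (Sum.inl (c0 hn)) (Sum.inr (c1 hn)) (1 : F)⁆ =
      sx (Sum.inl (c1 hn)) (Sum.inl (c0 hn)) b * sy (Sum.inl (c0 hn)) b := by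
    rw [commutatorElement_def, e2]; group
  rw [f1, f2, sx_symm (Sum.inl (c1 hn)) (Sum.inl (c0 hn)), ← mul_assoc, ← sx_add, add_assoc,
    CharTwo.add_self_eq_zero, add_zero]
  rfl

end comm

variable {G : Type*} [Group G] [Finite F] [CharP F 2] {ι : Sy n F →* G} {t v : G} {T : Subgroup G}

/-- good field elements -/
structure GY (D : DatT ι t v T) (hn : 3 ≤ n) (y : G) : Prop where
  yT : y ∈ T
  ne : D.lf hn ⟨y, D.hT yT⟩ ≠ 1
  sq : D.lf hn ⟨y, D.hT yT⟩ * D.lf hn ⟨y, D.hT yT⟩ = 1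
  R : y * y ∈ Subgroup.zpowers v

/-- (A) -/
theorem GY.exists [Finite G] (D : DatT ι t v T) (hn : 3 ≤ n) {y : G} (hy : y ∈ T)
    (h1 : D.lf hn ⟨y, D.hT hy⟩ ≠ 1) (h2 : D.lf hn ⟨y, D.hT hy⟩ * D.lf hn ⟨y, D.hT hy⟩ = 1) :
    ∃ y' : G, ∃ g : GY D hn y', D.lf hn ⟨y', D.hT g.yT⟩ = D.lf hn ⟨y, D.hT hy⟩ ∧ orderOf y' ≤ orderOf y := by
  set Y : Subgroup.centralizer ({t} : Set G) := ⟨y, D.hT hy⟩ with hY
  obtain ⟨d, hd⟩ := D.tri hn hy
  have hYY : D.lf hn ⟨y * y, D.hT (mul_mem hy hy)⟩ = 1 := by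
    rw [← h2, ← map_mul]; rfl
  obtain ⟨B, hB, r, hr, hyy, hsB⟩ := D.mem_UR hn (mul_mem hy hy) hYY
  have hss : D.sH hn Y * D.sH hn Y = rho n F B := by
    rw [← hsB, ← map_mul]; rfl
  obtain ⟨A, hA, hAA⟩ := exists_good (ringEquiv_invol h2) (exists_ne_of_ne_one h1) (D.si hn Y) hd hB hss
  have hAT : ι A ∈ T := D.iota_mem.2 hA
  have hy' : y * ι A ∈ T := mul_mem hy hAT
  have hsy' : D.sH hn ⟨y * ι A, D.hT hy'⟩ = D.sH hn Y * rho n F A := by
    rw [← D.sH_iota hn A, ← map_mul]; rfl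
  have hly' : D.lf hn ⟨y * ι A, D.hT hy'⟩ = D.lf hn Y := by
    have : D.lf hn ⟨y * ι A, D.hT hy'⟩ = D.lf hn Y * D.lf hn ⟨ι A, D.mem_C A⟩ := by
      rw [← map_mul]; rfl
    rw [this, D.lf_iota, mul_one]
  have hR : (y * ι A) * (y * ι A) ∈ Subgroup.zpowers v := by
    have h3 : D.sH hn ⟨(y * ι A) * (y * ι A), D.hT (mul_mem hy' hy')⟩ = 1 := by
      rw [← hAA, ← hsy', ← map_mul]; rfl
    exact D.mem_R_of_sH hn h3
  have hgy : GY D hn (y * ι A) := ⟨hy', by rw [hly']; exact h1, by rw [hly']; exact h2, hR⟩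
  refine ⟨y * ι A, hgy, hly', ?_⟩
  -- the square
  obtain ⟨A', hA', e⟩ := D.conj_U (inv_mem hy) hA
  rw [inv_inv] at e
  have hr2 : (y * ι A) * (y * ι A) = ι (B * A' * A) * r := by
    have h4 := D.QK hr (A' * A)
    calc (y * ι A) * (y * ι A) = (y * y) * (y⁻¹ * ι A * y) * ι A := by group
      _ = ι B * (r * ι (A' * A)) := by rw [hyy, e, map_mul]; group
      _ = ι (B * A' * A) * r := by rw [← h4, map_mul, map_mul, map_mul]; group
  have hone : B * A' * A = 1 := by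
    apply D.KR (by omega : 1 ≤ n)
    have : ι (B * A' * A) = (y * ι A) * (y * ι A) * r⁻¹ := by rw [hr2]; group
    rw [this]
    exact mul_mem hR (inv_mem hr)
  rw [hone, map_one, one_mul] at hr2
  have h2N : 2 ∣ orderOf y := by
    have h5 : orderOf (D.lf hn Y) = 2 := orderOf_eq_prime (by rw [pow_two]; exact h2) h1
    rw [← h5]
    have h6 : Y ^ orderOf y = 1 := Subtype.ext (pow_orderOf_eq_one y)
    apply orderOf_dvd_of_pow_eq_one
    rw [← map_pow, h6, map_one]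
  obtain ⟨m, hm⟩ := h2N
  have hrm : r ^ m = 1 := by
    have h5 : (ι B * r) ^ m = 1 := by
      rw [← hyy, ← pow_two, ← pow_mul, ← hm, pow_orderOf_eq_one]
    have h6 : Commute (ι B) r := D.QK hr B
    rw [h6.mul_pow, ← map_pow] at h5
    have h7 : ι (B ^ m) ∈ Subgroup.zpowers v := by
      rw [mul_eq_one_iff_eq_inv.1 h5]
      exact inv_mem (pow_mem hr m)
    rw [D.KR (by omega : 1 ≤ n) h7, map_one, one_mul] at h5
    exact h5
  apply Nat.le_of_dvd (orderOf_pos y)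
  apply orderOf_dvd_of_pow_eq_one
  rw [hm, pow_mul, pow_two, hr2, hrm]

/-- the normal form of a good element -/
structure NF (D : DatT ι t v T) (hn : 3 ≤ n) (y : G) (τ : F ≃+* F) (b : Sy n F) : Prop where
  yT : y ∈ T
  τ2 : ∀ x, τ (τ x) = x
  τ1 : ∃ x, τ x ≠ x
  tri : ∃ k, Tri (rho n F b) k
  sys : D.sH hn ⟨y, D.hT yT⟩ = rho n F b * fa n τ * (rho n F b)⁻¹
  lf : D.lf hn ⟨y, D.hT yT⟩ = τ

theorem GY.nf {D : DatT ι t v T} {hn : 3 ≤ n} {y : G} (h : GY D hn y) :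
    ∃ b, NF D hn y (D.lf hn ⟨y, D.hT h.yT⟩) b := by
  obtain ⟨d, hd⟩ := D.tri hn h.yT
  have h1 : D.sH hn ⟨y, D.hT h.yT⟩ * D.sH hn ⟨y, D.hT h.yT⟩ = 1 := by
    have h2 : D.sH hn ⟨y * y, D.hT (mul_mem h.yT h.yT)⟩ = 1 := D.sH_R hn h.R
    rw [← h2, ← map_mul]; rfl
  obtain ⟨b, k, hk, e⟩ := exists_normal (ringEquiv_invol h.sq) (exists_ne_of_ne_one h.ne) (D.si hn _) hd h1
  exact ⟨b, h.yT, ringEquiv_invol h.sq, exists_ne_of_ne_one h.ne, ⟨k, hk⟩, e, rfl⟩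

namespace NF

variable {D : DatT ι t v T} {hn : 3 ≤ n} {y : G} {τ : F ≃+* F} {b : Sy n F} (N : NF D hn y τ b)

include N

theorem conj {A A' : Sy n F} (h : rho n F A' = fa n τ * rho n F A * (fa n τ)⁻¹) :
    y * ι (b * A * b⁻¹) * y⁻¹ = ι (b * A' * b⁻¹) := by
  refine (D.acts hn ⟨y, D.hT N.yT⟩).eq ?_
  rw [N.sys, map_mul, map_mul, map_mul, map_mul, map_inv, h]
  group

theorem bUp {A : Sy n F} (hA : A ∈ Up n F) : b * A * b⁻¹ ∈ Up n F := by
  obtain ⟨k, hk⟩ := N.tri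
  exact hk.conj_mem (SI.of_rho b) hA (by rw [map_mul, map_mul, map_inv])

theorem bUp' {A : Sy n F} (hA : A ∈ Up n F) : b⁻¹ * A * b ∈ Up n F := by
  obtain ⟨k, hk⟩ := N.tri
  exact (Tri.inv (SI.of_rho b) hk).1.conj_mem (SI.of_rho b).inv' hA (by rw [map_mul, map_mul, map_inv, inv_inv])

theorem bZ {A : Sy n F} (hA : A ∈ Zz hn) : b * A * b⁻¹ ∈ Zz hn := by
  rw [mem_Zz_iff] at hA ⊢
  intro B hB
  have h1 := (hA _ (N.bUp' hB)).eq
  show B * (b * A * b⁻¹) = b * A * b⁻¹ * B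
  calc B * (b * A * b⁻¹) = b * ((b⁻¹ * B * b) * A) * b⁻¹ := by group
    _ = b * (A * (b⁻¹ * B * b)) * b⁻¹ := by rw [h1]
    _ = b * A * b⁻¹ * B := by group

theorem bZ' {A : Sy n F} (hA : A ∈ Zz hn) : b⁻¹ * A * b ∈ Zz hn := by
  rw [mem_Zz_iff] at hA ⊢
  intro B hB
  have h1 := (hA _ (N.bUp hB)).eq
  show B * (b⁻¹ * A * b) = b⁻¹ * A * b * B
  calc B * (b⁻¹ * A * b) = b⁻¹ * ((b * B * b⁻¹) * A) * b := by group
    _ = b⁻¹ * (A * (b * B * b⁻¹)) * b := by rw [h1]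
    _ = b⁻¹ * A * b * B := by group

/-- elements of `Z` commuting with `y` -/
theorem exists_param {A : Sy n F} (hA : A ∈ Zz hn) (hc : ι A * y = y * ι A) :
    ∃ p q, A = b * zz hn p q * b⁻¹ ∧ τ p = p ∧ τ q = q := by
  obtain ⟨p, q, e⟩ := N.bZ' hA
  have hA' : A = b * zz hn p q * b⁻¹ := by rw [← e]; group
  have h1 := N.conj (fa_zz hn τ p q)
  rw [← hA', ← hc, mul_inv_cancel_right] at h1
  have h2 := D.inj h1
  rw [hA'] at h2
  have h3 : zz hn p q = zz hn (τ p) (τ q) := by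
    have := congrArg (fun X => b⁻¹ * X * b) h2
    have e1 : b⁻¹ * (b * zz hn p q * b⁻¹) * b = zz hn p q := by group
    have e2 : b⁻¹ * (b * zz hn (τ p) (τ q) * b⁻¹) * b = zz hn (τ p) (τ q) := by group
    simpa only [e1, e2] using this
  obtain ⟨h4, h5⟩ := zz_inj hn h3
  exact ⟨p, q, hA', h4.symm, h5.symm⟩

theorem comm_of {A : Sy n F} (h : rho n F A = fa n τ * rho n F A * (fa n τ)⁻¹) :
    ι (b * A * b⁻¹) * y = y * ι (b * A * b⁻¹) := by
  have h1 := N.conj h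
  rw [mul_inv_eq_iff_eq_mul] at h1
  exact h1.symm

/-- (C) -/
theorem exists_conj {A : Sy n F} (hA : A ∈ Zz hn) (hc : ι A * y = y * ι A) :
    ∃ B ∈ Up n F, ι B * y * (ι B)⁻¹ = y * ι A := by
  obtain ⟨p, q, e, hp, hq⟩ := N.exists_param hA hc
  obtain ⟨c, hc1⟩ := exists_tr N.τ2 N.τ1 hp
  obtain ⟨d, hd1⟩ := exists_tr N.τ2 N.τ1 hq
  refine ⟨b * zz hn c d * b⁻¹, N.bUp (zz_mem_Up hn c d), ?_⟩
  have h1 := N.conj (fa_zz hn τ c d)
  have h2 : A * (b * zz hn (τ c) (τ d) * b⁻¹) = b * zz hn c d * b⁻¹ := by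
    rw [e]
    have h3 : zz hn p q * zz hn (τ c) (τ d) = zz hn c d := by
      rw [zz_mul, hc1, hd1, add_assoc, add_assoc, CharTwo.add_self_eq_zero, CharTwo.add_self_eq_zero, add_zero,
        add_zero]
    calc b * zz hn p q * b⁻¹ * (b * zz hn (τ c) (τ d) * b⁻¹) = b * (zz hn p q * zz hn (τ c) (τ d)) * b⁻¹ := by group
      _ = _ := by rw [h3]
  rw [mul_inv_eq_iff_eq_mul, ← hc]
  calc ι (b * zz hn c d * b⁻¹) * y = ι A * (y * ι (b * zz hn c d * b⁻¹) * y⁻¹) * y := by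
        rw [h1, ← map_mul, h2]
    _ = ι A * y * ι (b * zz hn c d * b⁻¹) := by group

/-- (D) -/
theorem mem_der {A : Sy n F} (hA : A ∈ Zz hn) (hc : ι A * y = y * ι A) :
    ι A ∈ ⁅(Up n F).map ι ⊓ Subgroup.centralizer ({y} : Set G), (Up n F).map ι ⊓ Subgroup.centralizer ({y} : Set G)⁆ := by
  obtain ⟨p, q, e, hp, hq⟩ := N.exists_param hA hc
  have key : ∀ B ∈ Up n F, rho n F B = fa n τ * rho n F B * (fa n τ)⁻¹ →
      ι (b * B * b⁻¹) ∈ (Up n F).map ι ⊓ Subgroup.centralizer ({y} : Set G) := by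
    intro B hB h
    exact ⟨⟨_, N.bUp hB, rfl⟩, Subgroup.mem_centralizer_singleton_iff.2 (N.comm_of h)⟩
  have hpq : τ (p + q) = p + q := by rw [map_add, hp, hq]
  have h02 : c0 hn < c2 hn := by show 0 < 2; omega
  have h12 : c1 hn < c2 hn := by show 1 < 2; omega
  have h01 : c0 hn < c1 hn := by show 0 < 1; omega
  have k1 := key _ (sx_mem_Up (c0 hn) (c2 hn) (p + q)) (by
    conv_lhs => rw [← hpq]
    exact fa_sx τ _ _ _)
  have k2 := key _ (sx_mem_Up' h12 (1 : F)) (by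
    conv_lhs => rw [← map_one τ]
    exact fa_sx τ _ _ _)
  have k3 := key _ (sy_mem_Up (c1 hn) q) (by
    conv_lhs => rw [← hq]
    exact fa_sy τ _ _)
  have k4 := key _ (sx_mem_Up' h01 (1 : F)) (by
    conv_lhs => rw [← map_one τ]
    exact fa_sx τ _ _ _)
  have h1 := mul_mem (Subgroup.commutator_mem_commutator k1 k2) (Subgroup.commutator_mem_commutator k3 k4)
  have h2 : ι A = ⁅ι (b * sx (Sum.inl (c0 hn)) (Sum.inl (c2 hn)) (p + q) * b⁻¹),
      ι (b * sx (Sum.inl (c1 hn)) (Sum.inr (c2 hn)) 1 * b⁻¹)⁆ *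
      ⁅ι (b * sy (Sum.inl (c1 hn)) q * b⁻¹), ι (b * sx (Sum.inl (c0 hn)) (Sum.inr (c1 hn)) 1 * b⁻¹)⁆ := by
    rw [← map_commutatorElement, ← map_commutatorElement, ← map_mul, e, zz_eq_comm hn p q]
    congr 1
    simp only [commutatorElement_def]
    group
  rw [h2]
  exact h1

/-- (B), linear elements -/
theorem cent_lin {u : G} (hu : u ∈ T) (hl : D.lf hn ⟨u, D.hT hu⟩ = 1) (huy : u * y = y * u)
    (hc : ∀ A ∈ Up n F, ι A * y = y * ι A → ι A * u = u * ι A) :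
    ∃ r ∈ Subgroup.zpowers v, ∃ A ∈ Zz hn, ι A * y = y * ι A ∧ u = r * ι A := by
  obtain ⟨A, hA, r, hr, e, hs⟩ := D.mem_UR hn hu hl
  have hrA : u = r * ι A := by rw [e, D.QK hr]
  have key : ∀ B ∈ Up n F, rho n F B = fa n τ * rho n F B * (fa n τ)⁻¹ → Commute (b⁻¹ * A * b) B := by
    intro B hB h
    have h1 := hc _ (N.bUp hB) (N.comm_of h)
    have h2 : Commute (b * B * b⁻¹) A := by
      apply D.inj
      rw [map_mul ι (b * B * b⁻¹) A, map_mul ι A (b * B * b⁻¹)]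
      have h3 : ι (b * B * b⁻¹) * (ι A * r) = ι A * r * ι (b * B * b⁻¹) := by rw [← e]; exact h1
      have h4 : ι A * r * ι (b * B * b⁻¹) = ι A * ι (b * B * b⁻¹) * r := by
        rw [mul_assoc, ← D.QK hr, ← mul_assoc]
      rw [h4, ← mul_assoc] at h3
      exact mul_right_cancel h3
    show b⁻¹ * A * b * B = B * (b⁻¹ * A * b)
    calc b⁻¹ * A * b * B = b⁻¹ * (A * (b * B * b⁻¹)) * b := by group
      _ = b⁻¹ * ((b * B * b⁻¹) * A) * b := by rw [h2.eq]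
      _ = B * (b⁻¹ * A * b) := by group
  obtain ⟨p, q, hpq⟩ := exists_Z_of_comm hn (A := b⁻¹ * A * b)
    (fun i => key _ (sy_mem_Up i 1) (by conv_lhs => rw [← map_one τ]
                                        exact fa_sy τ _ _))
    (fun i j hij => key _ (sx_mem_Up' hij 1) (by conv_lhs => rw [← map_one τ]
                                                 exact fa_sx τ _ _ _))
  have hAZ : A ∈ Zz hn := by
    have h1 := N.bZ (A := zz hn p q) ⟨p, q, rfl⟩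
    rw [← hpq] at h1
    have e1 : b * (b⁻¹ * A * b) * b⁻¹ = A := by group
    rwa [e1] at h1
  refine ⟨r, hr, A, hAZ, ?_, hrA⟩
  -- uniqueness of the decomposition
  obtain ⟨A', -, eA'⟩ := D.conj_U N.yT hA
  have hyr : y * r * y⁻¹ ∈ Subgroup.zpowers v := by
    apply D.mem_R_of_sH hn (g := ⟨y * r * y⁻¹, D.hT (mul_mem (mul_mem N.yT (D.RT hr)) (inv_mem N.yT))⟩)
    have h1 : D.sH hn ⟨y * r * y⁻¹, D.hT (mul_mem (mul_mem N.yT (D.RT hr)) (inv_mem N.yT))⟩ =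
        D.sH hn ⟨y, D.hT N.yT⟩ * D.sH hn ⟨r, D.hT (D.RT hr)⟩ * (D.sH hn ⟨y, D.hT N.yT⟩)⁻¹ := by
      rw [← map_mul, ← map_inv, ← map_mul]; rfl
    rw [h1, D.sH_R hn (r := ⟨r, D.hT (D.RT hr)⟩) hr]; group
  have h2 : r * ι A = (y * r * y⁻¹) * ι A' := by
    rw [← eA', ← hrA]
    have h3 : y * u * y⁻¹ = u := by rw [← huy]; group
    calc u = y * u * y⁻¹ := h3.symm
      _ = y * r * y⁻¹ * (y * ι A * y⁻¹) := by rw [hrA]; group
  have h4 : ι (A * A'⁻¹) ∈ Subgroup.zpowers v := by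
    have : ι (A * A'⁻¹) = r⁻¹ * (y * r * y⁻¹) := by
      rw [map_mul, map_inv]
      calc ι A * (ι A')⁻¹ = r⁻¹ * (r * ι A) * (ι A')⁻¹ := by group
        _ = r⁻¹ * (y * r * y⁻¹) := by rw [h2]; group
    rw [this]
    exact mul_mem (inv_mem hr) hyr
  have h5 : A = A' := mul_inv_eq_one.1 (D.KR (by omega : 1 ≤ n) h4)
  rw [← h5, mul_inv_eq_iff_eq_mul] at eA'
  exact eA'.symm

/-- (B) -/
theorem cent {u : G} (hu : u ∈ T) (huy : u * y = y * u)
    (hc : ∀ A ∈ Up n F, ι A * y = y * ι A → ι A * u = u * ι A) :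
    ∃ r ∈ Subgroup.zpowers v, ∃ A ∈ Zz hn, ι A * y = y * ι A ∧ (u = r * ι A ∨ u = y * r * ι A) := by
  have h1 : D.lf hn ⟨u, D.hT hu⟩ = 1 ∨ D.lf hn ⟨u, D.hT hu⟩ = τ := by
    apply eq_one_or_eq N.τ2 N.τ1
    obtain ⟨d, hd⟩ := D.tri hn hu
    obtain ⟨k, hk⟩ := N.tri
    set s : Equiv.Perm (Ix n → F) := (rho n F b)⁻¹ * D.sH hn ⟨u, D.hT hu⟩ * rho n F b with hs
    have hsi : SI s (D.lf hn ⟨u, D.hT hu⟩) := by
      have h2 := ((SI.of_rho b).inv'.mul' (D.si hn ⟨u, D.hT hu⟩)).mul' (SI.of_rho b)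
      rwa [inv_one, one_mul, mul_one] at h2
    obtain ⟨e, he⟩ : ∃ e, Tri s e :=
      ⟨_, Tri.mul ((SI.of_rho b).inv'.mul' (D.si hn ⟨u, D.hT hu⟩))
        (Tri.mul (SI.of_rho b).inv' (Tri.inv (SI.of_rho b) hk).1 hd) hk⟩
    have key : ∀ a, τ a = a → e (c0 hn) ^ 2 * D.lf hn ⟨u, D.hT hu⟩ a = a := by
      intro a ha
      have h3 : rho n F (zz hn 0 a) = fa n τ * rho n F (zz hn 0 a) * (fa n τ)⁻¹ := by
        conv_lhs => rw [← ha, ← map_zero τ]
        exact fa_zz hn τ _ _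
      have h4 := hc _ (N.bUp (zz_mem_Up hn 0 a)) (N.comm_of h3)
      have h5 : u * ι (b * zz hn 0 a * b⁻¹) * u⁻¹ = ι (b * zz hn 0 a * b⁻¹) := by rw [← h4]; group
      have h6 := (D.acts hn ⟨u, D.hT hu⟩).rho_eq D.inj h5
      have h7 : rho n F (zz hn 0 a) = s * rho n F (zz hn 0 a) * s⁻¹ := by
        rw [map_mul, map_mul, map_inv] at h6
        rw [hs]
        calc rho n F (zz hn 0 a) = (rho n F b)⁻¹ * (rho n F b * rho n F (zz hn 0 a) * (rho n F b)⁻¹) * rho n F b := by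
              group
          _ = _ := by rw [h6]; group
      have h8 := (he.conj_zz hn hsi 0 a).trans h7.symm
      exact (zz_inj hn (rho_injective h8)).2
    have h9 : e (c0 hn) ^ 2 = 1 := by
      have := key 1 (map_one τ)
      rwa [map_one, mul_one] at this
    intro a ha
    have h10 := key a ha
    rwa [h9, one_mul] at h10
  rcases h1 with h1 | h1
  · obtain ⟨r, hr, A, hA, hAy, e⟩ := N.cent_lin hu h1 huy hc
    exact ⟨r, hr, A, hA, hAy, Or.inl e⟩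
  · have hu' : u * y⁻¹ ∈ T := mul_mem hu (inv_mem N.yT)
    have h2 : D.lf hn ⟨u * y⁻¹, D.hT hu'⟩ = 1 := by
      have h3 : D.lf hn ⟨u * y⁻¹, D.hT hu'⟩ = D.lf hn ⟨u, D.hT hu⟩ * (D.lf hn ⟨y, D.hT N.yT⟩)⁻¹ := by
        rw [← map_inv, ← map_mul]; rfl
      rw [h3, h1, N.lf, mul_inv_cancel]
    obtain ⟨r, hr, A, hA, hAy, e⟩ := N.cent_lin hu' h2 (by rw [inv_mul_cancel_right, ← mul_assoc, ← huy]; group)
      (fun A hA hAy => by
        have h3 := hc A hA hAy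
        have h4 : ι A * y⁻¹ = y⁻¹ * ι A := by
          rw [mul_inv_eq_iff_eq_mul, mul_assoc, hAy]; group
        rw [← mul_assoc, h3, mul_assoc, h4, ← mul_assoc])
    refine ⟨y⁻¹ * r * y, ?_, A, hA, hAy, Or.inr ?_⟩
    · have hy' := inv_mem N.yT
      apply D.mem_R_of_sH hn (g := ⟨y⁻¹ * r * y, D.hT (mul_mem (mul_mem hy' (D.RT hr)) N.yT)⟩)
      have h1 : D.sH hn ⟨y⁻¹ * r * y, D.hT (mul_mem (mul_mem hy' (D.RT hr)) N.yT)⟩ =
          (D.sH hn ⟨y, D.hT N.yT⟩)⁻¹ * D.sH hn ⟨r, D.hT (D.RT hr)⟩ * (D.sH hn ⟨y, D.hT N.yT⟩) := by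
        rw [← map_inv, ← map_mul, ← map_mul]; rfl
      rw [h1, D.sH_R hn (r := ⟨r, D.hT (D.RT hr)⟩) hr]; group
    · have h3 : u = r * ι A * y := by rw [← e]; group
      rw [h3, mul_assoc, hAy]; group

end NF

end Cfsg.Agent.OddHalf.SpN.Out

end

-- merged: Cfsg.Agent.OddHalf.SpN.OutFr
section

/-!
# D7, `K = Sp_2n(q)`, `q` even, `q ≥ 4`: the frame `Fr` and the field part `Fld` (helper979)

* `exists_T`: from `Front.FE.Start0` a Sylow 2-subgroup `T` of `C(t)` with `T ∩ K = ι(Up)`: `DatT ι t v T`;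
* `DatT.fr`: `Defs.Fr t v K U Z T`, `U = ι(Up)`, `Z = ι(Zz) = X_12 Y_1`;
* `DatT.exists_fld`: `Defs.Fld`;
* `DatT.hrep`: the hypothesis of `TransMin.lf_eq_one_of`.
-/

set_option autoImplicit false

namespace Cfsg.Agent.OddHalf.SpN.Out

open Cfsg Cfsg.Agent.ClassicalGeometry.SympBasic Cfsg.Agent.ClassicalGeometry.SympAutSemi
open Cfsg.Agent.OddHalf.SpN Cfsg.Agent.OddHalf.D7Out
open scoped Matrix commutatorElement

universe u w

variable {n : ℕ} {F : Type u} [Field F] [CharP F 2] [Finite F]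

omit [CharP F 2] [Finite F] in
theorem dat_of {G : Type w} [Group G] {ι : Sy n F →* G} (hι : Function.Injective ι) {t v : G}
    (S : Front.FE.Start0 ι.range t v) : Dat ι t v where
  inj := hι
  tt := S.tt
  t1 := S.t1
  tQ := S.tQ
  pQ := S.pQ
  qK := fun A => S.qK _ ⟨A, rfl⟩
  nK := S.nK
  cK := fun c hc h => S.cK c hc (by rintro _ ⟨A, rfl⟩; exact h A)

theorem exists_T {G : Type w} [Group G] [Finite G] {ι : Sy n F →* G} (hι : Function.Injective ι) {t v : G}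
    (S : Front.FE.Start0 ι.range t v) : ∃ T : Subgroup G, DatT ι t v T := by
  obtain ⟨T, pT, vT, tc, max, e⟩ := FrOf.exists_T S (U₀ := (Up n F).map ι) (isPGroup_Up.map ι)
    (Subgroup.map_le_range ι _) (by
      intro P hP hU hPK
      have h1 : P.comap ι ≤ Up n F := by
        apply Up_max
        · exact hP.comap_of_injective ι hι
        · exact Subgroup.map_le_iff_le_comap.1 hU
      rw [← Subgroup.map_comap_eq_self hPK]
      exact Subgroup.map_mono h1)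
  exact ⟨T, { dat_of hι S with pT := pT, vT := vT, tc := tc, max := max, U_eq := e.symm }⟩

namespace DatT

variable {G : Type w} [Group G] {ι : Sy n F →* G} {t v : G} {T : Subgroup G} (D : DatT ι t v T) (hn : 3 ≤ n)

include D

/-- the action of `T` on `Z` -/
theorem conj_zz {x : G} (hx : x ∈ T) {d : Fin n → F} (hd : Tri (D.sH hn ⟨x, D.hT hx⟩) d) (a b : F) :
    x * ι (zz hn a b) * x⁻¹ = ι (zz hn (d (c0 hn) * d (c1 hn) * D.lf hn ⟨x, D.hT hx⟩ a)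
      (d (c0 hn) ^ 2 * D.lf hn ⟨x, D.hT hx⟩ b)) :=
  (D.acts hn ⟨x, D.hT hx⟩).eq (hd.conj_zz hn (D.si hn _) a b)

/-- `C_T(Y_1)` acts linearly -/
theorem lf_of_Y {x : G} (hx : x ∈ T) (h : ∀ b, x * ι (zz hn 0 b) = ι (zz hn 0 b) * x) :
    D.lf hn ⟨x, D.hT hx⟩ = 1 := by
  obtain ⟨d, hd⟩ := D.tri hn hx
  have key : ∀ b, d (c0 hn) ^ 2 * D.lf hn ⟨x, D.hT hx⟩ b = b := by
    intro b
    have h1 := D.conj_zz hn hx hd 0 b
    rw [h, mul_inv_cancel_right] at h1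
    exact ((zz_inj hn (D.inj h1)).2).symm
  have h1 := key 1
  rw [map_one, mul_one] at h1
  ext b
  have h2 := key b
  rw [h1, one_mul] at h2
  exact h2

/-- `C_T(X_12)` acts linearly -/
theorem lf_of_X {x : G} (hx : x ∈ T) (h : ∀ a, x * ι (zz hn a 0) = ι (zz hn a 0) * x) :
    D.lf hn ⟨x, D.hT hx⟩ = 1 := by
  obtain ⟨d, hd⟩ := D.tri hn hx
  have key : ∀ a, d (c0 hn) * d (c1 hn) * D.lf hn ⟨x, D.hT hx⟩ a = a := by
    intro a
    have h1 := D.conj_zz hn hx hd a 0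
    rw [h, mul_inv_cancel_right] at h1
    exact ((zz_inj hn (D.inj h1)).1).symm
  have h1 := key 1
  rw [map_one, mul_one] at h1
  ext b
  have h2 := key b
  rw [h1, one_mul] at h2
  exact h2

/-- **the frame** -/
theorem fr (hq : ∃ c : F, c ≠ 0 ∧ c ≠ 1) : Defs.Fr t v ι.range ((Up n F).map ι) ((Zz hn).map ι) T where
  tt := D.tt
  t1 := D.t1
  pR := D.pQ
  tR := D.tQ
  nK := D.nK
  vK := by rintro _ ⟨A, rfl⟩; exact D.qK A
  cK := fun c hc h => D.cK c hc fun A => h _ ⟨A, rfl⟩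
  KR := by
    rintro _ ⟨A, rfl⟩ h
    rw [D.KR (by omega : 1 ≤ n) h, map_one]
  pT := D.pT
  vT := D.vT
  tc := D.tc
  max := D.max
  U_eq := D.U_eq
  ZU := Subgroup.map_mono (Zz_le hn)
  Zc := by
    rintro _ ⟨_, ⟨a, b, rfl⟩, rfl⟩ _ ⟨B, hB, rfl⟩
    rw [← map_mul, ← map_mul, (comm_Z hn hB a b).eq]
  Zsq := by
    rintro _ ⟨_, ⟨a, b, rfl⟩, rfl⟩
    rw [← map_mul, zz_mul, CharTwo.add_self_eq_zero, CharTwo.add_self_eq_zero, zz_zero, map_one]
  Z1 := by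
    intro h
    have h1 : ι (zz hn 1 0) ∈ (Zz hn).map ι := ⟨_, ⟨1, 0, rfl⟩, rfl⟩
    rw [h, Subgroup.mem_bot, ← map_one ι, ← zz_zero hn] at h1
    exact one_ne_zero (zz_inj hn (D.inj h1)).1
  cU := by
    intro x hx h
    have hl : D.lf hn ⟨x, D.hT hx⟩ = 1 := D.lf_of_Y hn hx fun b => h _ ⟨_, zz_mem_Up hn 0 b, rfl⟩
    obtain ⟨A, hA, r, hr, e, -⟩ := D.mem_UR hn hx hl
    refine ⟨r, hr, ι A, ⟨A, ?_, rfl⟩, by rw [e, D.QK hr]⟩
    show A ∈ Zz hn
    rw [mem_Zz_iff]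
    intro B hB
    apply D.inj
    have h1 := h _ ⟨B, hB, rfl⟩
    rw [e, mul_assoc, ← D.QK hr, ← mul_assoc, ← mul_assoc] at h1
    rw [map_mul, map_mul]
    exact (mul_right_cancel h1).symm
  nconj := by
    rintro _ ⟨_, ⟨a, b, rfl⟩, rfl⟩ g
    exact D.nconj hn hq g

end DatT

/-! ### the field part -/

/-- the group of field automorphisms is commutative -/
@[reducible] noncomputable def autGroup (F : Type u) [Field F] [Finite F] : CommGroup (F ≃+* F) :=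
  { (inferInstance : Group (F ≃+* F)) with mul_comm := aut_comm }

theorem exists_odd (F : Type u) [Field F] [Finite F] : ∃ k m : ℕ, Odd m ∧ ∀ x : F ≃+* F, x ^ (2 ^ k * m) = 1 := by
  have : Finite (F ≃+* F) := DFunLike.finite (F ≃+* F)
  obtain ⟨k, m, hm, h⟩ := Nat.exists_eq_two_pow_mul_odd (Nat.card_pos (α := F ≃+* F)).ne'
  exact ⟨k, m, hm, fun x => by rw [← h, pow_card_eq_one']⟩

/-- the involution is unique -/
theorem aut_unique (F : Type u) [Field F] [Finite F] {x y : F ≃+* F} (hx : x ≠ 1) (hx2 : x * x = 1) (hy : y ≠ 1)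
    (hy2 : y * y = 1) : x = y := by
  classical
  have hc : IsCyclic (F ≃+* F) := Cfsg.Agent.LieRecognition.FieldSemilinear.isCyclic_ringAut F
  have : Finite (F ≃+* F) := DFunLike.finite (F ≃+* F)
  have : Fintype (F ≃+* F) := Fintype.ofFinite _
  by_contra hne
  have h1 := IsCyclic.card_pow_eq_one_le (α := F ≃+* F) (n := 2) (by norm_num)
  have h2 : ({1, x, y} : Finset (F ≃+* F)) ⊆ Finset.univ.filter fun a => a ^ 2 = 1 := by
    intro a ha
    rw [Finset.mem_insert, Finset.mem_insert, Finset.mem_singleton] at ha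
    rw [Finset.mem_filter]
    refine ⟨Finset.mem_univ _, ?_⟩
    rcases ha with rfl | rfl | rfl
    · exact one_pow 2
    · rw [pow_two, hx2]
    · rw [pow_two, hy2]
  have h3 : ({1, x, y} : Finset (F ≃+* F)).card = 3 := by
    rw [Finset.card_insert_of_notMem, Finset.card_insert_of_notMem, Finset.card_singleton]
    · rw [Finset.mem_singleton]; exact hne
    · rw [Finset.mem_insert, Finset.mem_singleton]
      rintro (h | h)
      · exact hx h.symm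
      · exact hy h.symm
  have h4 := Finset.card_le_card h2
  omega

theorem eq_one_of_odd_pow {H : Type*} [Group H] {x : H} {m j : ℕ} (hm : Odd m) (h1 : x ^ m = 1) (h2 : x ^ 2 ^ j = 1) :
    x = 1 := by
  have h3 := orderOf_dvd_of_pow_eq_one h1
  have h4 := orderOf_dvd_of_pow_eq_one h2
  have h5 : Nat.Coprime m (2 ^ j) := Nat.Coprime.pow_right _ (Nat.coprime_two_right.2 hm)
  have h6 := Nat.eq_one_of_dvd_coprimes h5 h3 h4
  exact orderOf_eq_one_iff.1 h6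

namespace DatT

variable {G : Type w} [Group G] [Finite G] {ι : Sy n F →* G} {t v : G} {T : Subgroup G} (D : DatT ι t v T) (hn : 3 ≤ n)

include D

/-- **the field part**. `lf x = 1 ↔ x` acts linearly, `x ∈ T`. -/
theorem exists_fld (hq : ∃ c : F, c ≠ 0 ∧ c ≠ 1) :
    ∃ (A : Type u) (_ : CommGroup A) (lf : Subgroup.centralizer ({t} : Set G) →* A),
      Defs.Fld (D.fr hn hq) lf D.hT ∧
      ∀ x (hx : x ∈ T), lf ⟨x, D.hT hx⟩ = 1 ↔ D.lf hn ⟨x, D.hT hx⟩ = 1 := by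
  obtain ⟨k, m, hm, hkm⟩ := exists_odd F
  let cg : CommGroup (F ≃+* F) := autGroup F
  let f : Subgroup.centralizer ({t} : Set G) →* (F ≃+* F) :=
    { toFun := fun x => D.lf hn x ^ m
      map_one' := by rw [map_one, one_pow]
      map_mul' := fun x y => by
        rw [map_mul]
        exact (show Commute (D.lf hn x) (D.lf hn y) from aut_comm _ _).mul_pow m }
  have hf : ∀ x, f x = D.lf hn x ^ m := fun _ => rfl
  have key : ∀ x (hx : x ∈ T), f ⟨x, D.hT hx⟩ = 1 ↔ D.lf hn ⟨x, D.hT hx⟩ = 1 := by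
    intro x hx
    rw [hf]
    constructor
    · intro h
      obtain ⟨j, hj⟩ := D.pT ⟨x, hx⟩
      refine eq_one_of_odd_pow hm h (j := j) ?_
      rw [← map_pow]
      have e : (⟨x, D.hT hx⟩ : Subgroup.centralizer ({t} : Set G)) ^ 2 ^ j = 1 :=
        Subtype.ext (show x ^ 2 ^ j = 1 from congrArg (fun z : ↥T => (z : G)) hj)
      rw [e, map_one]
    · intro h; rw [h, one_pow]
  have good : ∀ {y : G}, Defs.GoodY (v := v) f D.hT y → GY D hn y := by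
    rintro y ⟨hy, h1, h2, h3⟩
    refine ⟨hy, fun h => h1 ((key y hy).2 h), ?_, h3⟩
    have h4 : f ⟨y * y, D.hT (mul_mem hy hy)⟩ = 1 := by
      rw [← h2, ← map_mul]; rfl
    have h5 := (key _ (mul_mem hy hy)).1 h4
    rw [← h5, ← map_mul]; rfl
  refine ⟨F ≃+* F, cg, f, ?_, key⟩
  constructor
  · rintro ⟨x, hx⟩ ⟨A, rfl⟩
    rw [hf, D.lf_iota, one_pow]
  · intro x hx
    rw [hf, D.lf_R hn hx, one_pow]
  · intro x
    refine ⟨k, ?_⟩
    rw [hf, ← pow_mul, mul_comm, hkm]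
  · intro x y hx hx2 hy hy2
    exact aut_unique F hx hx2 hy hy2
  · intro y hy h1 h2
    have h3 : D.lf hn ⟨y, D.hT hy⟩ ≠ 1 := fun h => h1 ((key y hy).2 h)
    have h4 : D.lf hn ⟨y, D.hT hy⟩ * D.lf hn ⟨y, D.hT hy⟩ = 1 := by
      have h4 : f ⟨y * y, D.hT (mul_mem hy hy)⟩ = 1 := by
        rw [← h2, ← map_mul]; rfl
      have h5 := (key _ (mul_mem hy hy)).1 h4
      rw [← h5, ← map_mul]; rfl
    obtain ⟨y', g, hl, ho⟩ := GY.exists D hn hy h3 h4
    refine ⟨y', ⟨g.yT, ?_, ?_, g.R⟩, ho⟩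
    · rw [hf, hl, ← hf]; exact h1
    · rw [hf, hl, ← hf]; exact h2
  · intro y hy u hu huy hc
    obtain ⟨b, N⟩ := (good hy).nf
    obtain ⟨r, hr, A, hA, hAy, h⟩ := N.cent hu huy fun A hA hAy => hc _ ⟨A, hA, rfl⟩ hAy
    exact ⟨r, hr, ι A, ⟨A, hA, rfl⟩, hAy, h⟩
  · rintro y hy _ ⟨A, hA, rfl⟩ hc
    obtain ⟨b, N⟩ := (good hy).nf
    obtain ⟨B, hB, e⟩ := N.exists_conj hA hc
    exact ⟨ι B, ⟨B, hB, rfl⟩, e⟩
  · rintro y hy _ ⟨A, hA, rfl⟩ hc
    obtain ⟨b, N⟩ := (good hy).nf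
    exact N.mem_der hA hc

end DatT

end Cfsg.Agent.OddHalf.SpN.Out

end
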