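import Mathlib
import Cfsg.Agent.OddHalf.SpN.Cent
import Cfsg.Agent.PermutationGroups.TwoTransitiveNormal
import Cfsg.Agent.S0050
import Cfsg.Agent.SignalizersComponents.CoprimeBasic
import Cfsg.Agent.OddHalf.SpN.Dbl

-- merged: Cfsg.Agent.OddHalf.SpN.WExist
section

/-!
# ODD D7, `K = Sp_2n(q)`: the double of a root group (section 2 of `blueprints/ODD-D7-Sp-helper297.md`)

`Loc t x h χ` : `x : F → G` a root group commuting with the involution `t`, `h : A → G` a torus acting on it with the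
character `χ`; `F1c`: `C(t) ∩ C(h(ker χ)) ∩ C(X) = ⟨t⟩ X h(ker χ)`; `mv`: every `t x(u)` is a conjugate of `t` under
`C(h(ker χ)) ∩ C(X)`.

`Dbl t x h χ` is the (canonical) double of `X`: `Loc.exists_w` gives coordinates `w : F → G`.
-/

set_option autoImplicit false

namespace Cfsg.Agent.OddHalf.SpN.WExist

open Subgroup

variable {F : Type*} [Field F] {G : Type*} [Group G] {A : Type*} [CommGroup A]

/-- the data of a root group -/
structure Loc (t : G) (x : F → G) (h : A →* G) (χ : A →* Fˣ) : Prop where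
  two : ∀ a : F, a + a = 0
  tt : t * t = 1
  x_add : ∀ u v, x (u + v) = x u * x v
  x_one : ∀ u, x u = 1 → u = 0
  tx : ∀ u, Commute t (x u)
  ne : ∀ u, x u ≠ t
  ht : ∀ a, Commute (h a) t
  hx : ∀ a u, h a * x u * (h a)⁻¹ = x (χ a * u)
  surj : Function.Surjective χ
  big : ∃ c : F, c ≠ 0 ∧ c ≠ 1
  exp : ∃ N : ℕ, Odd N ∧ ∀ a, h a ^ N = 1
  F1c : ∀ g, Commute g t → (∀ a, χ a = 1 → Commute g (h a)) → (∀ u, Commute g (x u)) →
    ∃ u a, χ a = 1 ∧ (g = x u * h a ∨ g = t * (x u * h a))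
  mv : ∀ u, ∃ g, (∀ a, χ a = 1 → Commute g (h a)) ∧ (∀ v, Commute g (x v)) ∧ g * t * g⁻¹ = t * x u

/-- `C(X) ∩ C(ker χ)`, moving `t` to `t x(u)` -/
def Mv (t : G) (x : F → G) (h : A →* G) (χ : A →* Fˣ) (g : G) (u : F) : Prop :=
  (∀ a, χ a = 1 → Commute g (h a)) ∧ (∀ v, Commute g (x v)) ∧ g * t * g⁻¹ = t * x u

/-- the 2-elements -/
def Bs (t : G) (x : F → G) (h : A →* G) (χ : A →* Fˣ) (b : G) (u : F) : Prop :=
  Mv t x h χ b u ∧ ∃ v, b * b = x v

/-- the double of `X` -/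
def Dbl (t : G) (x : F → G) (h : A →* G) (χ : A →* Fˣ) : Subgroup G :=
  closure ({g | ∃ u, g = x u} ∪ {g | ∃ b u, Bs t x h χ b u ∧ ∃ a, g = b⁻¹ * (h a * b * (h a)⁻¹)})

namespace Loc

variable {t : G} {x : F → G} {h : A →* G} {χ : A →* Fˣ}

theorem x_zero (L : Loc t x h χ) : x 0 = 1 := by
  have := L.x_add 0 0
  rw [add_zero] at this
  exact left_eq_mul.1 this

theorem x_sq (L : Loc t x h χ) (a : F) : x a * x a = 1 := by
  rw [← L.x_add, L.two, L.x_zero]

theorem x_inv (L : Loc t x h χ) (a : F) : (x a)⁻¹ = x a :=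
  inv_eq_of_mul_eq_one_left (L.x_sq a)

theorem t_inv (L : Loc t x h χ) : t⁻¹ = t := inv_eq_of_mul_eq_one_left L.tt

theorem x_inj (L : Loc t x h χ) {a b : F} (e : x a = x b) : a = b := by
  have h2 : x (a + b) = 1 := by rw [L.x_add, e, L.x_sq]
  have h3 := L.x_one _ h2
  calc a = a + (b + b) := by rw [L.two, add_zero]
    _ = (a + b) + b := by ring
    _ = b := by rw [h3, zero_add]

theorem xx (L : Loc t x h χ) (a b : F) : Commute (x a) (x b) := by
  show x a * x b = x b * x a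
  rw [← L.x_add, ← L.x_add, add_comm]

/-- odd order elements -/
theorem h_one_of_sq (L : Loc t x h χ) {a : A} (e : h a * h a = 1) : h a = 1 := by
  obtain ⟨N, ⟨k, hk⟩, hN⟩ := L.exp
  have h1 := hN a
  rw [hk, pow_succ, pow_mul, pow_two, e, one_pow, one_mul] at h1
  exact h1

theorem h_one_of_x (L : Loc t x h χ) {a : A} {u : F} (e : h a * h a = x u) : h a = 1 := by
  apply L.h_one_of_sq
  have h1 : h (a * a) = 1 := by
    apply L.h_one_of_sq
    rw [map_mul, e, L.x_sq]
  rwa [map_mul] at h1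

theorem mv_unique (L : Loc t x h χ) {g : G} {u v : F} (h1 : Mv t x h χ g u) (h2 : Mv t x h χ g v) : u = v := by
  have := h1.2.2.symm.trans h2.2.2
  exact L.x_inj (mul_left_cancel this)

theorem mv_one (L : Loc t x h χ) : Mv t x h χ 1 0 :=
  ⟨fun _ _ => Commute.one_left _, fun _ => Commute.one_left _, by rw [L.x_zero]; group⟩

theorem mv_mul (L : Loc t x h χ) {g g' : G} {u v : F} (h1 : Mv t x h χ g u) (h2 : Mv t x h χ g' v) :
    Mv t x h χ (g * g') (u + v) := by
  refine ⟨fun a ha => (h1.1 a ha).mul_left (h2.1 a ha), fun w => (h1.2.1 w).mul_left (h2.2.1 w), ?_⟩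
  calc g * g' * t * (g * g')⁻¹ = g * (g' * t * g'⁻¹) * g⁻¹ := by group
    _ = g * (t * x v) * g⁻¹ := by rw [h2.2.2]
    _ = (g * t * g⁻¹) * (g * x v * g⁻¹) := by group
    _ = t * x u * x v := by rw [h1.2.2, (h1.2.1 v).eq]; group
    _ = t * x (u + v) := by rw [L.x_add, mul_assoc]

theorem mv_inv (L : Loc t x h χ) {g : G} {u : F} (h1 : Mv t x h χ g u) : Mv t x h χ g⁻¹ u := by
  refine ⟨fun a ha => (h1.1 a ha).inv_left, fun w => (h1.2.1 w).inv_left, ?_⟩
  have e := h1.2.2
  have e2 : t = g⁻¹ * (t * x u) * g := by rw [← e]; group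
  have e3 : g⁻¹ * x u * g = x u := by rw [mul_assoc, ← (h1.2.1 u).eq]; group
  calc g⁻¹ * t * g⁻¹⁻¹ = g⁻¹ * (t * x u) * g * (g⁻¹ * x u * g)⁻¹ := by group
    _ = t * (x u)⁻¹ := by rw [e3, ← e2]
    _ = t * x u := by rw [L.x_inv]

theorem mv_h (L : Loc t x h χ) {g : G} {u : F} (h1 : Mv t x h χ g u) (a : A) :
    Mv t x h χ (h a * g * (h a)⁻¹) (χ a * u) := by
  have hh : ∀ a b : A, Commute (h a) (h b) := fun a b => by
    show h a * h b = h b * h a
    rw [← map_mul, ← map_mul, mul_comm]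
  refine ⟨fun b hb => ?_, fun w => ?_, ?_⟩
  · exact ((hh a b).mul_left (h1.1 b hb)).mul_left (hh a b).inv_left
  · have e := L.hx a⁻¹ w
    rw [map_inv, inv_inv] at e
    have e2 := (h1.2.1 (((χ a⁻¹ : Fˣ) : F) * w)).eq
    show h a * g * (h a)⁻¹ * x w = x w * (h a * g * (h a)⁻¹)
    calc h a * g * (h a)⁻¹ * x w = h a * (g * ((h a)⁻¹ * x w * h a)) * (h a)⁻¹ := by group
      _ = h a * (((h a)⁻¹ * x w * h a) * g) * (h a)⁻¹ := by rw [e, e2]
      _ = x w * (h a * g * (h a)⁻¹) := by group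
  · have e := (L.ht a).eq
    calc h a * g * (h a)⁻¹ * t * (h a * g * (h a)⁻¹)⁻¹ = h a * g * ((h a)⁻¹ * t * h a) * g⁻¹ * (h a)⁻¹ := by group
      _ = h a * g * t * g⁻¹ * (h a)⁻¹ := by
        have : (h a)⁻¹ * t * h a = t := by rw [mul_assoc, ← e]; group
        rw [this]
      _ = h a * (g * t * g⁻¹) * (h a)⁻¹ := by group
      _ = (h a * t) * x u * (h a)⁻¹ := by rw [h1.2.2]; group
      _ = t * (h a * x u * (h a)⁻¹) := by rw [e]; group
      _ = t * x (χ a * u) := by rw [L.hx]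

theorem mv_x (L : Loc t x h χ) (v : F) : Mv t x h χ (x v) 0 := by
  refine ⟨fun a ha => ?_, fun w => L.xx v w, ?_⟩
  · have := L.hx a v
    rw [ha, Units.val_one, one_mul] at this
    show x v * h a = h a * x v
    calc x v * h a = (h a * x v * (h a)⁻¹) * h a := by rw [this]
      _ = h a * x v := by group
  · rw [L.x_zero, mul_one, ← (L.tx v).eq]; group

theorem mv_t (L : Loc t x h χ) : Mv t x h χ t 0 := by
  refine ⟨fun a _ => (L.ht a).symm, fun w => L.tx w, ?_⟩
  rw [L.x_zero]; group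

theorem mv_ha (L : Loc t x h χ) {a : A} (ha : χ a = 1) : Mv t x h χ (h a) 0 := by
  refine ⟨fun b _ => ?_, fun w => ?_, ?_⟩
  · show h a * h b = h b * h a
    rw [← map_mul, ← map_mul, mul_comm]
  · exact ((L.mv_x w).1 a ha).symm
  · rw [L.x_zero, mul_one, (L.ht a).eq]; group

/-- the kernel -/
theorem mv_zero (L : Loc t x h χ) {g : G} (h1 : Mv t x h χ g 0) :
    ∃ u a, χ a = 1 ∧ (g = x u * h a ∨ g = t * (x u * h a)) := by
  apply L.F1c g _ h1.1 h1.2.1
  have := h1.2.2
  rw [L.x_zero, mul_one] at this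
  show g * t = t * g
  calc g * t = g * t * g⁻¹ * g := by group
    _ = t * g := by rw [this]

theorem mv_pow (L : Loc t x h χ) {g : G} {u : F} (h1 : Mv t x h χ g u) {N : ℕ} (hN : Odd N) :
    Mv t x h χ (g ^ N) u := by
  obtain ⟨k, rfl⟩ := hN
  induction k with
  | zero => simpa using h1
  | succ k ih =>
    have e : g ^ (2 * (k + 1) + 1) = g ^ (2 * k + 1) * g * g := by
      rw [mul_assoc, ← pow_two, ← pow_add]; ring_nf
    rw [e]
    have h2 := L.mv_mul (L.mv_mul ih h1) h1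
    have e2 : u + u + u = u := by rw [L.two, zero_add]
    rwa [e2] at h2

/-- the 2-part -/
theorem exists_bs (L : Loc t x h χ) (u : F) : ∃ b, Bs t x h χ b u := by
  by_cases hu : u = 0
  · subst hu
    exact ⟨1, L.mv_one, 0, by rw [L.x_zero, one_mul]⟩
  obtain ⟨g, hg⟩ := L.mv u
  have hg' : Mv t x h χ g u := hg
  obtain ⟨N, hN, hexp⟩ := L.exp
  refine ⟨g ^ N, L.mv_pow hg' hN, ?_⟩
  have h2 := L.mv_mul hg' hg'
  rw [L.two] at h2
  obtain ⟨v, a, ha, e⟩ := L.mv_zero h2
  have hxa : Commute (x v) (h a) := (L.mv_x v).1 a ha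
  have hx1 : x v ^ N = x v := by
    obtain ⟨k, rfl⟩ := hN
    rw [pow_succ, pow_mul, pow_two, L.x_sq, one_pow, one_mul]
  have ht1 : t ^ N = t := by
    obtain ⟨k, rfl⟩ := hN
    rw [pow_succ, pow_mul, pow_two, L.tt, one_pow, one_mul]
  have e1 : g ^ N * g ^ N = (g * g) ^ N := by
    rw [(Commute.refl g).mul_pow]
  rcases e with e | e
  · refine ⟨v, ?_⟩
    rw [e1, e, hxa.mul_pow, hexp, mul_one, hx1]
  · exfalso
    have e3 : g ^ N * g ^ N = t * x v := by
      rw [e1, e, ((L.tx v).mul_right (L.ht a).symm).mul_pow, hxa.mul_pow, hexp, mul_one, hx1, ht1]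
    have h3 := L.mv_pow hg' hN
    have h4 : g ^ N * (t * x v) * (g ^ N)⁻¹ = t * x v := by rw [← e3]; group
    have h5 : g ^ N * (t * x v) * (g ^ N)⁻¹ = t * x u * x v := by
      calc g ^ N * (t * x v) * (g ^ N)⁻¹ = (g ^ N * t * (g ^ N)⁻¹) * (g ^ N * x v * (g ^ N)⁻¹) := by group
        _ = t * x u * x v := by rw [h3.2.2, (h3.2.1 v).eq]; group
    rw [h4, mul_assoc, ← L.x_add] at h5
    have h6 := L.x_inj (mul_left_cancel h5)
    apply hu
    have : u + v = 0 + v := by rw [zero_add]; exact h6.symm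
    exact add_right_cancel this

theorem bs_zero (L : Loc t x h χ) {b : G} (hb : Bs t x h χ b 0) : ∃ v, b = x v ∨ b = t * x v := by
  obtain ⟨h1, v, hv⟩ := hb
  obtain ⟨u, a, ha, e⟩ := L.mv_zero h1
  have hxa : Commute (x u) (h a) := (L.mv_x u).1 a ha
  have key : h a * h a = x v := by
    rcases e with e | e
    · rw [← hv, e]
      calc h a * h a = (x u * x u) * (h a * h a) := by rw [L.x_sq, one_mul]
        _ = x u * (x u * h a) * h a := by group
        _ = x u * (h a * x u) * h a := by rw [hxa.eq]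
        _ = x u * h a * (x u * h a) := by group
    · rw [← hv, e]
      have e1 : Commute t (x u * h a) := (L.tx u).mul_right (L.ht a).symm
      calc h a * h a = (t * t) * (x u * x u) * (h a * h a) := by rw [L.x_sq, L.tt, one_mul, one_mul]
        _ = t * t * (x u * (x u * h a) * h a) := by group
        _ = t * t * (x u * (h a * x u) * h a) := by rw [hxa.eq]
        _ = t * (t * (x u * h a)) * (x u * h a) := by group
        _ = t * ((x u * h a) * t) * (x u * h a) := by rw [e1.eq]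
        _ = t * (x u * h a) * (t * (x u * h a)) := by group
  have h3 := L.h_one_of_x key
  rw [h3, mul_one] at e
  exact ⟨u, e⟩

/-- commutators of 2-elements are in `X` -/
theorem bs_comm (L : Loc t x h χ) {b b' : G} {u u' : F} (hb : Bs t x h χ b u) (hb' : Bs t x h χ b' u') :
    ∃ v, b * b' = x v * (b' * b) := by
  obtain ⟨h1, s, hs⟩ := hb
  obtain ⟨h1', s', hs'⟩ := hb'
  set k := b * b' * b⁻¹ * b'⁻¹ with hk
  have hk0 : Mv t x h χ k 0 := by
    have h2 := L.mv_mul (L.mv_mul (L.mv_mul h1 h1') (L.mv_inv h1)) (L.mv_inv h1')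
    have e : u + u' + u + u' = 0 := by
      calc u + u' + u + u' = (u + u) + (u' + u') := by ring
        _ = 0 := by rw [L.two, L.two, add_zero]
    rwa [e] at h2
  have e1 : k * (b' * k * b'⁻¹) = 1 := by
    have e2 : (k * b') * (k * b') = b' * b' := by
      have : k * b' = b * b' * b⁻¹ := by rw [hk]; group
      rw [this]
      calc b * b' * b⁻¹ * (b * b' * b⁻¹) = b * (b' * b') * b⁻¹ := by group
        _ = b' * b' := by rw [hs', (h1.2.1 s').eq]; group
    calc k * (b' * k * b'⁻¹) = (k * b') * (k * b') * (b' * b')⁻¹ := by group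
      _ = 1 := by rw [e2]; group
  have e1' : b * k * b⁻¹ = k⁻¹ := by
    have e2 : (k⁻¹ * b) * (k⁻¹ * b) = b * b := by
      have : k⁻¹ * b = b' * b * b'⁻¹ := by rw [hk]; group
      rw [this]
      calc b' * b * b'⁻¹ * (b' * b * b'⁻¹) = b' * (b * b) * b'⁻¹ := by group
        _ = b * b := by rw [hs, (h1'.2.1 s).eq]; group
    have e3 : k⁻¹ * (b * k⁻¹ * b⁻¹) = 1 := by
      calc k⁻¹ * (b * k⁻¹ * b⁻¹) = (k⁻¹ * b) * (k⁻¹ * b) * (b * b)⁻¹ := by group
        _ = 1 := by rw [e2]; group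
    have e4 : b * k⁻¹ * b⁻¹ = k := by
      calc b * k⁻¹ * b⁻¹ = k * (k⁻¹ * (b * k⁻¹ * b⁻¹)) := by group
        _ = k := by rw [e3, mul_one]
    calc b * k * b⁻¹ = (b * k⁻¹ * b⁻¹)⁻¹ := by group
      _ = k⁻¹ := by rw [e4]
  obtain ⟨v, a, ha, e⟩ := L.mv_zero hk0
  have hxa : Commute (x v) (h a) := (L.mv_x v).1 a ha
  have hba : b' * h a * b'⁻¹ = h a := by rw [(h1'.1 a ha).eq]; group
  have hbx : b' * x v * b'⁻¹ = x v := by rw [(h1'.2.1 v).eq]; group
  rcases e with e | e
  · have e5 : h a * h a = x 0 := by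
      rw [L.x_zero]
      rw [e] at e1
      calc h a * h a = (x v * x v) * (h a * h a) := by rw [L.x_sq, one_mul]
        _ = x v * (x v * h a) * h a := by group
        _ = x v * (h a * x v) * h a := by rw [hxa.eq]
        _ = x v * h a * ((b' * x v * b'⁻¹) * (b' * h a * b'⁻¹)) := by rw [hba, hbx]; group
        _ = x v * h a * (b' * (x v * h a) * b'⁻¹) := by group
        _ = 1 := e1
    have e6 := L.h_one_of_x e5
    rw [e6, mul_one] at e
    refine ⟨v, ?_⟩
    rw [← e, hk]; group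
  · exfalso
    have hta : Commute t (h a) := (L.ht a).symm
    -- `u' = 0`
    have e5 : h a * h a = x u' := by
      rw [e] at e1
      have e7 : t * (x v * h a) * (b' * (t * (x v * h a)) * b'⁻¹) = x u' * (h a * h a) := by
        calc t * (x v * h a) * (b' * (t * (x v * h a)) * b'⁻¹)
            = t * (x v * h a) * ((b' * t * b'⁻¹) * (b' * x v * b'⁻¹) * (b' * h a * b'⁻¹)) := by group
          _ = t * (x v * h a) * (t * x u' * x v * h a) := by rw [h1'.2.2, hbx, hba]
          _ = t * x v * (h a * t) * x u' * x v * h a := by group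
          _ = t * (x v * t) * h a * x u' * x v * h a := by rw [← hta.eq]; group
          _ = (t * t) * x v * (h a * x u') * x v * h a := by rw [← (L.tx v).eq]; group
          _ = x v * x u' * (h a * x v) * h a := by
            rw [L.tt, one_mul, ← ((L.mv_x u').1 a ha).eq]; group
          _ = (x v * x u') * (x v * h a) * h a := by rw [← hxa.eq]
          _ = (x u' * x v) * (x v * h a) * h a := by rw [(L.xx v u').eq]
          _ = x u' * (x v * x v) * (h a * h a) := by group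
          _ = x u' * (h a * h a) := by rw [L.x_sq, mul_one]
      rw [e7] at e1
      have e8 : h a * h a = (x u')⁻¹ := by
        calc h a * h a = (x u')⁻¹ * (x u' * (h a * h a)) := by group
          _ = (x u')⁻¹ := by rw [e1, mul_one]
      rw [e8, L.x_inv]
    have e6 := L.h_one_of_x e5
    have hu' : u' = 0 := by
      rw [e6, mul_one] at e5
      exact L.x_one _ e5.symm
    rw [e6, mul_one] at e
    have hu : u = 0 := by
      rw [e] at e1'
      have e7 : b * (t * x v) * b⁻¹ = t * x u * x v := by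
        calc b * (t * x v) * b⁻¹ = (b * t * b⁻¹) * (b * x v * b⁻¹) := by group
          _ = t * x u * x v := by rw [h1.2.2, (h1.2.1 v).eq]; group
      have e8 : (t * x v)⁻¹ = t * x v := by
        rw [mul_inv_rev, L.x_inv, L.t_inv, ← (L.tx v).eq]
      rw [e7, e8, mul_assoc, ← L.x_add] at e1'
      have e9 := L.x_inj (mul_left_cancel e1')
      have : u + v = 0 + v := by rw [zero_add]; exact e9
      exact add_right_cancel this
    subst hu hu'
    obtain ⟨p, hp⟩ := L.bs_zero ⟨h1, s, hs⟩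
    obtain ⟨p', hp'⟩ := L.bs_zero ⟨h1', s', hs'⟩
    have hcomm : Commute b b' := by
      rcases hp with rfl | rfl <;> rcases hp' with rfl | rfl
      · exact L.xx _ _
      · exact (L.tx _).symm.mul_right (L.xx _ _)
      · exact (L.tx _).mul_left (L.xx _ _)
      · exact ((Commute.refl t).mul_right (L.tx _)).mul_left ((L.tx _).symm.mul_right (L.xx _ _))
    have hk1 : k = 1 := by rw [hk, hcomm.eq]; group
    rw [e] at hk1
    apply L.ne v
    have : t⁻¹ = x v := inv_eq_of_mul_eq_one_right hk1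
    rw [← this, L.t_inv]

theorem bs_mul (L : Loc t x h χ) {b b' : G} {u u' : F} (hb : Bs t x h χ b u) (hb' : Bs t x h χ b' u') :
    Bs t x h χ (b * b') (u + u') := by
  refine ⟨L.mv_mul hb.1 hb'.1, ?_⟩
  obtain ⟨v, hv⟩ := L.bs_comm hb' hb
  obtain ⟨s, hs⟩ := hb.2
  obtain ⟨s', hs'⟩ := hb'.2
  refine ⟨v + (s + s'), ?_⟩
  have e := (hb.1.2.1 v).eq
  calc b * b' * (b * b') = b * (b' * b) * b' := by group
    _ = (b * x v) * (b * b') * b' := by rw [hv]; group
    _ = x v * (b * b) * (b' * b') := by rw [e]; group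
    _ = x (v + (s + s')) := by rw [hs, hs', L.x_add, L.x_add, mul_assoc]

theorem bs_inv (L : Loc t x h χ) {b : G} {u : F} (hb : Bs t x h χ b u) : Bs t x h χ b⁻¹ u := by
  refine ⟨L.mv_inv hb.1, ?_⟩
  obtain ⟨s, hs⟩ := hb.2
  refine ⟨s, ?_⟩
  rw [← mul_inv_rev, hs, L.x_inv]

theorem bs_h (L : Loc t x h χ) {b : G} {u : F} (hb : Bs t x h χ b u) (a : A) :
    Bs t x h χ (h a * b * (h a)⁻¹) (χ a * u) := by
  refine ⟨L.mv_h hb.1 a, ?_⟩
  obtain ⟨s, hs⟩ := hb.2
  refine ⟨χ a * s, ?_⟩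
  rw [← L.hx, ← hs]; group

theorem bs_x (L : Loc t x h χ) (v : F) : Bs t x h χ (x v) 0 := ⟨L.mv_x v, 0, by rw [L.x_sq, L.x_zero]⟩

theorem bs_t (L : Loc t x h χ) : Bs t x h χ t 0 := ⟨L.mv_t, 0, by rw [L.tt, L.x_zero]⟩

/-- `b⁻¹ b^c` -/
def dl (h : A →* G) (c : A) (b : G) : G := b⁻¹ * (h c * b * (h c)⁻¹)

theorem bs_dl (L : Loc t x h χ) {b : G} {u : F} (hb : Bs t x h χ b u) (c : A) :
    Bs t x h χ (dl h c b) (u + χ c * u) := L.bs_mul (L.bs_inv hb) (L.bs_h hb c)

/-- the group of the `b⁻¹ b^c x` -/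
def Wc (t : G) (x : F → G) (h : A →* G) (χ : A →* Fˣ) (c : A) (g : G) : Prop :=
  ∃ b u v, Bs t x h χ b u ∧ g = dl h c b * x v

theorem wc_bs (L : Loc t x h χ) {c : A} {g : G} (hg : Wc t x h χ c g) : ∃ u, Bs t x h χ g u := by
  obtain ⟨b, u, v, hb, rfl⟩ := hg
  exact ⟨_, L.bs_mul (L.bs_dl hb c) (L.bs_x v)⟩

theorem wc_mul (L : Loc t x h χ) {c : A} {g g' : G} (hg : Wc t x h χ c g) (hg' : Wc t x h χ c g') :
    Wc t x h χ c (g * g') := by
  obtain ⟨b, u, v, hb, rfl⟩ := hg
  obtain ⟨b', u', v', hb', rfl⟩ := hg'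
  -- `δ(b b') = b'⁻¹ δ(b) c(b')`
  obtain ⟨r, hr⟩ := L.bs_comm (L.bs_dl hb c) (L.bs_inv hb')
  refine ⟨b * b', u + u', r + v + v', L.bs_mul hb hb', ?_⟩
  have hd := L.bs_dl hb c
  have hd' := L.bs_dl hb' c
  have e1 : dl h c b * x v * (dl h c b' * x v') = dl h c b * dl h c b' * x (v + v') := by
    have e := (hd'.1.2.1 v).eq
    calc dl h c b * x v * (dl h c b' * x v') = dl h c b * (x v * dl h c b') * x v' := by group
      _ = dl h c b * (dl h c b' * x v) * x v' := by rw [e]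
      _ = dl h c b * dl h c b' * (x v * x v') := by group
      _ = dl h c b * dl h c b' * x (v + v') := by rw [L.x_add]
  have e2 : dl h c b * dl h c b' = x r * dl h c (b * b') := by
    calc dl h c b * dl h c b' = (dl h c b * b'⁻¹) * (h c * b' * (h c)⁻¹) := by
          show dl h c b * (b'⁻¹ * (h c * b' * (h c)⁻¹)) = _
          group
      _ = x r * (b'⁻¹ * dl h c b) * (h c * b' * (h c)⁻¹) := by rw [hr]
      _ = x r * dl h c (b * b') := by
          unfold dl
          group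
  have e3 : x r * dl h c (b * b') = dl h c (b * b') * x r := ((L.bs_dl (L.bs_mul hb hb') c).1.2.1 r).eq.symm
  rw [e1, e2, e3, mul_assoc, ← L.x_add, add_assoc]

theorem wc_x (L : Loc t x h χ) (c : A) (v : F) : Wc t x h χ c (x v) :=
  ⟨1, 0, v, ⟨L.mv_one, 0, by rw [L.x_zero, one_mul]⟩, by unfold dl; group⟩

theorem wc_inv (L : Loc t x h χ) {c : A} {g : G} (hg : Wc t x h χ c g) : Wc t x h χ c g⁻¹ := by
  obtain ⟨u, h1, s, hs⟩ := L.wc_bs hg
  have e : g⁻¹ = g * x s := by
    rw [inv_eq_iff_mul_eq_one]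
    calc g * (g * x s) = (g * g) * x s := by group
      _ = 1 := by rw [hs, L.x_sq]
  rw [e]
  exact L.wc_mul hg (L.wc_x c s)

/-- `t` and its coset are not in `Wc` -/
theorem wc_zero (L : Loc t x h χ) {c : A} (hc : χ c ≠ 1) {g : G} (hg : Wc t x h χ c g)
    (h0 : Bs t x h χ g 0) : ∃ v, g = x v := by
  obtain ⟨b, u, v, hb, rfl⟩ := hg
  have h1 := L.bs_mul (L.bs_dl hb c) (L.bs_x v)
  have h2 := L.mv_unique h1.1 h0.1
  have h3 : u * (1 + χ c) = 0 := by rw [← h2]; ring
  have h4 : (1 : F) + χ c ≠ 0 := by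
    intro h5
    apply hc
    have : (χ c : F) = 1 := by
      calc (χ c : F) = (1 + 1) + χ c := by rw [L.two, zero_add]
        _ = 1 + (1 + χ c) := by ring
        _ = 1 := by rw [h5, add_zero]
    exact Units.ext this
  have h5 : u = 0 := (mul_eq_zero.1 h3).resolve_right h4
  subst h5
  obtain ⟨p, hp⟩ := L.bs_zero hb
  have ec := (L.ht c).eq
  rcases hp with rfl | rfl
  · refine ⟨p + χ c * p + v, ?_⟩
    unfold dl
    rw [L.hx, L.x_inv, ← L.x_add, ← L.x_add]
  · refine ⟨p + χ c * p + v, ?_⟩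
    unfold dl
    have e1 : h c * (t * x p) * (h c)⁻¹ = t * x (χ c * p) := by
      calc h c * (t * x p) * (h c)⁻¹ = (h c * t) * x p * (h c)⁻¹ := by group
        _ = t * (h c * x p * (h c)⁻¹) := by rw [ec]; group
        _ = t * x (χ c * p) := by rw [L.hx]
    rw [e1, mul_inv_rev, L.x_inv, L.t_inv, L.x_add, L.x_add]
    calc x p * t * (t * x (χ c * p)) * x v = x p * (t * t) * x (χ c * p) * x v := by group
      _ = _ := by rw [L.tt]; group

theorem exists_wc (L : Loc t x h χ) {c : A} (hc : χ c ≠ 1) (u : F) : ∃ g, Wc t x h χ c g ∧ Bs t x h χ g u := by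
  have h4 : (1 : F) + χ c ≠ 0 := by
    intro h5
    apply hc
    have : (χ c : F) = 1 := by
      calc (χ c : F) = (1 + 1) + χ c := by rw [L.two, zero_add]
        _ = 1 + (1 + χ c) := by ring
        _ = 1 := by rw [h5, add_zero]
    exact Units.ext this
  obtain ⟨b, hb⟩ := L.exists_bs (u / (1 + χ c))
  have h1 := L.bs_dl hb c
  have e : u / (1 + χ c) + χ c * (u / (1 + χ c)) = u := by field_simp
  rw [e] at h1
  exact ⟨dl h c b, ⟨b, _, 0, hb, by rw [L.x_zero, mul_one]⟩, h1⟩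

/-- every 2-element is in `Wc` or in `t Wc` -/
theorem wc_or (L : Loc t x h χ) {c : A} (hc : χ c ≠ 1) {b : G} {u : F} (hb : Bs t x h χ b u) :
    Wc t x h χ c b ∨ ∃ g, Wc t x h χ c g ∧ b = g * t := by
  obtain ⟨g, hg, hg1⟩ := L.exists_wc hc u
  have h1 := L.bs_mul (L.bs_inv hg1) hb
  rw [L.two] at h1
  obtain ⟨v, hv | hv⟩ := L.bs_zero h1
  · left
    have : b = g * x v := by rw [← hv]; group
    rw [this]; exact L.wc_mul hg (L.wc_x c v)
  · right
    refine ⟨g * x v, L.wc_mul hg (L.wc_x c v), ?_⟩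
    rw [mul_assoc, ← (L.tx v).eq, ← hv]; group

theorem wc_h (L : Loc t x h χ) {c : A} {g : G} (hg : Wc t x h χ c g) (a : A) :
    Wc t x h χ c (h a * g * (h a)⁻¹) := by
  obtain ⟨b, u, v, hb, rfl⟩ := hg
  refine ⟨h a * b * (h a)⁻¹, _, χ a * v, L.bs_h hb a, ?_⟩
  have hh : h a * h c = h c * h a := by rw [← map_mul, ← map_mul, mul_comm]
  have hh' : (h c)⁻¹ * (h a)⁻¹ = (h a)⁻¹ * (h c)⁻¹ := by rw [← mul_inv_rev, ← mul_inv_rev, hh]
  rw [← L.hx]
  unfold dl
  calc h a * (b⁻¹ * (h c * b * (h c)⁻¹) * x v) * (h a)⁻¹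
      = h a * b⁻¹ * ((h a)⁻¹ * (h a * h c)) * b * (h c)⁻¹ * x v * (h a)⁻¹ := by group
    _ = (h a * b⁻¹ * (h a)⁻¹) * h c * h a * b * ((h c)⁻¹ * (h a)⁻¹) * (h a * x v * (h a)⁻¹) := by
        rw [hh]; group
    _ = (h a * b * (h a)⁻¹)⁻¹ * (h c * (h a * b * (h a)⁻¹) * (h c)⁻¹) * (h a * x v * (h a)⁻¹) := by
        rw [hh']; group

theorem wc_dl (L : Loc t x h χ) {c : A} (hc : χ c ≠ 1) {b : G} {u : F} (hb : Bs t x h χ b u) (a : A) :
    Wc t x h χ c (b⁻¹ * (h a * b * (h a)⁻¹)) := by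
  rcases L.wc_or hc hb with h1 | ⟨g, hg, rfl⟩
  · exact L.wc_mul (L.wc_inv h1) (L.wc_h h1 a)
  · have h1 := L.wc_mul (L.wc_inv hg) (L.wc_h hg a)
    obtain ⟨v, hv⟩ := L.wc_bs h1
    have e1 : (g * t)⁻¹ * (h a * (g * t) * (h a)⁻¹) = (g⁻¹ * (h a * g * (h a)⁻¹)) * x v := by
      have e2 : h a * (g * t) * (h a)⁻¹ = h a * g * (h a)⁻¹ * t := by
        have := (L.ht a).inv_left.eq
        calc h a * (g * t) * (h a)⁻¹ = h a * g * (t * (h a)⁻¹) := by group
          _ = h a * g * (h a)⁻¹ * t := by rw [← this]; group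
      rw [e2, mul_inv_rev, L.t_inv]
      set m := g⁻¹ * (h a * g * (h a)⁻¹) with hm
      have e3 := hv.1.2.2
      have e4 := (hv.1.2.1 v).eq
      calc t * g⁻¹ * (h a * g * (h a)⁻¹ * t) = t * m * t := by rw [hm]; group
        _ = t * (m * t * m⁻¹) * m := by group
        _ = (t * t) * x v * m := by rw [e3]; group
        _ = m * x v := by rw [L.tt, one_mul, e4]
    rw [e1]
    exact L.wc_mul h1 (L.wc_x c v)

theorem mem_dbl_iff (L : Loc t x h χ) {c : A} (hc : χ c ≠ 1) {g : G} : g ∈ Dbl t x h χ ↔ Wc t x h χ c g := by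
  constructor
  · intro hg
    refine closure_induction (p := fun g _ => Wc t x h χ c g) ?_ ?_ ?_ ?_ hg
    · rintro y (⟨u, rfl⟩ | ⟨b, u, hb, a, rfl⟩)
      · exact L.wc_x c u
      · exact L.wc_dl hc hb a
    · have := L.wc_x c 0
      rwa [L.x_zero] at this
    · intro y z _ _ hy hz
      exact L.wc_mul hy hz
    · intro y _ hy
      exact L.wc_inv hy
  · rintro ⟨b, u, v, hb, rfl⟩
    refine mul_mem (subset_closure (Or.inr ⟨b, u, hb, c, rfl⟩)) (subset_closure (Or.inl ⟨v, rfl⟩))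

theorem exists_c (L : Loc t x h χ) : ∃ c, χ c ≠ 1 := by
  obtain ⟨c, h0, h1⟩ := L.big
  obtain ⟨a, ha⟩ := L.surj (Units.mk0 c h0)
  refine ⟨a, fun h2 => h1 ?_⟩
  rw [h2] at ha
  have := congrArg Units.val ha
  simpa using this.symm

/-- the elements of the double -/
theorem dbl_bs (L : Loc t x h χ) {g : G} (hg : g ∈ Dbl t x h χ) : ∃ u, Bs t x h χ g u := by
  obtain ⟨c, hc⟩ := L.exists_c
  exact L.wc_bs ((L.mem_dbl_iff hc).1 hg)

theorem dbl_zero (L : Loc t x h χ) {g : G} (hg : g ∈ Dbl t x h χ) (h0 : Mv t x h χ g 0) : ∃ v, g = x v := by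
  obtain ⟨c, hc⟩ := L.exists_c
  obtain ⟨u, hu⟩ := L.dbl_bs hg
  have : u = 0 := L.mv_unique hu.1 h0
  subst this
  exact L.wc_zero hc ((L.mem_dbl_iff hc).1 hg) hu

theorem x_mem_dbl (_ : Loc t x h χ) (u : F) : x u ∈ Dbl t x h χ := subset_closure (Or.inl ⟨u, rfl⟩)

theorem exists_dbl (L : Loc t x h χ) (u : F) : ∃ g ∈ Dbl t x h χ, Bs t x h χ g u := by
  obtain ⟨c, hc⟩ := L.exists_c
  obtain ⟨g, hg, hg1⟩ := L.exists_wc hc u
  exact ⟨g, (L.mem_dbl_iff hc).2 hg, hg1⟩

theorem dbl_h (L : Loc t x h χ) {g : G} (hg : g ∈ Dbl t x h χ) (a : A) : h a * g * (h a)⁻¹ ∈ Dbl t x h χ := by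
  obtain ⟨c, hc⟩ := L.exists_c
  exact (L.mem_dbl_iff hc).2 (L.wc_h ((L.mem_dbl_iff hc).1 hg) a)

/-- **canonical**: elements moving `t` inside `tX`, centralising `X` and `h(ker χ)` -/
theorem canonical (L : Loc t x h χ) {g : G} {u : F} (hg : Mv t x h χ g u) :
    ∃ w ∈ Dbl t x h χ, Bs t x h χ w u ∧ ∃ a, χ a = 1 ∧ (g = w * h a ∨ g = w * t * h a) := by
  obtain ⟨w, hw, hw1⟩ := L.exists_dbl u
  have h1 := L.mv_mul (L.mv_inv hw1.1) hg
  rw [L.two] at h1
  obtain ⟨v, a, ha, e⟩ := L.mv_zero h1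
  have hb := L.bs_mul hw1 (L.bs_x v)
  rw [add_zero] at hb
  refine ⟨w * x v, mul_mem hw (L.x_mem_dbl v), hb, a, ha, ?_⟩
  rcases e with e | e
  · left
    rw [mul_assoc, ← e]; group
  · right
    calc g = w * (w⁻¹ * g) := by group
      _ = w * (t * x v) * h a := by rw [e]; group
      _ = w * x v * t * h a := by rw [(L.tx v).eq]; group

/-- **Coordinates** of the double. -/
theorem exists_w (L : Loc t x h χ) (hsq : ∀ a : F, ∃ b, b ^ 2 = a) : ∃ w : F → G, w 0 = 1 ∧
    (∀ g, g ∈ Dbl t x h χ ↔ ∃ u v, g = w u * x v) ∧ (∀ u, Bs t x h χ (w u) u) ∧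
    (∀ a u, h a * w u * (h a)⁻¹ = w (χ a * u)) ∧ (∀ u v, Commute (w u) (w v)) ∧
    ∃ c, ∀ u, w u * w u = x (c * u) := by
  classical
  obtain ⟨w1, hw1, hb1⟩ := L.exists_dbl 1
  have hs : ∀ u : Fˣ, ∃ a, χ a = u := L.surj
  choose s hs using hs
  let w : F → G := fun u => if hu : u = 0 then 1 else h (s (Units.mk0 u hu)) * w1 * (h (s (Units.mk0 u hu)))⁻¹
  have w0 : w 0 = 1 := dif_pos rfl
  have key : ∀ (a : A), w (χ a) = h a * w1 * (h a)⁻¹ := by
    intro a
    have hne : (χ a : F) ≠ 0 := (χ a).ne_zero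
    have e0 : Units.mk0 (χ a : F) hne = χ a := Units.ext rfl
    have e1 : w (χ a) = h (s (χ a)) * w1 * (h (s (χ a)))⁻¹ := by
      simp only [w]
      rw [dif_neg hne, e0]
    rw [e1]
    set b := s (χ a) with hb
    have e2 : χ (a⁻¹ * b) = 1 := by rw [map_mul, map_inv, hb, hs, inv_mul_cancel]
    have e3 := (hb1.1.1 _ e2).eq
    calc h b * w1 * (h b)⁻¹ = h a * (h (a⁻¹ * b) * w1) * (h b)⁻¹ := by rw [map_mul, map_inv]; group
      _ = h a * (w1 * h (a⁻¹ * b)) * (h b)⁻¹ := by rw [e3]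
      _ = h a * w1 * (h a)⁻¹ := by rw [map_mul, map_inv]; group
  have keyu : ∀ u : F, u ≠ 0 → ∃ a, (χ a : F) = u := fun u hu => ⟨s (Units.mk0 u hu), by rw [hs]; rfl⟩
  have eqv : ∀ a u, h a * w u * (h a)⁻¹ = w (χ a * u) := by
    intro a u
    by_cases hu : u = 0
    · subst hu
      rw [mul_zero, w0]; group
    · obtain ⟨b, rfl⟩ := keyu u hu
      rw [← Units.val_mul, ← map_mul, key, key, map_mul]; group
  have bw : ∀ u, Bs t x h χ (w u) u := by
    intro u
    by_cases hu : u = 0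
    · subst hu
      rw [w0]; exact ⟨L.mv_one, 0, by rw [L.x_zero, one_mul]⟩
    · obtain ⟨b, rfl⟩ := keyu u hu
      rw [key]
      have := L.bs_h hb1 b
      rwa [mul_one] at this
  have dw : ∀ u, w u ∈ Dbl t x h χ := by
    intro u
    by_cases hu : u = 0
    · subst hu
      rw [w0]; exact one_mem _
    · obtain ⟨b, rfl⟩ := keyu u hu
      rw [key]
      exact L.dbl_h hw1 b
  have mem : ∀ g, g ∈ Dbl t x h χ ↔ ∃ u v, g = w u * x v := by
    intro g
    constructor
    · intro hg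
      obtain ⟨u, hu⟩ := L.dbl_bs hg
      have h1 := L.mv_mul (L.mv_inv (bw u).1) hu.1
      rw [L.two] at h1
      obtain ⟨v, hv⟩ := L.dbl_zero (mul_mem (inv_mem (dw u)) hg) h1
      exact ⟨u, v, by rw [← hv]; group⟩
    · rintro ⟨u, v, rfl⟩
      exact mul_mem (dw u) (L.x_mem_dbl v)
  -- the commutator form
  have cm : ∀ v, ∃ g, w 1 * w v = x g * (w v * w 1) := fun v => L.bs_comm (bw 1) (bw v)
  choose g hg using cm
  have add : ∀ u v, ∃ r, w (u + v) = w u * w v * x r := by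
    intro u v
    obtain ⟨p, r, hr⟩ := (mem (w u * w v)).1 (mul_mem (dw u) (dw v))
    have h1 := L.bs_mul (bw u) (bw v)
    have h2 := L.bs_mul (bw p) (L.bs_x r)
    rw [← hr, add_zero] at h2
    have : u + v = p := L.mv_unique h1.1 h2.1
    subst this
    refine ⟨r, ?_⟩
    rw [hr, mul_assoc, L.x_sq, mul_one]
  have g_add : ∀ u v, g (u + v) = g u + g v := by
    intro u v
    apply L.x_inj
    obtain ⟨r, hr⟩ := add u v
    have e := hg (u + v)
    rw [hr] at e
    have c1 := ((bw 1).1.2.1 r).eq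
    have c2 := ((bw u).1.2.1 (g v)).eq
    have e2 : w 1 * (w u * w v * x r) = x (g u) * x (g v) * (w u * w v * x r * w 1) := by
      calc w 1 * (w u * w v * x r) = (w 1 * w u) * w v * x r := by group
        _ = x (g u) * w u * (w 1 * w v) * x r := by rw [hg u]; group
        _ = x (g u) * (w u * x (g v)) * (w v * (w 1 * x r)) := by rw [hg v]; group
        _ = x (g u) * (x (g v) * w u) * (w v * (x r * w 1)) := by rw [c1, c2]
        _ = _ := by group
    rw [e2] at e
    rw [L.x_add]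
    exact (mul_right_cancel e).symm
  have g_one : g 1 = 0 := by
    apply L.x_one
    have e := hg 1
    exact (mul_eq_right.1 e.symm)
  have g_inv : ∀ v, v ≠ 0 → g v = v * g v⁻¹ := by
    intro v hv
    obtain ⟨a, ha⟩ := keyu v hv
    apply L.x_inj
    have e1 := hg v⁻¹
    -- conjugate by `h a`
    have e2 : h a * (w 1 * w v⁻¹) * (h a)⁻¹ = w v * w 1 := by
      have f1 := eqv a 1
      have f2 := eqv a v⁻¹
      rw [ha, mul_one] at f1
      rw [ha, mul_inv_cancel₀ hv] at f2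
      rw [← f1, ← f2]; group
    have e3 : h a * (x (g v⁻¹) * (w v⁻¹ * w 1)) * (h a)⁻¹ = x (v * g v⁻¹) * (w 1 * w v) := by
      have f1 := eqv a 1
      have f2 := eqv a v⁻¹
      rw [ha, mul_one] at f1
      rw [ha, mul_inv_cancel₀ hv] at f2
      rw [← f1, ← f2, ← ha, ← L.hx, ha]; group
    rw [e1, e3] at e2
    have e4 := hg v
    rw [← e2] at e4
    have e5 : x (g v) * x (v * g v⁻¹) = 1 := by
      have : w 1 * w v = x (g v) * x (v * g v⁻¹) * (w 1 * w v) := by
        calc w 1 * w v = x (g v) * (x (v * g v⁻¹) * (w 1 * w v)) := e4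
          _ = _ := by group
      exact (mul_eq_right.1 this.symm)
    calc x (g v) = x (g v) * x (v * g v⁻¹) * (x (v * g v⁻¹))⁻¹ := by group
      _ = x (v * g v⁻¹) := by rw [e5, one_mul, L.x_inv]
  have g_sq : ∀ u, g (u ^ 2) = 0 := by
    intro u
    have self : ∀ a : F, a + a = 0 := L.two
    have g0 : g 0 = 0 := by
      have := g_add 0 0
      rw [add_zero] at this
      exact left_eq_add.1 this
    by_cases hu : u = 0
    · subst hu; rw [zero_pow two_ne_zero, g0]
    by_cases hu1 : u = 1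
    · subst hu1; rw [one_pow, g_one]
    have hu2 : u + 1 ≠ 0 := by
      intro h
      apply hu1
      calc u = u + (1 + 1) := by rw [self, add_zero]
        _ = (u + 1) + 1 := by ring
        _ = 1 := by rw [h, zero_add]
    have hu3 : u ^ 2 + u ≠ 0 := by
      have : u ^ 2 + u = u * (u + 1) := by ring
      rw [this]; exact mul_ne_zero hu hu2
    have e1 : (u ^ 2 + u)⁻¹ = u⁻¹ + (u + 1)⁻¹ := by
      have e0 : u ^ 2 + u = u * (u + 1) := by ring
      rw [e0]
      field_simp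
      calc (1 : F) = (u + u) + 1 := by rw [self, zero_add]
        _ = u + 1 + u := by ring
    have e2 := g_inv _ hu3
    rw [e1, g_add, g_add u⁻¹] at e2
    have e3 := g_inv _ hu
    have e4 := g_inv _ hu2
    have e5 : g u⁻¹ = u⁻¹ * g u := by rw [e3]; field_simp
    have e6 : g (u + 1)⁻¹ = (u + 1)⁻¹ * g (u + 1) := by rw [e4]; field_simp
    rw [e5, e6, g_add u 1, g_one, add_zero] at e2
    have e7 : (u ^ 2 + u) * (u⁻¹ * g u + (u + 1)⁻¹ * g u) = g u := by
      have e8 : u⁻¹ * g u + (u + 1)⁻¹ * g u = (u ^ 2 + u)⁻¹ * g u := by rw [e1]; ring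
      rw [e8, ← mul_assoc, mul_inv_cancel₀ hu3, one_mul]
    rw [e7] at e2
    exact add_eq_right.1 e2
  have g_zero : ∀ u, g u = 0 := by
    intro u
    obtain ⟨v, rfl⟩ := hsq u
    exact g_sq v
  have comm1 : ∀ v, Commute (w 1) (w v) := by
    intro v
    have := hg v
    rw [g_zero, L.x_zero, one_mul] at this
    exact this
  have comm : ∀ u v, Commute (w u) (w v) := by
    intro u v
    by_cases hu : u = 0
    · subst hu; rw [w0]; exact Commute.one_left _
    obtain ⟨a, rfl⟩ := keyu u hu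
    have f1 := eqv a 1
    have f2 := eqv a ((χ a : F)⁻¹ * v)
    rw [mul_one] at f1
    rw [← mul_assoc, mul_inv_cancel₀ hu, one_mul] at f2
    rw [← f1, ← f2]
    have e := (comm1 ((χ a : F)⁻¹ * v)).eq
    show h a * w 1 * (h a)⁻¹ * (h a * w ((χ a : F)⁻¹ * v) * (h a)⁻¹) = _
    calc _ = h a * (w 1 * w ((χ a : F)⁻¹ * v)) * (h a)⁻¹ := by group
      _ = h a * (w ((χ a : F)⁻¹ * v) * w 1) * (h a)⁻¹ := by rw [e]
      _ = _ := by group
  refine ⟨w, w0, mem, bw, eqv, comm, ?_⟩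
  obtain ⟨c, hc⟩ := (bw 1).2
  refine ⟨c, fun u => ?_⟩
  by_cases hu : u = 0
  · subst hu; rw [w0, mul_zero, L.x_zero, one_mul]
  obtain ⟨a, rfl⟩ := keyu u hu
  have f1 := eqv a 1
  rw [mul_one] at f1
  rw [← f1]
  calc h a * w 1 * (h a)⁻¹ * (h a * w 1 * (h a)⁻¹) = h a * (w 1 * w 1) * (h a)⁻¹ := by group
    _ = x (c * χ a) := by rw [hc, L.hx, mul_comm]

end Loc

end Cfsg.Agent.OddHalf.SpN.WExist

end

-- merged: Cfsg.Agent.OddHalf.SpN.WCent
section

/-!
# ODD D7, `K = Sp_2n(q)`, `q > 2`: torus fixed points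

* `one k c` : the torus element with `ev k = c`, trivial on the other pairs;
* `ent_zero_of_torus` : entries of an element commuting with a torus element;
* `F1c_y`, `F1c_x` : `C(t) ∩ C(H_r) ∩ C(X_r) = ⟨t⟩ X_r H_r`.
-/

set_option autoImplicit false

namespace Cfsg.Agent.OddHalf.SpN

open Cfsg Cfsg.Agent.ClassicalGeometry.SympBasic Cfsg.Agent.ClassicalGeometry.SympAutSemi
open scoped Matrix commutatorElement

variable {n : ℕ} {F : Type*} [Field F]

/-- evaluation as a character -/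
def evM (i : Ix n) : (Fin n → Fˣ) →* Fˣ where
  toFun lam := ev lam i
  map_one' := by rcases i with i | i <;> simp [ev]
  map_mul' a b := by rcases i with i | i <;> simp [ev, mul_comm]

@[simp] theorem evM_apply (i : Ix n) (lam : Fin n → Fˣ) : evM i lam = ev lam i := rfl

theorem ev_mulW (a b : Fin n → Fˣ) (i : Ix n) : ev (a * b) i = ev a i * ev b i := map_mul (evM i) a b

/-- the character of `Y_i` -/
def chiy (i : Ix n) : (Fin n → Fˣ) →* Fˣ := evM i * evM i

/-- the character of `X_ij` -/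
def chix (i j : Ix n) : (Fin n → Fˣ) →* Fˣ := evM i * evM j

@[simp] theorem chiy_apply (i : Ix n) (lam : Fin n → Fˣ) : chiy i lam = ev lam i * ev lam i := rfl

@[simp] theorem chix_apply (i j : Ix n) (lam : Fin n → Fˣ) : chix i j lam = ev lam i * ev lam j := rfl

/-- the torus element with value `c` at `k`, `c⁻¹` at `-k`, `1` elsewhere -/
def one (k : Ix n) (c : Fˣ) : Fin n → Fˣ :=
  Sum.elim (fun i => Function.update 1 i c) (fun i => Function.update 1 i c⁻¹) k

@[simp] theorem ev_one_self (k : Ix n) (c : Fˣ) : ev (one k c) k = c := by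
  rcases k with i | i <;> simp [ev, one]

@[simp] theorem ev_one_neg (k : Ix n) (c : Fˣ) : ev (one k c) (neg k) = c⁻¹ := by
  rw [ev_neg, ev_one_self]

theorem ev_one_ne {k m : Ix n} (h : Dj m k) (c : Fˣ) : ev (one k c) m = 1 := by
  rcases k with i | i <;> rcases m with j | j
  · have : j ≠ i := fun e => h.1 (by rw [e])
    simp [ev, one, Function.update_of_ne this]
  · have : j ≠ i := fun e => h.2 (by rw [e]; rfl)
    simp [ev, one, Function.update_of_ne this]
  · have : j ≠ i := fun e => h.2 (by rw [e]; rfl)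
    simp [ev, one, Function.update_of_ne this]
  · have : j ≠ i := fun e => h.1 (by rw [e])
    simp [ev, one, Function.update_of_ne this]

theorem rho_sh_be (lam : Fin n → Fˣ) (k : Ix n) :
    rho n F (sh lam) (be n F k) = (ev lam k : F) • be n F k := by
  ext l
  rw [rho_sh, Pi.smul_apply, smul_eq_mul, be_apply]
  split_ifs with h
  · rw [h]
  · rw [mul_zero, mul_zero]

/-- entries of an element commuting with a torus element -/
theorem ent_zero_of_torus {A : Sy n F} {lam : Fin n → Fˣ} (h : Commute A (sh lam)) {l k : Ix n}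
    (hne : ev lam l ≠ ev lam k) : ent A l k = 0 := by
  have h1 := congrArg (fun B => rho n F B (be n F k) l) h.eq
  simp only [map_mul, Equiv.Perm.mul_apply] at h1
  rw [rho_sh_be, rho_smul, Pi.smul_apply, smul_eq_mul, rho_sh] at h1
  have h2 : ((ev lam l : F) - ev lam k) * ent A l k = 0 := by
    rw [ent]; linear_combination -h1
  rcases mul_eq_zero.1 h2 with h3 | h3
  · exact absurd (Units.ext (sub_eq_zero.1 h3)) hne
  · exact h3

section chartwo

variable [CharP F 2]

theorem inv_ne_self {c : Fˣ} (h : c ≠ 1) : c⁻¹ ≠ c := by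
  intro e
  apply h
  have h1 : c * c = 1 := by
    calc c * c = c * c⁻¹ := by rw [e]
      _ = 1 := mul_inv_cancel c
  have h2 : ((c : F) - 1) * (c - 1) = 0 := by
    have h3 : (c : F) * c = 1 := by rw [← Units.val_mul, h1]; rfl
    linear_combination h3 - ((c : F) - 1) * (two0 : (2 : F) = 0)
  exact Units.ext (sub_eq_zero.1 (mul_self_eq_zero.1 h2))

/-- a line `e_k` fixed by the torus: the entries outside the diagonal vanish -/
theorem ent_off {A : Sy n F} {k : Ix n} {c : Fˣ} (hc : c ≠ 1) (h : Commute A (sh (one k c))) {l : Ix n}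
    (hl : l ≠ k) : ent A l k = 0 ∧ ent A k l = 0 := by
  have hne : ev (one k c) l ≠ ev (one k c) k := by
    rw [ev_one_self]
    by_cases h2 : l = neg k
    · rw [h2, ev_one_neg]; exact inv_ne_self hc
    · rw [ev_one_ne ⟨hl, h2⟩]; exact hc.symm
  exact ⟨ent_zero_of_torus h hne, ent_zero_of_torus h hne.symm⟩

theorem diag_mul {A : Sy n F} {k : Ix n} (h : ∀ l, l ≠ k → ent A l k = 0) :
    ent A k k * ent A (neg k) (neg k) = 1 := by
  have h5 := ent_form A k (neg k)
  rw [neg_neg, if_pos rfl, Finset.sum_eq_single (neg k)] at h5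
  · rwa [neg_neg] at h5
  · intro m _ hm
    rw [h (neg m) (fun e => hm (by rw [← e, neg_neg])), zero_mul]
  · intro h; exact absurd (Finset.mem_univ _) h

omit [CharP F 2] in
/-- the torus element with given diagonal entries -/
theorem exists_lamW {A : Sy n F} (h : ∀ k, ent A k k * ent A (neg k) (neg k) = 1) :
    ∃ lam : Fin n → Fˣ, ∀ k, (ev lam k : F) = ent A k k := by
  have hne : ∀ k, ent A k k ≠ 0 := fun k e => by
    have := h k
    rw [e, zero_mul] at this
    exact zero_ne_one this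
  refine ⟨fun i => Units.mk0 (ent A (Sum.inl i) (Sum.inl i)) (hne _), ?_⟩
  rintro (i | i)
  · rfl
  · have h1 := h (Sum.inl i)
    rw [neg_inl] at h1
    simp only [ev, Sum.elim_inr, Units.val_inv_eq_inv_val, Units.val_mk0]
    exact (eq_inv_of_mul_eq_one_right h1).symm

/-- **F1c** for `Y_i` in `Sp` -/
theorem F1c_sy {A : Sy n F} {i : Ix n} {c : Fˣ} (hc : c ≠ 1) (h : Commute A (sy i 1))
    (ht : ∀ lam, ev lam i = 1 → Commute A (sh lam)) :
    ∃ u lam, ev lam i = 1 ∧ A = sy i u * sh lam := by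
  have cy := cy_of_comm h
  have off : ∀ k, Dj k i → ∀ l, l ≠ k → ent A l k = 0 ∧ ent A k l = 0 := fun k hk l hl =>
    ent_off hc (ht _ (ev_one_ne hk.symm c)) hl
  have hd : ∀ k, ent A k k * ent A (neg k) (neg k) = 1 := by
    intro k
    by_cases h1 : k = i
    · rw [h1, cy.diag, cy.diag', mul_one]
    by_cases h2 : k = neg i
    · rw [h2, neg_neg, cy.diag, cy.diag', mul_one]
    · exact diag_mul fun l hl => (off k ⟨h1, h2⟩ l hl).1
  obtain ⟨lam, hlam⟩ := exists_lamW hd
  have hi : ev lam i = 1 := Units.ext (by rw [hlam, cy.diag]; rfl)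
  refine ⟨ent A i (neg i), lam, hi, ?_⟩
  apply ext_ent
  intro l k
  have e : ent (sy i (ent A i (neg i)) * sh lam) l k =
      ev lam k * ((if l = k then 1 else 0) + ent A i (neg i) * (if neg i = k then 1 else 0) * (if l = i then 1 else 0)) := by
    rw [ent, map_mul, Equiv.Perm.mul_apply, rho_sh_be, rho_smul, rho_sy]
    simp only [Pi.smul_apply, Pi.add_apply, smul_eq_mul, be_apply]
  rw [e]
  by_cases h1 : k = i
  · subst h1
    rw [if_neg (neg_ne k), hi]
    by_cases h2 : l = k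
    · rw [h2, cy.diag, if_pos rfl]; simp
    · rw [cy.col l h2, if_neg h2]; simp
  by_cases h2 : k = neg i
  · subst h2
    rw [if_pos rfl, ev_neg, hi]
    by_cases h3 : l = neg i
    · rw [h3, cy.diag', if_pos rfl, if_neg (neg_ne i)]; simp
    · rw [if_neg h3]
      by_cases h4 : l = i
      · rw [h4, if_pos rfl]; simp
      · rw [if_neg h4, (off l ⟨h4, h3⟩ (neg i) (fun e => h3 e.symm)).2]; simp
  · have g1 : neg i ≠ k := fun e => h2 e.symm
    rw [if_neg g1]
    by_cases h3 : l = k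
    · rw [h3, if_pos rfl, hlam]; simp
    · rw [if_neg h3, (off k ⟨h1, h2⟩ l h3).1]; simp

/-- **F1c** for `X_ij` in `Sp` -/
theorem F1c_sx {A : Sy n F} {i j : Ix n} (hij : Dj i j) {c : Fˣ} (hc : c ≠ 1) (h : Commute A (sx i j 1))
    (ht : ∀ lam, ev lam i * ev lam j = 1 → Commute A (sh lam)) :
    ∃ u lam, ev lam i * ev lam j = 1 ∧ A = sx i j u * sh lam := by
  have cx := cx_of_comm hij h
  have hne := hij.1
  have n1 : neg j ≠ i := fun e => hij.2 e.symm
  have n2 : neg i ≠ j := fun e => hij.2 (by rw [← e, neg_neg])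
  have n3 : neg i ≠ neg j := fun e => hne (neg_inj.mp e)
  have off : ∀ k, Dj k i → Dj k j → ∀ l, l ≠ k → ent A l k = 0 ∧ ent A k l = 0 := fun k hk hk' l hl =>
    ent_off hc (ht _ (by rw [ev_one_ne hk.symm c, ev_one_ne hk'.symm c, one_mul])) hl
  -- the torus element `c, c⁻¹`
  have hcc := inv_ne_self hc
  set mu : Fin n → Fˣ := one i c * one j c⁻¹ with hmu
  have mi : ev mu i = c := by rw [hmu, ev_mulW, ev_one_self, ev_one_ne hij, mul_one]
  have mj : ev mu j = c⁻¹ := by rw [hmu, ev_mulW, ev_one_self, ev_one_ne hij.symm, one_mul]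
  have hA := ht mu (by rw [mi, mj, mul_inv_cancel])
  have mi' : ev mu (neg i) = c⁻¹ := by rw [ev_neg, mi]
  have mj' : ev mu (neg j) = c := by rw [ev_neg, mj, inv_inv]
  have eij : ent A i j = 0 := ent_zero_of_torus hA (by rw [mi, mj]; exact hcc.symm)
  have eji : ent A j i = 0 := ent_zero_of_torus hA (by rw [mi, mj]; exact hcc)
  have eii' : ent A i (neg i) = 0 := ent_zero_of_torus hA (by rw [mi, mi']; exact hcc.symm)
  have ejj' : ent A j (neg j) = 0 := ent_zero_of_torus hA (by rw [mj, mj']; exact hcc)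
  have coli : ∀ l, l ≠ i → ent A l i = 0 := fun l hl => by
    by_cases hl' : l = j
    · rw [hl', eji]
    · exact cx.coli l hl hl'
  have colj : ∀ l, l ≠ j → ent A l j = 0 := fun l hl => by
    by_cases hl' : l = i
    · rw [hl', eij]
    · exact cx.colj l hl' hl
  have d1 := diag_mul coli
  have d2 := diag_mul colj
  have hd : ∀ k, ent A k k * ent A (neg k) (neg k) = 1 := by
    intro k
    by_cases h1 : k = i
    · rw [h1]; exact d1
    by_cases h2 : k = neg i
    · rw [h2, neg_neg, mul_comm]; exact d1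
    by_cases h3 : k = j
    · rw [h3]; exact d2
    by_cases h4 : k = neg j
    · rw [h4, neg_neg, mul_comm]; exact d2
    · exact diag_mul fun l hl => (off k ⟨h1, h2⟩ ⟨h3, h4⟩ l hl).1
  obtain ⟨lam, hlam⟩ := exists_lamW hd
  have hi : ev lam i * ev lam j = 1 := Units.ext (by
    rw [Units.val_mul, hlam, hlam, cx.jj]; exact d1)
  -- `d = A_ii = A_{-j,-j}`, `d' = A_jj = A_{-i,-i}`
  have hii : (ev lam i : F) = ent A i i := hlam i
  have hjj : (ev lam j : F) = ent A j j := hlam j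
  have hii' : (ev lam (neg i) : F) = ent A j j := by rw [hlam, cx.jj]
  have hjj' : (ev lam (neg j) : F) = ent A i i := by rw [hlam, cx.ii]
  -- the form between `A e_{-i}` and `A e_{-j}`
  have hf := ent_form A (neg i) (neg j)
  rw [neg_neg, if_neg n2] at hf
  have hsum : ∑ k : Ix n, ent A (neg k) (neg i) * ent A k (neg j) =
      ent A (neg i) (neg i) * ent A i (neg j) + ent A j (neg i) * ent A (neg j) (neg j) := by
    rw [← Finset.sum_subset (Finset.subset_univ ({i, neg j} : Finset (Ix n))), Finset.sum_pair n1.symm, neg_neg]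
    intro k _ hk
    rw [Finset.mem_insert, Finset.mem_singleton, not_or] at hk
    by_cases k1 : k = j
    · rw [k1, ejj', mul_zero]
    by_cases k2 : k = neg i
    · rw [k2, neg_neg, eii', zero_mul]
    · rw [(off k ⟨hk.1, k2⟩ ⟨k1, hk.2⟩ (neg j) (fun e => hk.2 e.symm)).2, mul_zero]
  rw [hsum] at hf
  have hne1 : ent A i i ≠ 0 := by rw [← hii]; exact (ev lam i).ne_zero
  have hdd : ent A i i * ent A j j = 1 := by rw [← hii, ← hjj, ← Units.val_mul, hi]; rfl
  set u := ent A j j * ent A i (neg j) with hu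
  have e1 : ent A i (neg j) = ev lam (neg j) * u := by
    rw [hjj', hu, ← mul_assoc, hdd, one_mul]
  have e2 : ent A j (neg i) = ev lam (neg i) * u := by
    rw [← cx.jj, ← cx.ii] at hf
    rw [hii', hu]
    have : ent A i i * ent A j (neg i) = ent A j j * ent A i (neg j) := by
      linear_combination hf - (ent A j j * ent A i (neg j)) * (two0 : (2 : F) = 0)
    calc ent A j (neg i) = (ent A i i * ent A j j) * ent A j (neg i) := by rw [hdd, one_mul]
      _ = ent A j j * (ent A i i * ent A j (neg i)) := by ring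
      _ = ent A j j * (ent A j j * ent A i (neg j)) := by rw [this]
  refine ⟨u, lam, hi, ?_⟩
  apply ext_ent
  intro l k
  have e : ent (sx i j u * sh lam) l k =
      ev lam k * ((if l = k then 1 else 0) + u * (if neg j = k then 1 else 0) * (if l = i then 1 else 0) +
        u * (if neg i = k then 1 else 0) * (if l = j then 1 else 0)) := by
    rw [ent, map_mul, Equiv.Perm.mul_apply, rho_sh_be, rho_smul, rho_sx hij]
    simp only [Pi.smul_apply, Pi.add_apply, smul_eq_mul, be_apply]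
  rw [e]
  by_cases h1 : k = i
  · subst h1
    rw [if_neg (neg_ne k), if_neg n1]
    by_cases h2 : l = k
    · rw [h2, if_pos rfl, hlam]; simp
    · rw [coli l h2, if_neg h2]; simp
  by_cases h2 : k = j
  · subst h2
    rw [if_neg (neg_ne k), if_neg n2]
    by_cases h3 : l = k
    · rw [h3, if_pos rfl, hlam]; simp
    · rw [colj l h3, if_neg h3]; simp
  by_cases h3 : k = neg i
  · subst h3
    rw [if_pos rfl, if_neg n3.symm]
    by_cases h4 : l = neg i
    · rw [h4, if_pos rfl, if_neg n2, hlam]; simp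
    · rw [if_neg h4]
      by_cases h5 : l = j
      · rw [h5, if_pos rfl, e2]; simp
      · rw [if_neg h5]
        by_cases h6 : l = i
        · rw [h6, eii']; simp
        by_cases h7 : l = neg j
        · have h8 : ent A (neg j) (neg i) = 0 := by rw [← cx.ij, eij]
          rw [h7, h8]; simp
        · rw [(off l ⟨h6, h4⟩ ⟨h5, h7⟩ (neg i) (fun e => h4 e.symm)).2]; simp
  by_cases h4 : k = neg j
  · subst h4
    rw [if_pos rfl, if_neg n3]
    by_cases h5 : l = neg j
    · rw [h5, if_pos rfl, if_neg n1, hlam]; simp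
    · rw [if_neg h5]
      by_cases h6 : l = i
      · rw [h6, if_pos rfl, e1]; simp
      · rw [if_neg h6]
        by_cases h7 : l = j
        · rw [h7, ejj']; simp
        by_cases h8 : l = neg i
        · have h9 : ent A (neg i) (neg j) = 0 := by rw [← cx.ji, eji]
          rw [h8, h9]; simp
        · rw [(off l ⟨h6, h8⟩ ⟨h7, h5⟩ (neg j) (fun e => h5 e.symm)).2]; simp
  · have g1 : neg j ≠ k := fun e => h4 e.symm
    have g2 : neg i ≠ k := fun e => h3 e.symm
    rw [if_neg g1, if_neg g2]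
    by_cases h5 : l = k
    · rw [h5, if_pos rfl, hlam]; simp
    · rw [if_neg h5, (off k ⟨h1, h3⟩ ⟨h2, h4⟩ l h5).1]; simp

end chartwo

end Cfsg.Agent.OddHalf.SpN

end

-- merged: Cfsg.Agent.OddHalf.SpN.WTrans
section

/-!
# ODD D7, `K = Sp_2n(q)`: translations (section 2 of `blueprints/ODD-D7-Sp-helper297.md`)

`B` acts on the coset `tX` (`X` an elementary abelian 2-group commuting with `t`), transitively, and
`H ≤ B ∩ C(t)` is transitive on `X#`.  If an element of `B` fixing two points of `tX` acts trivially,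
then the elements of `B` centralising `X` are transitive on `tX`.
-/

set_option autoImplicit false

namespace Cfsg.Agent.OddHalf.SpN.WTrans

open MulAction

variable {G : Type*} [Group G]

/-- the coset `tX` -/
def Om (t : G) (X : Subgroup G) : Type _ := {y : G // t⁻¹ * y ∈ X}

variable {t : G} {X : Subgroup G}

theorem Om.ext {a b : Om t X} (h : a.1 = b.1) : a = b := Subtype.ext h

/-- conjugation action of `B` on `tX` -/
def act (B : Subgroup G) (BX : ∀ b ∈ B, ∀ x ∈ X, b * x * b⁻¹ ∈ X)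
    (Bt : ∀ b ∈ B, t⁻¹ * (b * t * b⁻¹) ∈ X) : MulAction B (Om t X) where
  smul b y := ⟨b * y.1 * (b : G)⁻¹, by
    have h1 := Bt b.1 b.2
    have h2 := BX b.1 b.2 _ y.2
    have := X.mul_mem h1 h2
    convert this using 1
    group⟩
  one_smul y := Om.ext (by show (1 : G) * y.1 * (1 : G)⁻¹ = y.1; group)
  mul_smul a b y := Om.ext (by
    show (a.1 * b.1) * y.1 * (a.1 * b.1)⁻¹ = a.1 * (b.1 * y.1 * (b.1)⁻¹) * (a.1)⁻¹
    group)

theorem exists_translation [Finite G] (B H : Subgroup G)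
    (X2 : ∀ x ∈ X, x * x = 1) (Xt : ∀ x ∈ X, t * x = x * t)
    (BX : ∀ b ∈ B, ∀ x ∈ X, b * x * b⁻¹ ∈ X)
    (Bt : ∀ b ∈ B, t⁻¹ * (b * t * b⁻¹) ∈ X)
    (HB : H ≤ B) (Ht : ∀ h ∈ H, h * t = t * h)
    (Htr : ∀ x ∈ X, x ≠ 1 → ∀ y ∈ X, y ≠ 1 → ∃ h ∈ H, h * x * h⁻¹ = y)
    (Btr : ∀ x ∈ X, ∃ b ∈ B, b * t * b⁻¹ = t * x)
    (two : ∀ b ∈ B, b * t = t * b → ∀ x ∈ X, x ≠ 1 → b * x = x * b → ∀ y ∈ X, b * y = y * b) :
    ∀ x ∈ X, ∃ b ∈ B, (∀ y ∈ X, b * y = y * b) ∧ b * t * b⁻¹ = t * x := by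
  classical
  intro x₀ hx₀
  by_cases hx₀1 : x₀ = 1
  · exact ⟨1, B.one_mem, fun y _ => by simp, by simp [hx₀1]⟩
  letI : MulAction B (Om t X) := act B BX Bt
  have smul_val : ∀ (b : B) (y : Om t X), (b • y).1 = b.1 * y.1 * (b.1)⁻¹ := fun _ _ => rfl
  haveI : Finite (Om t X) := Subtype.finite
  let o : Om t X := ⟨t, by simp⟩
  let p (x : X) : Om t X := ⟨t * x, by simp⟩
  have hp : ∀ y : Om t X, ∃ x : X, y = p x := fun y => ⟨⟨t⁻¹ * y.1, y.2⟩, Om.ext (by simp [p])⟩
  have hne : o ≠ p ⟨x₀, hx₀⟩ := by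
    intro h
    have := congrArg Subtype.val h
    simp only [o, p] at this
    apply hx₀1
    have h2 : t * 1 = t * x₀ := by simpa using this
    exact (mul_left_cancel h2).symm
  haveI : Nontrivial (Om t X) := ⟨⟨_, _, hne⟩⟩
  -- transitivity
  have htr1 : ∀ y : Om t X, ∃ b : B, b • o = y := by
    intro y
    obtain ⟨x, rfl⟩ := hp y
    obtain ⟨b, hb, e⟩ := Btr x x.2
    exact ⟨⟨b, hb⟩, Om.ext (by rw [smul_val]; exact e)⟩
  have h2o : ∀ y z : Om t X, y ≠ o → z ≠ o → ∃ b : B, b • o = o ∧ b • y = z := by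
    intro y z hy hz
    obtain ⟨x, rfl⟩ := hp y
    obtain ⟨x', rfl⟩ := hp z
    have hx1 : (x : G) ≠ 1 := fun h => hy (Om.ext (by simp [p, o, h]))
    have hx1' : (x' : G) ≠ 1 := fun h => hz (Om.ext (by simp [p, o, h]))
    obtain ⟨h, hh, e⟩ := Htr x x.2 hx1 x' x'.2 hx1'
    refine ⟨⟨h, HB hh⟩, Om.ext ?_, Om.ext ?_⟩
    · rw [smul_val]
      show h * t * h⁻¹ = t
      rw [Ht h hh]; group
    · rw [smul_val]
      show h * (t * x) * h⁻¹ = t * x'
      rw [← e, ← mul_assoc, Ht h hh]; group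
  have h2 : ∀ a b c d : Om t X, a ≠ b → c ≠ d → ∃ g : B, g • a = c ∧ g • b = d := by
    intro a b c d hab hcd
    obtain ⟨g1, hg1⟩ := htr1 a
    obtain ⟨g2, hg2⟩ := htr1 c
    obtain ⟨k, hk1, hk2⟩ := h2o (g1⁻¹ • b) (g2⁻¹ • d)
      (by intro h; apply hab; rw [← hg1]; rw [inv_smul_eq_iff] at h; exact h.symm)
      (by intro h; apply hcd; rw [← hg2]; rw [inv_smul_eq_iff] at h; exact h.symm)
    refine ⟨g2 * k * g1⁻¹, ?_, ?_⟩
    · rw [mul_smul, mul_smul, ← hg1, inv_smul_smul, hk1, hg2]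
    · rw [mul_smul, mul_smul, hk2, smul_inv_smul]
  -- the permutation group
  let Θ : Subgroup (Equiv.Perm (Om t X)) := (MulAction.toPermHom B (Om t X)).range
  have hΘ : ∀ g : Θ, ∃ b : B, ∀ y : Om t X, g • y = b • y := by
    rintro ⟨g, b, rfl⟩
    exact ⟨b, fun y => rfl⟩
  have hΘ' : ∀ b : B, ∃ g : Θ, ∀ y : Om t X, g • y = b • y := fun b => ⟨⟨_, b, rfl⟩, fun y => rfl⟩
  have h2Θ : ∀ a b c d : Om t X, a ≠ b → c ≠ d → ∃ g : Θ, g • a = c ∧ g • b = d := by
    intro a b c d hab hcd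
    obtain ⟨g, e1, e2⟩ := h2 a b c d hab hcd
    obtain ⟨g', hg'⟩ := hΘ' g
    exact ⟨g', by rw [hg', e1], by rw [hg', e2]⟩
  haveI : IsPretransitive (⊤ : Subgroup Θ) (Om t X) := by
    constructor
    intro a b
    by_cases hab : a = b
    · exact ⟨1, by rw [one_smul]; exact hab⟩
    · obtain ⟨g, e1, -⟩ := h2Θ a b b a hab (Ne.symm hab)
      exact ⟨⟨g, Subgroup.mem_top g⟩, e1⟩
  -- elements fixing two points act trivially
  have hfix : ∀ b : B, ∀ y z : Om t X, y ≠ z → b • y = y → b • z = z → ∀ w : Om t X, b • w = w := by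
    intro b y z hyz hy hz w
    obtain ⟨g, hg⟩ := htr1 y
    have e1 : (g⁻¹ * b * g) • o = o := by
      rw [mul_smul, mul_smul, hg, hy, ← hg, inv_smul_smul]
    have e2 : (g⁻¹ * b * g) • (g⁻¹ • z) = g⁻¹ • z := by
      rw [mul_smul, mul_smul, smul_inv_smul, hz]
    obtain ⟨x, hx⟩ := hp (g⁻¹ • z)
    have hx1 : (x : G) ≠ 1 := by
      intro h
      apply hyz
      have : g⁻¹ • z = o := by rw [hx]; exact Om.ext (by simp [p, o, h])
      rw [inv_smul_eq_iff] at this
      rw [this, hg]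
    set c := g⁻¹ * b * g with hc
    have c1 : c.1 * t = t * c.1 := by
      have := congrArg Subtype.val e1
      rw [smul_val] at this
      have h3 : c.1 * t * (c.1)⁻¹ = t := this
      calc c.1 * t = c.1 * t * (c.1)⁻¹ * c.1 := by group
        _ = t * c.1 := by rw [h3]
    have c2 : c.1 * x.1 = x.1 * c.1 := by
      have := congrArg Subtype.val e2
      rw [hx, smul_val] at this
      have h3 : c.1 * (t * x.1) * (c.1)⁻¹ = t * x.1 := this
      have h4 : c.1 * (t * x.1) = t * x.1 * c.1 := by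
        calc c.1 * (t * x.1) = c.1 * (t * x.1) * (c.1)⁻¹ * c.1 := by group
          _ = t * x.1 * c.1 := by rw [h3]
      rw [← mul_assoc, c1, mul_assoc, mul_assoc] at h4
      exact mul_left_cancel h4
    have c3 := two c.1 c.2 c1 x.1 x.2 hx1 c2
    have hall : ∀ v : Om t X, c • v = v := by
      intro v
      obtain ⟨x', rfl⟩ := hp v
      apply Om.ext
      rw [smul_val]
      show c.1 * (t * x'.1) * (c.1)⁻¹ = t * x'.1
      rw [← mul_assoc, c1, mul_assoc t, c3 x'.1 x'.2]; group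
    have := hall (g⁻¹ • w)
    rw [hc, mul_smul, mul_smul, smul_inv_smul] at this
    have h5 := congrArg (fun v => g • v) this
    simp only [smul_inv_smul] at h5
    exact h5
  have h1Θ : ∀ a b : Om t X, a ≠ b → ∀ g ∈ (⊤ : Subgroup Θ), g • a = a → g • b = b → g = 1 := by
    intro a b hab g _ ha hb
    obtain ⟨c, hc⟩ := hΘ g
    apply Subtype.ext
    apply Equiv.ext
    intro w
    have := hfix c a b hab (by rw [← hc, ha]) (by rw [← hc, hb]) w
    rw [← hc] at this
    exact this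
  obtain ⟨K, hKn, -, hKt, hKs, -⟩ :=
    Cfsg.Agent.PermutationGroups.TwoTransitiveNormal.exists_regular_normal_of_two_point_trivial
      h2Θ ⊤ h1Θ
  -- the preimage `M` of `K` in `B`
  let f : B →* Θ := (MulAction.toPermHom B (Om t X)).rangeRestrict
  have hf : ∀ (b : B) (y : Om t X), f b • y = b • y := fun b y => rfl
  -- `K` is a 2-group
  have hX2 : IsPGroup 2 X := by
    intro x
    refine ⟨1, ?_⟩
    rw [pow_one]
    apply Subtype.ext
    have := X2 x.1 x.2
    simp [pow_two, this]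
  have hcardO : Nat.card (Om t X) = Nat.card X :=
    Nat.card_congr
      { toFun := fun y => ⟨t⁻¹ * y.1, y.2⟩
        invFun := fun x => p x
        left_inv := fun y => Om.ext (by simp [p])
        right_inv := fun x => Subtype.ext (by simp [p]) }
  have hKcard : Nat.card K = Nat.card X := by
    rw [← hcardO]
    have e1 := MulAction.index_stabilizer_of_transitive K o
    rw [hKs o, Subgroup.index_bot] at e1
    exact e1
  have hK2 : IsPGroup 2 K := by
    obtain ⟨n, hn⟩ := IsPGroup.iff_card.1 hX2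
    exact IsPGroup.of_card (n := n) (hKcard.trans hn)
  -- `K` acts on `X` by conjugation: linear action of `Θ` on `X`
  -- an element of `B` acting trivially on `tX` centralises `X`
  have hker : ∀ b : B, f b = 1 → ∀ x ∈ X, b.1 * x = x * b.1 := by
    intro b hb x hx
    have h0 : ∀ y : Om t X, b • y = y := by
      intro y; rw [← hf, hb, one_smul]
    have e0 := congrArg Subtype.val (h0 o)
    have e1 := congrArg Subtype.val (h0 (p ⟨x, hx⟩))
    rw [smul_val] at e0 e1
    have e0' : b.1 * t * (b.1)⁻¹ = t := e0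
    have e1' : b.1 * (t * x) * (b.1)⁻¹ = t * x := e1
    have e2 : b.1 * x * (b.1)⁻¹ = x := by
      have : b.1 * (t * x) * (b.1)⁻¹ = (b.1 * t * (b.1)⁻¹) * (b.1 * x * (b.1)⁻¹) := by group
      rw [this, e0'] at e1'
      exact mul_left_cancel e1'
    calc b.1 * x = b.1 * x * (b.1)⁻¹ * b.1 := by group
      _ = x * b.1 := by rw [e2]
  let lin : B →* MulAut X :=
    { toFun := fun b =>
        { toFun := fun x => ⟨b.1 * x.1 * (b.1)⁻¹, BX b.1 b.2 x.1 x.2⟩
          invFun := fun x => ⟨(b.1)⁻¹ * x.1 * b.1, by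
            have := BX (b⁻¹).1 (b⁻¹).2 x.1 x.2
            simpa using this⟩
          left_inv := fun x => Subtype.ext (by
            show (b.1)⁻¹ * (b.1 * x.1 * (b.1)⁻¹) * b.1 = x.1
            group)
          right_inv := fun x => Subtype.ext (by
            show b.1 * ((b.1)⁻¹ * x.1 * b.1) * (b.1)⁻¹ = x.1
            group)
          map_mul' := fun x y => Subtype.ext (by
            show b.1 * (x.1 * y.1) * (b.1)⁻¹ = (b.1 * x.1 * (b.1)⁻¹) * (b.1 * y.1 * (b.1)⁻¹)
            group) }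
      map_one' := by
        ext x
        show (1 : G) * x.1 * (1 : G)⁻¹ = x.1
        group
      map_mul' := fun a b => by
        ext x
        show (a.1 * b.1) * x.1 * (a.1 * b.1)⁻¹ = a.1 * (b.1 * x.1 * (b.1)⁻¹) * (a.1)⁻¹
        group }
  have hlin : ∀ (b : B) (x : X), ((lin b) x).1 = b.1 * x.1 * (b.1)⁻¹ := fun _ _ => rfl
  -- the set of fixed points of `M`
  let M : Subgroup B := K.comap f
  have hfs : Function.Surjective f := MonoidHom.rangeRestrict_surjective _
  let C : Subgroup X :=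
    { carrier := {x | ∀ m ∈ M, lin m x = x}
      mul_mem' := fun {a b} ha hb m hm => by rw [map_mul, ha m hm, hb m hm]
      one_mem' := fun m _ => map_one _
      inv_mem' := fun {a} ha m hm => by rw [map_inv, ha m hm] }
  -- C is nontrivial
  have hCne : ∃ x : X, x ∈ C ∧ x ≠ 1 := by
    -- the group K acts on X
    have hwd : ∀ m m' : B, f m = f m' → lin m = lin m' := by
      intro m m' h
      have h3 : f (m⁻¹ * m') = 1 := by rw [map_mul, map_inv, h, inv_mul_cancel]
      have h4 := hker _ h3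
      ext x
      rw [hlin, hlin]
      have h5 := h4 x.1 x.2
      have h6 : (m.1)⁻¹ * m'.1 * x.1 = x.1 * ((m.1)⁻¹ * m'.1) := h5
      calc m.1 * x.1 * (m.1)⁻¹ = m.1 * (x.1 * ((m.1)⁻¹ * m'.1)) * (m'.1)⁻¹ := by group
        _ = m.1 * ((m.1)⁻¹ * m'.1 * x.1) * (m'.1)⁻¹ := by rw [h6]
        _ = m'.1 * x.1 * (m'.1)⁻¹ := by group
    have hkerle : f.ker ≤ lin.ker := by
      intro m hm
      rw [MonoidHom.mem_ker] at hm ⊢
      rw [hwd m 1 (by rw [hm, map_one]), map_one]
    let g : Θ →* MulAut X := f.liftOfSurjective hfs ⟨lin, hkerle⟩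
    have hg : ∀ m : B, g (f m) = lin m := fun m => by
      have := MonoidHom.liftOfRightInverse_comp_apply f (Function.surjInv hfs)
        (Function.rightInverse_surjInv hfs) ⟨lin, hkerle⟩ m
      exact this
    letI : MulAction K X := MulAction.compHom X (g.comp K.subtype)
    have hsm : ∀ (k : K) (x : X), k • x = g k.1 x := fun _ _ => rfl
    have hcard := hK2.card_modEq_card_fixedPoints X
    obtain ⟨n, hn⟩ := IsPGroup.iff_card.1 hX2
    have h1 : (1 : X) ∈ MulAction.fixedPoints K X := fun k => by rw [hsm]; exact map_one _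
    have hn0 : n ≠ 0 := by
      rintro rfl
      rw [pow_zero] at hn
      have : Subsingleton X := (Nat.card_eq_one_iff_unique.1 hn).1
      apply hx₀1
      exact congrArg Subtype.val (Subsingleton.elim (⟨x₀, hx₀⟩ : X) 1)
    have hpX : 2 ∣ Nat.card X := by rw [hn]; exact dvd_pow_self 2 hn0
    obtain ⟨y, hy, hy1⟩ := hK2.exists_fixed_point_of_prime_dvd_card_of_fixed_point X hpX h1
    refine ⟨y, ?_, hy1.symm⟩
    intro m hm
    have h7 : f m ∈ K := hm
    have := hy ⟨f m, h7⟩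
    rw [hsm] at this
    rw [← hg m]
    exact this
  obtain ⟨y, hyC, hy1⟩ := hCne
  -- C is invariant under B
  have hCall : ∀ x : X, x ∈ C := by
    intro x
    by_cases hx1 : x = 1
    · rw [hx1]; exact C.one_mem
    obtain ⟨h, hh, e⟩ := Htr y.1 y.2 (fun h => hy1 (Subtype.ext h)) x.1 x.2
      (fun h => hx1 (Subtype.ext h))
    intro m hm
    have hhm : (⟨h, HB hh⟩ : B)⁻¹ * m * ⟨h, HB hh⟩ ∈ M := by
      show f _ ∈ K
      rw [map_mul, map_mul, map_inv]
      have := hKn.conj_mem (f m) hm (f ⟨h, HB hh⟩)⁻¹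
      simpa using this
    have h8 := congrArg Subtype.val (hyC _ hhm)
    rw [hlin] at h8
    apply Subtype.ext
    rw [hlin]
    have h9 : h⁻¹ * m.1 * h * y.1 * (h⁻¹ * m.1 * h)⁻¹ = y.1 := h8
    rw [← e]
    calc m.1 * (h * y.1 * h⁻¹) * (m.1)⁻¹ = h * (h⁻¹ * m.1 * h * y.1 * (h⁻¹ * m.1 * h)⁻¹) * h⁻¹ := by
          group
      _ = h * y.1 * h⁻¹ := by rw [h9]
  -- conclusion
  obtain ⟨k, hk⟩ := hKt.exists_smul_eq o (p ⟨x₀, hx₀⟩)
  obtain ⟨b, hb⟩ := hfs k.1
  have hbM : b ∈ M := by show f b ∈ K; rw [hb]; exact k.2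
  refine ⟨b.1, b.2, ?_, ?_⟩
  · intro y hy
    have := congrArg Subtype.val (hCall ⟨y, hy⟩ b hbM)
    rw [hlin] at this
    have h10 : b.1 * y * (b.1)⁻¹ = y := this
    calc b.1 * y = b.1 * y * (b.1)⁻¹ * b.1 := by group
      _ = y * b.1 := by rw [h10]
  · have h11 : k • o = b • o := by
      show k.1 • o = b • o
      rw [← hb, hf]
    rw [h11] at hk
    have := congrArg Subtype.val hk
    rw [smul_val] at this
    exact this

end Cfsg.Agent.OddHalf.SpN.WTrans

end

-- merged: Cfsg.Agent.OddHalf.SpN.WTorus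
section

/-!
# ODD D7, `K = Sp_2n(q)`: translations centralising the torus `Hr`
(section 2 of `blueprints/ODD-D7-Sp-helper297.md`, second step)
-/

set_option autoImplicit false

namespace Cfsg.Agent.OddHalf.SpN.WTorus

variable {G : Type*} [Group G]

open Subgroup

/-- the group `{g ∈ N(T) ∩ N(X) : t^g ∈ tX}` -/
def BB (t : G) (T X : Subgroup G) : Subgroup G where
  carrier := {g | g ∈ normalizer (T : Set G) ∧ g ∈ normalizer (X : Set G) ∧ t⁻¹ * (g * t * g⁻¹) ∈ X}
  mul_mem' := by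
    rintro a b ⟨a1, a2, a3⟩ ⟨b1, b2, b3⟩
    refine ⟨mul_mem a1 b1, mul_mem a2 b2, ?_⟩
    have h := (mem_normalizer_iff.1 a2 _).1 b3
    have := X.mul_mem a3 h
    convert this using 1
    group
  one_mem' := ⟨one_mem _, one_mem _, by simp⟩
  inv_mem' := by
    rintro a ⟨a1, a2, a3⟩
    refine ⟨inv_mem a1, inv_mem a2, ?_⟩
    have h := (mem_normalizer_iff.1 (inv_mem a2) _).1 (X.inv_mem a3)
    have h2 : t⁻¹ * (a⁻¹ * t * a⁻¹⁻¹) = a⁻¹ * (t⁻¹ * (a * t * a⁻¹))⁻¹ * a⁻¹⁻¹ := by group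
    rw [h2]; exact h

theorem mem_BB {t : G} {T X : Subgroup G} {g : G} :
    g ∈ BB t T X ↔ g ∈ normalizer (T : Set G) ∧ g ∈ normalizer (X : Set G) ∧
      t⁻¹ * (g * t * g⁻¹) ∈ X := Iff.rfl

/-- the input: `T` a 2-group containing `t, X` centrally, `H` an odd abelian group acting
transitively on `X#`, `Hr = C_H(X)`, the two local facts `F1a`, `F1b` and the fusion `fus`. -/
structure Inp (t : G) (T X H Hr : Subgroup G) : Prop where
  T2 : IsPGroup 2 T
  XT : X ≤ T
  Tt : ∀ g ∈ T, g * t = t * g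
  TX : ∀ g ∈ T, ∀ x ∈ X, g * x = x * g
  X2 : ∀ x ∈ X, x * x = 1
  Hc : ∀ a ∈ H, ∀ b ∈ H, a * b = b * a
  Hodd : Odd (Nat.card H)
  Ht : ∀ h ∈ H, h * t = t * h
  HT : ∀ h ∈ H, h ∈ normalizer (T : Set G)
  HX : ∀ h ∈ H, h ∈ normalizer (X : Set G)
  tr : ∀ x ∈ X, x ≠ 1 → ∀ y ∈ X, y ≠ 1 → ∃ h ∈ H, h * x * h⁻¹ = y
  mv : ∃ x ∈ X, ∃ h ∈ H, h * x ≠ x * h
  HrH : Hr ≤ H
  HrX : ∀ h ∈ Hr, ∀ x ∈ X, h * x = x * h
  F1a : ∀ g ∈ normalizer (T : Set G), g * t = t * g → (∀ x ∈ X, g * x = x * g) → g ∈ T ⊔ Hr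
  F1b : ∀ g ∈ normalizer (T : Set G), g * t = t * g → (∀ h ∈ Hr, g * h = h * g) →
    ∃ h ∈ H, ∀ x ∈ X, g * x * g⁻¹ = h * x * h⁻¹
  fus : ∀ x ∈ X, ∃ g ∈ normalizer (T : Set G), g ∈ normalizer (X : Set G) ∧ g * t * g⁻¹ = t * x

namespace Inp

variable {t : G} {T X H Hr : Subgroup G}

theorem Xt (I : Inp t T X H Hr) : ∀ x ∈ X, t * x = x * t := fun x hx => (I.Tt x (I.XT hx)).symm

theorem conj_mem (X : Subgroup G) {g : G} (hg : g ∈ normalizer (X : Set G)) {x : G} (hx : x ∈ X) :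
    g * x * g⁻¹ ∈ X := (mem_normalizer_iff.1 hg x).1 hx

/-- elements of `T ⊔ Hr` commute with `t` and `X` -/
theorem comm_sup (I : Inp t T X H Hr) : ∀ g ∈ T ⊔ Hr, g * t = t * g ∧ ∀ x ∈ X, g * x = x * g := by
  have hle : T ⊔ Hr ≤ centralizer ({t} : Set G) ⊓ centralizer (X : Set G) := by
    refine sup_le ?_ ?_
    · intro g hg
      refine ⟨mem_centralizer_iff.2 ?_, mem_centralizer_iff.2 ?_⟩
      · rintro x rfl; exact (I.Tt g hg).symm
      · intro x hx; exact (I.TX g hg x hx).symm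
    · intro g hg
      refine ⟨mem_centralizer_iff.2 ?_, mem_centralizer_iff.2 ?_⟩
      · rintro x rfl; exact (I.Ht g (I.HrH hg)).symm
      · intro x hx; exact (I.HrX g hg x hx).symm
  intro g hg
  obtain ⟨h1, h2⟩ := hle hg
  exact ⟨(mem_centralizer_iff.1 h1 t rfl).symm, fun x hx => (mem_centralizer_iff.1 h2 x hx).symm⟩

theorem Hr_norm (I : Inp t T X H Hr) : Hr ≤ normalizer (T : Set G) := fun h hh => I.HT h (I.HrH hh)

/-- every coset element `tx` is reached by an element normalising `T`, `X`, `Hr` -/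
theorem exists_norm [Finite G] (I : Inp t T X H Hr) : ∀ x ∈ X, ∃ g ∈ BB t T X,
    g ∈ normalizer (Hr : Set G) ∧ g * t * g⁻¹ = t * x := by
  intro x hx
  obtain ⟨g, g1, g2, g3⟩ := I.fus x hx
  have hgB : g ∈ BB t T X := ⟨g1, g2, by rw [g3]; simpa using hx⟩
  set B := BB t T X with hB
  -- `T ⊔ Hr` is contained in `B` and normalised by `B`
  have hTB : T ≤ B := fun y hy => ⟨le_normalizer hy, by
    rw [mem_normalizer_iff]
    intro z
    constructor
    · intro hz; rw [I.TX y hy z hz]; simpa using hz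
    · intro hz
      have h := I.TX y hy _ hz
      have : z = y * z * y⁻¹ := by
        have h2 : y * (y * z * y⁻¹) * y⁻¹ = y * z * y⁻¹ := by rw [h]; group
        have h3 : y * z * y⁻¹ = z := by
          have := congrArg (fun v => y⁻¹ * v * y) h2
          calc y * z * y⁻¹ = y⁻¹ * (y * (y * z * y⁻¹) * y⁻¹) * y := by group
            _ = y⁻¹ * (y * z * y⁻¹) * y := this
            _ = z := by group
        exact h3.symm
      rw [this]; exact hz, by
    rw [I.Tt y hy]; simp⟩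
  have hHrB : Hr ≤ B := fun y hy => ⟨I.HT y (I.HrH hy), I.HX y (I.HrH hy), by
    rw [I.Ht y (I.HrH hy)]; simp⟩
  have hLB : T ⊔ Hr ≤ B := sup_le hTB hHrB
  have hLn : ∀ b ∈ B, ∀ y ∈ T ⊔ Hr, b * y * b⁻¹ ∈ T ⊔ Hr := by
    intro b hb y hy
    obtain ⟨b1, b2, b3⟩ := hb
    obtain ⟨c1, c2⟩ := I.comm_sup y hy
    have hyN : y ∈ normalizer (T : Set G) := (hLB hy).1
    have d2 : ∀ z ∈ X, (b * y * b⁻¹) * z = z * (b * y * b⁻¹) := by
      intro z hz
      have hz' : b⁻¹ * z * b ∈ X := by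
        have := conj_mem X (inv_mem b2) hz
        simpa using this
      have e := c2 _ hz'
      calc b * y * b⁻¹ * z = b * (y * (b⁻¹ * z * b)) * b⁻¹ := by group
        _ = b * (b⁻¹ * z * b * y) * b⁻¹ := by rw [e]
        _ = z * (b * y * b⁻¹) := by group
    refine I.F1a _ (mul_mem (mul_mem b1 hyN) (inv_mem b1)) ?_ d2
    -- b y b⁻¹ commutes with b t b⁻¹ = t x₁
    set x1 := t⁻¹ * (b * t * b⁻¹) with hx1
    have e1 : b * t * b⁻¹ = t * x1 := by rw [hx1]; group
    have e2 : (b * y * b⁻¹) * (t * x1) = (t * x1) * (b * y * b⁻¹) := by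
      rw [← e1]
      calc b * y * b⁻¹ * (b * t * b⁻¹) = b * (y * t) * b⁻¹ := by group
        _ = b * (t * y) * b⁻¹ := by rw [c1]
        _ = b * t * b⁻¹ * (b * y * b⁻¹) := by group
    have e3 := d2 x1 b3
    have e4 : (b * y * b⁻¹) * t * x1 = t * (b * y * b⁻¹) * x1 := by
      calc (b * y * b⁻¹) * t * x1 = (b * y * b⁻¹) * (t * x1) := by group
        _ = (t * x1) * (b * y * b⁻¹) := e2
        _ = t * (x1 * (b * y * b⁻¹)) := by group
        _ = t * ((b * y * b⁻¹) * x1) := by rw [e3]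
        _ = t * (b * y * b⁻¹) * x1 := by group
    exact mul_right_cancel e4
  -- Frattini in the group `B`
  let L' : Subgroup B := (T ⊔ Hr).subgroupOf B
  let H' : Subgroup B := Hr.subgroupOf B
  have hL'n : L'.Normal := by
    constructor
    intro y hy b
    rw [mem_subgroupOf] at hy ⊢
    exact hLn b.1 b.2 y.1 hy
  have hH'L' : H' ≤ L' := fun y hy => by
    rw [mem_subgroupOf] at hy ⊢
    exact (le_sup_right : Hr ≤ T ⊔ Hr) hy
  have hTn : T ≤ normalizer (T : Set G) := le_normalizer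
  -- cardinalities
  have hcop : Nat.Coprime (Nat.card Hr) (Nat.card T) := by
    obtain ⟨n, hn⟩ := IsPGroup.iff_card.1 I.T2
    rw [hn]
    have h1 : Nat.card Hr ∣ Nat.card H := Subgroup.card_dvd_of_le I.HrH
    have h2 : Odd (Nat.card Hr) := Odd.of_dvd_nat I.Hodd h1
    exact Nat.Coprime.pow_right n h2.coprime_two_right
  have hrel : (Nat.card H').Coprime (H'.relIndex L') := by
    have e1 : Nat.card H' = Nat.card Hr := by
      have := Nat.card_congr (Subgroup.subgroupOfEquivOfLe hHrB).toEquiv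
      exact this
    have e2 : H'.relIndex L' = Hr.relIndex (T ⊔ Hr) := by
      exact Subgroup.relIndex_subgroupOf hLB
    rw [e1, e2]
    have e3 : Nat.card (T ⊔ Hr : Subgroup G) ∣ Nat.card T * Nat.card Hr :=
      SignalizersComponents.CoprimeBasic.card_sup_dvd I.Hr_norm
    have e4 : Nat.card Hr * Hr.relIndex (T ⊔ Hr) = Nat.card (T ⊔ Hr : Subgroup G) := by
      have := Subgroup.relIndex_mul_relIndex ⊥ Hr (T ⊔ Hr) bot_le le_sup_right
      rwa [relIndex_bot_left, relIndex_bot_left] at this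
    have e5 : Hr.relIndex (T ⊔ Hr) ∣ Nat.card T := by
      rw [← e4, mul_comm (Nat.card T)] at e3
      exact Nat.dvd_of_mul_dvd_mul_left Nat.card_pos e3
    exact Nat.Coprime.coprime_dvd_right e5 hcop
  have hsol : Group.IsSolvable L' := by
    have h1 : Group.IsSolvable (T ⊔ Hr : Subgroup G) := by
      refine SignalizersComponents.CoprimeBasic.isSolvable_sup I.Hr_norm ?_ ?_
      · have := I.T2.isNilpotent
        infer_instance
      · exact Group.isSolvable_of_comm fun a b => Subtype.ext (I.Hc _ (I.HrH a.2) _ (I.HrH b.2))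
    exact Group.isSolvable_of_isSolvable_injective
      (f := ((Subgroup.subgroupOfEquivOfLe hLB).toMonoidHom))
      (Subgroup.subgroupOfEquivOfLe hLB).injective
  have hfr := S0050.result L' hsol H' hH'L' hrel
  have hgt : (⟨g, hgB⟩ : B) ∈ L' ⊔ normalizer (H' : Set B) := by rw [hfr]; exact mem_top _
  obtain ⟨l, hl, k, hk, hlk⟩ := (Subgroup.mem_sup_of_normal_left).1 hgt
  have hl' : l.1 ∈ T ⊔ Hr := hl
  obtain ⟨l1, l2⟩ := I.comm_sup _ hl'
  have hgk : g = l.1 * k.1 := by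
    have := congrArg Subtype.val hlk
    exact this.symm
  refine ⟨k.1, k.2, ?_, ?_⟩
  · rw [mem_normalizer_iff] at hk ⊢
    intro z
    constructor
    · intro hz
      exact (hk ⟨z, hHrB hz⟩).1 hz
    · intro hz
      have hz' : z ∈ B := by
        have h1 : k.1 * z * k.1⁻¹ ∈ B := hHrB hz
        have h2 : k.1⁻¹ * (k.1 * z * k.1⁻¹) * k.1 ∈ B := mul_mem (mul_mem (inv_mem k.2) h1) k.2
        have h3 : k.1⁻¹ * (k.1 * z * k.1⁻¹) * k.1 = z := by group
        rwa [h3] at h2
      exact (hk ⟨z, hz'⟩).2 hz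
  · have e1 : k.1 = l.1⁻¹ * g := by rw [hgk]; group
    have e2 := l2 x hx
    calc k.1 * t * k.1⁻¹ = l.1⁻¹ * (g * t * g⁻¹) * l.1 := by rw [e1]; group
      _ = l.1⁻¹ * (t * x) * l.1 := by rw [g3]
      _ = l.1⁻¹ * (t * (x * l.1)) := by group
      _ = l.1⁻¹ * (t * (l.1 * x)) := by rw [e2]
      _ = l.1⁻¹ * ((t * l.1) * x) := by group
      _ = l.1⁻¹ * ((l.1 * t) * x) := by rw [l1]
      _ = t * x := by group

theorem H_le_BB (I : Inp t T X H Hr) : H ≤ BB t T X := fun y hy => ⟨I.HT y hy, I.HX y hy, by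
    rw [I.Ht y hy]; simp⟩

theorem H_le_cent (I : Inp t T X H Hr) : H ≤ centralizer (Hr : Set G) := fun y hy => by
  rw [mem_centralizer_iff]
  intro z hz
  exact I.Hc _ (I.HrH hz) _ hy

/-- every coset element `tx` is reached by an element of `N(T) ∩ N(X)` centralising `Hr` -/
theorem exists_cent [Finite G] (I : Inp t T X H Hr) : ∀ x ∈ X,
    ∃ g ∈ BB t T X ⊓ centralizer (Hr : Set G), g * t * g⁻¹ = t * x := by
  by_cases hA : ∃ b ∈ BB t T X ⊓ centralizer (Hr : Set G), b * t ≠ t * b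
  · obtain ⟨b, hb, hbt⟩ := hA
    intro x hx
    by_cases hx1 : x = 1
    · exact ⟨1, one_mem _, by simp [hx1]⟩
    have hb3 := hb.1.2.2
    obtain ⟨h, hh, e⟩ := I.tr (t⁻¹ * (b * t * b⁻¹)) hb3 (by
      intro h0
      apply hbt
      have : b * t * b⁻¹ = t := by
        have h1 : t * (t⁻¹ * (b * t * b⁻¹)) = t * 1 := by rw [h0]
        rw [← mul_assoc, mul_inv_cancel, one_mul, mul_one] at h1
        exact h1
      calc b * t = b * t * b⁻¹ * b := by group
        _ = t * b := by rw [this]) x hx hx1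
    refine ⟨h * b, mul_mem ⟨I.H_le_BB hh, I.H_le_cent hh⟩ hb, ?_⟩
    have e2 := I.Ht h hh
    calc h * b * t * (h * b)⁻¹ = (h * t) * (t⁻¹ * (b * t * b⁻¹)) * h⁻¹ := by group
      _ = (t * h) * (t⁻¹ * (b * t * b⁻¹)) * h⁻¹ := by rw [e2]
      _ = t * (h * (t⁻¹ * (b * t * b⁻¹)) * h⁻¹) := by group
      _ = t * x := by rw [e]
  · exfalso
    push Not at hA
    obtain ⟨x, hx, h, hh, hne⟩ := I.mv
    obtain ⟨g, g1, g2, g3⟩ := I.exists_norm x hx
    have hc : g⁻¹ * h * g ∈ BB t T X ⊓ centralizer (Hr : Set G) := by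
      refine ⟨(BB t T X).mul_mem ((BB t T X).mul_mem (inv_mem g1) (I.H_le_BB hh)) g1, ?_⟩
      have h1 := mem_centralizer_iff.1 (I.H_le_cent hh)
      change g⁻¹ * h * g ∈ centralizer (Hr : Set G)
      rw [mem_centralizer_iff]
      intro z hz
      have hz' : g * z * g⁻¹ ∈ Hr := (mem_normalizer_iff.1 g2 z).1 hz
      have e := h1 _ hz'
      calc z * (g⁻¹ * h * g) = g⁻¹ * (g * z * g⁻¹ * h) * g := by group
        _ = g⁻¹ * (h * (g * z * g⁻¹)) * g := by rw [e]
        _ = g⁻¹ * h * g * z := by group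
    have e1 := hA _ hc
    apply hne
    have e2 := I.Ht h hh
    have e3 : h * (t * x) = (t * x) * h := by
      rw [← g3]
      calc h * (g * t * g⁻¹) = g * (g⁻¹ * h * g * t) * g⁻¹ := by group
        _ = g * (t * (g⁻¹ * h * g)) * g⁻¹ := by rw [e1]
        _ = g * t * g⁻¹ * h := by group
    have e4 : t * (h * x) = t * (x * h) := by
      rw [← mul_assoc, ← e2, mul_assoc, e3, mul_assoc]
    exact mul_left_cancel e4

/-- **translations**: every `tx` is reached by an element of `N(T)` centralising `Hr` and `X` -/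
theorem exists_transl [Finite G] (I : Inp t T X H Hr) : ∀ x ∈ X, ∃ g ∈ normalizer (T : Set G),
    (∀ h ∈ Hr, g * h = h * g) ∧ (∀ y ∈ X, g * y = y * g) ∧ g * t * g⁻¹ = t * x := by
  intro x hx
  obtain ⟨b, hb, b1, b2⟩ := WTrans.exists_translation (t := t) (X := X)
    (BB t T X ⊓ centralizer (Hr : Set G)) H I.X2 I.Xt
    (fun b hb x hx => conj_mem X hb.1.2.1 hx) (fun b hb => hb.1.2.2)
    (fun h hh => ⟨I.H_le_BB hh, I.H_le_cent hh⟩) I.Ht I.tr I.exists_cent
    (by
      intro b hb hbt x hx hx1 hbx y hy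
      have hbc : ∀ h ∈ Hr, b * h = h * b := fun h hh => (mem_centralizer_iff.1 hb.2 h hh).symm
      obtain ⟨h, hh, e⟩ := I.F1b b hb.1.1 hbt hbc
      by_cases hy1 : y = 1
      · simp [hy1]
      obtain ⟨k, hk, ek⟩ := I.tr x hx hx1 y hy hy1
      have e1 : h * x * h⁻¹ = x := by rw [← e x hx, hbx]; group
      have e2 := e y hy
      have e3 : h * y * h⁻¹ = y := by
        rw [← ek]
        calc h * (k * x * k⁻¹) * h⁻¹ = (h * k) * x * (h * k)⁻¹ := by group
          _ = (k * h) * x * (k * h)⁻¹ := by rw [I.Hc h hh k hk]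
          _ = k * (h * x * h⁻¹) * k⁻¹ := by group
          _ = k * x * k⁻¹ := by rw [e1]
      rw [e3] at e2
      calc b * y = b * y * b⁻¹ * b := by group
        _ = y * b := by rw [e2]) x hx
  exact ⟨b, hb.1.1, fun h hh => (mem_centralizer_iff.1 hb.2 h hh).symm, b1, b2⟩

end Inp

end Cfsg.Agent.OddHalf.SpN.WTorus

end

-- merged: Cfsg.Agent.OddHalf.SpN.WFrame
section

/-!
# ODD D7, `K = Sp_2n(q)`, `q > 2`: the doubles of the root groups of a `Frame`

* `exists_W` : the Weyl group is transitive on tuples of signed indices;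
* `R.V i`, `R.Wd i j` : canonical doubles of `Y_i`, `X_ij`; Weyl conjugation;
* `R.MvY i`, `R.MvX i j` : `Y_i`, `X_ij` are moved; `locY`, `locX` : the instances of `WExist.Loc`;
* `mv_of_inp` : from `WTorus.Inp`.
-/

set_option autoImplicit false

namespace Cfsg.Agent.OddHalf.SpN

open Cfsg Cfsg.Agent.ClassicalGeometry.SympBasic Cfsg.Agent.ClassicalGeometry.SympAutSemi
open scoped Matrix commutatorElement
open WExist Subgroup

variable {n : ℕ} {F : Type*} [Field F]

theorem tr_left {i j : Ix n} (h : Dj i j) : tr i j i = j := by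
  have h1 : neg j ≠ i := fun e => h.2 e.symm
  simp only [tr, Equiv.Perm.mul_apply]
  rw [Equiv.swap_apply_of_ne_of_ne (ne_neg i) h1.symm, Equiv.swap_apply_left]

theorem tr_fix {i j k : Ix n} (h1 : Dj k i) (h2 : Dj k j) : tr i j k = k := by
  simp only [tr, Equiv.Perm.mul_apply]
  rw [Equiv.swap_apply_of_ne_of_ne h1.2 h2.2, Equiv.swap_apply_of_ne_of_ne h1.1 h2.1]

theorem sg_left (i : Ix n) : sg i i = neg i := Equiv.swap_apply_left _ _

theorem sg_fix {i k : Ix n} (h1 : Dj k i) : sg i k = k := Equiv.swap_apply_of_ne_of_ne h1.1 h1.2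

/-- the Weyl group is transitive on tuples -/
theorem exists_W {m : ℕ} (f g : Fin m → Ix n) (hf : ∀ a b, a ≠ b → Dj (f a) (f b))
    (hg : ∀ a b, a ≠ b → Dj (g a) (g b)) : ∃ s : W n, ∀ a, s.1 (f a) = g a := by
  induction m with
  | zero => exact ⟨1, fun a => a.elim0⟩
  | succ m ih =>
    obtain ⟨s, hs⟩ := ih (fun a => f a.castSucc) (fun a => g a.castSucc)
      (fun a b hab => hf _ _ fun e => hab (Fin.castSucc_injective m e))
      (fun a b hab => hg _ _ fun e => hab (Fin.castSucc_injective m e))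
    set p := s.1 (f (Fin.last m)) with hp
    set r := g (Fin.last m) with hr
    have h1 : ∀ a : Fin m, Dj (g a.castSucc) p := fun a => by
      rw [← hs a, hp, W_dj]
      exact hf _ _ (Fin.castSucc_lt_last a).ne
    have h2 : ∀ a : Fin m, Dj (g a.castSucc) r := fun a => hg _ _ (Fin.castSucc_lt_last a).ne
    have key : ∃ s' : W n, s'.1 p = r ∧ ∀ a : Fin m, s'.1 (g a.castSucc) = g a.castSucc := by
      by_cases e1 : p = r
      · exact ⟨1, e1, fun a => rfl⟩
      by_cases e2 : p = neg r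
      · refine ⟨⟨sg p, sg_mem p⟩, ?_, fun a => sg_fix (h1 a)⟩
        show sg p p = r
        rw [sg_left, e2, neg_neg]
      · exact ⟨⟨tr p r, tr_mem ⟨e1, e2⟩⟩, tr_left ⟨e1, e2⟩, fun a => tr_fix (h1 a) (h2 a)⟩
    obtain ⟨s', hs1, hs2⟩ := key
    refine ⟨s' * s, fun a => ?_⟩
    refine Fin.lastCases ?_ (fun a => ?_) a
    · exact hs1
    · show s'.1 (s.1 (f a.castSucc)) = _
      rw [hs a, hs2]

theorem exists_W1 (i j : Ix n) : ∃ s : W n, s.1 i = j := by
  obtain ⟨s, hs⟩ := exists_W (fun _ : Fin 1 => i) (fun _ => j) (fun a b h => absurd (Subsingleton.elim a b) h)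
    (fun a b h => absurd (Subsingleton.elim a b) h)
  exact ⟨s, hs 0⟩

theorem exists_W2 {i j k l : Ix n} (h : Dj i j) (h' : Dj k l) : ∃ s : W n, s.1 i = k ∧ s.1 j = l := by
  obtain ⟨s, hs⟩ := exists_W ![i, j] ![k, l]
    (by intro a b hab; fin_cases a <;> fin_cases b <;> first | exact absurd rfl hab | exact h | exact h.symm)
    (by intro a b hab; fin_cases a <;> fin_cases b <;> first | exact absurd rfl hab | exact h' | exact h'.symm)
  exact ⟨s, hs 0, hs 1⟩

theorem exists_W3 {i j k i' j' k' : Ix n} (h1 : Dj i j) (h2 : Dj i k) (h3 : Dj j k) (h1' : Dj i' j')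
    (h2' : Dj i' k') (h3' : Dj j' k') : ∃ s : W n, s.1 i = i' ∧ s.1 j = j' ∧ s.1 k = k' := by
  obtain ⟨s, hs⟩ := exists_W ![i, j, k] ![i', j', k']
    (by
      intro a b hab
      fin_cases a <;> fin_cases b <;>
        first
        | exact absurd rfl hab
        | exact h1
        | exact h1.symm
        | exact h2
        | exact h2.symm
        | exact h3
        | exact h3.symm)
    (by
      intro a b hab
      fin_cases a <;> fin_cases b <;>
        first
        | exact absurd rfl hab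
        | exact h1'
        | exact h1'.symm
        | exact h2'
        | exact h2'.symm
        | exact h3'
        | exact h3'.symm)
  exact ⟨s, hs 0, hs 1, hs 2⟩

theorem exists_W4 {i j k l i' j' k' l' : Ix n} (h1 : Dj i j) (h2 : Dj i k) (h3 : Dj j k) (h4 : Dj i l)
    (h5 : Dj j l) (h6 : Dj k l) (h1' : Dj i' j') (h2' : Dj i' k') (h3' : Dj j' k') (h4' : Dj i' l')
    (h5' : Dj j' l') (h6' : Dj k' l') : ∃ s : W n, s.1 i = i' ∧ s.1 j = j' ∧ s.1 k = k' ∧ s.1 l = l' := by
  obtain ⟨s, hs⟩ := exists_W ![i, j, k, l] ![i', j', k', l']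
    (by
      intro a b hab
      fin_cases a <;> fin_cases b <;>
        first
        | exact absurd rfl hab
        | exact h1
        | exact h1.symm
        | exact h2
        | exact h2.symm
        | exact h3
        | exact h3.symm
        | exact h4
        | exact h4.symm
        | exact h5
        | exact h5.symm
        | exact h6
        | exact h6.symm)
    (by
      intro a b hab
      fin_cases a <;> fin_cases b <;>
        first
        | exact absurd rfl hab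
        | exact h1'
        | exact h1'.symm
        | exact h2'
        | exact h2'.symm
        | exact h3'
        | exact h3'.symm
        | exact h4'
        | exact h4'.symm
        | exact h5'
        | exact h5'.symm
        | exact h6'
        | exact h6'.symm)
  exact ⟨s, hs 0, hs 1, hs 2, hs 3⟩

/-- action of the Weyl group on the torus -/
def actH (s : W n) (lam : Fin n → Fˣ) : Fin n → Fˣ := fun i => ev lam (s.1⁻¹ (Sum.inl i))

theorem ev_actH (s : W n) (lam : Fin n → Fˣ) (k : Ix n) : ev (actH s lam) k = ev lam (s.1⁻¹ k) := by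
  rcases k with i | i
  · rfl
  · have h1 : (Sum.inr i : Ix n) = neg (Sum.inl i) := rfl
    rw [h1, W_inv_neg, ev_neg, ev_neg]; rfl

theorem ev_actH' (s : W n) (lam : Fin n → Fˣ) (k : Ix n) : ev (actH s lam) (s.1 k) = ev lam k := by
  rw [ev_actH, perm_inv_apply_self]

section general

/-! ### conjugation of doubles -/

variable {G : Type*} [Group G] {A : Type*} [CommGroup A]

/-- `m` maps the data `(x, h, χ)` to `(x', h, χ')` -/
structure Cjg (t : G) (h : A →* G) (m : G) (x x' : F → G) (χ χ' : A →* Fˣ) : Prop where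
  mt : Commute m t
  mx : ∀ u, m * x u * m⁻¹ = x' u
  mh : ∀ a, ∃ b, m * h a * m⁻¹ = h b ∧ χ' b = χ a
  mh' : ∀ b, ∃ a, m * h a * m⁻¹ = h b ∧ χ' b = χ a

variable {t : G} {h : A →* G} {m : G} {x x' : F → G} {χ χ' : A →* Fˣ}

theorem Cjg.mv (C : Cjg t h m x x' χ χ') {g : G} {u : F} (hg : Mv t x h χ g u) :
    Mv t x' h χ' (m * g * m⁻¹) u := by
  refine ⟨fun b hb => ?_, fun v => ?_, ?_⟩
  · obtain ⟨a, e1, e2⟩ := C.mh' b
    rw [hb] at e2
    rw [← e1]
    have e := (hg.1 a e2.symm).eq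
    show m * g * m⁻¹ * (m * h a * m⁻¹) = _
    calc m * g * m⁻¹ * (m * h a * m⁻¹) = m * (g * h a) * m⁻¹ := by group
      _ = m * (h a * g) * m⁻¹ := by rw [e]
      _ = m * h a * m⁻¹ * (m * g * m⁻¹) := by group
  · rw [← C.mx]
    have e := (hg.2.1 v).eq
    show m * g * m⁻¹ * (m * x v * m⁻¹) = _
    calc m * g * m⁻¹ * (m * x v * m⁻¹) = m * (g * x v) * m⁻¹ := by group
      _ = m * (x v * g) * m⁻¹ := by rw [e]
      _ = m * x v * m⁻¹ * (m * g * m⁻¹) := by group
  · have e : m⁻¹ * t * m = t := by rw [mul_assoc, ← C.mt.eq]; group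
    have e2 : m * t * m⁻¹ = t := by rw [C.mt.eq]; group
    calc m * g * m⁻¹ * t * (m * g * m⁻¹)⁻¹ = m * (g * (m⁻¹ * t * m) * g⁻¹) * m⁻¹ := by group
      _ = m * (t * x u) * m⁻¹ := by rw [e, hg.2.2]
      _ = (m * t * m⁻¹) * (m * x u * m⁻¹) := by group
      _ = t * x' u := by rw [e2, C.mx]

theorem Cjg.bs (C : Cjg t h m x x' χ χ') {g : G} {u : F} (hg : Bs t x h χ g u) :
    Bs t x' h χ' (m * g * m⁻¹) u := by
  refine ⟨C.mv hg.1, ?_⟩
  obtain ⟨v, hv⟩ := hg.2
  refine ⟨v, ?_⟩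
  rw [← C.mx, ← hv]; group

theorem Cjg.dbl (C : Cjg t h m x x' χ χ') {g : G} (hg : g ∈ Dbl t x h χ) :
    m * g * m⁻¹ ∈ Dbl t x' h χ' := by
  refine closure_induction (p := fun g _ => m * g * m⁻¹ ∈ Dbl t x' h χ') ?_ ?_ ?_ ?_ hg
  · rintro y (⟨u, rfl⟩ | ⟨b, u, hb, a, rfl⟩)
    · rw [C.mx]; exact subset_closure (Or.inl ⟨u, rfl⟩)
    · obtain ⟨c, e1, _⟩ := C.mh a
      have e : m * (b⁻¹ * (h a * b * (h a)⁻¹)) * m⁻¹ = (m * b * m⁻¹)⁻¹ * (h c * (m * b * m⁻¹) * (h c)⁻¹) := by
        rw [← e1]; group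
      rw [e]
      exact subset_closure (Or.inr ⟨_, u, C.bs hb, c, rfl⟩)
  · have : m * 1 * m⁻¹ = 1 := by group
    rw [this]; exact one_mem _
  · intro y z _ _ hy hz
    have : m * (y * z) * m⁻¹ = (m * y * m⁻¹) * (m * z * m⁻¹) := by group
    rw [this]; exact mul_mem hy hz
  · intro y _ hy
    have : m * y⁻¹ * m⁻¹ = (m * y * m⁻¹)⁻¹ := by group
    rw [this]; exact inv_mem hy

end general

end Cfsg.Agent.OddHalf.SpN

namespace Cfsg.Agent.OddHalf.SpN.WExist.Loc

open Subgroup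

variable {F : Type*} [Field F] {G : Type*} [Group G] {A : Type*} [CommGroup A]
  {t : G} {x : F → G} {h : A →* G} {χ : A →* Fˣ}

/-- the double is in every subgroup containing `X`, `t`, `h(ker χ)` and moving elements -/
theorem dbl_le (L : Loc t x h χ) (N : Subgroup G) (hx : ∀ u, x u ∈ N) (ht : t ∈ N)
    (hh : ∀ a, χ a = 1 → h a ∈ N) (hmv : ∀ u, ∃ g ∈ N, Mv t x h χ g u) : Dbl t x h χ ≤ N := by
  intro g' hg'
  obtain ⟨u, hu⟩ := L.dbl_bs hg'
  obtain ⟨g, hg, hg1⟩ := hmv u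
  obtain ⟨w, hw, hw1, a, ha, e⟩ := L.canonical hg1
  have hwN : w ∈ N := by
    rcases e with e | e
    · have : w = g * (h a)⁻¹ := by rw [e]; group
      rw [this]; exact mul_mem hg (inv_mem (hh a ha))
    · have : w = g * (h a)⁻¹ * t⁻¹ := by rw [e]; group
      rw [this]; exact mul_mem (mul_mem hg (inv_mem (hh a ha))) (inv_mem ht)
  have h1 := L.mv_mul (L.mv_inv hw1.1) hu.1
  rw [L.two] at h1
  obtain ⟨v, hv⟩ := L.dbl_zero (mul_mem (inv_mem hw) hg') h1
  have : g' = w * x v := by rw [← hv]; group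
  rw [this]; exact mul_mem hwN (hx v)

/-- `t g t = g x(u)` -/
theorem tgt (L : Loc t x h χ) {g : G} {u : F} (hg : Mv t x h χ g u) : t * g * t = g * x u := by
  have e1 : g * t = t * (x u * g) := by
    calc g * t = g * t * g⁻¹ * g := by group
      _ = t * (x u * g) := by rw [hg.2.2]; group
  calc t * g * t = t * (g * t) := by group
    _ = (t * t) * (x u * g) := by rw [e1]; group
    _ = g * x u := by rw [L.tt, one_mul, (hg.2.1 u).eq]

theorem of_tgt (L : Loc t x h χ) {g : G} {u v : F} (hg : Mv t x h χ g u) (e : t * g * t = g * x v) : u = v := by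
  rw [L.tgt hg] at e
  exact L.x_inj (mul_left_cancel e)

end Cfsg.Agent.OddHalf.SpN.WExist.Loc

namespace Cfsg.Agent.OddHalf.SpN

open Cfsg Cfsg.Agent.ClassicalGeometry.SympBasic Cfsg.Agent.ClassicalGeometry.SympAutSemi
open scoped Matrix commutatorElement
open WExist Subgroup

variable {n : ℕ} {F : Type*} [Field F]

/-- the root group as a subgroup -/
def xs {G : Type*} [Group G] (x : F → G) (hadd : ∀ u v, x (u + v) = x u * x v) (hinv : ∀ u, x u * x u = 1) :
    Subgroup G where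
  carrier := {g | ∃ u, g = x u}
  mul_mem' := by
    rintro a b ⟨u, rfl⟩ ⟨v, rfl⟩
    exact ⟨u + v, (hadd u v).symm⟩
  one_mem' := by
    refine ⟨0, ?_⟩
    have := hadd 0 0
    rw [add_zero] at this
    exact (left_eq_mul.1 this).symm
  inv_mem' := by
    rintro a ⟨u, rfl⟩
    exact ⟨u, inv_eq_of_mul_eq_one_left (hinv u)⟩

/-- **Translations** in coordinates, from `WTorus`. -/
theorem mv_of_inp {G : Type*} [Group G] [Finite G] {A : Type*} [CommGroup A] {t : G} {x : F → G} {h : A →* G}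
    {χ : A →* Fˣ} (two : ∀ a : F, a + a = 0) (x_add : ∀ u v, x (u + v) = x u * x v)
    (ht : ∀ a, Commute (h a) t) (hx : ∀ a u, h a * x u * (h a)⁻¹ = x (χ a * u))
    (surj : Function.Surjective χ) (big : ∃ c : F, c ≠ 0 ∧ c ≠ 1) (x_one : ∀ u, x u = 1 → u = 0)
    (hodd : Odd (Nat.card h.range)) (T : Subgroup G)
    (T2 : IsPGroup 2 T) (xT : ∀ u, x u ∈ T) (Tt : ∀ g ∈ T, g * t = t * g)
    (Tx : ∀ g ∈ T, ∀ u, g * x u = x u * g) (hT : ∀ a, h a ∈ normalizer (T : Set G))
    (F1a : ∀ g ∈ normalizer (T : Set G), g * t = t * g → (∀ u, g * x u = x u * g) →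
      ∃ τ ∈ T, ∃ a, χ a = 1 ∧ g = τ * h a)
    (F1b : ∀ g ∈ normalizer (T : Set G), g * t = t * g → (∀ a, χ a = 1 → g * h a = h a * g) →
      ∃ a, ∀ u, g * x u * g⁻¹ = x (χ a * u))
    (fus : ∀ u, ∃ g ∈ normalizer (T : Set G), (∀ y, (∃ v, y = x v) ↔ ∃ v, g * y * g⁻¹ = x v) ∧
      g * t * g⁻¹ = t * x u) :
    ∀ u, ∃ g ∈ normalizer (T : Set G), Mv t x h χ g u := by
  have x0 : x 0 = 1 := by
    have := x_add 0 0
    rw [add_zero] at this
    exact left_eq_mul.1 this
  have hinv : ∀ u, x u * x u = 1 := fun u => by rw [← x_add, two, x0]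
  have hneg : ∀ u v, x u = x v → u = v := by
    intro a b e
    have h2 : x (a + b) = 1 := by rw [x_add, e, hinv]
    have h3 := x_one _ h2
    calc a = a + (b + b) := by rw [two, add_zero]
      _ = (a + b) + b := by ring
      _ = b := by rw [h3, zero_add]
  set X := xs x x_add hinv with hX
  have memX : ∀ y, y ∈ X ↔ ∃ u, y = x u := fun y => Iff.rfl
  set H := h.range with hH
  set Hr := (χ.ker).map h with hHr
  have memHr : ∀ y, y ∈ Hr ↔ ∃ a, χ a = 1 ∧ h a = y := fun y => by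
    rw [hHr, Subgroup.mem_map]; rfl
  have I : WTorus.Inp t T X H Hr :=
    { T2 := T2
      XT := by rintro y ⟨u, rfl⟩; exact xT u
      Tt := Tt
      TX := by rintro g hg y ⟨u, rfl⟩; exact Tx g hg u
      X2 := by rintro y ⟨u, rfl⟩; exact hinv u
      Hc := by
        rintro a ⟨a, rfl⟩ b ⟨b, rfl⟩
        rw [← map_mul, ← map_mul, mul_comm]
      Hodd := hodd
      Ht := by rintro a ⟨a, rfl⟩; exact ht a
      HT := by rintro a ⟨a, rfl⟩; exact hT a
      HX := by
        rintro a ⟨a, rfl⟩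
        rw [mem_normalizer_iff]
        intro y
        constructor
        · rintro ⟨u, rfl⟩
          exact ⟨_, hx a u⟩
        · rintro ⟨u, e⟩
          refine ⟨((χ a : Fˣ) : F)⁻¹ * u, ?_⟩
          have e2 := hx a (((χ a : Fˣ) : F)⁻¹ * u)
          rw [← mul_assoc, mul_inv_cancel₀ (χ a).ne_zero, one_mul, ← e] at e2
          exact (mul_left_cancel (mul_right_cancel e2)).symm
      tr := by
        rintro y ⟨u, rfl⟩ hu z ⟨v, rfl⟩ hv
        have hu0 : u ≠ 0 := fun e => hu (by rw [e, x0])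
        have hv0 : v ≠ 0 := fun e => hv (by rw [e, x0])
        obtain ⟨a, ha⟩ := surj (Units.mk0 (v / u) (div_ne_zero hv0 hu0))
        refine ⟨h a, ⟨a, rfl⟩, ?_⟩
        rw [hx, ha, Units.val_mk0, div_mul_cancel₀ _ hu0]
      mv := by
        obtain ⟨c, c0, c1⟩ := big
        obtain ⟨a, ha⟩ := surj (Units.mk0 c c0)
        refine ⟨x 1, ⟨1, rfl⟩, h a, ⟨a, rfl⟩, fun e => c1 ?_⟩
        have e2 := hx a 1
        rw [ha, Units.val_mk0, mul_one, e] at e2
        apply hneg
        rw [← e2]; group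
      HrH := by
        intro y hy
        obtain ⟨a, _, rfl⟩ := (memHr y).1 hy
        exact ⟨a, rfl⟩
      HrX := by
        rintro y hy z ⟨u, rfl⟩
        obtain ⟨a, ha, rfl⟩ := (memHr y).1 hy
        have := hx a u
        rw [ha, Units.val_one, one_mul] at this
        calc h a * x u = h a * x u * (h a)⁻¹ * h a := by group
          _ = x u * h a := by rw [this]
      F1a := by
        intro g hg hgt hgX
        obtain ⟨τ, hτ, a, ha, rfl⟩ := F1a g hg hgt (fun u => hgX _ ⟨u, rfl⟩)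
        exact mul_mem ((le_sup_left : T ≤ T ⊔ Hr) hτ) ((le_sup_right : Hr ≤ T ⊔ Hr) ((memHr _).2 ⟨a, ha, rfl⟩))
      F1b := by
        intro g hg hgt hgH
        obtain ⟨a, ha⟩ := F1b g hg hgt (fun a ha => hgH _ ((memHr _).2 ⟨a, ha, rfl⟩))
        refine ⟨h a, ⟨a, rfl⟩, ?_⟩
        rintro y ⟨u, rfl⟩
        rw [ha, hx]
      fus := by
        rintro y ⟨u, rfl⟩
        obtain ⟨g, hg, h1, h2⟩ := fus u
        refine ⟨g, hg, ?_, h2⟩
        rw [mem_normalizer_iff]
        intro z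
        exact h1 z }
  intro u
  obtain ⟨g, hg, h1, h2, h3⟩ := I.exists_transl (x u) ⟨u, rfl⟩
  exact ⟨g, hg, fun a ha => h1 _ ((memHr _).2 ⟨a, ha, rfl⟩), fun v => h2 _ ⟨v, rfl⟩, h3⟩

end Cfsg.Agent.OddHalf.SpN

end
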